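import Cfsg.Agent.Lib.SPC.AEmb0

/-! Type-free facts on a copy of the symplectic group -/

set_option autoImplicit false
set_option linter.unusedSectionVars false

namespace CfsgLib.SPC

open Subgroup Module CfsgLib.Forms CfsgLib.LieMult
open CfsgLib.HX (Std CO Two Mv M2 QA)
open CfsgLib.UN (AV SI TI HH Rad Stb Yg Rg Eg Act nu Bas Nh flag Ub Uni TD Od)
open CfsgLib.ClSys (II)
open Submodule (span)
open scoped commutatorElement Pointwise

universe u

variable {F : Type} [Field F] [Finite F] {V : Type} [AddCommGroup V] [Module F V]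
  [FiniteDimensional F V] {P : PQ (RingHom.id F) V} {S : Type} [Group S] [Finite S] {G : Type u}
  [Group G] [Finite G] {C : CG P S} {φ : S →* G} {t : G}

namespace Emb

variable (h : Emb C φ) {g : G} {e a : V}
include h

theorem not_cent : ¬ φ.range ≤ centralizer (φ.range : Set G) := fun H => by
  obtain ⟨e, he⟩ := h.toMod.g2_T_ne
  exact he (h.inj ((h.eq_one ⟨_, rfl⟩ (H ⟨_, rfl⟩)).trans (map_one φ).symm))

theorem le_or_cent {H : Subgroup G} (h1 : φ.range ≤ normalizer (H : Set G))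
    (h2 : H ≤ normalizer (φ.range : Set G)) : φ.range ≤ H ∨ H ≤ centralizer (φ.range : Set G) := by
  refine or_iff_not_imp_left.2 fun H1 a ha b hb => ?_
  have k1 : ⁅a, b⁆ ∈ φ.range := mul_mem ((mem_normalizer_iff.1 (h2 ha) _).1 hb) (inv_mem hb)
  have k2 : ⁅a, b⁆ ∈ H := by
    rw [commutatorElement_def, mul_assoc, mul_assoc, ← mul_assoc b]
    exact mul_mem ha ((mem_normalizer_iff.1 (h1 hb) _).1 (inv_mem ha))
  by_contra e
  exact H1 (h.le_of_norm h1 k2 k1 fun e1 => e (commutatorElement_eq_one_iff_mul_comm.1 e1).symm)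

/-- an odd subgroup of `N(L)` normalised by `z e 1` and `x e a` -/
theorem cent_odd_sub {W : Subgroup G} (hW : Odd (Nat.card W)) (h1 : W ≤ normalizer (φ.range : Set G))
    (k : Ln P e a) (h2 : z C φ e 1 ∈ normalizer (W : Set G)) (h3 : x C φ e a ∈ normalizer (W : Set G))
    (hg : g ∈ Rg C φ (span F {e})) (h4 : g ∈ normalizer (W : Set G)) : W ≤ centralizer {g} := by
  have m := h.toMod
  intro v hv
  obtain ⟨α, γ, ka⟩ := h.exists_act (h1 hv)
  have e1 := h.act_z ka e 1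
  rw [map_one] at e1
  have kW : z C φ e 1 * z C φ (γ e) 1 ∈ W := by
    have := mul_mem ((mem_normalizer_iff.1 h2 _).1 hv) (inv_mem hv)
    rwa [inv_eq_of_mul_eq_one_right (h.z_sq e 1), mul_assoc, mul_assoc, ← mul_assoc v, e1] at this
  have inv2 : ∀ {p p'}, P.B p p' = 0 → z C φ p 1 * z C φ p' 1 ∈ W → p = p' := fun {p p'} a3 a4 => by
    have := UN.one_of_odd hW a4 (k := 1) (by
      rw [pow_one, (h.z_comm a3 1 1).mul_pow, pow_two, pow_two, h.z_sq, h.z_sq, one_mul])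
    exact h.z_one_inj (by
      rw [← inv_eq_of_mul_eq_one_right this, inv_eq_of_mul_eq_one_right (h.z_sq p 1)])
  have e2 : P.B e (γ e) = 0 := by
    by_contra hb
    generalize γ e = p at kW hb
    obtain ⟨a', ha'⟩ : ∃ a', a' = a + (P.B a p / P.B e p) • e := ⟨_, rfl⟩
    have b0 : P.B e a' = 0 := by rw [ha', map_add, map_smul, k.perp, m.B_self, smul_zero, add_zero]
    have b1 : P.B a' p = 0 := by
      rw [ha', map_add, LinearMap.add_apply, m.B_smul_left, div_mul_cancel₀ _ hb, m.add_self]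
    have uN : φ (C.T e a' 0) ∈ normalizer (W : Set G) := by
      rw [ha', m.T_shift k.perp]
      exact h3
    have k2 := (mem_normalizer_iff.1 uN _).1 kW
    rw [← conj_mul, h.z_conj, h.z_conj, m.x_app b0, m.x_app b0, b1, m.B_comm a', b0, m.B_self] at k2
    simp only [zero_smul, add_zero] at k2
    have k3 := mul_mem (inv_mem kW) k2
    rw [mul_inv_rev, mul_assoc, inv_mul_cancel_left, inv_eq_of_mul_eq_one_right (h.z_sq p 1)] at k3
    have k4 := inv2 (by rw [map_add, map_smul, m.B_self, m.B_comm p a', b1, smul_zero, add_zero]) k3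
    rw [left_eq_add, smul_eq_zero_iff_right hb, ha'] at k4
    exact k.nmem (m.veq_of_add k4 ▸ Submodule.smul_mem _ _ (Submodule.mem_span_singleton_self e))
  have nQ := (h.act_norm ka (UN.SI.span_iff ka.toSI (e := e)
    (inv2 e2 kW ▸ Submodule.mem_span_singleton_self e))).2.1
  have m1 := mul_mem ((mem_normalizer_iff.1 nQ _).1 hg) (inv_mem hg)
  have m2 := mul_mem hv ((mem_normalizer_iff.1 h4 _).1 (inv_mem hv))
  rw [← mul_assoc, ← mul_assoc] at m2
  obtain ⟨j, hj⟩ := h.R_two (m.ti_pt e) ⟨_, m1⟩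
  have := UN.one_of_odd hW m2 (k := j) (congrArg Subtype.val hj)
  exact mem_centralizer_singleton_iff.2 (mul_inv_eq_iff_eq_mul.1 (mul_inv_eq_one.1 this))

theorem ae_core {k : ℕ} (hk : finrank F V = 2 * k) {A : Subgroup G} (h1 : A ≤ normalizer (φ.range : Set G))
    (h2 : ∀ a ∈ A, a * a = 1) : ∃ X : Subgroup S, (∀ l ∈ X, l * l = 1) ∧
      (∀ l ∈ X, ∃ a ∈ A, ∃ c ∈ centralizer (φ.range : Set G), a = φ l * c) ∧
      (Nat.card A ≤ Nat.card X * Nat.card (A ⊓ centralizer (φ.range : Set G) : Subgroup G) ∨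
        Nat.card A < Nat.card F ^ (k * (k + 1) / 2) *
          Nat.card (A ⊓ centralizer (φ.range : Set G) : Subgroup G)) := by
  have m := h.toMod
  have d6 := m.d6
  have hN : 6 ≤ k * (k + 1) / 2 := by
    rw [Nat.le_div_iff_mul_le two_pos]
    have : 3 ≤ k := by omega
    nlinarith
  have inv : ∀ b ∈ A, b⁻¹ = b := fun b hb => inv_eq_of_mul_eq_one_right (h2 b hb)
  have ab : ∀ a ∈ A, ∀ b ∈ A, a * b = b * a := fun a ha b hb => by
    rw [← inv _ (A.mul_mem ha hb), mul_inv_rev, inv a ha, inv b hb]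
  let X : Subgroup S :=
    { carrier := {l | ∃ a ∈ A, ∃ c ∈ centralizer (φ.range : Set G), a = φ l * c}
      one_mem' := ⟨1, one_mem _, 1, one_mem _, by rw [map_one, one_mul]⟩
      mul_mem' := by
        rintro l l' ⟨_, ha, c, hc, rfl⟩ ⟨_, ha', c', hc', rfl⟩
        refine ⟨_, mul_mem ha ha', c * c', mul_mem hc hc', ?_⟩
        rw [map_mul, mul_assoc, ← mul_assoc c, ← hc _ ⟨l', rfl⟩, mul_assoc, mul_assoc]
      inv_mem' := by
        rintro l ⟨_, ha, c, hc, rfl⟩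
        refine ⟨_, inv_mem ha, c⁻¹, inv_mem hc, ?_⟩
        rw [hc _ ⟨l, rfl⟩, mul_inv_rev, map_inv] }
  have X2 : ∀ l ∈ X, l * l = 1 := by
    rintro l ⟨_, ha, c, hc, rfl⟩
    exact h.inj (by rw [map_mul, map_one, (h.sq_split ⟨l, rfl⟩ hc (h2 _ ha)).1])
  have hX : ∀ l : X, ∃ a ∈ A, ∃ c ∈ centralizer (φ.range : Set G), a = φ l * c := fun l => l.2
  choose r r1 c c1 rc using hX
  let f : X × (A ⊓ centralizer (φ.range : Set G) : Subgroup G) → G := fun p => r p.1 * p.2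
  have hf : ∀ b ∈ A, (∃ l, ∃ c ∈ centralizer (φ.range : Set G), b = φ l * c) → ∃ i, f i = b := by
    rintro b hb ⟨l, d, hd, e⟩
    have hl : l ∈ X := ⟨b, hb, d, hd, e⟩
    refine ⟨(⟨l, hl⟩, ⟨(r ⟨l, hl⟩)⁻¹ * b, mem_inf.2 ⟨mul_mem (inv_mem (r1 _)) hb, ?_⟩⟩),
      mul_inv_cancel_left _ _⟩
    rw [rc, e, mul_inv_rev, mul_assoc, inv_mul_cancel_left]
    exact mul_mem (inv_mem (c1 _)) hd
  refine ⟨X, X2, fun l hl => hl, ?_⟩
  by_cases H : ∀ b ∈ A, ∃ l, ∃ c ∈ centralizer (φ.range : Set G), b = φ l * c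
  · have c1 := mx_card_le (A := (A : Set G)) f fun b hb => hf b hb (H b hb)
    rw [Nat.card_prod] at c1
    exact Or.inl c1
  refine Or.inr ?_
  simp only [not_forall] at H
  obtain ⟨g, hg, H⟩ := H
  obtain ⟨l, -, d, hd, -, e⟩ | ⟨α, γ, ha, a1, a2, -⟩ := h.invol (h1 hg) (h2 g hg)
  · exact absurd ⟨l, d, hd, e⟩ H
  have cyc := m.aut_cyc
  have : Finite (RingAut F) := Finite.of_injective (fun g : RingAut F => (g : F → F)) DFunLike.coe_injective
  have c1 := mx_card_le (A := (A : Set G))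
    (fun p : (X × (A ⊓ centralizer (φ.range : Set G) : Subgroup G)) × Bool =>
      if p.2 then g * f p.1 else f p.1) fun b hb => by
      obtain ⟨l, -, d, hd, -, e⟩ | ⟨α', γ', ha', a1', a2', -⟩ := h.invol (h1 hb) (h2 b hb)
      · obtain ⟨i, hi⟩ := hf b hb ⟨l, d, hd, e⟩
        exact ⟨(i, false), hi⟩
      obtain rfl : α = α' := ((mx_two a2 a2').resolve_left a1).resolve_left a1'
      have k1 := h.act_mul ha ha'
      rw [a2] at k1
      obtain ⟨l, -, e⟩ := h.act_one k1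
      obtain ⟨i, hi⟩ := hf _ (A.mul_mem hg hb) ⟨l, e⟩
      refine ⟨(i, true), ?_⟩
      change g * f i = b
      rw [hi, ← mul_assoc, h2 g hg, one_mul]
  rw [Nat.card_prod, Nat.card_prod, Nat.card_eq_fintype_card (α := Bool), Fintype.card_bool] at c1
  change Nat.card A ≤ _ at c1
  have q1 : 1 < Nat.card F := Finite.one_lt_card
  have q2 : Nat.card F ≠ 2 := fun e => a1 (m.aut_small (m.small_iff.2 e) α)
  have q3 : 3 ≤ Nat.card F := by omega
  have c2 : Nat.card X ≤ Nat.card F ^ (k * (k + 1) / 2 - 1) := by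
    by_contra c2
    obtain ⟨M, hM, hX⟩ := m.maxe hk X2 (not_le.1 c2)
    have c3 := h.card_fld (m.lag_ti hM) ha a1 (X := X.map φ) (map_mono hX) (by
      rintro _ ⟨l, ⟨_, hl, d, hd, rfl⟩, rfl⟩ y rfl
      have n1 := h1 hg
      have e := (h.dec_inj ((mem_normalizer_iff.1 n1 _).1 ⟨l, rfl⟩) ⟨l, rfl⟩
        ((mem_normalizer_iff.1 (loc_ncent n1) _).1 hd) hd
        (by rw [conj_mul, ab _ hg _ hl, mul_inv_cancel_right])).1
      exact mul_inv_eq_iff_eq_mul.1 e)
    rw [h.card_map, h.card_EM hk hM] at c3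
    have c4 := (Nat.pow_lt_pow_left (not_le.1 c2) two_ne_zero).trans_le c3
    rw [← pow_mul, Nat.pow_lt_pow_iff_right q1] at c4
    omega
  obtain ⟨N, hN'⟩ : ∃ N, k * (k + 1) / 2 = N + 1 := ⟨k * (k + 1) / 2 - 1, by omega⟩
  rw [hN', Nat.add_sub_cancel] at c2
  rw [hN', pow_succ]
  have p1 : 0 < Nat.card F ^ N * Nat.card (A ⊓ centralizer (φ.range : Set G) : Subgroup G) :=
    Nat.mul_pos (pow_pos (by omega) _) Nat.card_pos
  have c5 := Nat.mul_le_mul_right (Nat.card (A ⊓ centralizer (φ.range : Set G) : Subgroup G)) c2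
  rw [mul_right_comm]
  nlinarith

theorem ae_le {k : ℕ} (hk : finrank F V = 2 * k) {X : Subgroup S} (h2 : ∀ l ∈ X, l * l = 1) :
    Nat.card X ≤ Nat.card F ^ (k * (k + 1) / 2) := by
  by_cases c2 : Nat.card X ≤ Nat.card F ^ (k * (k + 1) / 2 - 1)
  · exact c2.trans (Nat.pow_le_pow_right Nat.card_pos (Nat.sub_le _ _))
  · obtain ⟨M, hM, hX⟩ := h.toMod.maxe hk h2 (not_le.1 c2)
    rw [← h.card_EM hk hM, Eg, h.card_map]
    exact card_le_of_le hX

/-- elementary abelian subgroups of `N(L)` -/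
theorem ea_le {k : ℕ} (hk : finrank F V = 2 * k) {A : Subgroup G} (h1 : A ≤ normalizer (φ.range : Set G))
    (h2 : ∀ a ∈ A, a * a = 1) : Nat.card A ≤ Nat.card F ^ (k * (k + 1) / 2) *
      Nat.card (A ⊓ centralizer (φ.range : Set G) : Subgroup G) := by
  obtain ⟨X, X2, -, c | c⟩ := h.ae_core hk h1 h2
  · exact c.trans (Nat.mul_le_mul_right _ (h.ae_le hk X2))
  · exact c.le

theorem ea_eq {k : ℕ} (hk : finrank F V = 2 * k) {A : Subgroup G} (h1 : A ≤ normalizer (φ.range : Set G))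
    (h2 : ∀ a ∈ A, a * a = 1) (h3 : Nat.card F ^ (k * (k + 1) / 2) *
      Nat.card (A ⊓ centralizer (φ.range : Set G) : Subgroup G) ≤ Nat.card A) :
    ∃ M, Lag P M ∧ ∀ ε ∈ Eg C φ M, ∃ a ∈ A, ∃ c ∈ centralizer (φ.range : Set G), ε = a * c := by
  obtain ⟨X, X2, hX, c | c⟩ := h.ae_core hk h1 h2
  swap
  · exact absurd h3 (not_le.2 c)
  have c1 := Nat.le_of_mul_le_mul_right (h3.trans c) Nat.card_pos
  have d6 := h.d6
  have hN : 1 ≤ k * (k + 1) / 2 := by
    rw [Nat.le_div_iff_mul_le two_pos]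
    have : 3 ≤ k := by omega
    nlinarith
  obtain ⟨M, hM, k1⟩ := h.toMod.maxe hk X2
    ((Nat.pow_lt_pow_right Finite.one_lt_card (by omega)).trans_le c1)
  rw [← h.card_EM hk hM, Eg, h.card_map] at c1
  refine ⟨M, hM, ?_⟩
  rintro _ ⟨l, hl, rfl⟩
  obtain ⟨a, ha, c, hc, e⟩ := hX l (eq_of_le_of_card_ge k1 c1 ▸ hl)
  exact ⟨a, ha, c⁻¹, inv_mem hc, by rw [e, mul_inv_cancel_right]⟩

end Emb

namespace Sit

variable (h : Sit C φ t) {g : G} {e a : V}
include h

theorem mem_of_Od (hg : g ∈ Od (centralizer {t})) (h2 : IsPGroup 2 (zpowers g)) : g ∈ φ.range := by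
  obtain ⟨ty, hty⟩ := h.toEmb.exists_ty
  have := h.toMod.aut_cyc
  let _ : CommGroup (RingAut F) := IsCyclic.commGroup
  have e : φ.range ⊓ centralizer (φ.range : Set G) = ⊥ :=
    eq_bot_iff.2 fun a ha => h.toEmb.eq_one ha.1 ha.2
  refine UN.mem_of_Od' h.cyc (by rw [e, card_bot]; exact odd_one) ty (fun n hn => ?_)
    (UN.Od_mono h.CN hg) h2
  obtain ⟨α, γ, k⟩ := h.toEmb.exists_act n.2
  obtain rfl : α = 1 := (hty n α γ k).symm.trans hn
  obtain ⟨l, -, c, hc, e⟩ := h.toEmb.act_one k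
  exact ⟨1, odd_one, by rw [pow_one, e]; exact mul_mem_sup ⟨l, rfl⟩ hc⟩

theorem le_of_perf {H : Subgroup G} (h1 : H ≤ centralizer {t}) (h2 : H ≤ ⁅H, H⁆) : H ≤ φ.range := by
  have : (φ.range.subgroupOf H).Normal := ⟨fun o ho g =>
    (mem_normalizer_iff.1 (h.CN (h1 g.2)) o).1 ho⟩
  refine UN.odd_le_of_solv h2 (FT.odd_order_solvable (UN.odd_index _ fun g => ?_))
  obtain ⟨m, hm, e⟩ := UN.odd_pow_odd (g : G)
  exact ⟨m, hm, h.mem_of_Od (UN.Od_mono h1 (UN.le_Od_of_perf h2 (pow_mem g.2 m))) e⟩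

theorem td_Q (h2 : Two φ.range t) (h0 : e ≠ 0) :
    TD φ.range (Rg C φ (span F {e})) (Rg C φ (span F {e})) t := by
  have em := h.toEmb
  refine { h.toStd with
    two' := h2
    ER := le_rfl
    RH := em.R_le_Y.trans em.Y_le_L
    sq := fun g hg => ?_
    cen := fun g hg g' hg' => ?_
    EC := fun g hg => em.eq_one (em.Y_le_L (em.R_le_Y hg))
    cR := fun g e1 e2 => em.cQ h0 (h.norm_of e1) e2 }
  · obtain ⟨a, c, k, rfl⟩ := (em.mem_Q h0).1 hg
    exact em.τ_sq k c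
  · obtain ⟨a, c, k, rfl⟩ := (em.mem_Q h0).1 hg
    obtain ⟨b, d, k', rfl⟩ := (em.mem_Q h0).1 hg'
    exact em.τ_comm k' k d c

theorem td_R (h2 : Two φ.range t) {U : Submodule F V} (hU : TI P U) (hd : 2 ≤ finrank F U) :
    TD φ.range (Rg C φ U) (Eg C φ U) t :=
  have em := h.toEmb
  { h.toStd with
    two' := h2
    ER := em.E_le_R hU
    RH := em.R_le_Y.trans em.Y_le_L
    sq := fun _ hg => em.E_sq hU hg
    cen := (em.E_cent hU).trans (centralizer_le em.R_le_Y)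
    EC := fun _ hg => em.eq_one (em.Y_le_L (em.R_le_Y (em.E_le_R hU hg)))
    cR := fun _ e1 e2 => em.cR hU hd (h.norm_of e1) e2 }

theorem big_le {k : ℕ} (hk : finrank F V = 2 * k) {B : Subgroup G} (h1 : B ≤ centralizer {t})
    (h2 : ∀ b ∈ B, b * b = 1) : Nat.card B ≤ 2 * Nat.card F ^ (k * (k + 1) / 2) := by
  by_contra H
  obtain ⟨M, hM, rfl⟩ := h.bigA hk h1 h2 (not_le.1 H).le
  exact H (by rw [h.card_sup_t (H := Eg C φ M) (map_le_range φ _), h.toEmb.card_EM hk hM])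

/-- two different large elementary abelian subgroups of `C(t)` have a small intersection -/
theorem big_inf {k : ℕ} (hk : finrank F V = 2 * k) {B B' : Subgroup G} (h1 : B ≤ centralizer {t})
    (h2 : ∀ b ∈ B, b * b = 1) (h3 : 2 * Nat.card F ^ (k * (k + 1) / 2) ≤ Nat.card B)
    (h1' : B' ≤ centralizer {t}) (h2' : ∀ b ∈ B', b * b = 1)
    (h3' : 2 * Nat.card F ^ (k * (k + 1) / 2) ≤ Nat.card B') (ne : B ≠ B') :
    Nat.card (B ⊓ B' : Subgroup G) ≤ 2 * Nat.card F ^ ((k - 1) * k / 2) := by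
  have m := h.toMod
  have em := h.toEmb
  obtain ⟨M, hM, rfl⟩ := h.bigA hk h1 h2 h3
  obtain ⟨M', hM', rfl⟩ := h.bigA hk h1' h2' h3'
  have EL : ∀ U, Eg C φ U ≤ φ.range := fun U => map_le_range φ _
  have EI : ∀ g, g ∈ Eg C φ M → g ∈ Eg C φ M' → g ∈ Eg C φ (M ⊓ M') := fun g a b => by
    rw [Eg, ← m.E_inf, map_inf _ _ _ h.inj]
    exact ⟨a, b⟩
  have k1 : (Eg C φ M ⊔ zpowers t) ⊓ (Eg C φ M' ⊔ zpowers t) ≤ Eg C φ (M ⊓ M') ⊔ zpowers t :=
    fun g hg => by
      have nt : ∀ U U', g ∈ Eg C φ U → t * g ∉ Eg C φ U' := fun U U' a b => h.t_not_mem (by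
        simpa only [mul_inv_cancel_right] using mul_mem (EL _ b) (inv_mem (EL _ a)))
      rcases (h.mem_sup_t (EL M)).1 hg.1 with a | a <;> rcases (h.mem_sup_t (EL M')).1 hg.2 with b | b
      · exact (h.mem_sup_t (EL _)).2 (.inl (EI _ a b))
      · exact absurd b (nt _ _ a)
      · exact absurd a (nt _ _ b)
      · exact (h.mem_sup_t (EL _)).2 (.inr (EI _ a b))
  have r1 := m.lag_rank hM
  have r2 := m.lag_rank hM'
  have r3 : finrank F (M ⊓ M' : Submodule F V) < k := by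
    by_contra r3
    refine ne ?_
    rw [← Submodule.eq_of_le_of_finrank_le (inf_le_left (a := M) (b := M')) (by omega),
      Submodule.eq_of_le_of_finrank_le (inf_le_right (a := M) (b := M')) (by omega)]
  have ti : TI P (M ⊓ M') := inf_le_left.trans ((m.lag_ti hM).trans (P.perp_anti inf_le_left))
  refine (card_le_of_le k1).trans ?_
  rw [h.card_sup_t (EL _), Eg, em.card_map, m.card_E ti]
  exact Nat.mul_le_mul_left _ (Nat.pow_le_pow_right Nat.card_pos
    (Nat.div_le_div_right (Nat.mul_le_mul (by omega) r3)))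

end Sit

end CfsgLib.SPC
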