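import Cfsg.Agent.Lib.SPC.ADefs
import Cfsg.Agent.Lib.SPC.AEmb
import Cfsg.Agent.Lib.SLE.NG

/-! Type A: the group generated by the hats -/

set_option autoImplicit false
set_option linter.unusedSectionVars false

namespace CfsgLib.SPC

open Subgroup Module CfsgLib.Forms CfsgLib.LieMult
open CfsgLib.HX (Std CO Two Mv M2 QA)
open CfsgLib.UN (AV SI TI HH Rad Stb Yg Rg Eg Act nu Bas Nh flag Ub Uni TD Od)
open CfsgLib.UN.SB (D)
open CfsgLib.ClSys (II)
open Submodule (span)
open scoped commutatorElement Pointwise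

universe u

variable {F : Type} [Field F] [Finite F] {V : Type} [AddCommGroup V] [Module F V]
  [FiniteDimensional F V] {P : PQ (RingHom.id F) V} {S : Type} [Group S] [Finite S] {G : Type u}
  [Group G] [Finite G] {C : CG P S} {φ : S →* G} {t : G}

theorem ab0_coc {a b : G} (e : a * b * a⁻¹ = b) : Commute a b := mul_inv_eq_iff_eq_mul.1 e

theorem ab0_inv {a : G} (e : a * a = 1) : a⁻¹ = a := inv_eq_of_mul_eq_one_right e

theorem ab0_t {p l : G} (t2 : t * t = 1) (e : p * t * p⁻¹ = t * l) :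
    t * p * t⁻¹ = l * p := by
  rw [ab0_inv t2, ← mul_left_cancel_iff (a := t), ← mul_assoc t l, ← e]
  simp [← mul_assoc, t2]

theorem ab0_conj {p a b : G} (p2 : p * p = 1) : p * (a * b) * p = p * a * p * (p * b * p) := by
  calc _ = p * a * (p * p) * b * p := by rw [p2]; group
    _ = _ := by group

/-- the normal form in the hat of `Q_e` -/
def ab0N (C : CG P S) (φ : S →* G) (w : V → V → G) (y : V → F → G) (e a b : V) (r s : F) : G :=
  τ C φ e a r * w e b * y e s

namespace HA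

variable {w : V → V → G} {y : V → F → G} {δ : F} (h : HA C φ t w y δ) {e a b p u c : V} {r s β : F} {g : G}
  {Gs : Subgroup G}
include h

theorem y_zero (e : V) : y e 0 = 1 := by simpa using h.yadd e 0 0
theorem y_zero' (β : F) : y 0 β = 1 := by
  have := h.ysmul 0 β 0
  rwa [smul_zero, mul_zero, zero_mul, h.y_zero] at this
theorem y_sq (e : V) (β : F) : y e β * y e β = 1 := by rw [← h.yadd, h.add_self, h.y_zero]
theorem w_zero (e : V) : w e 0 = 1 := by simpa using h.add e 0 0 (by simp) (by simp) (by simp)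
theorem w_zero' (a : V) : w 0 a = 1 := by
  have := h.smul 0 a 0 (by simp)
  rwa [smul_zero, zero_smul, h.w_zero] at this
theorem w_symm (k : P.B e a = 0) : w a e = w e a := by
  rw [h.symm e a k, zero_smul, h.x_zero, mul_one]
theorem w_shift (k : P.B e a = 0) (μ : F) : w e (a + μ • e) = w e a := by
  rw [h.shift e a μ k, zero_mul, h.z_zero, mul_one]
theorem w_self (e : V) (μ : F) : w e (μ • e) = 1 := by
  have := h.w_shift (e := e) (a := 0) (by simp) μ
  rwa [zero_add, h.w_zero] at this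
theorem y_fix {l : S} (hl : C.act l e = e) (β : F) : Commute (φ l) (y e β) :=
  ab0_coc (by rw [h.yeqv, hl])
theorem w_fix (k : P.B e a = 0) {l : S} (h1 : C.act l e = e) (h2 : C.act l a = a) :
    Commute (φ l) (w e a) := ab0_coc (by rw [h.eqv l e a k, h1, h2])
theorem zy (k : P.B e p = 0) (r s : F) : Commute (z C φ e r) (y p s) :=
  h.y_fix (by rw [h.z_app, k]; simp) s
theorem ab0_wsm (k : P.B e a = 0) (l : F) : w a (l • e) = w e (l • a) := by
  rw [← h.smul a e l (by rw [h.B_comm, k]), h.w_symm (e := e) (by simp [k])]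
theorem yy (k : P.B e p = 0) (r s : F) : Commute (y e r) (y p s) := by
  have key : ∀ e p : V, P.B e p = 0 → Commute (y e 1) (y p 1) := fun e p k => by
    have k' : P.B p e = 0 := by rw [h.B_comm, k]
    have e1 := h.yline e p 1 k
    rw [add_comm, h.yline p e 1 k', h.ab0_wsm k] at e1
    exact (mul_right_cancel e1).symm
  obtain ⟨r, rfl⟩ := h.exists_sqrt r
  obtain ⟨s, rfl⟩ := h.exists_sqrt s
  have := key (r • e) (s • p) (by simp [k])
  rwa [h.ysmul, h.ysmul, mul_one, mul_one] at this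
theorem τy (k : P.B e a = 0) (r s : F) : Commute (τ C φ e a r) (y e s) :=
  h.y_fix (by rw [h.T_app k, h.B_comm a, k, h.B_self]; simp) s
theorem τw (k : P.B e a = 0) (k' : P.B e b = 0) (r : F) : Commute (τ C φ e b r) (w e a) := by
  have := h.wQ e a b r k k'
  rw [zero_mul, add_zero] at this
  exact (ab0_coc (by rw [ab0_inv (h.sq e a k), this])).symm
theorem yw' (k : P.B e a = 0) (β : F) : Commute (y e β) (w e a) := h.yw e e a β (h.B_self e) k k
theorem t_y (e : V) (β : F) : t * y e β * t⁻¹ = z C φ e β * y e β :=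
  ab0_t h.t2 (h.ymv e β).pt
theorem t_w (k : P.B e a = 0) : t * w e a * t⁻¹ = x C φ e a * w e a :=
  ab0_t h.t2 (h.mv e a k).pt
/-- **(Wx)** -/
theorem Wx {v : V} (k0 : P.B u v = 0) (k1 : P.B e u = 0) (k2 : P.B e v = 0) (k3 : P.B e c = 0) :
    w u v * x C φ e c * w u v = x C φ e c * w e (P.B c u • v + P.B c v • u) := by
  rw [h.cx u v e c k0 k1 k2 k3]
  simp [h.x_zero, h.z_zero]
/-- **(Ww)** -/
theorem Ww {v : V} (k0 : P.B u v = 0) (k1 : P.B e u = 0) (k2 : P.B e v = 0) (k3 : P.B e c = 0) :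
    w u v * w e c * w u v = w e c * w e (P.B c u • v + P.B c v • u) *
      x C φ e (δ • (P.B c u • v + P.B c v • u)) := by
  rw [h.cw u v e c k0 k1 k2 k3]
  simp [h.z_zero]

theorem ab0_mul {a' b' : V} (k1 : P.B e a = 0) (k2 : P.B e b = 0) (k3 : P.B e a' = 0) (k4 : P.B e b' = 0)
    (r s r' s' : F) : ab0N C φ w y e a b r s * ab0N C φ w y e a' b' r' s' =
      ab0N C φ w y e (a + a') (b + b') (r + r' + P.B a a' + δ * P.B b b') (s + s' + P.B b b') := by
  have k5 : P.B e (a + a') = 0 := by simp [k1, k3]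
  have k6 : P.B e (b + b') = 0 := by simp [k2, k4]
  have e1 : τ C φ e (a + a') (r + r' + P.B a a' + δ * P.B b b') =
      τ C φ e a r * τ C φ e a' r' * τ C φ e 0 (δ * P.B b b') := by
    rw [h.τ_mul k1 k3, h.τ_mul k5 (by simp)]; simp
  have e2 : w e b * w e b' = w e (b + b') * y e (P.B b b') * τ C φ e 0 (δ * P.B b b') := h.ww e b b' k2 k4
  unfold ab0N
  calc _ = τ C φ e a r * (w e b * y e s * τ C φ e a' r') * w e b' * y e s' := by group
    _ = τ C φ e a r * τ C φ e a' r' * w e b * (y e s * w e b') * y e s' := by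
      rw [← ((h.τw k2 k3 r').mul_right (h.τy k3 r' s)).eq]; group
    _ = τ C φ e a r * τ C φ e a' r' * (w e b * w e b') * (y e s * y e s') := by
      rw [(h.yw' k4 s).eq]; group
    _ = _ := by
      rw [e2, ← ((h.τw k6 (by simp) _).mul_right (h.τy (by simp) _ _)).eq, e1, add_comm (s + s'), h.yadd,
        h.yadd]
      group

theorem ab0_x (e a : V) : x C φ e a = ab0N C φ w y e a 0 0 0 := by
  rw [ab0N, h.w_zero, h.y_zero, mul_one, mul_one]; rfl
theorem ab0_τ (e a : V) (r : F) : τ C φ e a r = ab0N C φ w y e a 0 r 0 := by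
  rw [ab0N, h.w_zero, h.y_zero, mul_one, mul_one]
theorem ab0_z (e : V) (r : F) : z C φ e r = ab0N C φ w y e 0 0 r 0 := h.ab0_τ e 0 r
theorem ab0_w (e a : V) : w e a = ab0N C φ w y e 0 a 0 0 := by
  rw [ab0N, h.y_zero, mul_one, show τ C φ e 0 0 = 1 from h.z_zero e, one_mul]
theorem ab0_y (e : V) (s : F) : y e s = ab0N C φ w y e 0 0 0 s := by
  rw [ab0N, h.w_zero, mul_one, show τ C φ e 0 0 = 1 from h.z_zero e, one_mul]

omit h in
theorem ab0_congr {a' b' : V} {r' s' : F} (e1 : a = a') (e2 : b = b') (e3 : r = r') (e4 : s = s') :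
    ab0N C φ w y e a b r s = ab0N C φ w y e a' b' r' s' := by rw [e1, e2, e3, e4]

/-- conjugation by a transvection -/
theorem ab0_cz (k1 : P.B e u = 0) (k2 : P.B e a = 0) (k3 : P.B e b = 0) (β r s : F) :
    z C φ u β * ab0N C φ w y e a b r s * z C φ u β =
      ab0N C φ w y e (a + (β * P.B u a) • u) (b + (β * P.B u b) • u) r s := by
  have k4 : P.B u e = 0 := by rw [h.B_comm, k1]
  have e1 := h.eqv (C.T u 0 β) e b k3
  rw [h.z_app, h.z_app, k4, mul_zero, zero_smul, add_zero] at e1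
  change z C φ u β * _ * (z C φ u β)⁻¹ = _ at e1
  rw [ab0_inv (h.z_sq u β)] at e1
  unfold ab0N
  rw [ab0_conj (h.z_sq u β), ab0_conj (h.z_sq u β), e1, h.z_τ β k2, k4, mul_zero, zero_smul, add_zero,
    (h.zy k4 β s).eq, mul_assoc (y e s), h.z_sq, mul_one]

/-- conjugation by a hat -/
theorem ab0_cw {v : V} (k0 : P.B u v = 0) (k1 : P.B e u = 0) (k2 : P.B e v = 0) (k3 : P.B e a = 0)
    (k4 : P.B e b = 0) (r s : F) :
    w u v * ab0N C φ w y e a b r s * w u v =
      ab0N C φ w y e (a + δ • (P.B b u • v + P.B b v • u))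
        (b + (P.B a u • v + P.B a v • u) + (P.B b u • v + P.B b v • u)) r
        (s + (P.B b u * P.B a v + P.B b v * P.B a u)) := by
  have w2 := h.sq u v k0
  have c1 : Commute (z C φ e r) (w u v) :=
    h.w_fix k0 (by rw [h.z_app, k1]; simp) (by rw [h.z_app, k2]; simp)
  have k5 : P.B v u = 0 := by rw [h.B_comm, k0]
  rw [ab0N, ab0_conj w2, ab0_conj w2, h.τ_eq k3, ab0_conj w2, h.Wx k0 k1 k2 k3, h.Ww k0 k1 k2 k4,
    ← c1.eq, mul_assoc (z C φ e r), w2, mul_one, ← (h.yw e u v s k1 k2 k0).eq, mul_assoc (y e s), w2, mul_one,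
    h.ab0_x e a, h.ab0_x e, h.ab0_w e b, h.ab0_w e, h.ab0_w e, h.ab0_z e, h.ab0_y e]
  rw [h.ab0_mul, h.ab0_mul, h.ab0_mul, h.ab0_mul, h.ab0_mul, h.ab0_mul]
  · refine ab0_congr (by simp) (by simp; abel) ?_ ?_
    · simp [k0, k5, h.B_self, h.B_comm u b, h.B_comm v b]
      linear_combination (δ * (P.B b u * P.B a v + P.B b v * P.B a u + P.B b u * P.B b v)) * h.two
    · simp [k0, k5, h.B_self, h.B_comm u b, h.B_comm v b]
      linear_combination (P.B b u * P.B b v) * h.two
  all_goals simp [k1, k2, k3, k4]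

/-- **(Yx)** -/
theorem Yx (k1 : P.B e u = 0) (k2 : P.B e c = 0) (β : F) : y u β * x C φ e c * y u β =
    x C φ e c * w e ((P.B c u * β) • u) * y e (P.B c u * P.B c u * β) := by
  have k3 : P.B u e = 0 := by rw [h.B_comm, k1]
  have e1 := h.yeqv (C.T e c 0) u β
  rw [h.x_app k2, k1, zero_smul, add_zero, h.yline u _ β (by simp [k3]), h.ysmul, smul_smul,
    h.ab0_wsm k1, mul_comm β] at e1
  change x C φ e c * _ * (x C φ e c)⁻¹ = _ at e1
  rw [mul_inv_eq_iff_eq_mul] at e1
  have k4 : P.B e ((P.B c u * β) • u) = 0 := by simp [k1]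
  have c1 : Commute (x C φ e c) (y e (P.B c u * P.B c u * β) * w e ((P.B c u * β) • u)) :=
    (h.τy k2 0 _).mul_right (h.τw k4 k2 0)
  rw [mul_assoc, e1, mul_assoc (y u β) (y e _), ← mul_assoc, ← mul_assoc, h.y_sq, one_mul, ← c1.eq,
    (h.yw' k4 _).eq, mul_assoc (x C φ e c)]
/-- **(Zw)** -/
theorem Zw (k1 : P.B e u = 0) (k2 : P.B e c = 0) (β : F) : z C φ u β * w e c * z C φ u β =
    w e c * w e ((P.B c u * β) • u) * y e (P.B c u * P.B c u * β) *
      z C φ e (δ * P.B c u * P.B c u * β) := by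
  rw [h.ab0_w e c, h.ab0_cz k1 (by simp) k2, h.ab0_w e, h.ab0_z e, h.ab0_y e, h.ab0_mul, h.ab0_mul, h.ab0_mul]
  · refine ab0_congr (by simp) (by simp [h.B_comm u c, mul_comm]) ?_ ?_
    · simp
      linear_combination (-(δ * P.B c u * P.B c u * β)) * h.two
    · simp
      linear_combination (-(P.B c u * P.B c u * β)) * h.two
  all_goals simp [k1, k2]
/-- **(Yw)** -/
theorem Yw (k1 : P.B e u = 0) (k2 : P.B e c = 0) (β : F) : y u β * w e c * y u β =
    w e c * w e ((P.B c u * β) • u) * x C φ e ((δ * P.B c u * β) • u) *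
      y e ((1 + δ) * P.B c u * P.B c u * β) * z C φ e (δ * P.B c u * P.B c u * β) := by
  have k3 : P.B u e = 0 := by rw [h.B_comm, k1]
  by_cases k : P.B u c = 0
  · rw [h.B_comm c, k, (h.yw u e c β k3 k k2).eq, mul_assoc, h.y_sq]
    simp [h.w_zero, h.x_zero, h.y_zero, h.z_zero]
  obtain ⟨a, b, ab, ea, eb, ua, ub, ca, cb⟩ := h.exists_hp3 k k1 k2
  have ba : P.B b a = 1 := by rw [h.B_comm, ab]
  have au : P.B a u = 0 := by rw [h.B_comm, ua]
  have bu : P.B b u = 0 := by rw [h.B_comm, ub]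
  have ub' : P.B u (β • b) = 0 := by simp [ub]
  have uab : P.B u (a + β • b) = 0 := by simp [ua, ub]
  have e1 : y u β = w u (a + β • b) * (w u a * (w u (β • b) * z C φ u (δ * β))) := by
    have := h.ww u a (β • b) ua ub'
    rw [show P.B a (β • b) = β by simp [ab]] at this
    rw [← mul_assoc (w u a), this, ← mul_assoc, ← mul_assoc, ← mul_assoc, h.sq u _ uab, one_mul, mul_assoc,
      h.z_sq, mul_one]
  have e2 : y u β = z C φ u (δ * β) * w u (β • b) * w u a * w u (a + β • b) := by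
    rw [← ab0_inv (h.y_sq u β), e1, mul_inv_rev, mul_inv_rev, mul_inv_rev, ab0_inv (h.z_sq _ _),
      ab0_inv (h.sq u _ uab), ab0_inv (h.sq u _ ua), ab0_inv (h.sq u _ ub')]
  calc _ = w u (a + β • b) * (w u a * (w u (β • b) * (z C φ u (δ * β) * w e c * z C φ u (δ * β)) *
        w u (β • b)) * w u a) * w u (a + β • b) := by
        nth_rewrite 2 [e2]
        rw [e1]; group
    _ = _ := by
      rw [h.ab0_w e c, h.ab0_cz k1 (by simp) k2, h.ab0_cw ub' k1, h.ab0_cw ua k1, h.ab0_cw uab k1, h.ab0_w e,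
        h.ab0_x e, h.ab0_z e, h.ab0_y e, h.ab0_mul, h.ab0_mul, h.ab0_mul, h.ab0_mul]
      · have cu := h.B_comm c u
        have two := h.two
        refine ab0_congr ?_ ?_ ?_ ?_ <;>
          simp only [map_add, map_smul, LinearMap.add_apply, LinearMap.smul_apply,
            smul_eq_mul, map_zero, LinearMap.zero_apply, ab, ba, au, bu, ua, ub, ca, cb, cu, h.B_self,
            mul_zero, add_zero, zero_add, mul_one, zero_smul]
        · match_scalars <;> grind
        · match_scalars <;> grind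
        · grind
        · grind
      all_goals simp [k1, k2, ea, eb]

end HA

end CfsgLib.SPC
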