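import Cfsg.Agent.Lib.SPC.PresB

/-! The Steinberg presentation of the symplectic group in characteristic two -/

set_option autoImplicit false
set_option linter.unusedSectionVars false

namespace CfsgLib.SPC

open Subgroup Module CfsgLib.Forms CfsgLib.LieMult
open CfsgLib.HX (M2)
open CfsgLib.ClSys (II RBC rootB)
open CfsgLib.Chev CfsgLib.Classical
open scoped commutatorElement MatrixGroups

variable {G : Type*} [Group G] {m : ℕ}

/-- the relations of type `C_m` in characteristic two over a commutative ring: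
`xm a b t = T (v a) (t • v b) 0`, `xl a c = T (v a) 0 c` -/
structure SRel {K : Type} [CommRing K] (xm : II m → II m → K → G) (xl : II m → K → G) : Prop where
  add : ∀ a b, Ap a b → ∀ t u, xm a b (t + u) = xm a b t * xm a b u
  symm : ∀ a b, Ap a b → ∀ t, xm a b t = xm b a t
  ladd : ∀ a c d, xl a (c + d) = xl a c * xl a d
  mid : ∀ a b c, Ap a b → Ap c a → Ap c b → ∀ t u, ⁅xm a b t, xm c b.swap u⁆ = xm c a (u * t)
  mid' : ∀ a b, Ap a b → ∀ t u, Commute (xm a b t) (xm a b.swap u)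
  mide : ∀ a b, Ap a b → ∀ c t, ⁅xl b.swap c, xm a b t⁆ = xl a (t * t * c) * xm a b.swap (t * c)
  ends : ∀ a b, Ap a b → ∀ c d, Commute (xl a c) (xl b d)
  cmm : ∀ a b c d, Ap a b → Ap c d → a ≠ c.swap → a ≠ d.swap → b ≠ c.swap → b ≠ d.swap →
    ∀ t u, Commute (xm a b t) (xm c d u)
  cme : ∀ a b c, Ap a b → c ≠ a.swap → c ≠ b.swap → ∀ t d, Commute (xm a b t) (xl c d)

/-- the group generated by the root elements -/
def SG {K : Type} (xm : II m → II m → K → G) (xl : II m → K → G) : Subgroup G :=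
  closure {g | (∃ a b t, Ap a b ∧ g = xm a b t) ∨ ∃ a c, g = xl a c}

/-- restriction along a non-unital ring homomorphism -/
theorem SRel.comp {K K' : Type} [CommRing K] [CommRing K'] {xm : II m → II m → K → G}
    {xl : II m → K → G} (h : SRel xm xl) (f : K' →ₙ+* K) :
    SRel (fun a b t => xm a b (f t)) fun a c => xl a (f c) :=
  { add := fun a b hab t u => by simp only [map_add]; exact h.add a b hab _ _
    symm := fun a b hab t => h.symm a b hab _
    ladd := fun a c d => by simp only [map_add]; exact h.ladd a _ _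
    mid := fun a b c h1 h2 h3 t u => by simp only [map_mul]; exact h.mid a b c h1 h2 h3 _ _
    mid' := fun a b hab t u => h.mid' a b hab _ _
    mide := fun a b hab c t => by simp only [map_mul]; exact h.mide a b hab _ _
    ends := fun a b hab c d => h.ends a b hab _ _
    cmm := fun a b c d h1 h2 h3 h4 h5 h6 t u => h.cmm a b c d h1 h2 h3 h4 h5 h6 _ _
    cme := fun a b c h1 h2 h3 t d => h.cme a b c h1 h2 h3 _ _ }

variable {F : Type} [Field F] [Finite F] {V : Type} [AddCommGroup V] [Module F V]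
  {P : PQ (RingHom.id F) V} {S : Type} [Group S] [Finite S] [Finite G] (C : CG P S) (Fr : Frame P m)

theorem V0_eq_bot (lam : P.Λ = ⊤) : Fr.V0 = ⊥ :=
  eq_bot_iff.2 fun w hw => (Submodule.mem_bot F).2 (Fr.aniso w (Fr.mem_V0.1 hw) (by
    change P.N w ∈ P.Λ
    rw [lam]
    trivial))

theorem exists_node_sp (lam : P.Λ = ⊤) (a : II m) :
    Nonempty (Fr.Node C (.inr a) (sl2RankOne F)) := by
  have h0 := V0_eq_bot Fr lam
  have h1 : ∀ k : F, k ∈ P.Λ := fun k => by rw [lam]; trivial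
  let Φ : SL(2, F) → V → V := fun M x =>
    x + ((M 0 0 - 1) * P.B (Fr.v a.swap) x + M 0 1 * P.B (Fr.v a) x) • Fr.v a +
      (M 1 0 * P.B (Fr.v a.swap) x + (M 1 1 - 1) * P.B (Fr.v a) x) • Fr.v a.swap
  have hX : ∀ k x, C.act (C.T (Fr.v a) 0 (-k)) x = Φ (slX k) x := fun k x => by
    rw [C.T_apply (TOk.zero (Fr.sing a) (h1 _))]
    simp [Φ, tfun, slX_val]
  have hY : ∀ k x, C.act (C.T (Fr.v a.swap) 0 (-k)) x = Φ (slY k) x := fun k x => by
    rw [C.T_apply (TOk.zero (Fr.sing _) (h1 _))]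
    simp [Φ, tfun, slY_val]
  obtain ⟨φ, hφ⟩ := C.exists_hom Φ (fun x => by simp [Φ]) (fun M N x => by
      simp only [Φ, Matrix.SpecialLinearGroup.coe_mul, Matrix.mul_apply, Fin.sum_univ_two, map_add,
        map_smul, Fr.B_self, Fr.B_swap, Fr.B_swap', smul_eq_mul]
      match_scalars <;> ring)
    (S := (slU F : Set SL(2, F)) ∪ slV F)
    (by rw [Subgroup.closure_union, Subgroup.closure_eq, Subgroup.closure_eq, slU_sup_slV]) (by
      rintro _ (⟨t, rfl⟩ | ⟨t, rfl⟩)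
      exacts [⟨_, hX t.toAdd⟩, ⟨_, hY t.toAdd⟩])
  have key : ∀ (b : II m) (x : F → SL(2, F)) hx,
      (∀ k, φ (x k) = C.T (Fr.v b) 0 (-k)) → Fr.X C (.inr b) = (addRange x hx).map φ := by
    intro b x hx h
    ext g
    rw [Frame.X_inr, h0, C.mem_QU_bot]
    refine ⟨fun ⟨c, _, e⟩ => ⟨_, mem_addRange.2 ⟨-c, rfl⟩, by rw [h, neg_neg, e]⟩, ?_⟩
    rintro ⟨_, ⟨k, rfl⟩, rfl⟩
    exact ⟨_, h1 _, (h _).symm⟩
  have fix : ∀ M d, Ap d a → C.act (φ M) (Fr.v d) = (1 : F) • Fr.v d := fun M d h => by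
    simp [hφ, Φ, Fr.B_ap h.symm, Fr.B_ap h.symm.sl]
  refine ⟨⟨φ, key a _ _ fun k => C.ext fun x => by rw [hφ, hX],
    key a.swap _ _ fun k => C.ext fun x => by rw [hφ, hY], fun d => ?_, ?_⟩⟩
  · change ∃ l : F, l ≠ 0 ∧ C.act (φ slW) (Fr.v d) = l • Fr.v (Equiv.swap a a.swap d)
    rcases ap_cases a d with (rfl | rfl) | h
    · exact ⟨-1, by simp, by simp [hφ, Φ, slW_val, Fr.B_self, Fr.B_swap']⟩
    · exact ⟨1, one_ne_zero, by simp [hφ, Φ, slW_val, Fr.B_self, Fr.B_swap]⟩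
    · exact ⟨1, one_ne_zero, by rw [fix _ d h, Equiv.swap_apply_of_ne_of_ne h.ne h.ne_swap]⟩
  · rintro _ ⟨t, rfl⟩ d
    change ∃ l : F, l ≠ 0 ∧ _ = l • Fr.v d
    rcases ap_cases a d with (rfl | rfl) | h
    · exact ⟨t, by simp, by simp [hφ, Φ, sl2Diag, sl2Mk_val, Fr.B_self, Fr.B_swap', sub_smul]⟩
    · exact ⟨(t : F)⁻¹, by simp, by simp [hφ, Φ, sl2Diag, sl2Mk_val, Fr.B_self, Fr.B_swap, sub_smul]⟩
    · exact ⟨1, one_ne_zero, fix _ d h⟩

/-- **PRES** for the symplectic group -/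
theorem pres_sp (h2 : (2 : F) = 0) (lam : P.Λ = ⊤) (hm : 2 ≤ m)
    (gen : ∀ K : Subgroup S, (∀ e a c, TOk P e a c → C.T e a c ∈ K) → K = ⊤)
    (perf : (⊤ : Subgroup S) ≤ ⁅(⊤ : Subgroup S), ⊤⁆) (mult : M2 S)
    {xm : II m → II m → F → G} {xl : II m → F → G} (h : SRel xm xl)
    (hz : ∀ g ∈ SG xm xl, g ∈ centralizer (SG xm xl : Set G) → g * g = 1 → g = 1) :
    ∃ ψ : S →* G, (∀ a b, Ap a b → ∀ t, ψ (Fr.xm C a b t) = xm a b t) ∧
      (∀ a c, ψ (C.T (Fr.v a) 0 c) = xl a c) ∧ ψ.range = SG xm xl := by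
  have : CharP F 2 := (CharP.charP_iff_prime_eq_zero Nat.prime_two).2 (by exact_mod_cast h2)
  have h0 := V0_eq_bot Fr lam
  have h1 : ∀ k : F, k ∈ P.Λ := fun k => by rw [lam]; trivial
  have hn : ∀ t : F, -t = t := fun t => by linear_combination (-t) * h2
  have hw : ∀ w ∈ Fr.V0, w = 0 := fun w hw => (Submodule.mem_bot F).1 (h0 ▸ hw)
  have l0 : ∀ a, xl a 0 = 1 := fun a => by
    have := h.ladd a 0 0
    rw [add_zero] at this
    exact mul_eq_left.1 this.symm
  have m0 : ∀ a b, Ap a b → xm a b 0 = 1 := fun a b hab => by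
    have := h.add a b hab 0 0
    rw [add_zero] at this
    exact mul_eq_left.1 this.symm
  have hr : XRel Fr xm fun a _ c => xl a c :=
    { add := h.add
      symm := fun a b hab t => by rw [hn]; exact h.symm a b hab t
      mul := fun a w w' c c' a1 a2 _ _ => by
        rw [hw w a1, map_zero, add_zero]; exact (h.ladd a c c').symm
      mid := h.mid
      mid' := fun a b hab t u => by
        rw [RingHom.id_apply, sub_self, l0]
        exact commutatorElement_eq_one_iff_commute.2 (h.mid' a b hab t u)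
      mide := fun a b w c hab _ _ t => by rw [hn]; exact h.mide a b hab c t
      ends := fun a b w w' c c' hab a1 _ _ _ => by
        rw [hw w a1, map_zero, m0 a b hab]
        exact commutatorElement_eq_one_iff_commute.2 (h.ends a b hab c c').symm
      cmm := h.cmm
      cme := fun a b c w d hab a1 a2 _ _ t => h.cme a b c hab a1 a2 t d }
  have hG : XG Fr xm (fun a _ c => xl a c) = SG xm xl := by
    unfold XG SG
    congr 1
    ext g
    refine or_congr Iff.rfl ⟨fun ⟨a, _, c, _, _, e⟩ => ⟨a, c, e⟩, fun ⟨a, c, e⟩ =>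
      ⟨a, 0, c, zero_mem _, TOk.zero (Fr.sing a) (h1 c), e⟩⟩
  obtain ⟨ψ, k1, k2, k3⟩ := pres C Fr h2 hm (fun a => (exists_node_sp C Fr lam a).some) (sl2_U_p 2)
    (sl2_V_p 2) (sl2_T_p 2) (Or.inr (by rw [lam]; exact top_ne_bot)) gen perf mult hr (hG ▸ hz)
  exact ⟨ψ, k1, fun a c => k2 a 0 c (zero_mem _) (TOk.zero (Fr.sing a) (h1 c)), k3.trans hG⟩

end CfsgLib.SPC
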