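import Cfsg.Agent.Lib.SPC.Defs
import Cfsg.Agent.Lib.SPC.PresC
import Cfsg.Agent.Lib.UN.SylB

/-! Type A: definitions -/

set_option autoImplicit false
set_option linter.unusedSectionVars false

namespace CfsgLib.SPC

open Subgroup Module CfsgLib.Forms CfsgLib.LieMult
open CfsgLib.HX (Std CO Two Mv M2 QA)
open CfsgLib.UN (AV SI TI HH Rad Stb Yg Rg Eg Act nu Bas Nh flag Ub Uni TD Od)
open CfsgLib.UN.SB (D)
open CfsgLib.ClSys (II)
open Submodule (span)
open scoped commutatorElement Pointwise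

universe u

variable {F : Type} [Field F] [Finite F] {V : Type} [AddCommGroup V] [Module F V]
  [FiniteDimensional F V] {P : PQ (RingHom.id F) V} {S : Type} [Group S] [Finite S] {G : Type u}
  [Group G] [Finite G] {C : CG P S} {φ : S →* G} {t : G}

section
variable (C) {m : ℕ} (b : Basis (Fin m) F V)

/-- the root elements of a basis with antidiagonal Gram matrix -/
noncomputable def rta (i j : Fin m) (c : F) : S :=
  if i = j then C.T (b i) 0 c else C.T (b i) (c • b j) 0

/-- the entries next to the diagonal -/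
noncomputable def ent (s : S) (i : ℕ) : F :=
  if h : i + 1 < m then b.repr (nu C s (b ⟨i + 1, h⟩)) ⟨i, by omega⟩ else 0

/-- the radical of the stabiliser of the flag without its `k`-th member -/
def R2 (k : ℕ) : Subgroup S := Uni C fun i => if i < k then flag b i else flag b (i + 1)

end

/-- the group generated by `L` and the hats -/
def GA (φ : S →* G) (y : V → F → G) : Subgroup G := φ.range ⊔ closure {g | ∃ e c, g = y e c}

section
variable (C φ)

/-- the hat of `Z_e` -/
def ZA (y : V → F → G) (e : V) : Subgroup G := closure {g | ∃ c, g = z C φ e c ∨ g = y e c}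

/-- short root elements over `F[ω]` -/
def xmA (w : V → V → G) (δ : F) {m : ℕ} (Fr : Frame P m) (a b : II m) (s : QA F δ) : G :=
  x C φ (Fr.v a) (s.re • Fr.v b) * w (Fr.v a) (s.im • Fr.v b)

/-- long root elements over `F[ω]` -/
def xlA (y : V → F → G) (δ : F) {m : ℕ} (Fr : Frame P m) (a : II m) (s : QA F δ) : G :=
  z C φ (Fr.v a) s.re * y (Fr.v a) s.im

/-- field case -/
structure AF (t : G) (w : V → V → G) (y : V → F → G) (δ : F) {k : ℕ} (b : Basis (Fin (2 * k)) F V)
    {K : Type} [Field K] {V' : Type} [AddCommGroup V'] [Module K V'] {P' : PQ (RingHom.id K) V'}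
    {S' : Type} [Group S'] (C' : CG P' S') (ψ : S' →* G) (b' : Basis (Fin (2 * k)) K V')
    (σ : RingAut K) : Prop extends HA C φ t w y δ where
  emb : Emb C' ψ
  hb : Bas P b
  hb' : Bas P' b'
  σ1 : σ ≠ 1
  σ2 : σ * σ = 1
  ext : ∀ i j c, j ≠ i.rev → ∃ d, φ (rta C b i j c) = ψ (rta C' b' i j d)
  tc : ∀ i j c, j ≠ i.rev → t * ψ (rta C' b' i j c) * t⁻¹ = ψ (rta C' b' i j (σ c))
  eqG : ψ.range = GA φ y

/-- product case -/
structure AP (t : G) (w : V → V → G) (y : V → F → G) (δ : F) (φ₁ φ₂ : S →* G) : Prop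
    extends HA C φ t w y δ where
  emb₁ : Emb C φ₁
  emb₂ : Emb C φ₂
  c12 : ∀ s s', Commute (φ₁ s) (φ₂ s')
  ext : ∀ s, φ s = φ₁ s * φ₂ s
  tc : ∀ s, t * φ₁ s * t⁻¹ = φ₂ s
  eqG : φ₁.range ⊔ φ₂.range = GA φ y

end

end CfsgLib.SPC
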