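import Cfsg.Agent.Lib.SPC.Defs
import Cfsg.Agent.Lib.ClAut.MainSU
import Cfsg.Agent.Lib.Forms.Normal
import Cfsg.Agent.Lib.Symp.Basic
import Cfsg.Agent.S2092
import Cfsg.Agent.S2093

/-! The matrix model -/

set_option autoImplicit false
set_option linter.unusedSectionVars false

namespace CfsgLib.SPC

open Subgroup Module CfsgLib.Forms CfsgLib.LieMult
open CfsgLib.HX (Std CO Two Mv M2)
open CfsgLib.UN (AV SI TI HH Rad Stb Yg Rg Eg Act nu)
open CfsgLib.ClSys (II)
open Submodule (span)
open scoped commutatorElement Pointwise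

universe u

variable {F : Type} [Field F] [Finite F] {V : Type} [AddCommGroup V] [Module F V]
  [FiniteDimensional F V] {P : PQ (RingHom.id F) V} {S : Type} [Group S] [Finite S] {G : Type u}
  [Group G] [Finite G] {C : CG P S} {φ : S →* G} {t : G}

/-- `Sp` as a group containing the Eichler maps -/
noncomputable def cgSp (k : ℕ) (h2 : (2 : F) = 0) :
    CG (spPQ (Fin k) F) (Matrix.symplecticGroup (Fin k) F) where
  act := matEquiv (Matrix.symplecticGroup (Fin k) F).subtype
  inj := matEquiv_injective _ Subtype.val_injective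
  iso := sp_isIso
  ε1 := show (-1 : F) = 1 by linear_combination -h2
  nondeg := spPQ_nondeg _ _
  T e a c := Classical.epsilon fun A => ∀ x,
    matEquiv (Matrix.symplecticGroup (Fin k) F).subtype A x = tfun (spPQ (Fin k) F) e a c x
  T_apply {e a c} h := Classical.epsilon_spec (p := fun A => ∀ x,
    matEquiv (Matrix.symplecticGroup (Fin k) F).subtype A x = tfun (spPQ (Fin k) F) e a c x) (by
      have hA := spB_isAlt (Fin k) F
      have h1 : spB (Fin k) F e a = 0 := h.perp
      exact exists_sp_of_linearMap (LinearMap.id + (spB (Fin k) F a - c • spB (Fin k) F e).smulRight e -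
        (spB (Fin k) F e).smulRight a) ((spPQ_isIso _ _ _).2 fun x y => by
          simp only [LinearMap.sub_apply, LinearMap.add_apply, LinearMap.id_apply, LinearMap.smulRight_apply,
            LinearMap.smul_apply, map_add, map_sub, map_smul, smul_eq_mul, hA.self_eq_zero, h1,
            ← hA.neg_eq e a, ← hA.neg_eq e x, ← hA.neg_eq a x]
          linear_combination (spB (Fin k) F e y * spB (Fin k) F a x -
            spB (Fin k) F a y * spB (Fin k) F e x) * h2))

omit [Finite F] in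
theorem mk_bij {k : ℕ} (h2 : (2 : F) = 0) :
    Function.Bijective (QuotientGroup.mk' (center (Matrix.symplecticGroup (Fin k) F))) :=
  ⟨(MonoidHom.ker_eq_bot_iff _).1 ((QuotientGroup.ker_mk' _).trans (Symp.center_eq_bot_of_two_eq_zero h2)),
    QuotientGroup.mk'_surjective _⟩

theorem exists_mod {k : ℕ} (hk : 3 ≤ k) (h2 : (2 : F) = 0) :
    ∃ (P : PQ (RingHom.id F) (Fin k ⊕ Fin k → F)) (C : CG P (Matrix.symplecticGroup (Fin k) F)),
      Mod C := by
  let _ := Fintype.ofFinite F
  have : CharP F 2 := CharTwo.of_one_ne_zero_of_two_eq_zero one_ne_zero h2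
  let e := MulEquiv.ofBijective _ (mk_bij (k := k) h2)
  have := Symp.isSimpleGroup_PSp (F := F) (m := k) (by omega) (by omega)
  refine ⟨_, cgSp k h2, h2, rfl, fun g hg => exists_sp_of_linearMap g ((spPQ_isIso _ _ _).2 hg),
    by rw [ClAut.finrank_sp]; omega, e.isSimpleGroup, fun θ => ?_, HX.M2.of_equiv ?_ e.symm⟩
  · obtain ⟨x, hx⟩ := ClAut.pspInd_surjective (F := F) (m := k) (by omega) (by omega) (MulAut.congr e θ)
    obtain ⟨c, hc⟩ := x.2
    obtain ⟨d, hd⟩ := isSquare_of_charTwo' (c⁻¹ : F)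
    have d0 : d ≠ 0 := fun e => inv_ne_zero c.ne_zero (by rw [hd, e, mul_zero])
    refine ⟨x.1.right, ((ClAut.gamEquiv x.1).trans
      (LinearEquiv.smulOfNeZero F _ d d0).toAddEquiv).toIntLinearEquiv, ⟨fun a v => ?_, fun v w => ?_⟩,
      fun s s' H => e.injective ?_⟩
    · show d • ClAut.gamAct x.1 (a • v) = _ • d • ClAut.gamAct x.1 v
      rw [ClAut.gamAct_smul, smul_comm]
    · show spB (Fin k) F (d • ClAut.gamAct x.1 v) (d • ClAut.gamAct x.1 w) = x.1.right (spB (Fin k) F v w)
      rw [map_smul, map_smul, LinearMap.smul_apply, smul_smul, ← hd, spB_eq_sympForm, spB_eq_sympForm, hc,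
        smul_eq_mul, inv_mul_cancel_left₀ c.ne_zero]
    · have h1 : ClAut.pspInd k F x (e s) = e s' := ClAut.gamInd_mk x (Units.ext (matrix_ext_mulVec fun v => by
        obtain ⟨v, rfl⟩ := ClAut.gamAct_surjective x.1 v
        rw [ClAut.gamAut_mulVec]
        exact smul_right_injective _ d0 ((Matrix.mulVec_smul _ _ _).symm.trans (H v))))
      simpa [hx] using h1
  · obtain ⟨n, hn, h⟩ : ∃ n, (n = 1 ∨ n = 2) ∧ Cfsg.HasCyclicSchurMultiplier (Cfsg.PSp k F) n := by
      by_cases h : k = 3 ∧ Fintype.card F = 2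
      · exact ⟨2, .inr rfl, h.1 ▸ Cfsg.Agent.S2093.result h.2⟩
      · refine ⟨_, ?_, Cfsg.Agent.S2092.result rfl k (by omega) (by omega) h⟩
        exact (Nat.dvd_prime Nat.prime_two).1 (Nat.gcd_dvd_left _ _)
    intro Γ _ _ σ hσ
    obtain ⟨π, hπ⟩ := h.2 Γ σ hσ
    refine IsPGroup.of_surjective (IsPGroup.of_card (n := n - 1) ?_) π hπ
    rcases hn with rfl | rfl <;> simp

theorem equiv_PSp {k : ℕ} (hk : 3 ≤ k) (h2 : (2 : F) = 0) :
    Nonempty (Matrix.symplecticGroup (Fin k) F ≃* Cfsg.PSp k F) := ⟨MulEquiv.ofBijective _ (mk_bij h2)⟩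

/-- a symplectic group in the sense of `Mod` is the matrix group -/
theorem Mod.equiv_PSp (h : Mod C) {k : ℕ} (hk : finrank F V = 2 * k) : Nonempty (S ≃* Cfsg.PSp k F) := by
  obtain ⟨e, he⟩ := P.exists_isIso₂_spPQ C.nondeg h.lam hk
  exact ⟨((MulEquiv.ofBijective (C.act.codRestrict P.isom C.iso) ⟨fun _ _ e => C.inj (congrArg Subtype.val e),
    fun g => (h.full (g : V ≃ₗ[F] V).toLinearMap g.2.B_eq).imp fun _ hs =>
      Subtype.ext (LinearEquiv.ext hs)⟩).trans (PQ.isomCongr he)).trans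
    ((spEquiv _ F).symm.trans (MulEquiv.ofBijective _ (mk_bij h.two)))⟩

end CfsgLib.SPC
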