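import Cfsg.Agent.Lib.SPC.ARel

/-! Type A: the product case, identification -/

set_option autoImplicit false
set_option linter.unusedSectionVars false

namespace CfsgLib.SPC

open Subgroup Module CfsgLib.Forms CfsgLib.LieMult
open CfsgLib.HX (Std CO Two Mv M2 QA)
open CfsgLib.UN (AV SI TI HH Rad Stb Yg Rg Eg Act nu Bas Nh flag Ub Uni TD Od)
open CfsgLib.UN.SB (D)
open CfsgLib.ClSys (II)
open Submodule (span)
open scoped commutatorElement Pointwise

universe u

variable {F : Type} [Field F] [Finite F] {V : Type} [AddCommGroup V] [Module F V]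
  [FiniteDimensional F V] {P : PQ (RingHom.id F) V} {S : Type} [Group S] [Finite S] {G : Type u}
  [Group G] [Finite G] {C : CG P S} {φ : S →* G} {t : G}

namespace SRel

variable {K : Type} [CommRing K] {m : ℕ} {xm : II m → II m → K → G} {xl : II m → K → G} (h : SRel xm xl)
include h

theorem ap_xm0 {a b : II m} (k : Ap a b) : xm a b 0 = 1 := by
  have := h.add a b k 0 0
  rw [add_zero] at this
  exact left_eq_mul.1 this

theorem ap_xl0 (a : II m) : xl a 0 = 1 := by
  have := h.ladd a 0 0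
  rw [add_zero] at this
  exact left_eq_mul.1 this

theorem ap_ml1 {a b : II m} (k : Ap a b) {s d : K} (e : s * d = 0) : Commute (xm a b s) (xl b.swap d) := by
  have := h.mide a b k d s
  rw [mul_assoc, e, mul_zero, h.ap_xl0, h.ap_xm0 k.sr, one_mul] at this
  exact (commutatorElement_eq_one_iff_commute.1 this).symm

theorem ap_ml {a b : II m} (k : Ap a b) (c : II m) {s d : K} (e : s * d = 0) : Commute (xm a b s) (xl c d) := by
  by_cases h1 : c = b.swap
  · subst h1; exact h.ap_ml1 k e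
  by_cases h2 : c = a.swap
  · subst h2; rw [h.symm a b k]; exact h.ap_ml1 k.symm e
  exact h.cme a b c k h2 h1 s d

theorem ap_mm1 {a b c : II m} (k : Ap a b) (k' : Ap c b.swap) (n : c ≠ a.swap) {s u : K} (e : s * u = 0) :
    Commute (xm a b s) (xm c b.swap u) := by
  rcases ap_cases a c with (rfl | h1) | h1
  · exact h.mid' _ b k s u
  · exact absurd h1 n
  · have := h.mid a b c k h1 (by simpa using k'.sr) s u
    rw [mul_comm, e, h.ap_xm0 h1] at this
    exact commutatorElement_eq_one_iff_commute.1 this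

theorem ap_mm {a b c d : II m} (k : Ap a b) (k' : Ap c d) (n1 : ¬ (c = a.swap ∧ d = b.swap))
    (n2 : ¬ (c = b.swap ∧ d = a.swap)) {s u : K} (e : s * u = 0) : Commute (xm a b s) (xm c d u) := by
  by_cases h1 : d = b.swap
  · subst h1; exact h.ap_mm1 k k' (fun e' => n1 ⟨e', rfl⟩) e
  by_cases h2 : d = a.swap
  · subst h2; rw [h.symm a b k]; exact h.ap_mm1 k.symm k' (fun e' => n2 ⟨e', rfl⟩) e
  by_cases h3 : c = b.swap
  · subst h3; rw [h.symm _ d k']; exact h.ap_mm1 k k'.symm h2 e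
  by_cases h4 : c = a.swap
  · subst h4; rw [h.symm _ d k', h.symm a b k]; exact h.ap_mm1 k.symm k'.symm h1 e
  refine h.cmm a b c d k k' ?_ ?_ ?_ ?_ s u
  · rintro rfl; exact h4 (Sum.swap_swap _).symm
  · rintro rfl; exact h2 (Sum.swap_swap _).symm
  · rintro rfl; exact h3 (Sum.swap_swap _).symm
  · rintro rfl; exact h1 (Sum.swap_swap _).symm

end SRel

theorem ap_comm_left {g₁ g₂ g : G} (h1 : Commute g₁ g) (h2 : Commute g₂ g) : Commute ⁅g₁, g₂⁆ g := by
  rw [commutatorElement_def]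
  exact ((h1.mul_left h2).mul_left h1.inv_left).mul_left h2.inv_left

/-- the groups of two orthogonal ideals commute -/
theorem SRel.comm_of {K K' : Type} [CommRing K] [CommRing K'] {m : ℕ} (hm : 3 ≤ m)
    {xm : II m → II m → K → G} {xl : II m → K → G} (h : SRel xm xl) (f f' : K' →ₙ+* K)
    (e : ∀ s s', f s * f' s' = 0) :
    SG (fun a b s => xm a b (f s)) (fun a s => xl a (f s)) ≤
      centralizer (SG (fun a b s => xm a b (f' s)) (fun a s => xl a (f' s)) : Set G) := by
  have opp : ∀ a b, Ap a b → ∀ s s', Commute (xm a b (f s)) (xm a.swap b.swap (f' s')) := by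
    intro a b k s s'
    obtain ⟨c, k1, k2⟩ := exists_ap2 hm a b
    have := h.mid b c a k2.symm k k1.symm (f s) (f 1)
    rw [← map_mul, one_mul] at this
    rw [← this]
    refine ap_comm_left (h.ap_mm k2.symm k.sl.sr ?_ ?_ (e _ _)) (h.ap_mm k1.symm.sr k.sl.sr ?_ ?_ (e _ _))
    · exact fun e' => k.sl.sr.ne e'.1
    · exact fun e' => k1.sl.sr.ne e'.1.symm
    · exact fun e' => k2.symm.sl.sr.sr.ne e'.2
    · exact fun e' => k.sl.sr.ne e'.2.symm
  have mm : ∀ a b c d, Ap a b → Ap c d → ∀ s s', Commute (xm a b (f s)) (xm c d (f' s')) := by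
    intro a b c d k k' s s'
    by_cases h1 : c = a.swap ∧ d = b.swap
    · obtain ⟨rfl, rfl⟩ := h1; exact opp a b k s s'
    by_cases h2 : c = b.swap ∧ d = a.swap
    · obtain ⟨rfl, rfl⟩ := h2; rw [h.symm a b k]; exact opp b a k.symm s s'
    exact h.ap_mm k k' h1 h2 (e _ _)
  have ll : ∀ a b s s', Commute (xl a (f s)) (xl b (f' s')) := by
    intro a b s s'
    rcases ap_cases a b with (rfl | rfl) | k
    · show _ = _
      rw [← h.ladd, ← h.ladd, add_comm]
    · obtain ⟨c, k1, -⟩ := exists_ap2 hm a a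
      have := h.mide a c k1.symm (f s) (f 1)
      rw [← map_mul, ← map_mul, ← map_mul, one_mul, one_mul] at this
      rw [eq_mul_inv_of_mul_eq this.symm]
      exact (ap_comm_left (h.ends _ _ k1.sl.sr _ _) (h.ap_ml k1.symm _ (e _ _))).mul_left
        (h.ap_ml k1.symm.sr _ (e _ _)).inv_left
    · exact h.ends _ _ k.symm _ _
  rw [SG, closure_le]
  intro g hg
  rw [SetLike.mem_coe, SG, centralizer_closure, mem_centralizer_iff]
  intro g' hg'
  rcases hg with ⟨a, b, s, k, rfl⟩ | ⟨a, s, rfl⟩ <;> rcases hg' with ⟨c, d, s', k', rfl⟩ | ⟨c, s', rfl⟩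
  · exact (mm a b c d k k' s s').symm
  · exact (h.ap_ml k c (e _ _)).symm
  · exact h.ap_ml k' a (by rw [mul_comm]; exact e _ _)
  · exact (ll a c s s').symm

theorem ap_SG_le {K K' : Type} {m : ℕ} (xm : II m → II m → K → G) (xl : II m → K → G) (f : K' → K) :
    SG (fun a b s => xm a b (f s)) (fun a s => xl a (f s)) ≤ SG xm xl := by
  refine closure_mono ?_
  rintro _ (⟨a, b, s, k, rfl⟩ | ⟨a, s, rfl⟩)
  · exact Or.inl ⟨a, b, _, k, rfl⟩
  · exact Or.inr ⟨a, _, rfl⟩

theorem HA.prod {w : V → V → G} {y : V → F → G} {δ : F} (h : HA C φ t w y δ) {r : F} (hr : r * r + r = δ) :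
    ∃ φ₁ φ₂, AP C φ t w y δ φ₁ φ₂ := by
  have hM : Mod C := h.toMod
  have hF := hM.add_self
  obtain ⟨k, hk, hV⟩ := hM.even_rank
  obtain ⟨Fr⟩ := hM.exists_frame hV
  have hr' : (r + 1) * (r + 1) + (r + 1) = δ := by linear_combination hr + hF r + hF 1
  set f := HX.idem hF hr with hf
  set f' := HX.idem hF hr' with hf'
  have e : ∀ s s', f s * f' s' = 0 := fun s s' => HX.idem_mul hF hr s s'
  have e' : ∀ s s', f' s * f s' = 0 := fun s s' => by rw [mul_comm]; exact e _ _
  have R := h.srel Fr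
  have c1 := R.comm_of hk f f' e
  have c2 := R.comm_of hk f' f e'
  have dec : ∀ ξ : QA F δ, ξ = f (ξ.im + ξ.re + r * ξ.im) + f' (ξ.re + r * ξ.im) := by
    intro ξ
    ext
    · simp only [hf, hf', HX.idem_apply, QuadraticAlgebra.re_add]
      linear_combination -hF (r * ξ.im) - hF (r * ξ.re) - hF (r * r * ξ.im)
    · simp only [hf, hf', HX.idem_apply, QuadraticAlgebra.im_add]
      linear_combination -hF ξ.re - hF (r * ξ.im)
  have sup : SG (fun a b s => xmA C φ w δ Fr a b (f s)) (fun a s => xlA C φ y δ Fr a (f s)) ⊔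
      SG (fun a b s => xmA C φ w δ Fr a b (f' s)) (fun a s => xlA C φ y δ Fr a (f' s)) = GA φ y := by
    rw [← h.SG_eq Fr]
    refine le_antisymm (sup_le (ap_SG_le _ _ _) (ap_SG_le _ _ _)) ((closure_le _).2 ?_)
    rintro _ (⟨a, b, ξ, k, rfl⟩ | ⟨a, ξ, rfl⟩)
    · rw [dec ξ, R.add a b k]
      exact mul_mem_sup (subset_closure (Or.inl ⟨a, b, _, k, rfl⟩)) (subset_closure (Or.inl ⟨a, b, _, k, rfl⟩))
    · rw [dec ξ, R.ladd]
      exact mul_mem_sup (subset_closure (Or.inr ⟨a, _, rfl⟩)) (subset_closure (Or.inr ⟨a, _, rfl⟩))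
  have odd : ∀ g ∈ centralizer (GA φ y : Set G), g * g = 1 → g = 1 := by
    intro g hg g2
    have h1 : orderOf (⟨g, hg⟩ : centralizer (GA φ y : Set G)) ∣ 2 :=
      orderOf_dvd_of_pow_eq_one (Subtype.ext (by simpa [pow_two] using g2))
    have h2 := orderOf_dvd_natCard (⟨g, hg⟩ : centralizer (GA φ y : Set G))
    have h3 : orderOf (⟨g, hg⟩ : centralizer (GA φ y : Set G)) = 1 := by
      rcases (Nat.dvd_prime Nat.prime_two).1 h1 with e | e
      · exact e
      · exact absurd (e ▸ h2) h.cent_odd.not_two_dvd_nat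
    exact congrArg Subtype.val (orderOf_eq_one_iff.1 h3)
  have cs : ∀ {A B : Subgroup G} {g : G}, g ∈ centralizer (A : Set G) → g ∈ centralizer (B : Set G) →
      g ∈ centralizer ((A ⊔ B : Subgroup G) : Set G) := by
    intro A B g h1 h2 q hq
    exact mem_centralizer_singleton_iff.1 ((sup_le (a := A) (b := B) (c := centralizer {g})
      (fun q hq => mem_centralizer_singleton_iff.2 (h1 q hq))
      (fun q hq => mem_centralizer_singleton_iff.2 (h2 q hq))) hq)
  have gen : ∀ K : Subgroup S, (∀ e a c, TOk P e a c → C.T e a c ∈ K) → K = ⊤ :=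
    fun K H => hM.gen fun p c => H p 0 c (hM.tok0 p c)
  obtain ⟨φ₁, a1, b1, r1⟩ := pres_sp C Fr hM.two hM.lam (by omega) gen hM.perf hM.mult (R.comp f)
    fun g hg hc g2 => odd g (sup ▸ cs hc (c1 hg)) g2
  obtain ⟨φ₂, a2, b2, r2⟩ := pres_sp C Fr hM.two hM.lam (by omega) gen hM.perf hM.mult (R.comp f')
    fun g hg hc g2 => odd g (sup ▸ cs (c2 hg) hc) g2
  have c12 : ∀ s s', Commute (φ₁ s) (φ₂ s') := fun s s' =>
    (c1 (r1 ▸ ⟨s, rfl⟩ : φ₁ s ∈ _) (φ₂ s') (r2 ▸ ⟨s', rfl⟩ : φ₂ s' ∈ _)).symm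
  have one : ∀ c, f c + f' c = (⟨c, 0⟩ : QA F δ) := by
    intro c
    ext
    · simp only [hf, hf', HX.idem_apply, QuadraticAlgebra.re_add]
      linear_combination hF (r * c)
    · simp only [hf, hf', HX.idem_apply, QuadraticAlgebra.im_add]
      exact hF c
  have bar : ∀ c, (⟨(f c).re + (f c).im, (f c).im⟩ : QA F δ) = f' c := by
    intro c
    ext
    · simp only [hf, hf', HX.idem_apply]; ring
    · simp only [hf, hf', HX.idem_apply]
  let π : S →* G := MonoidHom.mk' (fun s => φ₁ s * φ₂ s) fun s s' => by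
    rw [map_mul, map_mul, mul_assoc, mul_assoc, ← mul_assoc (φ₁ s'), (c12 s' s).eq, mul_assoc]
  have ext : ∀ s, φ s = φ₁ s * φ₂ s := by
    intro s
    have : φ.eqLocus π = ⊤ := by
      refine hM.gen_frame Fr (fun a b k c => ?_) fun a c => ?_
      · show φ _ = φ₁ _ * φ₂ _
        rw [a1 a b k, a2 a b k, ← R.add a b k, one, h.xmA_re Fr k]
      · show φ _ = φ₁ _ * φ₂ _
        rw [b1, b2, ← R.ladd, one, h.xlA_re Fr]
    exact (this ▸ mem_top s : s ∈ φ.eqLocus π)
  have tc : ∀ s, t * φ₁ s * t⁻¹ = φ₂ s := by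
    intro s
    have : ((MulAut.conj t).toMonoidHom.comp φ₁).eqLocus φ₂ = ⊤ := by
      refine hM.gen_frame Fr (fun a b k c => ?_) fun a c => ?_
      · show t * φ₁ _ * t⁻¹ = φ₂ _
        rw [a1 a b k, a2 a b k, h.t_xmA Fr k, bar]
      · show t * φ₁ _ * t⁻¹ = φ₂ _
        rw [b1, b2, h.t_xlA Fr, bar]
    exact (this ▸ mem_top s : s ∈ ((MulAut.conj t).toMonoidHom.comp φ₁).eqLocus φ₂)
  have i1 : Function.Injective φ₁ := by
    have := hM.simp
    rcases (inferInstance : φ₁.ker.Normal).eq_bot_or_eq_top with e | e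
    · exact (MonoidHom.ker_eq_bot_iff _).1 e
    · exfalso
      obtain ⟨s, hs⟩ := exists_ne (1 : S)
      have h1 : φ₁ s = 1 := (e ▸ mem_top s : s ∈ φ₁.ker)
      refine hs (h.inj ?_)
      rw [ext, ← tc, h1, map_one]; group
  have i2 : Function.Injective φ₂ := by
    intro s s' e
    rw [← tc, ← tc] at e
    exact i1 (mul_left_cancel (mul_right_cancel e))
  exact ⟨φ₁, φ₂, h, ⟨hM, i1⟩, ⟨hM, i2⟩, c12, ext, tc, by rw [r1, r2, sup]⟩

end CfsgLib.SPC
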