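import Cfsg.Agent.Lib.SPC.AutA

/-! The copy of the symplectic group in G and its normaliser -/

set_option autoImplicit false
set_option linter.unusedSectionVars false

namespace CfsgLib.SPC

open Subgroup Module CfsgLib.Forms CfsgLib.LieMult
open CfsgLib.HX (Std CO Two Mv M2)
open CfsgLib.UN (AV SI TI HH Rad Stb Yg Rg Eg Act nu)
open CfsgLib.ClSys (II)
open Submodule (span)
open scoped commutatorElement Pointwise

universe u

variable {F : Type} [Field F] [Finite F] {V : Type} [AddCommGroup V] [Module F V]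
  [FiniteDimensional F V] {P : PQ (RingHom.id F) V} {S : Type} [Group S] [Finite S] {G : Type u}
  [Group G] [Finite G] {C : CG P S} {φ : S →* G} {t : G}

theorem Mod.T_semi (h : Mod C) {α : RingAut F} {γ : AV V} (k : SI P α γ) {e a : V}
    (k' : P.B e a = 0) (c : F) (v : V) :
    C.act (C.T (γ e) (γ a) (α c)) (γ v) = γ (C.act (C.T e a c) v) := by
  have h1 : P.B (γ e) (γ a) = 0 := by rw [k.B_eq, k', map_zero]
  rw [h.T_app h1, h.T_app k', map_add, map_add, k.semi, k.semi, k.B_eq, k.B_eq, map_add, map_mul]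

theorem Mod.exists_conj (h : Mod C) {α : RingAut F} {γ : AV V} (k : SI P α γ) (s : S) :
    ∃ s', ∀ v, C.act s' (γ v) = γ (C.act s v) := by
  let H : Subgroup S :=
    { carrier := {s | ∃ s', ∀ v, C.act s' (γ v) = γ (C.act s v)}
      one_mem' := ⟨1, fun v => by rw [C.one_apply, C.one_apply]⟩
      mul_mem' := by
        rintro a b ⟨a', ha⟩ ⟨b', hb⟩
        exact ⟨a' * b', fun v => by rw [C.mul_apply, C.mul_apply, hb, ha]⟩
      inv_mem' := by
        rintro a ⟨a', ha⟩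
        exact ⟨a'⁻¹, fun v => C.inv_apply_eq (by rw [ha, C.apply_inv])⟩ }
  have : H = ⊤ := h.gen fun p r => ⟨_, h.T_semi k (map_zero _) r⟩
  exact (this ▸ mem_top s : s ∈ H)

theorem Mod.exists_ne0 (h : Mod C) : ∃ v : V, v ≠ 0 := by
  have : Nontrivial V := (Module.finrank_pos_iff (R := F)).1 (by have := h.d6; omega)
  exact exists_ne 0

theorem SI_perp {α : RingAut F} {γ : AV V} (k : SI P α γ) {U : Submodule F V}
    (hU : ∀ v, γ v ∈ U ↔ v ∈ U) (v : V) : γ v ∈ P.perp U ↔ v ∈ P.perp U := by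
  refine ⟨fun h w hw => α.injective ?_, fun h w hw => ?_⟩
  · rw [← k.B_eq, h _ ((hU w).2 hw), map_zero]
  · obtain ⟨w, rfl⟩ := γ.surjective w
    rw [k.B_eq, h w ((hU w).1 hw), map_zero]

theorem conj_map_iff (φ : S →* G) {A B : Subgroup S} {l : S} (e : ∀ s, l * s * l⁻¹ ∈ A ↔ s ∈ B)
    {g : G} : φ l * g * (φ l)⁻¹ ∈ A.map φ ↔ g ∈ B.map φ := by
  refine ⟨fun ⟨s, hs, e1⟩ => ⟨l⁻¹ * s * l, (e _).1 (by simpa [mul_assoc] using hs), ?_⟩, ?_⟩
  · rw [map_mul, map_mul, map_inv, e1]; group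
  · rintro ⟨s, hs, rfl⟩
    exact ⟨_, (e s).2 hs, by rw [map_mul, map_mul, map_inv]⟩

/-- a group with cyclic Sylow 2-subgroups -/
theorem exists_odd_comm (C : Subgroup G) (hc : ∀ P ≤ C, IsPGroup 2 P → IsCyclic P) :
    ∃ O ≤ C, (∀ o ∈ O, Odd (orderOf o)) ∧ ∀ a ∈ C, ∀ b ∈ C, ⁅a, b⁆ ∈ O := by
  rcases Nat.even_or_odd (Nat.card C) with h | h
  · have hp : (Nat.card C).minFac = 2 := (Nat.minFac_eq_two_iff _).2 h.two_dvd
    obtain ⟨P⟩ : Nonempty (Sylow 2 C) := inferInstance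
    have hP : IsCyclic P := by
      have := hc (P.1.map C.subtype) (map_subtype_le _) (P.2.map _)
      exact isCyclic_of_surjective _ (P.1.equivMapOfInjective _ C.subtype_injective).symm.surjective
    have hn := hP.normalizer_le_centralizer hp
    refine ⟨(MonoidHom.transferSylow P hn).ker.map C.subtype, map_subtype_le _, ?_, ?_⟩
    · intro o ho
      have h1 := MonoidHom.not_dvd_card_ker_transferSylow P hn
      rw [← Core.card_map_subtype] at h1
      have h2 := orderOf_dvd_natCard _ ho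
      rw [← Nat.not_even_iff_odd]
      exact fun h3 => h1 (h3.two_dvd.trans h2)
    · intro a ha b hb
      refine ⟨⟨a, ha⟩ * ⟨b, hb⟩ * ⟨a, ha⟩⁻¹ * ⟨b, hb⟩⁻¹, ?_, rfl⟩
      have hcm := hP.isMulCommutative.is_comm.comm (MonoidHom.transferSylow P hn ⟨a, ha⟩)
        (MonoidHom.transferSylow P hn ⟨b, hb⟩)
      show _ ∈ MonoidHom.ker _
      rw [MonoidHom.mem_ker, map_mul, map_mul, map_mul, map_inv, map_inv, hcm]
      group
  · exact ⟨C, le_rfl, fun o ho => h.of_dvd_nat (orderOf_dvd_natCard _ ho), fun a ha b hb =>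
      mul_mem (mul_mem (mul_mem ha hb) (inv_mem ha)) (inv_mem hb)⟩

theorem comm_mul_split {l l' c c' : G} (k1 : Commute l c) (k2 : Commute l' c) (k3 : Commute l c')
    (k4 : Commute l' c') : ⁅l * c, l' * c'⁆ = ⁅l, l'⁆ * ⁅c, c'⁆ := by
  rw [commutatorElement_def, commutatorElement_def, commutatorElement_def, k1.mul_inv, k4.mul_inv,
    k2.symm.mul_mul_mul_comm, ((k1.symm.mul_left k3.symm).inv_right).mul_mul_mul_comm,
    (((k2.symm.mul_left k4.symm).mul_left k2.symm.inv_left).inv_right).mul_mul_mul_comm]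

namespace Emb

variable (h : Emb C φ) {g g' : G} {α α' : RingAut F} {γ γ' : AV V} {e a b : V} {U : Submodule F V}
include h

theorem exists_act (hg : g ∈ normalizer (φ.range : Set G)) : ∃ α γ, Act C φ g α γ := by
  have h1 : ∀ s, ∃ s', φ s' = g * φ s * g⁻¹ := fun s => (mem_normalizer_iff.1 hg _).1 ⟨s, rfl⟩
  choose c hc using h1
  let θ : S →* S := MonoidHom.mk' c fun a b => h.inj (by rw [map_mul, hc, hc, hc, map_mul, conj_mul])
  have hθ : Function.Injective θ := fun a b e => h.inj (by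
    have := congrArg φ e
    change φ (c a) = φ (c b) at this
    rw [hc, hc] at this
    simpa using this)
  obtain ⟨α, γ, k, hk⟩ := h.aut (MulEquiv.ofBijective θ (Finite.injective_iff_bijective.1 hθ))
  exact ⟨α, γ, k, fun s s' e => by rw [← hk s s' e, ← hc]; rfl⟩

theorem act_τ (k : Act C φ g α γ) (k' : P.B e a = 0) (c : F) :
    g * τ C φ e a c * g⁻¹ = τ C φ (γ e) (γ a) (α c) :=
  k.conj _ _ (h.toMod.T_semi k.toSI k' c)

theorem act_z (k : Act C φ g α γ) (e : V) (c : F) :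
    g * z C φ e c * g⁻¹ = z C φ (γ e) (α c) := by
  have := h.act_τ k (e := e) (a := 0) (map_zero _) c
  rwa [map_zero] at this

theorem act_x (k : Act C φ g α γ) (k' : P.B e a = 0) :
    g * x C φ e a * g⁻¹ = x C φ (γ e) (γ a) := by
  have := h.act_τ k k' 0
  rwa [map_zero] at this

theorem act_mem (k : Act C φ g α γ) : g ∈ normalizer (φ.range : Set G) := by
  refine Tech.mem_normalizer_of_forall ?_
  rintro _ ⟨s, rfl⟩
  obtain ⟨s', e⟩ := h.toMod.exists_conj k.toSI s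
  exact ⟨s', (k.conj s s' e).symm⟩

theorem act_mul (k : Act C φ g α γ) (k' : Act C φ g' α' γ') :
    Act C φ (g * g') (α * α') (γ * γ') := by
  refine ⟨SI_mul k.toSI k'.toSI, fun s s'' e => ?_⟩
  obtain ⟨s', e'⟩ := h.toMod.exists_conj k'.toSI s
  rw [← k.conj s' s'' fun v => ?_, ← k'.conj s s' e']
  · group
  · obtain ⟨v, rfl⟩ := γ'.surjective v
    rw [e']
    exact e v

theorem act_inv (k : Act C φ g α γ) : Act C φ g⁻¹ α⁻¹ γ⁻¹ := by
  refine ⟨SI_inv k.toSI, fun s s' e => ?_⟩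
  rw [← k.conj s' s fun v => ?_]
  · group
  · have := e (γ v)
    change C.act s' (γ.symm (γ v)) = γ.symm _ at this
    rw [γ.symm_apply_apply] at this
    rw [this, γ.apply_symm_apply]

theorem act_cent (hg : g ∈ centralizer (φ.range : Set G)) : Act C φ g 1 1 := by
  refine ⟨⟨fun _ _ => rfl, fun _ _ => rfl⟩, fun s s' e => ?_⟩
  rw [C.ext (g := s') (h := s) e, ← hg _ ⟨s, rfl⟩, mul_inv_cancel_right]

theorem act_self (l : S) : Act C φ (φ l) 1 ((C.act l).restrictScalars ℤ) := by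
  refine ⟨⟨fun c v => map_smul (C.act l) c v, fun v w => C.B_act l v w⟩, fun s s' e => ?_⟩
  have : s' * l = l * s := C.ext fun v => by rw [C.mul_apply, C.mul_apply]; exact e v
  rw [← map_mul, ← this, map_mul, mul_inv_cancel_right]

theorem act_pow (k : Act C φ g α γ) (n : ℕ) : Act C φ (g ^ n) (α ^ n) (γ ^ n) := by
  induction n with
  | zero => simpa only [pow_zero] using h.act_cent (one_mem _)
  | succ n ih => simpa only [pow_succ] using h.act_mul ih k

theorem act_unique (k : Act C φ g α γ) (k' : Act C φ g α' γ') : α = α' ∧ γ = γ' := by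
  have h1 : ∀ v, γ v = γ' v := fun v => by
    have := (h.act_z k v 1).symm.trans (h.act_z k' v 1)
    rw [map_one, map_one] at this
    exact h.z_one_inj this
  obtain ⟨v, hv⟩ := h.toMod.exists_ne0
  refine ⟨RingEquiv.ext fun c => ?_, LinearEquiv.ext h1⟩
  have := h1 (c • v)
  rw [k.semi, k'.semi, ← h1] at this
  exact smul_left_injective F (γ.map_ne_zero_iff.2 hv) this

theorem cent_of_act (k : Act C φ g α γ) {l : S} (e : ∀ v, C.act l v = γ v) :
    (φ l)⁻¹ * g ∈ centralizer (φ.range : Set G) := by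
  rintro _ ⟨s, rfl⟩
  have := k.conj s (l * s * l⁻¹) fun v => by
    rw [← e, ← e, C.mul_apply, C.mul_apply, C.inv_apply]
  rw [map_mul, map_mul, map_inv] at this
  rw [show φ s * ((φ l)⁻¹ * g) = (φ l)⁻¹ * (φ l * φ s * (φ l)⁻¹) * g by group, ← this]
  group

theorem act_one (k : Act C φ g 1 γ) : ∃ l, (∀ v, C.act l v = γ v) ∧
    ∃ c ∈ centralizer (φ.range : Set G), g = φ l * c := by
  obtain ⟨l, hl⟩ := h.full ⟨⟨γ, γ.map_add⟩, k.semi⟩ k.B_eq
  exact ⟨l, hl, _, h.cent_of_act k hl, (mul_inv_cancel_left _ _).symm⟩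

theorem act_small (hs : Small F) (hg : g ∈ normalizer (φ.range : Set G)) :
    ∃ l, ∃ c ∈ centralizer (φ.range : Set G), g = φ l * c := by
  obtain ⟨α, γ, k⟩ := h.exists_act hg
  obtain rfl := h.toMod.aut_small hs α
  obtain ⟨l, -, hl⟩ := h.act_one k
  exact ⟨l, hl⟩

theorem exists_ty : ∃ ty : normalizer (φ.range : Set G) →* RingAut F,
    ∀ (g : normalizer (φ.range : Set G)) α γ, Act C φ (g : G) α γ → ty g = α := by
  choose α γ k using fun g : normalizer (φ.range : Set G) => h.exists_act g.2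
  exact ⟨MonoidHom.mk' α fun a b => (h.act_unique (k (a * b)) (h.act_mul (k a) (k b))).1,
    fun g _ _ k' => (h.act_unique (k g) k').1⟩

theorem act_norm (k : Act C φ g α γ) (hU : ∀ v, γ v ∈ U ↔ v ∈ U) :
    g ∈ normalizer (Yg C φ U : Set G) ∧ g ∈ normalizer (Rg C φ U : Set G) ∧
      g ∈ normalizer (Eg C φ U : Set G) := by
  have hY : ∀ {U : Submodule F V}, (∀ v, γ v ∈ U ↔ v ∈ U) → g ∈ normalizer (Yg C φ U : Set G) := by
    intro U hU
    refine Tech.mem_normalizer_of_forall ?_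
    rintro _ ⟨s, hs, rfl⟩
    obtain ⟨s', e⟩ := h.toMod.exists_conj k.toSI s
    refine ⟨s', fun v hv => ?_, (k.conj s s' e).symm⟩
    obtain ⟨v, rfl⟩ := γ.surjective v
    change C.act s' (γ v) = _
    rw [e, hs v ((hU v).1 hv)]
  refine ⟨hY hU, Tech.mem_normalizer_of_forall ?_, hY (SI_perp k.toSI hU)⟩
  rintro _ ⟨s, hs, rfl⟩
  obtain ⟨s', e⟩ := h.toMod.exists_conj k.toSI s
  refine ⟨s', ⟨fun v hv => ?_, fun v hv => ?_⟩, (k.conj s s' e).symm⟩
  · obtain ⟨v, rfl⟩ := γ.surjective v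
    rw [e, hs.1 v ((hU v).1 hv)]
  · obtain ⟨v, rfl⟩ := γ.surjective v
    rw [e, ← map_sub, hU]
    exact hs.2 v ((SI_perp k.toSI hU v).1 hv)

theorem conj_Y (l : S) {W : Submodule F V} (e1 : ∀ v, C.act l v ∈ W ↔ v ∈ U) :
    (φ l * g * (φ l)⁻¹ ∈ Yg C φ W ↔ g ∈ Yg C φ U) ∧ (φ l * g * (φ l)⁻¹ ∈ Rg C φ W ↔ g ∈ Rg C φ U) ∧
      (φ l * g * (φ l)⁻¹ ∈ Eg C φ W ↔ g ∈ Eg C φ U) :=
  ⟨conj_map_iff φ fun _ => (h.toMod.conj_fix l e1).1,
    conj_map_iff φ fun _ => (h.toMod.conj_fix l e1).2.1,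
    conj_map_iff φ fun _ => (h.toMod.conj_fix l e1).2.2⟩

/-- squares in `L × C(L)` -/
theorem sq_split {l c : G} (hl : l ∈ φ.range) (hc : c ∈ centralizer (φ.range : Set G))
    (g2 : l * c * (l * c) = 1) : l * l = 1 ∧ c * c = 1 := by
  have k : Commute l c := hc l hl
  rw [k.symm.mul_mul_mul_comm, ← mul_one (1 : G)] at g2
  exact h.dec_inj (mul_mem hl hl) (one_mem _) (mul_mem hc hc) (one_mem _) g2

theorem invol (hg : g ∈ normalizer (φ.range : Set G)) (g2 : g * g = 1) :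
    (∃ l, l * l = 1 ∧ ∃ c ∈ centralizer (φ.range : Set G), c * c = 1 ∧ g = φ l * c) ∨
      ∃ α γ, Act C φ g α γ ∧ α ≠ 1 ∧ α * α = 1 ∧ ∀ v, γ (γ v) = v := by
  obtain ⟨α, γ, k⟩ := h.exists_act hg
  have k2 := h.act_mul k k
  rw [g2] at k2
  obtain ⟨h1, h2⟩ := h.act_unique k2 (h.act_cent (one_mem _))
  by_cases h3 : α = 1
  · subst h3
    obtain ⟨l, -, c, hc, rfl⟩ := h.act_one k
    obtain ⟨a1, a2⟩ := h.sq_split ⟨l, rfl⟩ hc g2
    exact .inl ⟨l, h.inj (by rw [map_mul, a1, map_one]), c, hc, a2, rfl⟩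
  · exact .inr ⟨α, γ, k, h3, h1, fun v => LinearEquiv.congr_fun h2 v⟩

/-- an element of `N(L)` centralising the transvections with centre in `W` -/
theorem cz {W : Submodule F V} (hW : W ≠ ⊥) (hg : g ∈ normalizer (φ.range : Set G))
    (H : ∀ u ∈ W, ∀ c, Commute g (z C φ u c)) :
    ∃ y ∈ Yg C φ W, ∃ c ∈ centralizer (φ.range : Set G), g = y * c := by
  obtain ⟨α, γ, k⟩ := h.exists_act hg
  have h1 : ∀ u ∈ W, ∀ c, z C φ (γ u) (α c) = z C φ u c := fun u hu c => by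
    rw [← h.act_z k, (H u hu c).eq, mul_inv_cancel_right]
  have h2 : ∀ u ∈ W, γ u = u := fun u hu => h.z_one_inj (by simpa only [map_one] using h1 u hu 1)
  obtain ⟨u, hu, u0⟩ := (Submodule.ne_bot_iff W).1 hW
  obtain rfl : α = 1 := RingEquiv.ext fun c =>
    h.z_inj (c := α c) (d := c) u0 (by simpa only [h2 u hu] using h1 u hu c)
  obtain ⟨l, hl, hc⟩ := h.act_one k
  exact ⟨_, ⟨l, fun v hv => (hl v).trans (h2 v hv), rfl⟩, hc⟩

theorem cY (hU : TI P U) (hg : g ∈ normalizer (φ.range : Set G))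
    (hc : g ∈ centralizer (Yg C φ U : Set G)) :
    ∃ ε ∈ Eg C φ U, ∃ c ∈ centralizer (φ.range : Set G), g = ε * c := by
  refine h.cz (W := P.perp U) (fun e => ?_) hg fun u hu c =>
    (hc _ (h.τ_mem_Y (map_zero _) hu (zero_mem _) c)).symm
  have h1 := h.toMod.rank_perp U
  have h2 : U = ⊥ := le_bot_iff.1 (e ▸ hU)
  have h3 := h.d6
  rw [e, h2, finrank_bot] at h1
  omega

/-- an element of `Y_U C(L)` centralising `R_U` -/
theorem cR_aux (hU : TI P U) {y : S} (hy : y ∈ C.fixG U) {c : G}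
    (hc : c ∈ centralizer (φ.range : Set G)) (H : φ y * c ∈ centralizer (Rg C φ U : Set G))
    {p : V} (hp : p ∈ U) (p0 : p ≠ 0) (ha : a ∈ P.perp U) : C.act y a + a ∈ span F {p} := by
  have k : P.B p a = 0 := ha p hp
  have c1 : Commute (φ y * c) (τ C φ p a 0) := (H _ (h.τ_mem_R hU hp ha 0)).symm
  have c2 : Commute c (τ C φ p a 0) := (hc _ ⟨_, rfl⟩).symm
  have c3 : Commute (φ y) (τ C φ p a 0) := by simpa using c1.mul_left c2.inv_left
  have e1 := h.τ_conj y k 0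
  rw [c3.eq, mul_inv_cancel_right, hy p hp] at e1
  have k' : P.B p (C.act y a) = 0 := by rw [← k, ← C.B_act y p a, hy p hp]
  exact ((h.τ_eq_iff p0 k' k).1 e1.symm).1

theorem cQ (h0 : e ≠ 0) (hg : g ∈ normalizer (φ.range : Set G))
    (hc : g ∈ centralizer (Rg C φ (span F {e}) : Set G)) :
    ∃ ε ∈ Rg C φ (span F {e}), ∃ c ∈ centralizer (φ.range : Set G), g = ε * c := by
  have hU := h.toMod.ti_pt e
  obtain ⟨_, ⟨y, hy, rfl⟩, c, hc', rfl⟩ := h.cz (W := span F {e}) (by simpa using h0) hg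
    fun u hu c => (hc _ (h.τ_mem_R hU hu (zero_mem _) c)).symm
  refine ⟨_, ⟨y, ⟨hy, fun a ha => ?_⟩, rfl⟩, c, hc', rfl⟩
  rw [h.toMod.vsub_eq]
  exact h.cR_aux hU hy hc' hc (Submodule.mem_span_singleton_self e) h0 ha

theorem cR (hU : TI P U) (h2 : 2 ≤ finrank F U) (hg : g ∈ normalizer (φ.range : Set G))
    (hc : g ∈ centralizer (Rg C φ U : Set G)) :
    ∃ ε ∈ Eg C φ U, ∃ c ∈ centralizer (φ.range : Set G), g = ε * c := by
  have hb : U ≠ ⊥ := fun e => by rw [e, finrank_bot] at h2; omega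
  obtain ⟨_, ⟨y, hy, rfl⟩, c, hc', rfl⟩ := h.cz hb hg
    fun u hu c => (hc _ (h.τ_mem_R hU hu (zero_mem _) c)).symm
  obtain ⟨p, hp, h0⟩ := (Submodule.ne_bot_iff U).1 hb
  obtain ⟨p', hp', h0'⟩ : ∃ p' ∈ U, p' ∉ span F {p} := by
    by_contra hc
    push Not at hc
    have := Submodule.finrank_mono (show U ≤ span F {p} from hc)
    rw [finrank_span_singleton h0] at this
    omega
  refine ⟨_, ⟨y, fun a ha => ?_, rfl⟩, c, hc', rfl⟩
  have a1 := h.cR_aux hU hy hc' hc hp h0 ha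
  obtain ⟨m, hm⟩ := Submodule.mem_span_singleton.1
    (h.cR_aux hU hy hc' hc hp' (fun e => h0' (by simp [e])) ha)
  by_cases m0 : m = 0
  · rw [m0, zero_smul] at hm
    exact h.toMod.veq_of_add hm.symm
  · rw [← hm, Submodule.smul_mem_iff _ m0] at a1
    exact absurd a1 h0'

end Emb

namespace Sit

variable (h : Sit C φ t) {g : G}
include h

theorem cj (g : G) : Sit C ((MulAut.conj g).toMonoidHom.comp φ) (g * t * g⁻¹) :=
  ⟨h.toEmb.cj g, by
    rw [MonoidHom.range_comp]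
    exact h.toStd.cj g⟩

theorem tl (l : S) : φ l * t = t * φ l := h.tC _ ⟨l, rfl⟩

theorem tL (hg : g ∈ φ.range) : g * t = t * g := h.tC _ hg

theorem t_not_mem : t ∉ φ.range := fun e => h.t1 (h.toEmb.eq_one e h.tC)

theorem norm_of (hg : g * t = t * g) : g ∈ normalizer (φ.range : Set G) :=
  h.CN (mem_centralizer_singleton_iff.2 hg)

theorem t_norm {H : Subgroup G} (hH : H ≤ φ.range) : t ∈ normalizer (H : Set G) :=
  centralizer_le_normalizer _ (centralizer_le hH h.tC)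

theorem mem_sup_t {H : Subgroup G} (hH : H ≤ φ.range) :
    g ∈ H ⊔ zpowers t ↔ g ∈ H ∨ t * g ∈ H := by
  rw [TwoGrp.mem_sup_zpowers_iff (h.t_norm hH) (h.t2 ▸ one_mem _)]
  refine or_congr_right ⟨?_, fun k => ⟨_, k, ?_⟩⟩
  · rintro ⟨c, hc, rfl⟩
    rwa [h.tL (hH hc), ← mul_assoc, h.t2, one_mul]
  · rw [h.tL (hH k), ← mul_assoc, h.t2, one_mul]

theorem card_sup_t {H : Subgroup G} (hH : H ≤ φ.range) :
    Nat.card (H ⊔ zpowers t : Subgroup G) = 2 * Nat.card H :=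
  TwoGrp.card_sup_zpowers (h.t_norm hH) (h.t2 ▸ one_mem _) fun e => h.t_not_mem (hH e)

theorem InT_sq (hg : g ∈ φ.range) (k : InT t g) : g * g = 1 := by
  obtain ⟨a, e⟩ := k
  have h1 : t * g * (t * g) = 1 := by rw [← e, conj_mul, h.t2, mul_one, mul_inv_cancel]
  rwa [(show Commute g t from h.tL hg).mul_mul_mul_comm, h.t2, one_mul] at h1

/-- the `C(L)`-part of an element of `C(t)` -/
theorem ct_of {ε c : G} (hε : ε ∈ φ.range) (hg : ε * c * t = t * (ε * c)) : c * t = t * c := by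
  rwa [← mul_assoc, ← h.tL hε, mul_assoc, mul_assoc, mul_right_inj] at hg

/-- an involution of `C(t)` -/
theorem invol' (hg : g * t = t * g) (g2 : g * g = 1) :
    (∃ l, l * l = 1 ∧ (g = φ l ∨ g = t * φ l)) ∨
      ∃ α γ, Act C φ g α γ ∧ α ≠ 1 ∧ α * α = 1 ∧ ∀ v, γ (γ v) = v := by
  refine (h.toEmb.invol (h.norm_of hg) g2).imp_left ?_
  rintro ⟨l, l2, c, hc, c2, rfl⟩
  refine ⟨l, l2, (h.toStd.invol hc (h.ct_of ⟨l, rfl⟩ hg) c2).imp ?_ ?_⟩
  · rintro rfl; exact mul_one _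
  · rintro rfl; exact h.tl l

theorem odd_comm {c d : G} (hc : c ∈ centralizer (φ.range : Set G))
    (hd : d ∈ centralizer (φ.range : Set G)) : Odd (orderOf ⁅c, d⁆) := by
  obtain ⟨O, -, h1, h2⟩ := exists_odd_comm _ h.cyc
  exact h1 _ (h2 c hc d hd)

/-- a 2-element of `N(L)''` lies in `L` -/
theorem mem_of_dd {H : Subgroup G} (hH : H ≤ normalizer (φ.range : Set G))
    (hg : g ∈ ⁅⁅H, H⁆, ⁅H, H⁆⁆ ∨ Small F ∧ g ∈ ⁅H, H⁆) (g2 : g * g = 1) : g ∈ φ.range := by
  obtain ⟨O, hO, h1, h2⟩ := exists_odd_comm _ h.cyc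
  have hn : centralizer (φ.range : Set G) ≤ normalizer (φ.range : Set G) :=
    centralizer_le_normalizer _
  have h3 : ∀ K ≤ φ.range ⊔ centralizer (φ.range : Set G), ⁅K, K⁆ ≤ φ.range ⊔ O := fun K hK =>
    commutator_le.2 fun a ha b hb => by
      obtain ⟨l, hl, c, hc, rfl⟩ := (Core.mem_sup_of_le_normalizer_left hn).1 (hK ha)
      obtain ⟨l', hl', c', hc', rfl⟩ := (Core.mem_sup_of_le_normalizer_left hn).1 (hK hb)
      rw [comm_mul_split (hc l hl) (hc l' hl') (hc' l hl) (hc' l' hl')]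
      exact mul_mem_sup (mul_mem (mul_mem (mul_mem hl hl') (inv_mem hl)) (inv_mem hl'))
        (h2 c hc c' hc')
  have h4 : g ∈ φ.range ⊔ O := by
    rcases hg with hg | ⟨hs, hg⟩
    · refine h3 _ (commutator_le.2 fun a ha b hb => ?_) hg
      obtain ⟨α, γ, k⟩ := h.toEmb.exists_act (hH ha)
      obtain ⟨β, δ, k'⟩ := h.toEmb.exists_act (hH hb)
      have k2 := h.toEmb.act_mul (h.toEmb.act_mul (h.toEmb.act_mul k k') (h.toEmb.act_inv k))
        (h.toEmb.act_inv k')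
      have := h.toMod.aut_cyc
      rw [(IsCyclic.isMulCommutative (α := RingAut F)).is_comm.comm α β, mul_inv_cancel_right,
        mul_inv_cancel] at k2
      obtain ⟨l, -, c, hc, e⟩ := h.toEmb.act_one k2
      rw [commutatorElement_def, e]
      exact mul_mem_sup ⟨l, rfl⟩ hc
    · refine h3 _ (fun a ha => ?_) hg
      obtain ⟨l, c, hc, rfl⟩ := h.toEmb.act_small hs (hH ha)
      exact mul_mem_sup ⟨l, rfl⟩ hc
  obtain ⟨l, hl, o, ho, rfl⟩ := (Core.mem_sup_of_le_normalizer_left (hO.trans hn)).1 h4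
  have h5 := (h.toEmb.sq_split hl (hO ho) g2).2
  rw [← StdInt.odd_pow_sq h5 (h1 o ho), pow_orderOf_eq_one, mul_one]
  exact hl

/-- the decomposition of an element `ε c` of `C(t)` -/
theorem dec (h2 : Two φ.range t) {ε c : G} (hε : ε ∈ φ.range) (hc : c ∈ centralizer (φ.range : Set G))
    (hg : ε * c * t = t * (ε * c)) : ∃ o ∈ centralizer (φ.range : Set G), o * t = t * o ∧
      Odd (orderOf o) ∧ (c = o ∨ c = t * o) :=
  h2.dec hc (h.ct_of hε hg)

/-- conjugates of elements of `C(L) ∩ C(t)` under `N(Y_U ⟨t⟩)` -/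
theorem cj_C {U : Submodule F V} (hU : TI P U)
    (hg : g ∈ normalizer ((Yg C φ U ⊔ zpowers t : Subgroup G) : Set G)) {c : G}
    (h1 : c ∈ centralizer (φ.range : Set G)) (h2 : c * t = t * c) :
    g * c * g⁻¹ * t = t * (g * c * g⁻¹) ∧ ∃ ε ∈ φ.range, ε * ε = 1 ∧
      ∃ c' ∈ centralizer (φ.range : Set G), g * c * g⁻¹ = ε * c' := by
  have h3 : Yg C φ U ⊔ zpowers t ≤ centralizer {c} := sup_le
    (fun y hy => mem_centralizer_singleton_iff.2 (h1 y (h.toEmb.Y_le_L hy)))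
    (zpowers_le.2 (mem_centralizer_singleton_iff.2 h2.symm))
  have h4 : ∀ y ∈ Yg C φ U ⊔ zpowers t, y * (g * c * g⁻¹) = g * c * g⁻¹ * y := fun y hy => by
    have := mem_centralizer_singleton_iff.1 (h3 ((mem_normalizer_iff.1 (inv_mem hg) y).1 hy))
    calc _ = g * (g⁻¹ * y * g⁻¹⁻¹ * c) * g⁻¹ := by group
      _ = _ := by rw [this]; group
  have h5 := (h4 t (mem_sup_right (mem_zpowers t))).symm
  obtain ⟨ε, hε, k⟩ := h.toEmb.cY hU (h.norm_of h5) fun y hy => h4 y (mem_sup_left hy)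
  exact ⟨h5, ε, h.toEmb.Y_le_L (h.toEmb.R_le_Y (h.toEmb.E_le_R hU hε)), h.toEmb.E_sq hU hε, k⟩

/-- an element normalising `Y_U ⟨t⟩` permutes the odd elements of `C(L) ∩ C(t)` -/
theorem nO {U : Submodule F V} (hU : TI P U)
    (hg : g ∈ normalizer ((Yg C φ U ⊔ zpowers t : Subgroup G) : Set G)) {o : G}
    (h1 : o ∈ centralizer (φ.range : Set G)) (h2 : o * t = t * o) (h3 : Odd (orderOf o)) :
    g * o * g⁻¹ ∈ centralizer (φ.range : Set G) ∧ g * o * g⁻¹ * t = t * (g * o * g⁻¹) := by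
  obtain ⟨a1, ε, hε, e2, c, hc, e⟩ := h.cj_C hU hg h1 h2
  refine ⟨?_, a1⟩
  have a2 : ε * c ^ orderOf o = 1 * 1 := by
    rw [← StdInt.odd_pow_sq e2 h3, ← (show Commute ε c from hc _ hε).mul_pow, ← e, conj_pow,
      pow_orderOf_eq_one, mul_one, mul_inv_cancel, mul_one]
  rw [e, (h.toEmb.dec_inj hε (one_mem _) (pow_mem hc _) (one_mem _) a2).1, one_mul]
  exact hc

/-- so its conjugates of elements of `L` are `CO` -/
theorem co_conj {U : Submodule F V} (hU : TI P U)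
    (hg : g ∈ normalizer ((Yg C φ U ⊔ zpowers t : Subgroup G) : Set G)) {l : G} (hl : l ∈ φ.range) :
    CO φ.range t (g * l * g⁻¹) := fun o h1 h2 h3 => by
  have := (h.nO hU (inv_mem hg) h1 h2 h3).1 l hl
  calc _ = g * (l * (g⁻¹ * o * g⁻¹⁻¹)) * g⁻¹ := by group
    _ = _ := by rw [this]; group

theorem co_conj' (hg : g * t = t * g) {p : G} (hp : CO φ.range t p) : CO φ.range t (g * p * g⁻¹) :=
  fun o h1 h2 h3 => by
  have a1 : g⁻¹ * o * g ∈ centralizer (φ.range : Set G) := fun l hl => by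
    have := h1 _ ((mem_normalizer_iff.1 (h.norm_of hg) l).1 hl)
    calc _ = g⁻¹ * (g * l * g⁻¹ * o) * g := by group
      _ = _ := by rw [this]; group
  have a2 : g⁻¹ * o * g * t = t * (g⁻¹ * o * g) :=
    ((show Commute g t from hg).inv_left.mul_left h2).mul_left hg
  have a3 : Odd (orderOf (g⁻¹ * o * g)) := by
    rwa [← (MulAut.conj g⁻¹).orderOf_eq, MulAut.conj_apply, inv_inv] at h3
  have := hp _ a1 a2 a3
  calc _ = g * (p * (g⁻¹ * o * g)) * g⁻¹ := by group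
    _ = _ := by rw [this]; group

theorem two_of {U : Submodule F V} (hU : TI P U)
    (hg : g ∈ normalizer ((Yg C φ U ⊔ zpowers t : Subgroup G) : Set G)) (h1 : g * t * g⁻¹ ≠ t) :
    Two φ.range t := fun c hc ct h2 => by
  obtain ⟨k, hk⟩ := Core.isPGroup_zpowers_iff.1 h2
  clear h2
  induction k generalizing c with
  | zero => exact .inl (by simpa using hk)
  | succ k ih =>
    rcases ih (c * c) (mul_mem hc hc) (Commute.mul_left ct ct)
      (by rw [← pow_two, ← pow_mul, ← pow_succ', hk]) with e1 | e1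
    · exact h.toStd.invol hc ct e1
    · obtain ⟨a1, ε, hε, e2, c', hc', e⟩ := h.cj_C hU hg hc ct
      have a2 : g * t * g⁻¹ = g * c * g⁻¹ * (g * c * g⁻¹) := by rw [conj_mul, e1]
      have a3 : g * t * g⁻¹ ∈ centralizer (φ.range : Set G) := by
        rw [a2, e, (show Commute ε c' from hc' _ hε).symm.mul_mul_mul_comm, e2, one_mul]
        exact mul_mem hc' hc'
      rcases h.toStd.invol a3 (a2 ▸ Commute.mul_left a1 a1)
        (by rw [conj_mul, h.t2, mul_one, mul_inv_cancel]) with a4 | a4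
      · exact absurd (by simpa using a4) h.t1
      · exact absurd a4 h1

end Sit

end CfsgLib.SPC
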