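import Cfsg.Agent.Lib.SPC.LocA
import Cfsg.Agent.Lib.SPC.Aut

/-! second half of `LocA` -/

set_option autoImplicit false
set_option linter.unusedSectionVars false

namespace CfsgLib.SPC

open Subgroup Module CfsgLib.Forms CfsgLib.LieMult
open CfsgLib.HX (Std CO Two Mv M2)
open CfsgLib.UN (AV SI TI HH Rad Stb Yg Rg Eg Act nu)
open CfsgLib.ClSys (II)
open Submodule (span)
open scoped commutatorElement Pointwise

universe u

variable {F : Type} [Field F] [Finite F] {V : Type} [AddCommGroup V] [Module F V]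
  [FiniteDimensional F V] {P : PQ (RingHom.id F) V} {S : Type} [Group S] [Finite S] {G : Type u}
  [Group G] [Finite G] {C : CG P S} {φ : S →* G} {t : G}

theorem loc_ninf {A B : Subgroup G} {g : G} (h1 : g ∈ normalizer (A : Set G))
    (h2 : g ∈ normalizer (B : Set G)) : g ∈ normalizer ((A ⊓ B : Subgroup G) : Set G) :=
  mem_normalizer_fintype fun n hn => mem_inf.2
    ⟨(mem_normalizer_iff.1 h1 n).1 (mem_inf.1 hn).1, (mem_normalizer_iff.1 h2 n).1 (mem_inf.1 hn).2⟩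

theorem loc_ncent {A : Subgroup G} {g : G} (h1 : g ∈ normalizer (A : Set G)) :
    g ∈ normalizer (centralizer (A : Set G) : Set G) := by
  refine mem_normalizer_fintype fun n hn => mem_centralizer_iff.2 fun a ha => ?_
  have := mem_centralizer_iff.1 hn _ ((mem_normalizer_iff.1 (inv_mem h1) a).1 ha)
  calc a * (g * n * g⁻¹) = g * (g⁻¹ * a * g⁻¹⁻¹ * n) * g⁻¹ := by group
    _ = g * n * g⁻¹ * a := by rw [this]; group

theorem loc_ncomm {A B : Subgroup G} {g : G} (h1 : g ∈ normalizer (A : Set G))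
    (h2 : g ∈ normalizer (B : Set G)) : g ∈ normalizer ((⁅A, B⁆ : Subgroup G) : Set G) := by
  rw [mem_normalizer_iff_map_conj_eq] at h1 h2 ⊢
  rw [map_commutator, h1, h2]

theorem Emb.loc_ln (h : Emb C φ) {e a : V} (k : Ln P e a) {c₁ d₁ c₂ d₂ : F}
    (hd : c₁ * d₂ + c₂ * d₁ ≠ 0) : Ln P (c₁ • e + d₁ • a) (c₂ • e + d₂ • a) := by
  refine ⟨fun e1 => ?_, fun e1 => ?_, ?_⟩
  · obtain ⟨rfl, rfl⟩ := h.ln_inj k (c := c₁) (d := d₁) (c' := 0) (d' := 0) (by simpa using e1)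
    exact hd (by ring)
  · obtain ⟨l, hl⟩ := Submodule.mem_span_singleton.1 e1
    rw [smul_add, smul_smul, smul_smul] at hl
    obtain ⟨rfl, rfl⟩ := h.ln_inj k hl
    exact hd (by linear_combination (l * c₁ * d₁) * h.two)
  · simp only [P.B_add_left, P.B_add_right, h.B_smul_left, P.B_smul_right, h.B_self, k.perp,
      h.B_comm a e, mul_zero, add_zero]

theorem Emb.loc_ln' (h : Emb C φ) {e a : V} (k : Ln P e a) : Ln P (e + a) a := by
  simpa using h.loc_ln k (c₁ := 1) (d₁ := 1) (c₂ := 0) (d₂ := 1) (by simp)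

theorem Emb.loc_x (h : Emb C φ) {e a : V} (k : P.B e a = 0) (c₁ d₁ c₂ d₂ : F) :
    x C φ (c₁ • e + d₁ • a) (c₂ • e + d₂ • a) = x C φ e ((c₁ * d₂ + c₂ * d₁) • a) := by
  refine congrArg φ (C.ext fun v => ?_)
  rw [h.x_app, h.x_app (by rw [P.B_smul_right, k, mul_zero])]
  · simp only [P.B_add_left, h.B_smul_left]
    linear_combination (norm := module) (c₁ * c₂ * P.B e v) • h.vadd_self e +
      (d₁ * d₂ * P.B a v) • h.vadd_self a
  · simp only [P.B_add_left, P.B_add_right, h.B_smul_left, P.B_smul_right, h.B_self, k,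
      h.B_comm a e, mul_zero, add_zero]

theorem Emb.loc_zx (h : Emb C φ) {e a : V} (k : P.B e a = 0) :
    z C φ e 1 * x C φ e a = z C φ (e + a) 1 * z C φ a 1 := by
  have c1 : Commute (x C φ e a) (z C φ a 1) := by
    rw [h.x_symm k]
    exact h.τ_comm (by rw [h.B_comm, k]) (by simp) _ _
  rw [h.z_line k, one_smul, mul_assoc, c1.eq, mul_assoc, ← mul_assoc (z C φ a 1), h.z_sq, one_mul]

theorem Emb.loc_Q (h : Emb C φ) {e : V} (h0 : e ≠ 0) :
    Rg C φ (span F {e}) ≤ ⁅Rg C φ (span F {e}), Yg C φ (span F {e})⁆ := by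
  rw [Rg, Yg, ← map_commutator]
  exact map_mono (h.rad_le_comm h0)

theorem Emb.loc_exists_ln (h : Emb C φ) {e a : V} (k : P.B e a = 0) :
    ∃ e' a', Ln P e' a' ∧ span F {e, a} ≤ span F {e', a'} := by
  have key : ∀ p b : V, p ≠ 0 → P.B p b = 0 → ∃ a', Ln P p a' ∧ b ∈ span F {p, a'} := by
    intro p b h0 k
    by_cases ha : b ∈ span F {p}
    · obtain ⟨a', hb⟩ := h.exists_ln h0
      exact ⟨a', hb, Submodule.span_mono (by simp) ha⟩
    · exact ⟨b, ⟨h0, ha, k⟩, Submodule.subset_span (by simp)⟩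
  by_cases he : e = 0
  · have : Nontrivial V := Module.nontrivial_of_finrank_pos (R := F) (by have := h.d6; omega)
    obtain ⟨p, hp, hp'⟩ : ∃ p : V, p ≠ 0 ∧ (a = 0 ∨ a = p) := by
      by_cases ha : a = 0
      · obtain ⟨p, hp⟩ := exists_ne (0 : V)
        exact ⟨p, hp, Or.inl ha⟩
      · exact ⟨a, ha, Or.inr rfl⟩
    obtain ⟨a', l⟩ := h.exists_ln hp
    refine ⟨p, a', l, Submodule.span_le.2 ?_⟩
    rintro v (rfl | rfl)
    · rw [he]; exact zero_mem _
    · rcases hp' with rfl | rfl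
      · exact zero_mem _
      · exact Submodule.subset_span (by simp)
  · obtain ⟨a', l, hb⟩ := key e a he k
    refine ⟨e, a', l, Submodule.span_le.2 ?_⟩
    rintro v (rfl | rfl)
    · exact Submodule.subset_span (by simp)
    · exact hb

theorem Emb.cls_line (h : Emb C φ) {e a : V} (k : Ln P e a) {g : G} (hg : g ∈ Eg C φ (span F {e, a})) :
    g = 1 ∨ (∃ p, p ≠ 0 ∧ g = z C φ p 1) ∨ (∃ p b, Ln P p b ∧ g = x C φ p b) ∨
      ∃ p b, Ln P p b ∧ g = z C φ p 1 * z C φ b 1 := by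
  obtain ⟨r, v, r', rfl⟩ := (h.mem_El k).1 hg
  obtain ⟨ρ, rfl⟩ := h.exists_sqrt r
  obtain ⟨ρ', rfl⟩ := h.exists_sqrt r'
  have kp := k.perp
  have k0 : P.B e (v • a) = 0 := by rw [P.B_smul_right, kp, mul_zero]
  have k1 : P.B e ((ρ * ρ') • a) = 0 := by rw [P.B_smul_right, kp, mul_zero]
  have k2 : P.B (ρ • e) (ρ' • a) = 0 := by rw [h.B_smul_left, P.B_smul_right, kp, mul_zero, mul_zero]
  have k3 : P.B ((ρ * ρ') • a) (v • a) = 0 := by
    rw [h.B_smul_left, P.B_smul_right, h.B_self, mul_zero, mul_zero]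
  have e1 : z C φ e (ρ * ρ) * x C φ e (v • a) * z C φ a (ρ' * ρ') =
      z C φ (ρ • e + ρ' • a) 1 * x C φ e ((ρ * ρ' + v) • a) := by
    have c1 : Commute (x C φ e (v • a)) (z C φ a (ρ' * ρ')) := by
      rw [h.x_symm k0, h.x_smul (by rw [h.B_comm, kp])]
      exact h.τ_comm (by rw [P.B_smul_right, h.B_comm, kp, mul_zero]) (by simp) _ _
    rw [h.z_line k2, h.z_smul, h.z_smul, mul_one, mul_one, one_smul,
      h.x_smul (by rw [P.B_smul_right, kp, mul_zero]), smul_smul, add_smul, h.x_add k1 k0 k3,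
      mul_assoc (_ * _), ← mul_assoc (x C φ e _), h.x_sq k1, one_mul, mul_assoc, c1.eq, mul_assoc]
  rw [e1]
  generalize ρ * ρ' + v = μ
  by_cases hμ : μ = 0
  · rw [hμ, zero_smul, h.x_zero, mul_one]
    by_cases hD : ρ • e + ρ' • a = 0
    · left; rw [hD, h.z_zero']
    · exact Or.inr (Or.inl ⟨_, hD, rfl⟩)
  have key : ∀ c d : F, ρ * d + c * ρ' = μ → ∃ p b, Ln P p b ∧
      z C φ (ρ • e + ρ' • a) 1 * x C φ e (μ • a) = z C φ p 1 * z C φ b 1 := by
    intro c d hcd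
    have l1 := h.loc_ln k (c₁ := ρ) (d₁ := ρ') (c₂ := c) (d₂ := d) (by rw [hcd]; exact hμ)
    refine ⟨_, _, h.loc_ln' l1, ?_⟩
    rw [← h.loc_zx l1.perp, h.loc_x kp, hcd]
  by_cases hρ : ρ = 0
  · by_cases hρ' : ρ' = 0
    · refine Or.inr (Or.inr (Or.inl ⟨e, μ • a, ?_, ?_⟩))
      · simpa using h.ln_smul k one_ne_zero hμ 0
      · rw [hρ, hρ', zero_smul, zero_smul, add_zero, h.z_zero', one_mul]
    · exact Or.inr (Or.inr (Or.inr (key (μ / ρ') 0 (by field_simp; ring))))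
  · exact Or.inr (Or.inr (Or.inr (key 0 (μ / ρ) (by field_simp; ring))))

theorem Emb.mem_line (h : Emb C φ) {e a : V} (h0 : e ≠ 0) (k : P.B e a = 0) (c : F) :
    ∃ b, Ln P e b ∧ τ C φ e a c ∈ Eg C φ (span F {e, b}) := by
  by_cases ha : a ∈ span F {e}
  · obtain ⟨b, hb⟩ := h.exists_ln h0
    exact ⟨b, hb, h.τ_mem_E (h.ti_pair hb.perp) (Submodule.subset_span (by simp))
      (Submodule.span_mono (by simp) ha) c⟩
  · exact ⟨a, ⟨h0, ha, k⟩, h.τ_mem_E (h.ti_pair k) (Submodule.subset_span (by simp))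
      (Submodule.subset_span (by simp)) c⟩

namespace Sit

variable (h : Sit C φ t) {U : Submodule F V} {g : G}
include h

theorem loc_cent {H : Subgroup G} (hH : H ≤ φ.range) :
    H ⊔ zpowers t ≤ centralizer (zpowers t : Set G) := by
  refine le_centralizer_iff.2 (zpowers_le.2 (mem_centralizer_iff.2 fun y hy => ?_))
  rcases (h.mem_sup_t hH).1 hy with k | k
  · exact h.tL (hH k)
  · exact mul_left_cancel (a := t) (by rw [← mul_assoc, h.tL (hH k)])

theorem loc_comm {A B : Subgroup G} (hA : A ≤ φ.range) (hB : B ≤ φ.range) :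
    ⁅A ⊔ zpowers t, B ⊔ zpowers t⁆ = ⁅A, B⁆ := by
  refine le_antisymm (commutator_le.2 fun a ha b hb => ?_) (commutator_mono le_sup_left le_sup_left)
  have ca : Commute t a := mem_centralizer_iff.1 (h.loc_cent hA ha) t (mem_zpowers t)
  have cb : Commute t b := mem_centralizer_iff.1 (h.loc_cent hB hb) t (mem_zpowers t)
  have e1 : ∀ a b : G, Commute t a → Commute t b → ⁅t * a, b⁆ = ⁅a, b⁆ := by
    intro a b ca cb
    have : Commute t (a * b * a⁻¹) := (ca.mul_right cb).mul_right ca.inv_right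
    calc ⁅t * a, b⁆ = t * (a * b * a⁻¹) * t⁻¹ * b⁻¹ := by rw [commutatorElement_def]; group
      _ = ⁅a, b⁆ := by rw [this.eq, commutatorElement_def]; group
  have e2 : ∀ a b : G, Commute t a → Commute t b → ⁅a, t * b⁆ = ⁅a, b⁆ := by
    intro a b ca cb
    rw [← commutatorElement_inv, e1 b a cb ca, commutatorElement_inv]
  rcases (h.mem_sup_t hA).1 ha with k | k <;> rcases (h.mem_sup_t hB).1 hb with k' | k' <;>
    have := commutator_mem_commutator k k'
  · exact this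
  · rwa [e2 a b ca cb] at this
  · rwa [e1 a b ca cb] at this
  · rwa [e1 a _ ca ((Commute.refl t).mul_right cb), e2 a b ca cb] at this

theorem tz_iff {e : V} (h0 : e ≠ 0) {c : F} (hc : c ≠ 0) : Tz C φ t ↔ InT t (z C φ e c) := by
  obtain ⟨ρ, rfl⟩ := h.exists_sqrt c
  have hρ : ρ ≠ 0 := fun e1 => hc (by rw [e1, mul_zero])
  have e1 : z C φ e (ρ * ρ) = z C φ (ρ • e) 1 := by rw [h.toEmb.z_smul, mul_one]
  rw [e1]
  refine ⟨?_, fun k => ⟨_, smul_ne_zero hρ h0, k⟩⟩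
  rintro ⟨p, hp, k⟩
  obtain ⟨s, hs⟩ := h.trans hp (smul_ne_zero hρ h0)
  have := k.conj (h.tl s)
  rwa [h.toEmb.z_conj, hs] at this
theorem ta_iff {e a : V} (k : Ln P e a) : Ta C φ t ↔ InT t (x C φ e a) := by
  refine ⟨?_, fun k' => ⟨_, _, k, k'⟩⟩
  rintro ⟨p, b, l, k'⟩
  obtain ⟨s, h1, h2⟩ := h.trans_ln l k
  have := k'.conj (h.tl s)
  rwa [h.toEmb.x_conj s l.perp, h1, h2] at this
theorem tc_iff {e a : V} (k : Ln P e a) {c : F} (hc : c ≠ 0) :
    Tc C φ t ↔ InT t (τ C φ e a c) := by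
  obtain ⟨ρ, rfl⟩ := h.exists_sqrt c
  have hρ : ρ ≠ 0 := fun e1 => hc (by rw [e1, mul_zero])
  have l1 : Ln P (ρ • e) (ρ⁻¹ • a) := by simpa using h.ln_smul k hρ (inv_ne_zero hρ) 0
  have l2 := h.toEmb.loc_ln' l1
  have k0 : P.B e (ρ⁻¹ • a) = 0 := by rw [P.B_smul_right, k.perp, mul_zero]
  have e1 : τ C φ e a (ρ * ρ) = z C φ (ρ • e + ρ⁻¹ • a) 1 * z C φ (ρ⁻¹ • a) 1 := by
    have c1 : Commute (x C φ e a) (z C φ e (ρ * ρ)) := h.toEmb.τ_comm k.perp (by simp) _ _
    rw [← h.toEmb.loc_zx l1.perp, h.toEmb.z_smul, mul_one, h.toEmb.x_smul k0, smul_smul,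
      mul_inv_cancel₀ hρ, one_smul, h.toEmb.τ_eq k.perp, c1.eq]
  rw [e1]
  refine ⟨?_, fun k' => ⟨_, _, l2, k'⟩⟩
  rintro ⟨p, b, l, k'⟩
  obtain ⟨s, h1, h2⟩ := h.trans_ln l l2
  have := k'.conj (h.tl s)
  rwa [← conj_mul, h.toEmb.z_conj, h.toEmb.z_conj, h1, h2] at this

theorem norm_E (hU : TI P U) (hg : g ∈ normalizer ((Yg C φ U ⊔ zpowers t : Subgroup G) : Set G)) :
    g ∈ normalizer ((Eg C φ U ⊔ zpowers t : Subgroup G) : Set G) := by
  have hE := h.toEmb
  have hc := h.loc_cent (hE.Y_le_L (U := U))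
  have e1 : Eg C φ U ⊔ zpowers t = (Yg C φ U ⊔ zpowers t) ⊓
      centralizer ((Yg C φ U ⊔ zpowers t : Subgroup G) : Set G) := by
    refine le_antisymm (le_inf (sup_le_sup_right ((hE.E_le_R hU).trans hE.R_le_Y) _)
      (sup_le ?_ (zpowers_le.2 (le_centralizer_iff.1 hc (mem_zpowers t))))) ?_
    · refine le_centralizer_iff.2 (sup_le (le_centralizer_iff.1 (hE.E_cent hU)) ?_)
      refine zpowers_le.2 (mem_centralizer_iff.2 fun y hy => ?_)
      exact h.tL (hE.Y_le_L (hE.R_le_Y (hE.E_le_R hU hy)))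
    · have key : ∀ y ∈ Yg C φ U, y ∈ centralizer (Yg C φ U : Set G) → y ∈ Eg C φ U := by
        intro y hy hy'
        obtain ⟨ε, hε, c, hc, e2⟩ := hE.cY hU (le_normalizer (hE.Y_le_L hy)) hy'
        have := hE.dec_inj (hE.Y_le_L hy) (hE.Y_le_L (hE.R_le_Y (hE.E_le_R hU hε))) (one_mem _) hc
          (by rw [mul_one, e2])
        rw [this.1]; exact hε
      intro y hy
      obtain ⟨y1, y2⟩ := mem_inf.1 hy
      have y3 : y ∈ centralizer (Yg C φ U : Set G) := centralizer_le (fun _ k => mem_sup_left k) y2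
      rw [h.mem_sup_t (((hE.E_le_R hU).trans hE.R_le_Y).trans hE.Y_le_L)]
      rcases (h.mem_sup_t hE.Y_le_L).1 y1 with y4 | y4
      · exact Or.inl (key _ y4 y3)
      · refine Or.inr (key _ y4 (mul_mem ?_ y3))
        exact mem_centralizer_iff.2 fun y hy => h.tL (hE.Y_le_L hy)
  rw [e1]
  exact loc_ninf hg (loc_ncent hg)

theorem norm_R (hU : TI P U) (hg : g ∈ normalizer ((Yg C φ U ⊔ zpowers t : Subgroup G) : Set G)) :
    g ∈ normalizer ((Rg C φ U ⊔ zpowers t : Subgroup G) : Set G) ∧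
      g ∈ normalizer ((⁅Rg C φ U, Rg C φ U⁆ : Subgroup G) : Set G) := by
  have hE := h.toEmb
  have hRL : Rg C φ U ≤ φ.range := hE.R_le_Y.trans hE.Y_le_L
  have t2 : IsPGroup 2 (zpowers t) := by
    refine IsPGroup.of_card (n := 1) ?_
    rw [Nat.card_zpowers, pow_one]
    exact orderOf_eq_prime (by rw [pow_two, h.t2]) h.t1
  have hK := h.loc_cent (hE.Y_le_L (U := U))
  have nt : Yg C φ U ⊔ zpowers t ≤ normalizer (zpowers t : Set G) :=
    hK.trans (centralizer_le_normalizer _)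
  have hRK : Rg C φ U ⊔ zpowers t ≤ Yg C φ U ⊔ zpowers t := sup_le_sup_right hE.R_le_Y _
  have nR : Yg C φ U ⊔ zpowers t ≤ normalizer ((Rg C φ U ⊔ zpowers t : Subgroup G) : Set G) := by
    refine le_trans (le_inf ?_ nt) (normalizer_inf_normalizer_le_normalizer_sup _ _)
    refine sup_le ?_ (zpowers_le.2 (centralizer_le_normalizer _
      (mem_centralizer_iff.2 fun y hy => h.tL (hRL hy))))
    rintro _ ⟨s, hs, rfl⟩
    exact mem_normalizer_fintype fun n hn =>
      (hE.conj_Y s (fix_le_stb U hs)).2.1.2 hn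
  set R1 := (Rg C φ U ⊔ zpowers t).map (MulAut.conj g).toMonoidHom with hR1
  have r1 : R1 ≤ Yg C φ U ⊔ zpowers t := by
    rintro _ ⟨r, hr, rfl⟩
    exact (mem_normalizer_iff.1 hg r).1 (hRK hr)
  have r2 : IsPGroup 2 (R1 ⊔ zpowers t : Subgroup G) :=
    (((hE.R_two hU).to_sup_of_normal_right' t2 ((le_sup_left.trans hRK).trans nt)).map
      _).to_sup_of_normal_right' t2 (r1.trans nt)
  have r3 : Yg C φ U ⊔ zpowers t ≤ normalizer ((R1 ⊔ zpowers t : Subgroup G) : Set G) := by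
    refine le_trans (le_inf ?_ nt) (normalizer_inf_normalizer_le_normalizer_sup _ _)
    intro y hy
    refine mem_normalizer_fintype ?_
    rintro _ ⟨r, hr, rfl⟩
    have y1 : g⁻¹ * y * g⁻¹⁻¹ ∈ Yg C φ U ⊔ zpowers t := (mem_normalizer_iff.1 (inv_mem hg) y).1 hy
    refine ⟨_, (mem_normalizer_iff.1 (nR y1) r).1 hr, ?_⟩
    simp [mul_assoc]
  have r4 : (R1 ⊔ zpowers t).comap φ ≤ C.fixG U := by
    intro s hs
    rcases (h.mem_sup_t hE.Y_le_L).1 (sup_le r1 le_sup_right hs) with k | k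
    · obtain ⟨s', h1, h2⟩ := k
      rwa [← h.inj h2]
    · exact absurd ((mul_mem_cancel_right (show φ s ∈ φ.range from ⟨s, rfl⟩)).1 (hE.Y_le_L k)) h.t_not_mem
  have r5 : ∀ y ∈ Yg C φ U, y ∈ R1 ⊔ zpowers t → y ∈ Rg C φ U := by
    rintro _ ⟨s, hs, rfl⟩ k
    refine ⟨s, ⟨hs, fun v hv => ?_⟩, rfl⟩
    refine h.o2 hU (r2.comap_of_injective φ h.inj) (r4.trans (fix_le_stb U)) ?_ k hv
    intro y hy
    refine mem_normalizer_fintype fun n hn => ?_
    have := (mem_normalizer_iff.1 (r3 (mem_sup_left ⟨y, hy, rfl⟩)) (φ n)).1 hn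
    simpa [mem_comap] using this
  have n1 : g ∈ normalizer ((Rg C φ U ⊔ zpowers t : Subgroup G) : Set G) := by
    refine mem_normalizer_fintype fun n hn => ?_
    have k1 : g * n * g⁻¹ ∈ R1 := ⟨n, hn, rfl⟩
    refine (h.mem_sup_t hRL).2 ?_
    rcases (h.mem_sup_t hE.Y_le_L).1 (r1 k1) with k | k
    · exact Or.inl (r5 _ k (mem_sup_left k1))
    · exact Or.inr (r5 _ k (mul_mem (mem_sup_right (mem_zpowers t)) (mem_sup_left k1)))
  refine ⟨n1, ?_⟩
  rw [← h.loc_comm hRL hRL]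
  exact loc_ncomm n1 n1

theorem norm_Q {e : V} (h0 : e ≠ 0)
    (hg : g ∈ normalizer ((Yg C φ (span F {e}) ⊔ zpowers t : Subgroup G) : Set G)) :
    g ∈ normalizer (Rg C φ (span F {e}) : Set G) ∧ g ∈ normalizer (Eg C φ (span F {e}) : Set G) := by
  have hE := h.toEmb
  have hU := h.ti_pt e
  have hRL : Rg C φ (span F {e}) ≤ φ.range := hE.R_le_Y.trans hE.Y_le_L
  have e1 : Rg C φ (span F {e}) = ⁅Rg C φ (span F {e}), Yg C φ (span F {e})⁆ := by
    refine le_antisymm (hE.loc_Q h0) (commutator_le.2 ?_)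
    rintro a ha _ ⟨s, hs, rfl⟩
    have := (hE.conj_Y s (fix_le_stb _ hs)).2.1.2 (inv_mem ha)
    simpa [commutatorElement_def, mul_assoc] using mul_mem ha this
  have n1 : g ∈ normalizer (Rg C φ (span F {e}) : Set G) := by
    rw [e1, ← h.loc_comm hRL hE.Y_le_L]
    exact loc_ncomm (h.norm_R hU hg).1 hg
  have e2 : Eg C φ (span F {e}) = Rg C φ (span F {e}) ⊓ (Eg C φ (span F {e}) ⊔ zpowers t) := by
    refine le_antisymm (le_inf (hE.E_le_R hU) le_sup_left) fun y hy => ?_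
    obtain ⟨y1, y2⟩ := mem_inf.1 hy
    rcases (h.mem_sup_t ((hE.E_le_R hU).trans hRL)).1 y2 with k | k
    · exact k
    · exact absurd ((mul_mem_cancel_right (hRL y1)).1 (hRL (hE.E_le_R hU k))) h.t_not_mem
  refine ⟨n1, ?_⟩
  rw [e2]
  exact loc_ninf n1 (h.norm_E hU hg)

/-- no conjugate of `t` lies in `E(l)` -/
theorem nzl {e a : V} (k : P.B e a = 0) (g : G) : g * t * g⁻¹ ∉ Eg C φ (span F {e, a}) := by
  have hE := h.toEmb
  intro hs
  obtain ⟨e', a', l, hle⟩ := hE.loc_exists_ln k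
  replace hs := hE.E_mono hle hs
  have h' := h.cj g
  generalize g * t * g⁻¹ = s at hs h'
  have hU := h.ti_pair l.perp
  have cY : ∀ {U : Submodule F V}, TI P U → s ∈ Eg C φ U → Yg C φ U ≤ centralizer {s} :=
    fun hU hs y hy => mem_centralizer_singleton_iff.2 (mem_centralizer_iff.1 (hE.E_cent hU hs) y hy)
  refine h'.t_not_mem (h'.mem_of_dd h'.CN ?_ h'.t2)
  by_cases hq : Small F
  · refine Or.inr ⟨hq, ?_⟩
    rcases hE.cls_line l hs with k1 | ⟨p, hp, k1⟩ | ⟨p, b, l1, k1⟩ | ⟨p, b, l1, k1⟩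
    · exact absurd k1 h'.t1
    · have h1 : s ∈ Eg C φ (span F {p}) := hE.mem_Z.2 ⟨1, k1⟩
      have h2 := cY (h.ti_pt p) h1
      exact commutator_mono (hE.R_le_Y.trans h2) h2 (hE.loc_Q hp (hE.E_le_R (h.ti_pt p) h1))
    · have h1 : s ∈ Eg C φ (span F {p, b}) := k1 ▸ hE.τ_mem_E (h.ti_pair l1.perp)
        (Submodule.subset_span (by simp)) (Submodule.subset_span (by simp)) 0
      have h2 := hE.R_le_Y.trans (cY (h.ti_pair l1.perp) h1)
      refine commutator_mono h2 h2 ?_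
      rw [Rg, ← map_commutator, k1]
      exact ⟨_, (h.comm_rad_line l1).2 ⟨1, by rw [one_smul]⟩, rfl⟩
    · obtain ⟨j, j1, j2⟩ := h.trans_ln l1 (h.ln_symm l1)
      have c1 := hE.z_comm l1.perp 1 1
      have e1 : φ j * z C φ p 1 * (φ j)⁻¹ = z C φ b 1 := by rw [hE.z_conj, j1]
      have e2 : φ j * z C φ b 1 * (φ j)⁻¹ = z C φ p 1 := by rw [hE.z_conj, j2]
      have e3 : s = ⁅φ j, z C φ p 1⁆ := by
        rw [commutatorElement_def, e1, inv_eq_of_mul_eq_one_right (hE.z_sq p 1), k1, c1.eq]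
      have m1 : φ j ∈ centralizer ({s} : Set G) := by
        rw [mem_centralizer_singleton_iff, ← mul_inv_eq_iff_eq_mul, k1, ← conj_mul, e1, e2, c1.eq]
      have m2 : z C φ p 1 ∈ centralizer ({s} : Set G) := by
        rw [mem_centralizer_singleton_iff, k1]
        exact ((Commute.refl _).mul_right c1).eq
      have := commutator_mem_commutator m1 m2
      rwa [← e3] at this
  · left
    have hM : P.perp (span F {e', a'}) ≠ span F {e', a'} := by
      intro e1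
      have r1 := h.lag_rank (M := span F {e', a'}) e1
      have r2 : finrank F (span F ({e', a'} : Set V)) ≤ 2 := by
        classical
        have := finrank_span_finset_le_card (R := F) ({e', a'} : Finset V)
        rw [Finset.coe_pair] at this
        exact this.trans Finset.card_le_two
      have := h.d6
      omega
    have p1 : Yg C φ (span F {e', a'}) ≤ ⁅Yg C φ (span F {e', a'}), Yg C φ (span F {e', a'})⁆ := by
      rw [Yg, ← map_commutator]
      exact map_mono (h.fix_perf hq hU hM)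
    have p2 := p1.trans (commutator_mono (cY hU hs) (cY hU hs))
    exact (p1.trans (commutator_mono p2 p2)) (hE.R_le_Y (hE.E_le_R hU hs))

end Sit

end CfsgLib.SPC
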