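import Cfsg.Agent.Lib.SPC.MaxA
import Cfsg.Agent.Lib.SPC.Aut

/-! Large elementary abelian subgroups -/

set_option autoImplicit false
set_option linter.unusedSectionVars false

namespace CfsgLib.SPC

open Subgroup Module CfsgLib.Forms CfsgLib.LieMult
open CfsgLib.HX (Std CO Two Mv M2)
open CfsgLib.UN (AV SI TI HH Rad Stb Yg Rg Eg Act nu)
open CfsgLib.ClSys (II)
open Submodule (span)
open scoped commutatorElement Pointwise

universe u

variable {F : Type} [Field F] [Finite F] {V : Type} [AddCommGroup V] [Module F V]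
  [FiniteDimensional F V] {P : PQ (RingHom.id F) V} {S : Type} [Group S] [Finite S] {G : Type u}
  [Group G] [Finite G] {C : CG P S} {φ : S →* G} {t : G}

theorem mx_card_le {ι H : Type*} [Finite ι] {A : Set H} (f : ι → H) (hf : ∀ a ∈ A, ∃ i, f i = a) :
    Nat.card A ≤ Nat.card ι := by
  choose g hg using hf
  refine Nat.card_le_card_of_injective (fun a : A => g a a.2) fun a b e => Subtype.ext ?_
  rw [← hg a a.2, ← hg b b.2]; exact congrArg f e

theorem mx_two {Q : Type*} [Group Q] [Finite Q] [IsCyclic Q] {a b : Q} (h1 : a * a = 1)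
    (h2 : b * b = 1) : a = 1 ∨ b = 1 ∨ a = b := by
  classical
  have := Fintype.ofFinite Q
  by_contra! h
  have e := IsCyclic.card_pow_eq_one_le (α := Q) (n := 2) two_pos
  refine absurd e (not_le.2 (Finset.two_lt_card_iff.2
    ⟨1, a, b, by simp, ?_, ?_, h.1.symm, h.2.1.symm, h.2.2⟩))
  · simpa [pow_two] using h1
  · simpa [pow_two] using h2

theorem mx_tri (k : ℕ) : (k + 1) * (k + 1 + 1) / 2 = k * (k + 1) / 2 + (k + 1) := by
  have : (k + 1) * (k + 1 + 1) = k * (k + 1) + (k + 1) * 2 := by ring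
  rw [this, Nat.add_mul_div_right _ _ two_pos]

theorem mx_ineq {d k : ℕ} (h2 : 2 ≤ k) (hd : d < k) :
    d * (d + 1) / 2 + (2 * k - d) + 1 ≤ k * (k + 1) / 2 + k := by
  obtain ⟨m, rfl⟩ := Nat.exists_eq_add_of_lt hd
  have e1 : 2 * (d * (d + 1) / 2) = d * (d + 1) := Nat.two_mul_div_two_of_even (Nat.even_mul_succ_self d)
  have e2 : 2 * ((d + m + 1) * (d + m + 1 + 1) / 2) = (d + m + 1) * (d + m + 1 + 1) :=
    Nat.two_mul_div_two_of_even (Nat.even_mul_succ_self _)
  have e3 : 2 * (d + m + 1) - d = d + 2 * m + 2 := by omega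
  rw [e3]
  generalize d * (d + 1) / 2 = x at *
  generalize (d + m + 1) * (d + m + 1 + 1) / 2 = y at *
  rcases Nat.eq_zero_or_pos m with rfl | hm
  · nlinarith
  · nlinarith

namespace EA

variable {W : Type} [AddCommGroup W] [Module F W] [FiniteDimensional F W]
  {B : LinearMap.BilinForm F W} {X : Subgroup (W ≃ₗ[F] W)} (h : EA B X)
include h

theorem mx_add (c : F) : c + c = 0 := by rw [← two_mul, h.two, zero_mul]

theorem mx_vadd (v : W) : v + v = 0 := by rw [← two_smul F v, h.two, zero_smul]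

theorem mx_comm (u v : W) : B u v = B v u := by
  have e := h.alt (u + v)
  simp only [map_add, LinearMap.add_apply, h.alt, zero_add, add_zero] at e
  have := h.mx_add (B u v)
  linear_combination this - e

/-- a totally isotropic subspace of half the dimension is its own orthogonal complement -/
theorem mx_lag {D : Submodule F W} (hD : ∀ u ∈ D, ∀ v ∈ D, B u v = 0)
    (hd : finrank F W = 2 * finrank F D) {v : W} (hv : ∀ u ∈ D, B u v = 0) : v ∈ D := by
  have e := LinearMap.BilinForm.finrank_add_finrank_orthogonal' (B := B) D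
  have k : LinearMap.ker B = ⊥ := by
    rw [eq_bot_iff]; intro w hw
    exact (Submodule.mem_bot F).2 (h.nd w fun u => by rw [LinearMap.mem_ker.1 hw]; rfl)
  rw [k, inf_bot_eq, finrank_bot, add_zero] at e
  have l : D ≤ B.orthogonal D := fun w hw u hu => hD u hu w hw
  have := Submodule.eq_of_le_of_finrank_le l (by omega)
  rw [this]; exact hv

/-- the quadratic condition lowers the bound -/
theorem mx_cut {k : ℕ} (hk : finrank F W = 2 * k) {D : Submodule F W} (hD : ∀ u ∈ D, ∀ v ∈ D, B u v = 0)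
    (hd : finrank F D = k) (hX : ∀ s ∈ X, ∀ v ∈ D, s v = v) {b : W} (hb : b ∉ D)
    (h0 : ∀ s ∈ X, B b (s b) = 0) : Nat.card X * Nat.card F ≤ Nat.card F ^ (k * (k + 1) / 2) := by
  have lag : ∀ v, (∀ u ∈ D, B u v = 0) → v ∈ D := fun v hv => h.mx_lag hD (by omega) hv
  obtain ⟨c, hc, hcb⟩ : ∃ c ∈ D, B c b ≠ 0 := by
    by_contra! H
    exact hb (lag b H)
  let Y : Subgroup (W ≃ₗ[F] W) :=
    { carrier := {g | (∀ u v, B (g u) (g v) = B u v) ∧ ∀ v ∈ D, g v = v}
      one_mem' := ⟨fun _ _ => rfl, fun _ _ => rfl⟩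
      mul_mem' := fun {a a'} ha ha' => ⟨fun u v => by
        rw [LinearEquiv.mul_apply, LinearEquiv.mul_apply, ha.1, ha'.1], fun v hv => by
        rw [LinearEquiv.mul_apply, ha'.2 v hv, ha.2 v hv]⟩
      inv_mem' := fun {a} ha => ⟨fun u v => by
        rw [← ha.1]; simp, fun v hv => by
        conv_lhs => rw [← ha.2 v hv]
        simp⟩ }
  have rg : ∀ g ∈ Y, ∀ v, g v - v ∈ D := fun g hg v => lag _ fun u hu => by
    rw [map_sub]
    conv_lhs => rw [← hg.2 u hu, hg.1, hg.2 u hu]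
    exact sub_self _
  have hY : EA B Y := ⟨h.two, h.alt, h.nd, fun s hs => hs.1, fun s hs => LinearEquiv.ext fun v => by
    have e := hs.2 _ (rg s hs v)
    rw [map_sub] at e
    rw [LinearEquiv.mul_apply]
    have e2 := h.mx_vadd (s v)
    have e3 := h.mx_vadd v
    change s (s v) = v
    linear_combination (norm := module) e + e2 - e3⟩
  have : Finite (W ≃ₗ[F] W) := by
    have : Finite W := Module.finite_of_finite F
    exact Finite.of_injective (fun g : W ≃ₗ[F] W => (g : W → W)) DFunLike.coe_injective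
  let n : F → W →ₗ[F] W := fun r => LinearMap.id + r • (B c).smulRight c
  have hn : ∀ r v, n r v = v + (r * B c v) • c := fun r v => by
    simp [n, mul_smul]
  have inv : ∀ r, Function.Involutive (n r) := fun r v => by
    rw [hn, hn, map_add, map_smul, h.alt, smul_zero, add_zero, add_assoc, h.mx_vadd, add_zero]
  let zz : F → W ≃ₗ[F] W := fun r => LinearEquiv.ofInvolutive (n r) (inv r)
  have hz : ∀ r v, zz r v = v + (r * B c v) • c := hn
  have zY : ∀ r, zz r ∈ Y := fun r => ⟨fun u v => by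
    rw [hz, hz]
    simp only [map_add, map_smul, LinearMap.add_apply, LinearMap.smul_apply, smul_eq_mul, h.alt]
    rw [h.mx_comm u c]
    linear_combination h.mx_add (r * B c v * B c u), fun v hv => by
    rw [hz, hD c hc v hv, mul_zero, zero_smul, add_zero]⟩
  have XY : X ≤ Y := fun s hs => ⟨h.iso s hs, hX s hs⟩
  have key : ∀ (s : X) (r : F), B b ((s.1 * zz r) b) = r * (B c b * B c b) := fun s r => by
    rw [LinearEquiv.mul_apply, hz, map_add, map_smul, hX s s.2 c hc, map_add, h0 s s.2, map_smul,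
      h.mx_comm b c, zero_add, smul_eq_mul, mul_assoc]
  refine le_trans ?_ (hY.card_le hk)
  rw [← Nat.card_prod]
  refine Nat.card_le_card_of_injective
    (fun p : X × F => (⟨p.1.1 * zz p.2, Y.mul_mem (XY p.1.2) (zY _)⟩ : Y)) ?_
  rintro ⟨s, r⟩ ⟨s', r'⟩ e
  have e1 : s.1 * zz r = s'.1 * zz r' := congrArg Subtype.val e
  have e2 : r = r' := by
    have := key s r
    rw [e1, key] at this
    exact (mul_right_cancel₀ (mul_ne_zero hcb hcb) this).symm
  subst e2
  rw [Subtype.ext (mul_right_cancel e1 : s.1 = s'.1)]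

end EA

theorem EA.max {W : Type} [AddCommGroup W] [Module F W] [FiniteDimensional F W]
    {B : LinearMap.BilinForm F W} {X : Subgroup (W ≃ₗ[F] W)} (h : EA B X) {k : ℕ} (h3 : 3 ≤ k)
    (hk : finrank F W = 2 * k) (hX : Nat.card F ^ (k * (k + 1) / 2 - 1) < Nat.card X) :
    ∃ M : Submodule F W, finrank F M = k ∧ (∀ u ∈ M, ∀ v ∈ M, B u v = 0) ∧
      ∀ s ∈ X, ∀ v ∈ M, s v = v := by
  obtain ⟨k, rfl⟩ : ∃ k', k = k' + 1 := ⟨k - 1, by omega⟩
  have fW : Finite W := Module.finite_of_finite F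
  have : Finite (W ≃ₗ[F] W) :=
    Finite.of_injective (fun g : W ≃ₗ[F] W => (g : W → W)) DFunLike.coe_injective
  have q1 : 1 < Nat.card F := Finite.one_lt_card
  obtain ⟨e, e0, he⟩ := h.exists_fixed (by omega)
  obtain ⟨f, hf⟩ : ∃ f, B e f = 1 := by
    obtain ⟨w, hw⟩ : ∃ w, B e w ≠ 0 := by
      by_contra! H
      exact e0 (h.nd e H)
    exact ⟨(B e w)⁻¹ • w, by rw [map_smul, smul_eq_mul, inv_mul_cancel₀ hw]⟩
  obtain ⟨W₀, π, b, hW, hr, h', hs, hb, hbb, hm, hc⟩ := h.desc he hf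
  have hk' : finrank F W₀ = 2 * k := by omega
  let D : Submodule F W₀ :=
    { carrier := {v | ∀ s, π s v = v}
      add_mem' := fun ha hb s => by rw [map_add, ha s, hb s]
      zero_mem' := fun s => map_zero _
      smul_mem' := fun c v hv s => by rw [map_smul, hv s] }
  have hD : ∀ s ∈ π.range, ∀ v ∈ D, s v = v := by
    rintro _ ⟨s, rfl⟩ v hv; exact hv s
  -- the kernel
  have hker : Nat.card π.ker ≤ Nat.card F ^ finrank F D * Nat.card F := by
    have bD : ∀ s : π.ker, b s ∈ D := fun s s' => by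
      have e1 := hbb s s'
      rw [MonoidHom.mem_ker.1 s.2, add_comm] at e1
      exact (add_right_cancel e1).symm
    let β : π.ker →* Multiplicative D :=
      MonoidHom.mk' (fun s => Multiplicative.ofAdd ⟨b s, bD s⟩) fun s s' => by
        rw [← ofAdd_add]; congr 1
        exact Subtype.ext (hm s s' (MonoidHom.mem_ker.1 s.2))
    rw [card_eq_card_quotient_mul_card_subgroup β.ker,
      Nat.card_congr (QuotientGroup.quotientKerEquivRange β).toEquiv]
    refine Nat.mul_le_mul ?_ (le_trans ?_ hc)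
    · rw [← Module.natCard_eq_pow_finrank]
      exact Nat.card_le_card_of_injective (fun x : β.range => Multiplicative.toAdd x.1)
        fun a a' e => Subtype.ext e
    · refine Nat.card_le_card_of_injective (fun x : β.ker =>
        (⟨x.1.1, MonoidHom.mem_ker.1 x.1.2,
          congrArg (fun y : Multiplicative D => (Multiplicative.toAdd y).1) (MonoidHom.mem_ker.1 x.2)⟩ :
            {s : X // π s = 1 ∧ b s = 0})) fun a a' e => ?_
      exact Subtype.ext (Subtype.ext (Subtype.mk.inj e))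
  have hX' : Nat.card F ^ (k * (k + 1) / 2 + k) <
      Nat.card π.range * (Nat.card F ^ finrank F D * Nat.card F) := by
    rw [mx_tri, show k * (k + 1) / 2 + (k + 1) - 1 = k * (k + 1) / 2 + k by omega,
      card_eq_card_quotient_mul_card_subgroup π.ker,
      Nat.card_congr (QuotientGroup.quotientKerEquivRange π).toEquiv] at hX
    exact hX.trans_le (Nat.mul_le_mul_left _ hker)
  have hle : finrank F D ≤ 2 * k := hk' ▸ Submodule.finrank_le D
  have bound : ∀ n, Nat.card π.range ≤ Nat.card F ^ n → k * (k + 1) / 2 + k < n + finrank F D + 1 :=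
    fun n hn => by
      refine (Nat.pow_lt_pow_iff_right q1).1 (hX'.trans_le ?_)
      rw [pow_succ, pow_add, mul_assoc]
      exact Nat.mul_le_mul_right _ hn
  have hd : finrank F D = k := by
    have b1 := bound _ (h'.card_le hk')
    by_contra hne
    have b2 := bound _ (h'.card_le_fix hD (d := 2 * k - finrank F D) (by omega))
    have := mx_ineq (d := 2 * k - finrank F D) (k := k) (by omega) (by omega)
    omega
  have ti : ∀ u ∈ D, ∀ v ∈ D, B.restrict W₀ u v = 0 := by
    intro u hu v hv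
    by_contra hne
    obtain ⟨j, rfl⟩ : ∃ j, k = j + 1 := ⟨k - 1, by omega⟩
    have b1 := bound _ (h'.card_le' hk' (fun s hs => hD s hs u hu) (fun s hs => hD s hs v hv) hne)
    rw [mx_tri] at b1
    omega
  have bD : ∀ s, b s ∈ D := by
    intro s
    by_contra hne
    have cut := h'.mx_cut hk' ti hd hD hne (by
      rintro _ ⟨s', rfl⟩
      have e1 : π s' (b s) = π s (b s') + b s - b s' := by rw [hbb s s', add_sub_cancel_right]
      have e2 := h'.iso (π s) ⟨s, rfl⟩ (b s) (b s')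
      rw [hb] at e2
      rw [e1, map_sub, map_add, e2, h'.alt, add_zero, sub_self])
    rw [hd, ← mul_assoc, mul_right_comm, pow_add] at hX'
    exact absurd (Nat.mul_le_mul_right (Nat.card F ^ k) cut) (not_le.2 hX')
  have eW : e ∉ D.map W₀.subtype := by
    rintro ⟨v, -, hv⟩
    have := ((hW v).1 v.2).2
    rw [show (v : W) = e from hv, h.mx_comm, hf] at this
    exact one_ne_zero this
  have hM : ∀ v ∈ D.map W₀.subtype ⊔ span F {e}, ∃ w ∈ D, ∃ c : F, v = w + c • e := by
    intro v hv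
    obtain ⟨_, ⟨w, hw, rfl⟩, u, hu, rfl⟩ := Submodule.mem_sup.1 hv
    obtain ⟨c, rfl⟩ := Submodule.mem_span_singleton.1 hu
    exact ⟨w, hw, c, rfl⟩
  refine ⟨D.map W₀.subtype ⊔ span F {e}, ?_, fun u hu v hv => ?_, fun s hs' v hv => ?_⟩
  · have e1 := Submodule.finrank_sup_add_finrank_inf_eq (D.map W₀.subtype) (span F {e})
    rw [(Submodule.disjoint_span_singleton_of_notMem eW).eq_bot, finrank_bot, finrank_span_singleton e0,
      Submodule.finrank_map_subtype_eq, hd] at e1
    exact e1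
  · obtain ⟨w, hw, c, rfl⟩ := hM u hu
    obtain ⟨w', hw', c', rfl⟩ := hM v hv
    have e1 : B w w' = 0 := ti w hw w' hw'
    have e2 := ((hW w).1 w.2).1
    have e3 := ((hW w').1 w'.2).1
    simp only [map_add, map_smul, LinearMap.add_apply, LinearMap.smul_apply, smul_eq_mul, h.alt, e1, e3,
      h.mx_comm w e, e2, mul_zero, add_zero]
  · obtain ⟨w, hw, c, rfl⟩ := hM v hv
    have e1 := hs ⟨s, hs'⟩ w
    have e2 : B (b ⟨s, hs'⟩) w = 0 := ti _ (bD _) w hw
    rw [hw, e2, zero_smul, add_zero] at e1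
    rw [map_add, map_smul, he s hs']
    exact congrArg (· + c • e) e1

/-- **MAXE** -/
theorem Mod.maxe (h : Mod C) {k : ℕ} (hk : finrank F V = 2 * k) {X : Subgroup S}
    (h2 : ∀ s ∈ X, s * s = 1) (hX : Nat.card F ^ (k * (k + 1) / 2 - 1) < Nat.card X) :
    ∃ M, Lag P M ∧ X ≤ C.fixG (P.perp M) := by
  have ea : EA (F := F) (W := V) P.B (X.map C.act) := ⟨h.two, h.B_self, fun v H => h.nd H, by
    rintro _ ⟨s, -, rfl⟩ u v; exact C.B_act s u v, by
    rintro _ ⟨s, hs, rfl⟩; rw [← map_mul, h2 s hs, map_one]⟩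
  have d6 := h.d6
  obtain ⟨M, r, ti, fx⟩ := ea.max (k := k) (by omega) hk (by rwa [card_map_of_injective C.inj])
  have l : M ≤ P.perp M := fun v hv u hu => ti u hu v hv
  have r2 := h.rank_perp M
  have lag : Lag P M := (Submodule.eq_of_le_of_finrank_le l (by omega)).symm
  refine ⟨M, lag, fun s hs => ?_⟩
  rw [lag]
  exact fun v hv => fx _ ⟨s, hs, rfl⟩ v hv

theorem Emb.card_EM (h : Emb C φ) {k : ℕ} (hk : finrank F V = 2 * k) {M : Submodule F V}
    (hM : Lag P M) : Nat.card (Eg C φ M) = Nat.card F ^ (k * (k + 1) / 2) := by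
  have r := h.toMod.lag_rank hM
  have : finrank F M = k := by omega
  rw [Eg, h.card_map, h.toMod.card_E (h.toMod.lag_ti hM), this]

theorem mx_nu (s : S) (v : V) : nu C s v = C.act s v - v := rfl

theorem Emb.mx_comm (h : Emb C φ) {g : G} {α : RingAut F} {γ : AV V} (hg : Act C φ g α γ) {s : S}
    (hs : g * φ s = φ s * g) (v : V) : C.act s (γ v) = γ (C.act s v) := by
  have sm : ∀ (c : F) w, γ.symm (c • w) = α.symm c • γ.symm w := fun c w => by
    apply γ.injective
    rw [hg.semi, LinearEquiv.apply_symm_apply, LinearEquiv.apply_symm_apply, RingEquiv.apply_symm_apply]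
  let n : V →ₗ[F] V :=
    { toFun := fun w => γ (C.act s (γ.symm w))
      map_add' := fun a b => by rw [map_add, map_add, map_add]
      map_smul' := fun c a => by
        rw [sm, map_smul, hg.semi, RingEquiv.apply_symm_apply]; rfl }
  obtain ⟨s', hs'⟩ := h.full n fun a b => by
    change P.B (γ _) (γ _) = _
    rw [hg.B_eq, C.B_act, ← hg.B_eq, LinearEquiv.apply_symm_apply, LinearEquiv.apply_symm_apply]
  have e1 : ∀ w, C.act s' (γ w) = γ (C.act s w) := fun w => by
    rw [hs']; change γ (C.act s (γ.symm (γ w))) = _; rw [LinearEquiv.symm_apply_apply]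
  have e2 := hg.conj s s' e1
  rw [hs, mul_inv_cancel_right] at e2
  obtain rfl := h.inj e2
  exact e1 v

/-- the fixed points of a semilinear involution in `E(M)` -/
theorem Emb.card_fld (h : Emb C φ) {U : Submodule F V} (hU : TI P U) {g : G} {α : RingAut F} {γ : AV V}
    (hg : Act C φ g α γ) (h1 : α ≠ 1) {X : Subgroup G} (hX : X ≤ Eg C φ U) (hc : X ≤ centralizer {g}) :
    Nat.card X ^ 2 ≤ Nat.card (Eg C φ U) := by
  obtain ⟨θ, hθ⟩ : ∃ θ, α θ ≠ θ := by
    by_contra! H
    exact h1 (RingEquiv.ext H)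
  have m := h.toMod
  have ex : ∀ x : X, ∃ s ∈ C.fixG (P.perp U), φ s = x := fun x => hX x.2
  choose σ h2 h3 using ex
  have cm : ∀ (x : X) v, nu C (σ x) (γ v) = γ (nu C (σ x) v) := fun x v => by
    rw [mx_nu, mx_nu, map_sub, h.mx_comm hg (by rw [h3]; exact hc x.2 g rfl)]
  have ex2 : ∀ p : X × X, ∃ s ∈ C.fixG (P.perp U), nu C s = nu C (σ p.1) + θ • nu C (σ p.2) := fun p =>
    m.exists_E hU (fun v => U.add_mem (m.E_range (h2 _) v) (U.smul_mem _ (m.E_range (h2 _) v)))
      fun v w => by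
        simp only [LinearMap.add_apply, LinearMap.smul_apply, map_add, map_smul, m.E_adj hU (h2 _)]
  choose ρ h4 h5 using ex2
  rw [pow_two, ← Nat.card_prod]
  refine Nat.card_le_card_of_injective (fun p => (⟨φ (ρ p), ρ p, h4 p, rfl⟩ : Eg C φ U)) ?_
  rintro ⟨x, y⟩ ⟨x', y'⟩ e
  have e1 : ρ (x, y) = ρ (x', y') := h.inj (congrArg Subtype.val e)
  have e2 : ∀ v, nu C (σ x) v - nu C (σ x') v = θ • (nu C (σ y') v - nu C (σ y) v) := fun v => by
    have := h5 (x, y)
    rw [e1, h5] at this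
    have := LinearMap.congr_fun this v
    simp only [LinearMap.add_apply, LinearMap.smul_apply] at this
    rw [smul_sub]
    linear_combination (norm := module) -this
  have e3 : ∀ v, nu C (σ y') v - nu C (σ y) v = 0 := fun v => by
    obtain ⟨w, rfl⟩ := γ.surjective v
    have a1 := e2 (γ w)
    rw [cm, cm, ← map_sub, e2, hg.semi, map_sub, ← cm, ← cm, ← sub_eq_zero, ← sub_smul] at a1
    exact (smul_eq_zero.1 a1).resolve_left (sub_ne_zero.2 hθ)
  have fin : ∀ a a' : X, (∀ v, nu C (σ a) v - nu C (σ a') v = 0) → a = a' := fun a a' H => by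
    refine Subtype.ext ?_
    rw [← h3, ← h3, C.ext (g := σ a) (h := σ a') fun v => ?_]
    have := H v
    rwa [mx_nu, mx_nu, sub_sub_sub_cancel_right, sub_eq_zero] at this
  rw [fin x x' fun v => by rw [e2, e3, smul_zero], fin y' y e3]

/-- **bigA** -/
theorem Sit.bigA (h : Sit C φ t) {k : ℕ} (hk : finrank F V = 2 * k) {B : Subgroup G}
    (h1 : B ≤ centralizer {t}) (h2 : ∀ b ∈ B, b * b = 1)
    (h3 : 2 * Nat.card F ^ (k * (k + 1) / 2) ≤ Nat.card B) :
    ∃ M, Lag P M ∧ B = Eg C φ M ⊔ zpowers t := by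
  have m := h.toMod
  have em := h.toEmb
  have t2 := h.t2
  have q1 : 1 < Nat.card F := Finite.one_lt_card
  have d6 := m.d6
  have hN : 6 ≤ k * (k + 1) / 2 := by
    rw [Nat.le_div_iff_mul_le two_pos]
    have : 3 ≤ k := by omega
    nlinarith
  have inv : ∀ b ∈ B, b⁻¹ = b := fun b hb => inv_eq_of_mul_eq_one_right (h2 b hb)
  have ab : ∀ a ∈ B, ∀ b ∈ B, a * b = b * a := fun a ha b hb => by
    rw [← inv _ (B.mul_mem ha hb), mul_inv_rev, inv a ha, inv b hb]
  have bt : ∀ b ∈ B, b * t = t * b := fun b hb => (h1 hb t rfl).symm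
  have tt : ∀ l l', t * φ l * (t * φ l') = φ (l * l') := fun l l' => by
    rw [map_mul, mul_assoc, ← mul_assoc (φ l), h.tl, ← mul_assoc, ← mul_assoc, t2, one_mul]
  let X : Subgroup S :=
    { carrier := {l | φ l ∈ B ∨ t * φ l ∈ B}
      one_mem' := Or.inl (by rw [map_one]; exact B.one_mem)
      mul_mem' := by
        rintro a b (ha | ha) (hb | hb)
        · exact Or.inl (by rw [map_mul]; exact B.mul_mem ha hb)
        · exact Or.inr (by rw [map_mul, ← mul_assoc, ← h.tl, mul_assoc]; exact B.mul_mem ha hb)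
        · exact Or.inr (by rw [map_mul, ← mul_assoc]; exact B.mul_mem ha hb)
        · exact Or.inl (tt a b ▸ B.mul_mem ha hb)
      inv_mem' := by
        rintro a (ha | ha)
        · exact Or.inl (by rw [map_inv]; exact B.inv_mem ha)
        · refine Or.inr ?_
          have := B.inv_mem ha
          rwa [mul_inv_rev, inv_eq_of_mul_eq_one_right t2, ← map_inv, h.tl] at this }
  have X2 : ∀ l ∈ X, l * l = 1 := by
    rintro l (hl | hl) <;> apply h.inj <;> rw [map_one]
    · rw [map_mul]; exact h2 _ hl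
    · rw [← tt]; exact h2 _ hl
  let f : X × Bool → G := fun p => if p.2 then t * φ p.1 else φ p.1
  have hf : ∀ b ∈ B, (∃ l, l * l = 1 ∧ (b = φ l ∨ b = t * φ l)) → ∃ i, f i = b := by
    rintro b hb ⟨l, -, rfl | rfl⟩
    · exact ⟨(⟨l, Or.inl hb⟩, false), rfl⟩
    · exact ⟨(⟨l, Or.inr hb⟩, true), rfl⟩
  obtain ⟨N, hN'⟩ : ∃ N, k * (k + 1) / 2 = N + 1 := ⟨k * (k + 1) / 2 - 1, by omega⟩
  have qp : 0 < Nat.card F ^ N := pow_pos (by omega) _
  by_cases H : ∀ b ∈ B, ∃ l, l * l = 1 ∧ (b = φ l ∨ b = t * φ l)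
  · have c1 := mx_card_le (A := (B : Set G)) f fun b hb => hf b hb (H b hb)
    rw [Nat.card_prod, Nat.card_eq_fintype_card (α := Bool), Fintype.card_bool] at c1
    change Nat.card B ≤ _ at c1
    obtain ⟨M, hM, hX⟩ := m.maxe hk X2 (by
      rw [hN', pow_succ] at h3
      rw [hN', Nat.add_sub_cancel]
      nlinarith)
    have EL : Eg C φ M ≤ φ.range := map_le_range φ _
    refine ⟨M, hM, eq_of_le_of_card_ge (fun b hb => (h.mem_sup_t EL).2 ?_) ?_⟩
    · obtain ⟨l, -, rfl | rfl⟩ := H b hb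
      · exact Or.inl ⟨l, hX (Or.inl hb), rfl⟩
      · exact Or.inr ⟨l, hX (Or.inr hb), by rw [← mul_assoc, t2, one_mul]⟩
    · rwa [h.card_sup_t EL, em.card_EM hk hM]
  · exfalso
    push Not at H
    obtain ⟨g, hg, H⟩ := H
    obtain ⟨l, l2, hl⟩ | ⟨α, γ, ha, a1, a2, -⟩ := h.invol' (bt g hg) (h2 g hg)
    · rcases hl with hl | hl
      · exact (H l l2).1 hl
      · exact (H l l2).2 hl
    have cyc := m.aut_cyc
    have : Finite (RingAut F) := Finite.of_injective (fun g : RingAut F => (g : F → F)) DFunLike.coe_injective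
    have c1 := mx_card_le (A := (B : Set G))
      (fun p : (X × Bool) × Bool => if p.2 then g * f p.1 else f p.1) fun b hb => by
        obtain e | ⟨α', γ', ha', a1', a2', -⟩ := h.invol' (bt b hb) (h2 b hb)
        · obtain ⟨i, hi⟩ := hf b hb e
          exact ⟨(i, false), hi⟩
        have e1 : α = α' := ((mx_two a2 a2').resolve_left a1).resolve_left a1'
        subst e1
        have gb := B.mul_mem hg hb
        obtain e | ⟨α', γ'', ha'', a1'', -⟩ := h.invol' (bt _ gb) (h2 _ gb)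
        · obtain ⟨i, hi⟩ := hf _ gb e
          refine ⟨(i, true), ?_⟩
          change g * f i = b
          rw [hi, ← mul_assoc, h2 g hg, one_mul]
        · exact absurd ((em.act_unique ha'' (em.act_mul ha ha')).1.trans a2) a1''
    rw [Nat.card_prod, Nat.card_prod, Nat.card_eq_fintype_card (α := Bool), Fintype.card_bool] at c1
    change Nat.card B ≤ _ at c1
    have q2 : Nat.card F ≠ 2 := fun e => a1 (m.aut_small (m.small_iff.2 e) α)
    have q3 : 3 ≤ Nat.card F := by omega
    obtain ⟨M, hM, hX⟩ := m.maxe hk X2 (by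
      rw [hN', pow_succ] at h3
      rw [hN', Nat.add_sub_cancel]
      nlinarith)
    have c2 := em.card_fld (m.lag_ti hM) ha a1 (X := X.map φ) (map_mono hX) (by
      rintro _ ⟨l, hl | hl, rfl⟩ y rfl
      · exact ab _ hg _ hl
      · have := ab _ hg _ hl
        rw [← mul_assoc, bt _ hg, mul_assoc, mul_assoc] at this
        exact mul_left_cancel this)
    rw [em.card_map, em.card_EM hk hM] at c2
    have c3 : 3 ^ 6 ≤ Nat.card F ^ (k * (k + 1) / 2) :=
      (Nat.pow_le_pow_left q3 6).trans (Nat.pow_le_pow_right (by omega) hN)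
    generalize Nat.card F ^ (k * (k + 1) / 2) = y at *
    nlinarith

theorem Mod.mx_fix (h : Mod C) {U : Submodule F V} {l : S} (H : ∀ v, C.act l v - v ∈ U) :
    l ∈ C.fixG (P.perp U) := fun w hw => by
  refine sub_eq_zero.1 (h.nd fun v => ?_)
  obtain ⟨u, rfl⟩ := (C.act l).surjective v
  have := hw _ (H u)
  rw [map_sub, LinearMap.sub_apply] at this
  rw [map_sub, LinearMap.sub_apply, C.B_act, h.B_comm w u, h.B_comm w]
  linear_combination -this

/-- **NU**: conjugacy inside `E(U) ⟨t⟩` is controlled by `N(Y_U ⟨t⟩)` -/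
theorem Sit.nu (h : Sit C φ t) {U : Submodule F V} (hU : TI P U) {g : G}
    (hg : g * t * g⁻¹ ∈ Eg C φ U ⊔ zpowers t) :
    ∃ n ∈ normalizer ((Yg C φ U ⊔ zpowers t : Subgroup G) : Set G), n * t * n⁻¹ = g * t * g⁻¹ := by
  have m := h.toMod
  have em := h.toEmb
  have t2 := h.t2
  have q1 : 1 < Nat.card F := Finite.one_lt_card
  obtain ⟨k, -, hk⟩ := m.even_rank
  have EL : ∀ M, Eg C φ M ≤ φ.range := fun M => map_le_range φ _
  let c : G →* G := (MulAut.conj g⁻¹).toMonoidHom
  have hc : ∀ x, c x = g⁻¹ * x * g := fun x => by simp [c]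
  have ci : Function.Injective c := (MulAut.conj g⁻¹).injective
  have ex : ∀ M : {M // Lag P M ∧ U ≤ M}, ∃ M', Lag P M' ∧
      (Eg C φ M.1 ⊔ zpowers t).map c = Eg C φ M' ⊔ zpowers t := by
    rintro ⟨M, hM, UM⟩
    have sq : ∀ b ∈ Eg C φ M ⊔ zpowers t, b * b = 1 := fun b hb => by
      rcases (h.mem_sup_t (EL M)).1 hb with e | e
      · exact em.E_sq (m.lag_ti hM) e
      · have e1 := em.E_sq (m.lag_ti hM) e
        have e2 := h.tL (EL M e)
        have e3 : b * t = t * b := by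
          rw [mul_assoc] at e2
          exact mul_left_cancel e2
        rwa [mul_assoc, ← mul_assoc b, e3, ← mul_assoc, ← mul_assoc, t2, one_mul] at e1
    have inv : ∀ b ∈ Eg C φ M ⊔ zpowers t, b⁻¹ = b := fun b hb => inv_eq_of_mul_eq_one_right (sq b hb)
    have sm : g * t * g⁻¹ ∈ Eg C φ M ⊔ zpowers t := sup_le_sup_right (em.E_mono UM) _ hg
    refine h.bigA hk ?_ ?_ ?_
    · rintro _ ⟨b, hb, rfl⟩ y rfl
      have e1 : g * y * g⁻¹ * b = b * (g * y * g⁻¹) := by
        rw [← inv _ (mul_mem sm hb), mul_inv_rev, inv _ sm, inv b hb]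
      rw [hc]
      calc y * (g⁻¹ * b * g) = g⁻¹ * (g * y * g⁻¹ * b) * g := by group
        _ = _ := by rw [e1]; group
    · rintro _ ⟨b, hb, rfl⟩
      rw [← map_mul, sq b hb, map_one]
    · rw [card_map_of_injective ci, h.card_sup_t (EL M), em.card_EM hk hM]
  choose μ hμ hμ' using ex
  obtain ⟨M₀, hM₀⟩ := m.exists_lag hU
  have ti : TI P (⨅ M, μ M) := fun v hv u hu =>
    m.lag_ti (hμ ⟨M₀, hM₀⟩) (iInf_le μ _ hv) u (iInf_le μ _ hu)
  have inter : ∀ y, (∀ M, y ∈ Eg C φ (μ M)) → y ∈ Eg C φ (⨅ M, μ M) := fun y hy => by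
    obtain ⟨l, -, rfl⟩ := hy ⟨M₀, hM₀⟩
    refine ⟨l, m.mx_fix fun v => (Submodule.mem_iInf _).2 fun M => ?_, rfl⟩
    obtain ⟨l', hl', e⟩ := hy M
    rw [← h.inj e]
    exact m.E_range hl' v
  have le1 : (Eg C φ U ⊔ zpowers t).map c ≤ Eg C φ (⨅ M, μ M) ⊔ zpowers t := by
    intro y hy
    have hy' : ∀ M, y ∈ Eg C φ (μ M) ∨ t * y ∈ Eg C φ (μ M) := fun M =>
      (h.mem_sup_t (EL _)).1 (hμ' M ▸ map_mono (sup_le_sup_right (em.E_mono M.2.2) _) hy)
    refine (h.mem_sup_t (EL _)).2 ?_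
    by_cases yL : y ∈ φ.range
    · refine Or.inl (inter y fun M => (hy' M).resolve_right fun e => h.t_not_mem ?_)
      exact (mul_mem_cancel_right yL).1 (EL _ e)
    · exact Or.inr (inter _ fun M => (hy' M).resolve_left fun e => yL (EL _ e))
  have rk : finrank F U ≤ finrank F (⨅ M, μ M : Submodule F V) := by
    have c1 := card_le_of_le le1
    rw [card_map_of_injective ci, h.card_sup_t (EL _), h.card_sup_t (EL _), Eg, Eg, em.card_map,
      em.card_map, m.card_E hU, m.card_E ti] at c1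
    have c2 := (Nat.pow_le_pow_iff_right q1).1 (Nat.le_of_mul_le_mul_left c1 two_pos)
    by_contra! H
    obtain ⟨j, hj⟩ := Nat.exists_eq_add_of_lt H
    rw [hj, mx_tri] at c2
    have : finrank F (⨅ M, μ M : Submodule F V) * (finrank F (⨅ M, μ M : Submodule F V) + 1) / 2 ≤
        (finrank F (⨅ M, μ M : Submodule F V) + j) * (finrank F (⨅ M, μ M : Submodule F V) + j + 1) / 2 :=
      Nat.div_le_div_right (Nat.mul_le_mul (by omega) (by omega))
    omega
  have le2 : ∀ M, Eg C φ (μ M) ⊔ zpowers t ≤ Yg C φ (⨅ M, μ M) ⊔ zpowers t := fun M =>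
    sup_le_sup_right (em.E_le_Y ((iInf_le μ M).trans (hμ M).ge)) _
  have le3 : Yg C φ U ⊔ zpowers t ≤ (Yg C φ (⨅ M, μ M) ⊔ zpowers t).comap c := by
    refine sup_le ?_ ?_
    · rw [Yg, map_le_iff_le_comap]
      refine m.fix_gen hU fun p hp r => ?_
      have tp : TI P (U ⊔ span F {p}) := by
        have a : ∀ v ∈ U ⊔ span F {p}, ∃ u ∈ U, ∃ d : F, v = u + d • p := fun v hv => by
          obtain ⟨u, hu, w, hw, rfl⟩ := Submodule.mem_sup.1 hv
          obtain ⟨d, rfl⟩ := Submodule.mem_span_singleton.1 hw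
          exact ⟨u, hu, d, rfl⟩
        intro v hv w hw
        obtain ⟨u, hu, d, rfl⟩ := a v hv
        obtain ⟨u', hu', d', rfl⟩ := a w hw
        have e1 : P.B u' u = 0 := hU hu u' hu'
        have e2 : P.B u' p = 0 := hp u' hu'
        have e3 : P.B p u = 0 := by rw [m.B_comm]; exact hp u hu
        simp only [map_add, map_smul, LinearMap.add_apply, LinearMap.smul_apply, smul_eq_mul, e1, e2,
          e3, m.B_self, mul_zero, add_zero]
      obtain ⟨M, hM, le⟩ := m.exists_lag tp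
      have pM : p ∈ M := le (Submodule.mem_sup_right (Submodule.mem_span_singleton_self p))
      refine le2 ⟨M, hM, le_sup_left.trans le⟩ ?_
      rw [← hμ']
      exact ⟨_, mem_sup_left ⟨_, m.T_mem_E (m.lag_ti hM) pM M.zero_mem r, rfl⟩, rfl⟩
    · rw [zpowers_le]
      refine le2 ⟨M₀, hM₀⟩ ?_
      rw [← hμ']
      exact ⟨_, mem_sup_right (mem_zpowers t), rfl⟩
  obtain ⟨v', hv'⟩ := exists_linearIndependent_of_le_finrank rk
  let b := Module.finBasis F U
  obtain ⟨l, hl⟩ := m.witt (v := fun i => (b i : V)) (v' := fun i => (v' i : V))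
    (b.linearIndependent.map' U.subtype U.ker_subtype) (hv'.map' _ (Submodule.ker_subtype _))
    fun i j => by rw [ti (v' j).2 _ (v' i).2, hU (b j).2 _ (b i).2]
  have lU : U.map (C.act l).toLinearMap ≤ ⨅ M, μ M := by
    rintro _ ⟨u, hu, rfl⟩
    have e1 := congrArg Subtype.val (b.sum_repr ⟨u, hu⟩)
    simp only [AddSubmonoidClass.coe_finset_sum, SetLike.val_smul] at e1
    rw [← e1, map_sum]
    refine Submodule.sum_mem _ fun i _ => ?_
    rw [map_smul]
    exact Submodule.smul_mem _ _ (by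
      change C.act l (b i) ∈ _
      rw [hl]; exact (v' i).2)
  have e1 : ∀ v, C.act l v ∈ U.map (C.act l).toLinearMap ↔ v ∈ U := fun v =>
    ⟨fun ⟨u, hu, e⟩ => (C.act l).injective e ▸ hu, fun hv => ⟨v, hv, rfl⟩⟩
  refine ⟨g * φ l, ?_, by rw [mul_assoc g, h.tl]; group⟩
  rw [← inv_mem_iff]
  refine mem_normalizer_fintype fun y hy => ?_
  have a1 : c y ∈ Yg C φ (U.map (C.act l).toLinearMap) ⊔ zpowers t :=
    sup_le_sup_right (em.Y_anti lU) _ (le3 hy)
  have a2 : (g * φ l)⁻¹ * y * (g * φ l)⁻¹⁻¹ = (φ l)⁻¹ * c y * φ l := by rw [hc]; group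
  rw [a2]
  refine (h.mem_sup_t em.Y_le_L).2 (((h.mem_sup_t em.Y_le_L).1 a1).imp (fun e => ?_) fun e => ?_)
  · refine (em.conj_Y l e1).1.1 ?_
    rwa [show φ l * ((φ l)⁻¹ * c y * φ l) * (φ l)⁻¹ = c y by group]
  · refine (em.conj_Y l e1).1.1 ?_
    rwa [show φ l * (t * ((φ l)⁻¹ * c y * φ l)) * (φ l)⁻¹ = t * c y by rw [← mul_assoc, h.tl]; group]

end CfsgLib.SPC
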