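import Cfsg.Agent.Lib.SPC.Par
import Cfsg.Agent.Lib.SPC.Max
import Cfsg.Agent.Lib.SPC.Loc
import Cfsg.Agent.Lib.UN.FusB

/-! Fusion: t is conjugate to t z, t a or t c -/

set_option autoImplicit false
set_option linter.unusedSectionVars false

namespace CfsgLib.SPC

open Subgroup Module CfsgLib.Forms CfsgLib.LieMult
open CfsgLib.HX (Std CO Two Mv M2)
open CfsgLib.UN (AV SI TI HH Rad Stb Yg Rg Eg Act nu)
open CfsgLib.ClSys (II)
open Submodule (span)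
open scoped commutatorElement Pointwise

universe u

variable {F : Type} [Field F] [Finite F] {V : Type} [AddCommGroup V] [Module F V]
  [FiniteDimensional F V] {P : PQ (RingHom.id F) V} {S : Type} [Group S] [Finite S] {G : Type u}
  [Group G] [Finite G] {C : CG P S} {φ : S →* G} {t : G}

theorem Mod.fus_hp (h : Mod C) {α : RingAut F} {γ : AV V} (k : SI P α γ) (h1 : α ≠ 1)
    (h2 : α * α = 1) (h3 : ∀ v, γ (γ v) = v) {A : Set V} (hA : ∀ a ∈ A, γ a = a) {e f : V}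
    (he : ∀ a ∈ A, P.B a e = 0) (hf : ∀ a ∈ A, P.B a f = 0) (ef : P.B e f = 1) :
    ∃ e' f', γ e' = e' ∧ γ f' = f' ∧ (∀ a ∈ A, P.B a e' = 0) ∧ (∀ a ∈ A, P.B a f' = 0) ∧
      P.B e' f' = 1 := by
  obtain ⟨⟨θ, hθ⟩, -⟩ := h.aut_two h1 h2
  have sp : ∀ v, (∀ a ∈ A, P.B a v = 0) → ∃ u w, (γ u = u ∧ ∀ a ∈ A, P.B a u = 0) ∧
      (γ w = w ∧ ∀ a ∈ A, P.B a w = 0) ∧ v = u + α θ • w := fun v hv => by
    have k1 : ∀ v, (∀ a ∈ A, P.B a v = 0) → γ (v + γ v) = v + γ v ∧ ∀ a ∈ A, P.B a (v + γ v) = 0 :=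
      fun v hv => ⟨by rw [map_add, h3, add_comm], fun a ha => by
        rw [map_add, hv a ha, ← hA a ha, k.B_eq, hv a ha, map_zero, add_zero]⟩
    refine ⟨_, _, k1 (θ • v) fun a ha => by rw [map_smul, hv a ha, smul_zero], k1 v hv, ?_⟩
    rw [k.semi, smul_add, add_add_add_comm, h.vadd_self, add_zero, ← add_smul, hθ, one_smul]
  obtain ⟨u, w, hu, hw, c⟩ : ∃ u w, (γ u = u ∧ ∀ a ∈ A, P.B a u = 0) ∧
      (γ w = w ∧ ∀ a ∈ A, P.B a w = 0) ∧ P.B u w ≠ 0 := by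
    by_contra! c
    obtain ⟨u, w, hu, hw, rfl⟩ := sp e he
    obtain ⟨u', w', hu', hw', rfl⟩ := sp f hf
    simp [P.B_add_left, h.B_smul_left, c _ _ hu hu', c _ _ hu hw', c _ _ hw hu', c _ _ hw hw'] at ef
  have c1 : α (P.B u w) = P.B u w := by rw [← k.B_eq, hu.1, hw.1]
  exact ⟨u, (P.B u w)⁻¹ • w, hu.1, by rw [k.semi, map_inv₀, c1, hw.1], hu.2,
    fun a ha => by rw [map_smul, hw.2 a ha, smul_zero], by rw [map_smul, smul_eq_mul, inv_mul_cancel₀ c]⟩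

/-- a semilinear involution fixes three orthogonal hyperbolic pairs -/
theorem Mod.fixed_h3 (h : Mod C) {α : RingAut F} {γ : AV V} (k : SI P α γ) (h1 : α ≠ 1)
    (h2 : α * α = 1) (h3 : ∀ v, γ (γ v) = v) : ∃ e₁ f₁ e₂ f₂ e₃ f₃, H3 P e₁ f₁ e₂ f₂ e₃ f₃ ∧
      γ e₁ = e₁ ∧ γ f₁ = f₁ ∧ γ e₂ = e₂ ∧ γ f₂ = f₂ ∧ γ e₃ = e₃ ∧ γ f₃ = f₃ := by
  obtain ⟨e, e0⟩ := h.g2_ne
  obtain ⟨f, ef⟩ := h.exists_hp e0
  obtain ⟨e₁, f₁, a1, b1, -, -, k1⟩ := h.fus_hp k h1 h2 h3 (A := ∅) (by simp) (by simp) (by simp) ef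
  obtain ⟨e, f, l⟩ := h.exists_hh k1
  obtain ⟨e₂, f₂, a2, b2, c2, d2, k2⟩ := h.fus_hp k h1 h2 h3 (A := {e₁, f₁}) (by simp [a1, b1])
    (by simp [l.ee, l.fe]) (by simp [l.ef, l.ff]) l.h₂.ef
  simp only [Set.mem_insert_iff, Set.mem_singleton_iff, forall_eq_or_imp, forall_eq] at c2 d2
  have l2 : HH P e₁ f₁ e₂ f₂ := ⟨l.h₁, h.hp_iff.2 k2, c2.1, d2.1, c2.2, d2.2⟩
  obtain ⟨e, f, l⟩ := h.exists_h3 l2
  obtain ⟨e₃, f₃, a3, b3, c3, d3, k3⟩ := h.fus_hp k h1 h2 h3 (A := {e₁, f₁, e₂, f₂})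
    (by simp [a1, b1, a2, b2]) (by simp [l.h13.ee, l.h13.fe, l.h23.ee, l.h23.fe])
    (by simp [l.h13.ef, l.h13.ff, l.h23.ef, l.h23.ff]) l.h13.h₂.ef
  simp only [Set.mem_insert_iff, Set.mem_singleton_iff, forall_eq_or_imp, forall_eq] at c3 d3
  exact ⟨e₁, f₁, e₂, f₂, e₃, f₃, ⟨l2, ⟨l2.h₁, h.hp_iff.2 k3, c3.1, d3.1, c3.2.1, d3.2.1⟩,
    ⟨l2.h₂, h.hp_iff.2 k3, c3.2.2.1, d3.2.2.1, c3.2.2.2, d3.2.2.2⟩⟩, a1, b1, a2, b2, a3, b3⟩

theorem Mod.fus_symm (h : Mod C) {e f e' f' : V} (k : HH P e f e' f') : HH P e' f' e f :=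
  ⟨k.h₂, k.h₁, (h.B_comm _ _).trans k.ee, (h.B_comm _ _).trans k.fe, (h.B_comm _ _).trans k.ef,
    (h.B_comm _ _).trans k.ff⟩

theorem fus_rank {e a : V} (k : Ln P e a) : 2 ≤ finrank F (span F ({e, a} : Set V)) := by
  have h1 : span F {e} < span F ({e, a} : Set V) :=
    lt_of_le_of_ne (Submodule.span_mono (by simp)) fun c =>
      k.nmem (c ▸ Submodule.subset_span (by simp))
  have := Submodule.finrank_lt_finrank_of_lt h1
  rwa [finrank_span_singleton k.ne] at this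

theorem Mod.fus_ln (h : Mod C) {M : Submodule F V} (hM : Lag P M) :
    3 ≤ finrank F M ∧ ∃ e ∈ M, ∃ a ∈ M, Ln P e a := by
  have h1 := h.lag_rank hM
  have h2 := h.d6
  obtain ⟨e, he, e0⟩ := Submodule.exists_mem_ne_zero_of_ne_bot (p := M) fun c => by
    rw [c, finrank_bot] at h1; omega
  obtain ⟨a, ha, ae⟩ := SetLike.not_le_iff_exists.1 fun c : M ≤ span F {e} => by
    have := Submodule.finrank_mono c
    rw [finrank_span_singleton e0] at this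
    omega
  exact ⟨by omega, e, he, a, ha, e0, ae, Mod.g2_B hM he ha⟩

namespace Sit

variable (h : Sit C φ t)
include h

theorem exists_comm {Gs : Subgroup G} (hG : SLE.Glob Gs t) (hL : φ.range ≤ Gs) :
    ∃ g, g * t * g⁻¹ ≠ t ∧ Commute (g * t * g⁻¹) t := by
  by_contra! h0
  have := hG.simple
  have := hG.nrm
  have hO : Cfsg.pPrimeCore 2 G = ⊥ := by
    rcases ((inferInstance : (Cfsg.pPrimeCore 2 G).Normal).subgroupOf Gs).eq_bot_or_eq_top with e | e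
    · rw [eq_bot_iff, ← hG.cen]
      intro x hx y hy
      have : y * x * y⁻¹ * x⁻¹ ∈ Cfsg.pPrimeCore 2 G ⊓ Gs :=
        mem_inf.2 ⟨mul_mem (Normal.conj_mem inferInstance x hx y) (inv_mem hx), by
          have := hG.nrm.conj_mem _ (inv_mem hy) x
          simpa [mul_assoc] using mul_mem hy this⟩
      rw [subgroupOf_eq_bot, disjoint_iff] at e
      rw [e, mem_bot, mul_inv_eq_one, mul_inv_eq_iff_eq_mul] at this
      exact this
    · obtain ⟨a, a0⟩ := h.g2_ne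
      have h1 := (Core.odd_card_oddCore G).of_dvd_nat
        (orderOf_dvd_natCard _ (subgroupOf_eq_top.1 e (hL (⟨_, rfl⟩ : z C φ a 1 ∈ φ.range))))
      rw [Invol.orderOf_eq_two (fun c => (h.z_eq_one.1 c).elim a0 one_ne_zero) (h.z_sq a 1)] at h1
      exact absurd h1 (by decide)
  have := ZStar.zstar_center hO (t := t) ⟨Invol.orderOf_eq_two h.t1 h.t2, fun g hg => by
    by_contra e
    exact h0 g e hg.symm⟩
  have h1 : t ∈ centralizer (Gs : Set G) := fun y _ => mem_center_iff.1 this y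
  rw [hG.cen] at h1
  exact h.t1 h1

theorem exists_inner {g : G} (h1 : g * t * g⁻¹ ≠ t) (h2 : Commute (g * t * g⁻¹) t) :
    ∃ g' j, j * j = 1 ∧ j ≠ 1 ∧ (g' * t * g'⁻¹ = φ j ∨ g' * t * g'⁻¹ = t * φ j) := by
  have h' := h.cj g
  have hE := h.toEmb
  rcases h.invol' h2 h'.t2 with ⟨l, l2, k⟩ | ⟨α, γ, k, α1, α2, γ2⟩
  · refine ⟨g, l, l2, ?_, k⟩
    rintro rfl
    rw [map_one, mul_one] at k
    exact k.elim h'.t1 h1
  obtain ⟨e₁, f₁, e₂, f₂, e₃, f₃, l, a1, b1, a2, b2, a3, b3⟩ := h.fixed_h3 k.toSI α1 α2 γ2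
  obtain ⟨⟨θ, hθ⟩, -⟩ := h.aut_two α1 α2
  have l21 := h.fus_symm l.h12
  have l31 := h.fus_symm l.h13
  have l32 := h.fus_symm l.h23
  have c : ∀ {u v}, γ u = u → γ v = v → P.B u v = 0 → x C φ u v ∈ centralizer {g * t * g⁻¹} :=
    fun hu hv k' => mem_centralizer_singleton_iff.2 (by
      rw [eq_comm, ← mul_inv_eq_iff_eq_mul, hE.act_x k k', hu, hv])
  have m : ∀ {e f e' f' v}, HH P e f e' f' → P.B e v = 0 → P.B e' v = 0 → P.B f' v = 0 →
      x C φ e v = ⁅x C φ e f', x C φ e' v⁆ := fun k k1 k2 k3 => by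
    rw [x, h.x_comm k k1 k2 k3, map_commutatorElement]; rfl
  have x2 := hE.x_sq l.h12.ee
  obtain ⟨j, hj⟩ := h'.mem_of_dd h'.CN (g := x C φ e₁ e₂) (.inl (by
    rw [m l.h13 l.h12.ee l32.ee l32.fe]
    refine commutator_mem_commutator ?_ ?_
    · rw [m l.h12 l.h13.ef l.h23.ef l.h23.ff]
      exact commutator_mem_commutator (c a1 b2 l.h12.ef) (c a2 b3 l.h23.ef)
    · rw [m l31 l32.ee l.h12.ee l.h12.fe]
      exact commutator_mem_commutator (c a3 b1 l31.ef) (c a1 a2 l.h12.ee))) x2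
  replace hj : φ j = g⁻¹ * x C φ e₁ e₂ * g := by
    rw [← hj]; show _ = g⁻¹ * (g * φ j * g⁻¹) * g; group
  have k0 : ∀ c : F, P.B e₁ (c • e₂) = 0 := fun c => by rw [map_smul, l.h12.ee, smul_zero]
  have e1 := hE.act_x k (k0 θ)
  have e2 := hE.x_add (k0 θ) (k0 (α θ)) (by rw [h.B_smul_left, map_smul, h.B_self]; simp)
  have e3 := hE.x_sq (k0 θ)
  rw [← add_smul, hθ, one_smul] at e2
  rw [a1, k.semi, a2] at e1
  refine ⟨g⁻¹ * x C φ e₁ (θ • e₂) * g, j, h.inj ?_, fun c => ?_, .inr ?_⟩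
  · rw [map_mul, map_one, hj]
    calc _ = g⁻¹ * (x C φ e₁ e₂ * x C φ e₁ e₂) * g := by group
      _ = 1 := by rw [x2]; group
  · rw [c, map_one] at hj
    refine one_ne_zero ((hE.x_eq_one (h.ln_of_hh l.h12)).1 ?_)
    rw [one_smul]
    calc _ = g * (g⁻¹ * x C φ e₁ e₂ * g) * g⁻¹ := by group
      _ = 1 := by rw [← hj]; group
  · rw [← h.tl, hj, e2, ← e1]
    generalize x C φ e₁ (θ • e₂) = u at e3
    calc _ = g⁻¹ * u * (g * t * g⁻¹) * u⁻¹ * g := by group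
      _ = _ := by rw [inv_eq_of_mul_eq_one_right e3]; group

theorem fus3 {Gs : Subgroup G} (hG : SLE.Glob Gs t) (hL : φ.range ≤ Gs) :
    Tz C φ t ∨ Ta C φ t ∨ Tc C φ t := by
  have hE := h.toEmb
  obtain ⟨g, h1, h2⟩ := h.exists_comm hG hL
  obtain ⟨g', j, j2, j1, k⟩ := h.exists_inner h1 h2
  obtain ⟨M, hM, jM⟩ := h.invol_mem_E j2
  have tM := h.lag_ti hM
  obtain ⟨h3, e, he, a, ha, l⟩ := h.fus_ln hM
  have HL : Eg C φ M ≤ φ.range := map_le_range φ _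
  have lM : span F {e, a} ≤ M := Submodule.span_le.2 (by rintro _ (rfl | rfl) <;> assumption)
  obtain ⟨n, hn, en⟩ := h.nu tM (g := g') (k.elim (fun k => k ▸ mem_sup_left (mem_map_of_mem φ jM))
    fun k => k ▸ mul_mem (mem_sup_right (mem_zpowers t)) (mem_sup_left (mem_map_of_mem φ jM)))
  rw [show Yg C φ M = Eg C φ M by rw [Eg, show P.perp M = M from hM]; rfl] at hn
  have hK : (Stb C M).map φ ≤
      normalizer ((Eg C φ M ⊔ zpowers t : Subgroup G) : Set G) ⊓ centralizer {t} := by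
    rintro _ ⟨s, hs, rfl⟩
    refine ⟨normalizer_inf_normalizer_le_normalizer_sup _ _ ⟨(hE.act_norm (hE.act_self s) hs).2.2,
      Tech.mem_normalizer_of_forall fun y hy => ?_⟩, mem_centralizer_singleton_iff.2 (h.tl s)⟩
    obtain ⟨i, rfl⟩ := hy
    rw [((show Commute (φ s) t from h.tl s).zpow_right i).eq, mul_inv_cancel_right]
    exact ⟨i, rfl⟩
  have rad : ∀ s ∈ Rad C (span F {e, a}), ∀ v ∈ M, C.act s v ∈ M := fun s hs v hv => by
    have := M.add_mem (lM (hs.2 v fun w hw => tM hv w (lM hw))) hv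
    rwa [sub_add_cancel] at this
  obtain ⟨y, hy, y1, yJ, n, -, en⟩ := par2 (J := Rg C φ (span F {e, a})) h.t2
    (fun c => h.t_not_mem (HL c)) (fun y hy => hE.E_sq tM hy) (fun y hy => h.tL (HL hy)) le_rfl
    (fun p hp => Tech.mem_normalizer_of_forall fun y hy =>
      ((h.mem_sup_t HL).1 (Tech.conj_mem_of_mem_normalizer hp.1 (mem_sup_left hy))).resolve_right
        fun c => h.t_not_mem ((mul_mem_cancel_right (Tech.conj_mem_of_mem_normalizer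
          (h.CN hp.2) (HL hy))).1 (HL c))) hK
    (by
      rintro _ ⟨s, hs, rfl⟩ c
      rw [h.eq_one_of_stb tM h3 hs fun l hl => h.inj (by
        rw [map_mul, map_mul]; exact c _ (mem_map_of_mem φ hl)), map_one])
    (by
      rintro χ c1 c2 _ ⟨s, hs, rfl⟩
      exact h.form_zero hM (χ := fun s => χ (φ s))
        (fun s hs s' hs' => by rw [map_mul, c1 _ (mem_map_of_mem φ hs) _ (mem_map_of_mem φ hs')])
        (fun l hl s hs => by
          rw [map_mul, map_mul, map_inv, c2 _ (mem_map_of_mem φ hl) _ (mem_map_of_mem φ hs)]) s hs)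
    ((map_mono fun s hs v => ⟨fun c => by
      have := rad _ (inv_mem hs) _ c
      rwa [C.inv_apply] at this, rad s hs v⟩).trans hK) (hE.R_two (h.ti_pair l.perp))
    ⟨n, hn, fun c => by
      rw [en] at c
      rcases k with k | k <;> rw [k] at c
      · exact h.t_not_mem ⟨j, c⟩
      · exact j1 (h.inj (by rw [mul_eq_left.1 c, map_one]))⟩
  obtain ⟨ε, hε, c, hc, e1⟩ := hE.cR (h.ti_pair l.perp) (fus_rank l) (le_normalizer (HL hy)) yJ
  rw [← (hE.dec_inj (HL hy) (map_le_range φ _ hε) (one_mem _) hc ((mul_one y).trans e1)).1] at hε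
  rcases hE.cls_line l hε with c | ⟨p, p0, rfl⟩ | ⟨p, b, l, rfl⟩ | ⟨p, b, l, rfl⟩
  · exact absurd c y1
  · exact .inl ⟨p, p0, n, en⟩
  · exact .inr (.inl ⟨p, b, l, n, en⟩)
  · exact .inr (.inr ⟨p, b, l, n, en⟩)

end Sit

end CfsgLib.SPC
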