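import Cfsg.Agent.Lib.SPC.APrdA
import Cfsg.Agent.Lib.SPC.ASyl

/-! Type A: the product case, conjugates normalising both factors -/

set_option autoImplicit false
set_option linter.unusedSectionVars false

namespace CfsgLib.SPC

open Subgroup Module CfsgLib.Forms CfsgLib.LieMult
open CfsgLib.HX (Std CO Two Mv M2 QA)
open CfsgLib.UN (AV SI TI HH Rad Stb Yg Rg Eg Act nu Bas Nh flag Ub Uni TD Od)
open CfsgLib.UN.SB (D)
open CfsgLib.ClSys (II)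
open Submodule (span)
open scoped commutatorElement Pointwise

universe u

variable {F : Type} [Field F] [Finite F] {V : Type} [AddCommGroup V] [Module F V]
  [FiniteDimensional F V] {P : PQ (RingHom.id F) V} {S : Type} [Group S] [Finite S] {G : Type u}
  [Group G] [Finite G] {C : CG P S} {φ : S →* G} {t : G}

theorem pb_el {A B : Subgroup G} (hA : ∀ a ∈ A, a * a = 1) (hB : ∀ a ∈ B, a * a = 1)
    (c : ∀ a ∈ A, ∀ b ∈ B, a * b = b * a) : ∀ a ∈ A ⊔ B, a * a = 1 := fun x hx => by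
  rw [← SetLike.mem_coe, coe_mul_of_right_le_normalizer_left A B fun b hb =>
    centralizer_le_normalizer _ fun a ha => c a ha b hb] at hx
  obtain ⟨a, ha, b, hb, rfl⟩ := hx
  beta_reduce
  rw [mul_assoc, ← mul_assoc b, ← c a ha b hb, mul_assoc, hB b hb, mul_one, hA a ha]

theorem pb_zp {s : G} (s2 : s * s = 1) : ∀ a ∈ zpowers s, a * a = 1 := by
  rintro _ ⟨i, rfl⟩
  beta_reduce
  rw [← (Commute.refl s).mul_zpow, s2, one_zpow]

theorem pb_flag {α : RingAut F} {γ : AV V} (k : SI P α γ) (h3 : ∀ v, γ (γ v) = v) {m : ℕ}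
    {b : Basis (Fin m) F V} (hb : ∀ i, γ (b i) = b i) (r : ℕ) (v : V) : γ v ∈ flag b r ↔ v ∈ flag b r := by
  have key : ∀ v ∈ flag b r, γ v ∈ flag b r := fun v hv => by
    induction hv using Submodule.span_induction with
    | mem x hx => obtain ⟨j, hj, rfl⟩ := hx; rw [hb]; exact UN.b_mem_flag b hj
    | zero => rw [map_zero]; exact zero_mem _
    | add x y _ _ hx hy => rw [map_add]; exact add_mem hx hy
    | smul c x _ hx => rw [k.semi]; exact Submodule.smul_mem _ _ hx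
  exact ⟨fun c => h3 v ▸ key _ c, key v⟩

theorem Emb.pb_not_mem (h : Emb C φ) {s : G} {α : RingAut F} {γ : AV V} (a : Act C φ s α γ) (h1 : α ≠ 1) :
    s ∉ centralizer (φ.range : Set G) ⊔ φ.range := fun c => by
  let K : Subgroup G :=
    { carrier := {g | ∃ γ, Act C φ g 1 γ}
      one_mem' := ⟨1, h.act_cent (one_mem _)⟩
      mul_mem' := fun ⟨_, k⟩ ⟨_, k'⟩ => ⟨_, one_mul (1 : RingAut F) ▸ h.act_mul k k'⟩
      inv_mem' := fun ⟨_, k⟩ => ⟨_, inv_one (G := RingAut F) ▸ h.act_inv k⟩ }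
  obtain ⟨γ', k⟩ := (sup_le (fun g hg => ⟨1, h.act_cent hg⟩) (by
    rintro _ ⟨l, rfl⟩; exact ⟨_, h.act_self l⟩) : _ ≤ K) c
  exact h1 (h.act_unique a k).1

theorem Emb.pb_card (h : Emb C φ) {s : G} (s2 : s * s = 1) {α : RingAut F} {γ : AV V} (a : Act C φ s α γ)
    (h3 : ∀ v, γ (γ v) = v) {k : ℕ} {b : Basis (Fin (2 * k)) F V} (hb : Bas P b)
    (hγ : ∀ i, γ (b i) = b i) {r : ℕ} (hr : r ≤ k) : Nat.card F ^ (r * (r + 1) / 2) ≤
      Nat.card (Eg C φ (flag b r) ⊓ centralizer {s} : Subgroup G) ^ 2 := by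
  have := card_cent_inv (fun g hg => h.E_sq (h.ti_flag hb hr) hg) s2
    (h.act_norm a (pb_flag a.toSI h3 hγ r)).2.2
  rwa [Eg, h.card_map, h.card_E (h.ti_flag hb hr), h.rank_flag hb (by omega)] at this

namespace AP

variable {w : V → V → G} {y : V → F → G} {δ : F} {φ₁ φ₂ : S →* G} (h : AP C φ t w y δ φ₁ φ₂)
  {Gs : Subgroup G}
include h

theorem pb_big {s : G} (s2 : s * s = 1) {α : RingAut F} {γ : AV V} (a : Act C φ₂ s α γ) (h1 : α ≠ 1)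
    {X₁ X₂ : Subgroup G} (l1 : X₁ ≤ φ₁.range) (l2 : X₂ ≤ φ₂.range) (e1 : ∀ a ∈ X₁, a * a = 1)
    (e2 : ∀ a ∈ X₂, a * a = 1) (c1 : X₁ ≤ centralizer {s}) (c2 : X₂ ≤ centralizer {s}) :
    X₁ ⊔ X₂ ⊔ zpowers s ≤ centralizer {s} ∧ (∀ a ∈ X₁ ⊔ X₂ ⊔ zpowers s, a * a = 1) ∧
      2 * (Nat.card X₁ * Nat.card X₂) ≤ Nat.card (X₁ ⊔ X₂ ⊔ zpowers s : Subgroup G) := by
  have c : ∀ a ∈ X₁, ∀ b ∈ X₂, a * b = b * a := fun a ha b hb => h.cm (l1 ha) (l2 hb)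
  have c3 := sup_le c1 c2
  refine ⟨sup_le c3 (zpowers_le.2 (mem_centralizer_singleton_iff.2 rfl)), pb_el (pb_el e1 e2 c) (pb_zp s2) ?_,
    (Nat.mul_le_mul_left 2 (SLE.card_sup_comm c fun a ha hb => h.emb₁.eq_one (l1 ha) (h.c21 (l2 hb)))).trans
      (SLE.card_sup_inv s2 (fun m => h.emb₂.pb_not_mem a h1 (sup_le_sup (l1.trans h.flip.c21) l2 m))
        (centralizer_le_normalizer _ fun a ha => mem_centralizer_singleton_iff.1 (c3 ha)))⟩
  rintro a ha _ ⟨i, rfl⟩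
  exact (Commute.zpow_right (mem_centralizer_singleton_iff.1 (c3 ha)) i).eq

theorem not_mixed {g : G} {l : S} (l2 : l * l = 1) {c : G} (hc : c ∈ centralizer (φ₁.range : Set G))
    (e : g * t * g⁻¹ = φ₁ l * c) {α : RingAut F} {γ : AV V} (a : Act C φ₂ (g * t * g⁻¹) α γ) (h1 : α ≠ 1)
    (h2 : α * α = 1) (h3 : ∀ v, γ (γ v) = v) : False := by
  have H := h.toSit.cj g
  have hm := h.emb₁.toMod
  obtain ⟨k, k3, hk⟩ := hm.even_rank
  obtain ⟨M, hM, lM⟩ := hm.invol_mem_E l2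
  obtain ⟨b, -, hγ⟩ := hm.exists_bas_fix a.toSI h1 h2 h3 hk
  obtain ⟨u, u0, hu⟩ : ∃ u, u ≠ 0 ∧ γ u = u := ⟨b ⟨0, by omega⟩, b.ne_zero _, hγ _⟩
  have z2 := h.emb₂.z_sq u 1
  obtain ⟨b1, b2, b3⟩ := h.pb_big H.t2 a h1 (X₁ := Eg C φ₁ M) (X₂ := zpowers (z C φ₂ u 1))
    (map_le_range _ _) (zpowers_le.2 ⟨_, rfl⟩) (fun _ hx => h.emb₁.E_sq (hm.lag_ti hM) hx) (pb_zp z2)
    (fun x hx => mem_centralizer_singleton_iff.2 (by
      rw [e, ← mul_assoc, ← h.emb₁.E_cent (hm.lag_ti hM) hx (φ₁ l)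
        (mem_map_of_mem φ₁ ((show P.perp M = M from hM) ▸ lM)), mul_assoc, mul_assoc,
        hc x (map_le_range _ _ hx)]))
    (zpowers_le.2 (mem_centralizer_singleton_iff.2 (by
      rw [eq_comm, ← mul_inv_eq_iff_eq_mul, h.emb₂.act_z a, hu, map_one])))
  have b4 := b3.trans (H.big_le hk b1 b2)
  rw [h.emb₁.card_EM hk hM, Nat.card_zpowers, Invol.orderOf_eq_two
    (fun c => (h.emb₂.z_eq_one.1 c).elim u0 one_ne_zero) z2] at b4
  have : 0 < Nat.card F ^ (k * (k + 1) / 2) := pow_pos Nat.card_pos _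
  omega

theorem not_fld {g : G} {α α' : RingAut F} {γ γ' : AV V} (a : Act C φ₁ (g * t * g⁻¹) α γ) (h1 : α ≠ 1)
    (h2 : α * α = 1) (h3 : ∀ v, γ (γ v) = v) (a' : Act C φ₂ (g * t * g⁻¹) α' γ') (h1' : α' ≠ 1)
    (h2' : α' * α' = 1) (h3' : ∀ v, γ' (γ' v) = v) : False := by
  have H := h.toSit.cj g
  generalize g * t * g⁻¹ = s at a a' H
  have hm := h.emb₁.toMod
  obtain ⟨k, k3, hk⟩ := hm.even_rank
  obtain ⟨k, rfl⟩ : ∃ k', k = k' + 1 := ⟨k - 1, by omega⟩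
  obtain ⟨b, hb, hγ⟩ := hm.exists_bas_fix a.toSI h1 h2 h3 hk
  obtain ⟨b', hb', hγ'⟩ := hm.exists_bas_fix a'.toSI h1' h2' h3' hk
  have n2 := h.emb₂.pb_card H.t2 a' h3' hb' hγ' le_rfl
  have n1 := h.emb₁.pb_card H.t2 a h3 hb hγ le_rfl
  have n0 := h.emb₁.pb_card H.t2 a h3 hb hγ (Nat.le_succ k)
  have key : ∀ r ≤ k + 1, _ := fun r hr => h.pb_big H.t2 a' h1'
    (X₁ := Eg C φ₁ (flag b r) ⊓ centralizer {s}) (X₂ := Eg C φ₂ (flag b' (k + 1)) ⊓ centralizer {s})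
    (inf_le_left.trans (map_le_range _ _)) (inf_le_left.trans (map_le_range _ _))
    (fun _ hx => h.emb₁.E_sq (hm.ti_flag hb hr) hx.1)
    (fun _ hx => h.emb₂.E_sq (hm.ti_flag hb' le_rfl) hx.1) inf_le_right inf_le_right
  obtain ⟨b1, b2, b3⟩ := key _ le_rfl
  obtain ⟨-, -, b0⟩ := key _ (Nat.le_succ k)
  have l2 : Eg C φ₂ (flag b' (k + 1)) ⊓ centralizer {s} ≤ φ₂.range := inf_le_left.trans (map_le_range _ _)
  generalize Eg C φ₂ (flag b' (k + 1)) ⊓ centralizer {s} = X₂ at *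
  obtain ⟨e, f, ef, em, fm, he, hf⟩ : ∃ e f, P.B f e = 1 ∧ e ∈ flag b (k + 1) ∧ f ∈ P.perp (flag b k) ∧
      γ e = e ∧ γ f = f := ⟨b ⟨k, by omega⟩, b ⟨k + 1, by omega⟩,
    (hb _ _).trans (if_pos (Fin.ext (by simp; omega))), UN.b_mem_flag b (Nat.lt_succ_self k), by
      rw [hm.perp_flag hb (by omega)]; exact UN.b_mem_flag b (by simp; omega), hγ _, hγ _⟩
  have zc : ∀ {u}, γ u = u → z C φ₁ u 1 ∈ centralizer {s} := fun hu =>
    mem_centralizer_singleton_iff.2 (by rw [eq_comm, ← mul_inv_eq_iff_eq_mul, h.emb₁.act_z a, hu, map_one])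
  have q1 : 1 < Nat.card F := Finite.one_lt_card
  have m : Nat.card F ^ ((k + 1) * (k + 1 + 1) / 2) ≤
      Nat.card (Eg C φ₁ (flag b (k + 1)) ⊓ centralizer {s} : Subgroup G) * Nat.card X₂ :=
    (Nat.pow_le_pow_iff_left two_ne_zero).1 (by rw [mul_pow, sq]; exact Nat.mul_le_mul n1 n2)
  have m1 := (Nat.mul_le_mul_left 2 m).trans b3
  have me : z C φ₁ e 1 ∈ Eg C φ₁ (flag b (k + 1)) ⊓ centralizer {s} ⊔ X₂ ⊔ zpowers s :=
    mem_sup_left (mem_sup_left ⟨h.emb₁.τ_mem_E (hm.ti_flag hb le_rfl) em (zero_mem _) 1, zc he⟩)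
  have le : Eg C φ₁ (flag b k) ⊓ centralizer {s} ⊔ X₂ ⊔ zpowers s ≤
      Eg C φ₁ (flag b (k + 1)) ⊓ centralizer {s} ⊔ X₂ ⊔ zpowers s :=
    sup_le_sup_right (sup_le_sup_right (inf_le_inf_right _ (h.emb₁.E_mono (UN.flag_mono b k.le_succ))) _) _
  have cw : Eg C φ₁ (flag b k) ⊓ centralizer {s} ⊔ X₂ ⊔ zpowers s ≤ centralizer {z C φ₁ f 1} :=
    sup_le (sup_le (fun x hx => mem_centralizer_singleton_iff.2 (h.emb₁.E_cent (hm.ti_flag hb k.le_succ)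
      hx.1 _ (h.emb₁.τ_mem_Y (map_zero _) fm (zero_mem _) 1)).symm) fun x hx =>
        mem_centralizer_singleton_iff.2 (h.cm ⟨_, rfl⟩ (l2 hx)).symm)
      (zpowers_le.2 (mem_centralizer_singleton_iff.2 (mem_centralizer_singleton_iff.1 (zc hf)).symm))
  generalize Eg C φ₁ (flag b (k + 1)) ⊓ centralizer {s} ⊔ X₂ ⊔ zpowers s = B at *
  have m2 := H.big_inf hk b1 b2 m1 (B' := Tech.cj (z C φ₁ f 1) B)
    (Tech.cj_le_iff.2 fun x hx => mul_mem (mul_mem (zc hf) (b1 hx)) (inv_mem (zc hf)))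
    (fun x hx => by
      obtain ⟨x, hx, rfl⟩ := hx
      rw [← map_mul, b2 x hx, map_one]) (by rwa [Tech.card_cj]) fun c => by
      have c1 : z C φ₁ f 1 * z C φ₁ e 1 * (z C φ₁ f 1)⁻¹ ∈ B := c ▸ Tech.conj_mem_cj.2 me
      have c2 := inv_eq_of_mul_eq_one_right (b2 _ (mul_mem c1 me))
      rw [mul_inv_rev, inv_eq_of_mul_eq_one_right (b2 _ c1), inv_eq_of_mul_eq_one_right (b2 _ me), z, z,
        ← map_inv, ← map_mul, ← map_mul, ← map_mul, ← map_mul, hm.T_conj _ (map_zero _), map_zero] at c2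
      have c3 := congrArg (P.B f) (hm.fix_of_comm one_ne_zero (h.emb₁.inj c2).symm)
      simp [hm.z_app, ef, hm.B_self, P.B_add_left, hm.B_comm e f] at c3
  have m3 := b0.trans ((card_le_of_le (le_inf le fun x hx => Tech.mem_cj.2 (by
    rw [mul_assoc, mem_centralizer_singleton_iff.1 (cw hx), inv_mul_cancel_left]; exact le hx))).trans m2)
  have m4 := (Nat.mul_le_mul n0 n2).trans ((mul_pow _ _ _).ge.trans
    (Nat.pow_le_pow_left (Nat.le_of_mul_le_mul_left m3 two_pos) 2))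
  rw [← pow_add, ← pow_mul, Nat.pow_le_pow_iff_right q1, mx_tri, Nat.add_sub_cancel] at m4
  omega

theorem isU (hG : SLE.Glob Gs t) (hL : φ.range ≤ Gs) : UFP.U (normalizer (GA φ y : Set G)) t := by
  refine ⟨h.t2, h.toHA.t_norm, fun g hg => h.native hg fun h1 => ?_⟩
  have h2 := h.norm2 hg h1
  have s2 := (h.toSit.cj g).t2
  rcases h.emb₁.invol h1 s2 with ⟨p, p2, c, hc, -, e1⟩ | ⟨α, γ, k, k1, k2, k3⟩ <;>
    rcases h.emb₂.invol h2 s2 with ⟨q, q2, d, hd, -, e2⟩ | ⟨α', γ', l, l1, l2, l3⟩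
  · have hp : φ₁ p ∈ φ₁.range := ⟨p, rfl⟩
    have hq : φ₂ q ∈ φ₂.range := ⟨q, rfl⟩
    have h3 : (φ₁ p * φ₂ q)⁻¹ * (g * t * g⁻¹) ∈ Gs := hG.mem_of_odd
      (h.odd_W (c := (φ₁ p * φ₂ q)⁻¹ * (g * t * g⁻¹))
        (by rw [mul_inv_rev, mul_assoc, e1, inv_mul_cancel_left]; exact mul_mem (inv_mem (h.c21 hq)) hc)
        (by
          rw [h.cm hp hq, mul_inv_rev, mul_assoc, e2, inv_mul_cancel_left]
          exact mul_mem (inv_mem (h.flip.c21 hp)) hd))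
      (by rw [pow_orderOf_eq_one]; exact one_mem _)
    rw [mul_mem_cancel_left (inv_mem (mul_mem (hG.pf_le h.emb₁.perf hp) (hG.pf_le h.emb₂.perf hq)))] at h3
    exact h.not_mem hG (by simpa [mul_assoc] using hG.nrm.conj_mem _ h3 g⁻¹)
  · exact h.not_mixed p2 hc e1 l l1 l2 l3
  · exact h.flip.not_mixed q2 hd e2 k k1 k2 k3
  · exact h.not_fld k k1 k2 k3 l l1 l2 l3

end AP

end CfsgLib.SPC
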