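import Cfsg.Agent.Lib.SPC.Defs

/-!
# Standard components of symplectic type in characteristic two: intermediate structures
-/

set_option autoImplicit false

namespace CfsgLib.SPC

open Subgroup Module CfsgLib.Forms CfsgLib.LieMult
open CfsgLib.HX (Std CO Two Mv M2)
open CfsgLib.UN (AV SI TI HH Rad Stb Yg Rg Eg Act nu)
open CfsgLib.ClSys (II)
open Submodule (span)

universe u

variable {F : Type} [Field F] {V : Type} [AddCommGroup V] [Module F V]
  {P : PQ (RingHom.id F) V} {S : Type} [Group S] {G : Type u} [Group G]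

/-- the configuration: `e, u, v` span a totally isotropic plane, `c` is a partner of `u` -/
structure Cf (P : PQ (RingHom.id F) V) (e u v c : V) : Prop where
  ln : Ln P u v
  nmem : e ∉ span F {u, v}
  eu : P.B e u = 0
  ev : P.B e v = 0
  ec : P.B e c = 0
  cv : P.B c v = 0
  cu : P.B c u = 1

section
variable (C : CG P S) (φ : S →* G)

/-- `B (ν v) v = 0` -/
def Alt (s : S) : Prop := ∀ v, P.B (nu C s v) v = 0

/-- `p` centralises `Q_e`, normalises `Y_e ⟨t⟩` and moves `t` to `t z_e` -/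
structure Pz1 (t : G) (e : V) (p : G) : Prop where
  cQ : p ∈ centralizer (Rg C φ (span F {e}) : Set G)
  nY : p ∈ normalizer ((Yg C φ (span F {e}) ⊔ zpowers t : Subgroup G) : Set G)
  pt : p * t * p⁻¹ = t * z C φ e 1

/-- `Pz` without `CO` -/
structure Pz0 (t : G) (e : V) (p : G) : Prop where
  cQ : p ∈ centralizer (Rg C φ (span F {e}) : Set G)
  nY : p ∈ normalizer (Yg C φ (span F {e}) : Set G)
  pt : p * t * p⁻¹ = t * z C φ e 1

/-- `MZ` without `CO` -/
structure MZ0 (t : G) : Prop extends Sit C φ t where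
  two' : Two φ.range t
  mv : ∀ e, ∃ p, Pz0 C φ t e p

/-- the action of `p` on the transvections of `Y_e` -/
structure Coc (e : V) (p : G) (l c : V → F) : Prop where
  act : ∀ v, P.B e v = 0 → v ∉ span F {e} →
    p * z C φ v 1 * p⁻¹ = z C φ v 1 * τ C φ e (l v • v) (c v)
  shift : ∀ v (μ : F), P.B e v = 0 → v ∉ span F {e} → l (v + μ • e) = l v ∧ c (v + μ • e) = c v
  line : ∀ v (μ μ' : F), P.B e v = 0 → v ∉ span F {e} → μ ≠ 0 → μ' ≠ 0 → μ + μ' ≠ 0 →
    l ((μ + μ') • v) * (μ + μ') = l (μ • v) * μ + l (μ' • v) * μ' ∧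
      c ((μ + μ') • v) = c (μ • v) + c (μ' • v)
  tv : ∀ u v, P.B e u = 0 → P.B e v = 0 → P.B u v ≠ 0 →
    l (v + P.B u v • u) = l v + P.B u v * l u ∧
      c (v + P.B u v • u) = c v + P.B u v * P.B u v * (l u * l u)

/-- type D: `p` acts like `ρ(e, σ w)` -/
structure PD (t : G) (Q : V → F) (e : V) (σ : F) (p : G) : Prop where
  cQ : p ∈ centralizer (Rg C φ (span F {e}) : Set G)
  pt : p * t * p⁻¹ = t * z C φ e (σ * σ)
  yz : ∀ v (r : F), P.B e v = 0 → r * r = Q v →
    p * z C φ v 1 * p⁻¹ = z C φ v 1 * τ C φ e ((σ * (1 + r)) • v) (σ * σ * (r * r))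

/-- the involutions among them -/
structure JD (t : G) (Q : V → F) (e : V) (σ : F) (p : G) : Prop extends PD C φ t Q e σ p where
  co : CO φ.range t p
  sq : p * p = 1

/-- type D with a quadratic form -/
structure MD (t : G) (Q : V → F) : Prop extends MZ0 C φ t where
  qf : QF P Q
  pd : ∀ e σ, Q e = 0 → ∃ p, PD C φ t Q e σ p

/-- `p` normalises `Y_l ⟨t⟩` and is trivial on `R_l ⟨t⟩ / E(l) ⟨t⟩` -/
structure Kl (t : G) (e a : V) (p : G) : Prop where
  nY : p ∈ normalizer ((Yg C φ (span F {e, a}) ⊔ zpowers t : Subgroup G) : Set G)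
  triv : ∀ r ∈ Rg C φ (span F {e, a}), p * r * p⁻¹ * r⁻¹ ∈ Eg C φ (span F {e, a}) ⊔ zpowers t

/-- `p` normalises `Y_l ⟨t⟩`, centralises `R_l` and moves `t` to `t x(e, a)` -/
structure P1 (t : G) (e a : V) (p : G) : Prop where
  nY : p ∈ normalizer ((Yg C φ (span F {e, a}) ⊔ zpowers t : Subgroup G) : Set G)
  cR : p ∈ centralizer (Rg C φ (span F {e, a}) : Set G)
  pt : p * t * p⁻¹ = t * x C φ e a

/-- `p` centralises `Y_l` and moves `t` to `t x(e, a)` -/
structure P0 (t : G) (e a : V) (p : G) : Prop where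
  cY : p ∈ centralizer (Yg C φ (span F {e, a}) : Set G)
  pt : p * t * p⁻¹ = t * x C φ e a

/-- the involutions among them -/
structure Iv (t : G) (e a : V) (p : G) : Prop extends P0 C φ t e a p where
  co : CO φ.range t p
  sq : p * p = 1

/-- `t ~ t a` -/
structure MA0 (t : G) : Prop extends Sit C φ t where
  two' : Two φ.range t
  mv : ∀ e a, Ln P e a → ∃ p, P0 C φ t e a p

/-- `t ~ t a`, the commutators of the involutions with root elements are known -/
structure MA1 (t : G) : Prop extends Sit C φ t where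
  two' : Two φ.range t
  mv : ∀ e a, Ln P e a → ∃ p, Iv C φ t e a p
  nn : ∀ e u v c p', Cf P e u v c → Iv C φ t u v p' → ∃ p, ∃ α : F, Iv C φ t e v p ∧
    x C φ e c * p' * x C φ e c * p' = p * x C φ u (α • e)

/-- the normalised hats -/
structure HW1 (t : G) (w : V → V → G) (κ : F) : Prop extends Sit C φ t where
  two' : Two φ.range t
  mv : ∀ e a, P.B e a = 0 → Mv φ.range (Yg C φ (span F {e, a})) t (x C φ e a) (w e a)
  sq : ∀ e a, P.B e a = 0 → w e a * w e a = 1
  eqv : ∀ l e a, P.B e a = 0 → φ l * w e a * (φ l)⁻¹ = w (C.act l e) (C.act l a)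
  dep : ∀ e (μ : F), w e (μ • e) = z C φ e (κ * μ)
  zero : ∀ a, w 0 a = 1
  shift : ∀ e a μ, P.B e a = 0 → w e (a + μ • e) = w e a * z C φ e (κ * μ)
  smul : ∀ e a (l : F), P.B e a = 0 → w (l • e) a = w e (l • a)
  symm : ∀ e a, P.B e a = 0 → w a e = w e a * x C φ e (κ • a)
  wQ : ∀ e a b c, P.B e a = 0 → P.B e b = 0 →
    w e a * τ C φ e b c * w e a = τ C φ e b (c + κ * P.B a b)
  nn : ∀ e u v c, Cf P e u v c → Iv C φ t e v (x C φ e c * w v u * x C φ e c * w v u)

/-- additivity -/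
structure HW2 (t : G) (w : V → V → G) (κ : F) : Prop extends HW1 C φ t w κ where
  add : ∀ e a b, P.B e a = 0 → P.B e b = 0 → P.B a b = 0 → w e (a + b) = w e a * w e b
  com : ∀ e a b, P.B e a = 0 → P.B e b = 0 → Commute (w e a) (w e b)
  cx : ∀ u v e c, P.B u v = 0 → P.B e u = 0 → P.B e v = 0 → P.B e c = 0 →
    w u v * x C φ e c * w u v = x C φ e c * w e (P.B c u • v + P.B c v • u) *
      x C φ e ((κ * P.B c v) • u) * z C φ e (κ * P.B c u * P.B c v)

/-- the defect of additivity -/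
structure Del (t : G) (w : V → V → G) (κ : F) (Δ : V → F → G) : Prop where
  ww : ∀ e a b, P.B e a = 0 → P.B e b = 0 → w e a * w e b = w e (a + b) * Δ e (P.B a b)
  mv : ∀ e β, Mv φ.range (Yg C φ (span F {e})) t (z C φ e ((1 + κ) * β)) (Δ e β)
  add : ∀ e β β', Δ e (β + β') = Δ e β * Δ e β'
  smul : ∀ e β (l : F), Δ (l • e) β = Δ e (l * l * β)
  eqv : ∀ l e β, φ l * Δ e β * (φ l)⁻¹ = Δ (C.act l e) β
  com : ∀ e a β, P.B e a = 0 → Commute (Δ e β) (w e a)

/-- the basic commutator of two hats -/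
def W6 (w : V → V → G) (δ : F) : Prop := ∀ e u v c, Cf P e u v c →
  w u v * w e c * w u v = w e c * w e v * x C φ e (δ • v)

/-- type C: `p` centralises `Y_e` and the `w e a` -/
structure UC (t : G) (w : V → V → G) (e : V) (p : G) : Prop where
  cY : p ∈ centralizer (Yg C φ (span F {e}) : Set G)
  pt : p * t * p⁻¹ = t * z C φ e 1
  cw : ∀ a, P.B e a = 0 → Commute p (w e a)

/-- type C before the last normalisation -/
structure HC1 (t : G) (w : V → V → G) (u : V → G) (δ ρ : F) : Prop extends HW C φ t w 1 δ where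
  umv : ∀ e, Mv φ.range (Yg C φ (span F {e})) t (z C φ e 1) (u e)
  usq : ∀ e, u e * u e = z C φ e ρ
  zero : u 0 = 1
  ueqv : ∀ l e, φ l * u e * (φ l)⁻¹ = u (C.act l e)
  uw : ∀ e a b, P.B e a = 0 → P.B e b = 0 → P.B a b = 0 → Commute (u e) (w a b)

end

end CfsgLib.SPC
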