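import Cfsg.Agent.Lib.SPC.Max
import Cfsg.Agent.Lib.SPC.Loc
import Cfsg.Agent.Lib.SPC.Defs2

/-! t ~ t z: an element centralising Q_e -/

set_option autoImplicit false
set_option linter.unusedSectionVars false

namespace CfsgLib.SPC

open Subgroup Module CfsgLib.Forms CfsgLib.LieMult
open CfsgLib.HX (Std CO Two Mv M2)
open CfsgLib.UN (AV SI TI HH Rad Stb Yg Rg Eg Act nu)
open CfsgLib.ClSys (II)
open Submodule (span)
open scoped commutatorElement Pointwise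

universe u

variable {F : Type} [Field F] [Finite F] {V : Type} [AddCommGroup V] [Module F V]
  [FiniteDimensional F V] {P : PQ (RingHom.id F) V} {S : Type} [Group S] [Finite S] {G : Type u}
  [Group G] [Finite G] {C : CG P S} {φ : S →* G} {t : G}

/-- `n` acts on `Q_e / Z_e` as `θ` -/
structure MzQ (C : CG P S) (φ : S →* G) (e : V) (n : G) (θ : V → V) : Prop where
  perp : ∀ a, P.B e a = 0 → P.B e (θ a) = 0
  act : ∀ a c, P.B e a = 0 → ∃ c', n * τ C φ e a c * n⁻¹ = τ C φ e (θ a) c'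

/-- `g` commutes with the action of `Y_e` on `Q_e` -/
def MzC (C : CG P S) (φ : S →* G) (e : V) (g : G) : Prop :=
  ∀ s, C.act s e = e → ∀ r ∈ Rg C φ (span F {e}),
    g * (φ s * r * (φ s)⁻¹) * g⁻¹ = φ s * (g * r * g⁻¹) * (φ s)⁻¹

theorem Mod.mza_perp (h : Mod C) {e a : V} : a ∈ P.perp (span F {e}) ↔ P.B e a = 0 := by
  rw [h.mem_perp_span]; simp

theorem Mod.mza_B (h : Mod C) {e a u : V} (hu : u ∈ span F {e}) (k : P.B e a = 0) :
    P.B u a = 0 := by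
  obtain ⟨c, rfl⟩ := Submodule.mem_span_singleton.1 hu
  rw [h.B_smul_left, k, mul_zero]

theorem Mod.mza_nmem (h : Mod C) {e a f : V} (k : P.B e f = 0) (k' : P.B a f ≠ 0) :
    a ∉ span F {e} := fun hu => k' (h.mza_B hu k)

theorem Mod.mza_act {s : S} {e a : V} (hs : C.act s e = e) (k : P.B e a = 0) :
    P.B e (C.act s a) = 0 := by rw [← hs, C.B_act, k]

/-- two further hyperbolic pairs orthogonal to `e` -/
theorem Mod.mza_h3 (h : Mod C) {e : V} (h0 : e ≠ 0) : ∃ a a' b b', P.B e a = 0 ∧ P.B e a' = 0 ∧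
    P.B e b = 0 ∧ P.B e b' = 0 ∧ P.B a a' = 1 ∧ P.B b b' = 1 ∧ P.B a b = 0 ∧ P.B a b' = 0 ∧
    P.B a' b = 0 ∧ P.B a' b' = 0 := by
  obtain ⟨f, hf⟩ := h.exists_hp h0
  obtain ⟨a, a', k⟩ := h.exists_hh hf
  obtain ⟨b, b', k3⟩ := h.exists_h3 k
  exact ⟨a, a', b, b', k.ee, k.ef, k3.h13.ee, k3.h13.ef, k.h₂.ef, k3.h13.h₂.ef, k3.h23.ee,
    k3.h23.ef, k3.h23.fe, k3.h23.ff⟩

namespace Emb

variable (h : Emb C φ) {e : V} {n : G} {θ : V → V}
include h

theorem mza_congr {a b : V} (k : P.B e a = 0) (H : a + b ∈ span F {e}) (c : F) :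
    τ C φ e b c = τ C φ e a c := by
  obtain ⟨l, hl⟩ := Submodule.mem_span_singleton.1 H
  have : b = a + l • e := by rw [hl, ← add_assoc, h.vadd_self, zero_add]
  rw [this, h.τ_shift k]

theorem mza_Y {s : S} (hs : C.act s e = e) : φ s ∈ Yg C φ (span F {e}) :=
  mem_map_of_mem φ (mem_fix_pt.2 hs)

theorem mza_mem (h0 : e ≠ 0) {a : V} (k : P.B e a = 0) (c : F) :
    τ C φ e a c ∈ Rg C φ (span F {e}) := (h.mem_Q h0).2 ⟨a, c, k, rfl⟩

theorem mza_QL : Rg C φ (span F {e}) ≤ φ.range := h.R_le_Y.trans h.Y_le_L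

theorem mza_conj {s : S} (hs : C.act s e = e) {a : V} (k : P.B e a = 0) (c : F) :
    φ s * τ C φ e a c * (φ s)⁻¹ = τ C φ e (C.act s a) c := by rw [h.τ_conj s k, hs]

theorem mza_exists (h0 : e ≠ 0) (h1 : n ∈ normalizer (Rg C φ (span F {e}) : Set G))
    (h2 : n ∈ normalizer (Eg C φ (span F {e}) : Set G)) : ∃ θ, MzQ C φ e n θ := by
  have H : ∀ a, ∃ b, P.B e a = 0 → P.B e b = 0 ∧
      ∀ c, ∃ c', n * τ C φ e a c * n⁻¹ = τ C φ e b c' := by
    intro a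
    by_cases k : P.B e a = 0
    · obtain ⟨b, d, k', e1⟩ := (h.mem_Q h0).1 ((mem_normalizer_iff.1 h1 _).1 (h.mza_mem h0 k 0))
      refine ⟨b, fun _ => ⟨k', fun c => ?_⟩⟩
      obtain ⟨r, e2⟩ := h.mem_Z.1 ((mem_normalizer_iff.1 h2 _).1 (h.mem_Z.2 ⟨c, rfl⟩))
      refine ⟨d + r + P.B b 0, ?_⟩
      have e3 := h.τ_mul k' (b := 0) (by simp) d r
      rw [add_zero] at e3
      rw [← e3, ← e1, h.τ_eq k c]
      calc n * (x C φ e a * z C φ e c) * n⁻¹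
          = n * x C φ e a * n⁻¹ * (n * z C φ e c * n⁻¹) := by group
        _ = _ := by rw [e2]; rfl
    · exact ⟨0, fun k' => absurd k' k⟩
  choose θ hθ using H
  exact ⟨θ, fun a k => (hθ a k).1, fun a c k => (hθ a k).2 c⟩

theorem mza_add (h0 : e ≠ 0) (q : MzQ C φ e n θ) {a b : V} (k : P.B e a = 0) (k' : P.B e b = 0) :
    θ (a + b) + θ a + θ b ∈ span F {e} := by
  have k'' : P.B e (a + b) = 0 := by rw [P.B_add_right, k, k', add_zero]
  obtain ⟨c, e1⟩ := q.act a 0 k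
  obtain ⟨d, e2⟩ := q.act b 0 k'
  obtain ⟨r, e3⟩ := q.act (a + b) (0 + 0 + P.B a b) k''
  rw [← h.τ_mul k k'] at e3
  have e4 : τ C φ e (θ (a + b)) r = τ C φ e (θ a) c * τ C φ e (θ b) d := by
    rw [← e1, ← e2, ← e3]; group
  rw [h.τ_mul (q.perp a k) (q.perp b k'), h.τ_eq_iff h0 (q.perp _ k'')
    (by rw [P.B_add_right, q.perp a k, q.perp b k', add_zero])] at e4
  rw [add_assoc]; exact e4.1

theorem mza_zero (h0 : e ≠ 0) (q : MzQ C φ e n θ) {a : V} (ha : a ∈ span F {e}) :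
    θ a ∈ span F {e} := by
  have k : P.B e a = 0 := by rw [h.B_comm]; exact h.mza_B ha (h.B_self e)
  obtain ⟨c, e1⟩ := q.act a 0 k
  rw [(h.τ_eq_one h0 k).2 ⟨ha, rfl⟩, mul_one, mul_inv_cancel] at e1
  exact ((h.τ_eq_one h0 (q.perp a k)).1 e1.symm).1

/-- two elements of `Y_e` with the same action on `e^⊥ / e` act alike on `Q_e` -/
theorem mza_same (h0 : e ≠ 0) {s s' : S} (hs : C.act s e = e) (hs' : C.act s' e = e)
    (H : ∀ a, P.B e a = 0 → C.act s a + C.act s' a ∈ span F {e}) {r : G}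
    (hr : r ∈ Rg C φ (span F {e})) : φ s' * r * (φ s')⁻¹ = φ s * r * (φ s)⁻¹ := by
  obtain ⟨a, c, k, rfl⟩ := (h.mem_Q h0).1 hr
  rw [h.mza_conj hs k, h.mza_conj hs' k, h.mza_congr (Mod.mza_act hs k) (H a k)]

/-- the torus centralising `Y_e / Q_e` -/
theorem mza_diag (h0 : e ≠ 0) {l : F} (hl : l ≠ 0) : ∃ d : S,
    (∀ a c, P.B e a = 0 → φ d * τ C φ e a c * (φ d)⁻¹ = τ C φ e (l • a) (l * l * c)) ∧
      ∀ v, C.act d v ∈ span F {e} ↔ v ∈ span F {e} := by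
  obtain ⟨f, hf⟩ := h.exists_hp h0
  obtain ⟨d, -, d1, -, d3⟩ := h.exists_diag1 hf hl
  refine ⟨d, fun a c k => ?_, fun v => ⟨fun hv => ?_, fun hv => ?_⟩⟩
  · obtain ⟨w, w1, w2, w3⟩ := h.hp_decomp hf a
    rw [k, zero_smul, add_zero] at w3
    have k1 : P.B e (C.act d a) = 0 := by
      have := C.B_act d e a
      rw [d1, h.B_smul_left, k] at this
      exact (mul_eq_zero.1 this).resolve_left hl
    rw [h.τ_conj d k, d1, h.τ_smul k1]
    refine h.mza_congr (by rw [P.B_smul_right, k, mul_zero]) ?_ _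
    have e1 : C.act d a = w + (P.B f a * l) • e := by
      conv_lhs => rw [w3, map_add, map_smul, d3 w w1 w2, d1, smul_smul]
    rw [← smul_add, e1]
    refine Submodule.smul_mem _ _ (Submodule.mem_span_singleton.2 ⟨P.B f a + P.B f a * l, ?_⟩)
    conv_rhs => rw [w3]
    rw [← w3, add_smul]
    conv_rhs => rw [w3]
    rw [← w3]
    calc P.B f a • e + (P.B f a * l) • e = (w + w) + (P.B f a • e + (P.B f a * l) • e) := by
          rw [h.vadd_self, zero_add]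
      _ = (w + P.B f a • e) + (w + (P.B f a * l) • e) := by abel
      _ = _ := by rw [← w3]
  · obtain ⟨c, hc⟩ := Submodule.mem_span_singleton.1 hv
    refine Submodule.mem_span_singleton.2 ⟨c * l⁻¹, (C.act d).injective ?_⟩
    rw [map_smul, d1, smul_smul, ← hc, mul_assoc, inv_mul_cancel₀ hl, mul_one]
  · obtain ⟨c, rfl⟩ := Submodule.mem_span_singleton.1 hv
    rw [map_smul, d1]
    exact Submodule.smul_mem _ _ (Submodule.smul_mem _ _ (Submodule.mem_span_singleton_self e))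

end Emb

namespace Sit

variable (h : Sit C φ t) {e : V} {p : G}
include h

theorem mza_nY (hn : p ∈ normalizer ((Yg C φ (span F {e}) ⊔ zpowers t : Subgroup G) : Set G))
    {s : S} (hs : C.act s e = e) : ∃ s', C.act s' e = e ∧
      (p * φ s * p⁻¹ = φ s' ∨ p * φ s * p⁻¹ = t * φ s') := by
  have hE := h.toEmb
  have := (mem_normalizer_iff.1 hn _).1 (mem_sup_left (hE.mza_Y hs))
  rcases (h.mem_sup_t hE.Y_le_L).1 this with ⟨s', h1, h2⟩ | ⟨s', h1, h2⟩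
  · exact ⟨s', mem_fix_pt.1 h1, Or.inl h2.symm⟩
  · exact ⟨s', mem_fix_pt.1 h1, Or.inr (by rw [h2, ← mul_assoc, h.t2, one_mul])⟩

theorem mza_tc {g : G} (hg : g ∈ φ.range) : t * g * t⁻¹ = g := by
  rw [← h.tL hg, mul_inv_cancel_right]

theorem mza_nY' (hn : p ∈ normalizer ((Yg C φ (span F {e}) ⊔ zpowers t : Subgroup G) : Set G))
    {s : S} (hs : C.act s e = e) : ∃ s', C.act s' e = e ∧
      (p * φ s * p⁻¹ = φ s' ∨ p * φ s * p⁻¹ = t * φ s') ∧ ∀ g : G, p * g * p⁻¹ ∈ φ.range →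
        p * (φ s * g * (φ s)⁻¹) * p⁻¹ = φ s' * (p * g * p⁻¹) * (φ s')⁻¹ := by
  obtain ⟨s', h1, h2⟩ := h.mza_nY hn hs
  refine ⟨s', h1, h2, fun g hg => ?_⟩
  have e1 : p * (φ s * g * (φ s)⁻¹) * p⁻¹ =
      p * φ s * p⁻¹ * (p * g * p⁻¹) * (p * φ s * p⁻¹)⁻¹ := by group
  rcases h2 with h2 | h2
  · rw [e1, h2]
  · rw [e1, h2, ← h.mza_tc (g := φ s' * (p * g * p⁻¹) * (φ s')⁻¹)
      (mul_mem (mul_mem ⟨s', rfl⟩ hg) (inv_mem ⟨s', rfl⟩))]
    group

theorem mza_norm {U : Submodule F V} {d : S} (hd : ∀ v, C.act d v ∈ U ↔ v ∈ U) :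
    φ d ∈ normalizer ((Yg C φ U ⊔ zpowers t : Subgroup G) : Set G) := by
  have hE := h.toEmb
  refine mem_normalizer_fintype fun g hg => ?_
  rcases (h.mem_sup_t hE.Y_le_L).1 hg with k | k
  · exact mem_sup_left ((hE.conj_Y d hd).1.2 k)
  · refine (h.mem_sup_t hE.Y_le_L).2 (Or.inr ?_)
    have := (hE.conj_Y d hd).1.2 k
    rwa [← mul_assoc, h.tl d, mul_assoc t, mul_assoc t] at this

theorem mza_nu (hz : Tz C φ t) (h0 : e ≠ 0) :
    ∃ n ∈ normalizer ((Yg C φ (span F {e}) ⊔ zpowers t : Subgroup G) : Set G),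
      n * t * n⁻¹ = t * z C φ e 1 := by
  obtain ⟨g, hg⟩ := (h.tz_iff h0 one_ne_zero).1 hz
  obtain ⟨n, h1, h2⟩ := h.nu (h.ti_pt e) (g := g) (by
    rw [hg]
    exact mul_mem (mem_sup_right (mem_zpowers t)) (mem_sup_left (h.toEmb.mem_Z.2 ⟨1, rfl⟩)))
  exact ⟨n, h1, h2.trans hg⟩

/-- trivial on `Q_e / Z_e` implies trivial on `Q_e` -/
theorem cQ_of (h0 : e ≠ 0) (hn : p ∈ normalizer ((Yg C φ (span F {e}) ⊔ zpowers t : Subgroup G) : Set G))
    (h1 : ∀ r ∈ Rg C φ (span F {e}), p * r * p⁻¹ * r⁻¹ ∈ Eg C φ (span F {e})) :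
    p ∈ centralizer (Rg C φ (span F {e}) : Set G) := by
  have hE := h.toEmb
  have T : ∀ a, ∃ c', P.B e a = 0 → p * τ C φ e a 0 * p⁻¹ = τ C φ e a c' := by
    intro a
    by_cases k : P.B e a = 0
    · obtain ⟨r, hr⟩ := hE.mem_Z.1 (h1 _ (hE.mza_mem h0 k 0))
      refine ⟨r + 0 + P.B 0 a, fun _ => ?_⟩
      have e3 := hE.τ_mul (e := e) (a := 0) (by simp) k r 0
      rw [zero_add] at e3
      rw [← e3, ← mul_inv_eq_iff_eq_mul, hr]; rfl
    · exact ⟨0, fun k' => absurd k' k⟩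
  choose f hf using T
  have inv : ∀ s, C.act s e = e → ∀ a, P.B e a = 0 → f (C.act s a) = f a := by
    intro s hs a k
    obtain ⟨s', h2, -, h3⟩ := h.mza_nY' hn hs
    have k1 := Mod.mza_act hs k
    have := h3 (τ C φ e a 0) (by rw [hf a k]; exact ⟨_, rfl⟩)
    rw [hE.mza_conj hs k, hf _ k1, hf a k, hE.mza_conj h2 k,
      hE.τ_eq_iff h0 k1 (Mod.mza_act h2 k)] at this
    exact this.2
  have add : ∀ a b, P.B e a = 0 → P.B e b = 0 → P.B a b = 0 → f (a + b) = f a + f b := by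
    intro a b k k' k''
    have k3 : P.B e (a + b) = 0 := by rw [P.B_add_right, k, k', add_zero]
    have e1 := hE.τ_mul k k' 0 0
    rw [k'', add_zero, add_zero] at e1
    have e2 : τ C φ e (a + b) (f (a + b)) = τ C φ e a (f a) * τ C φ e b (f b) := by
      rw [← hf _ k3, ← hf _ k, ← hf _ k', ← e1]; group
    rw [hE.τ_mul k k', k'', add_zero, hE.τ_eq_iff h0 k3 k3] at e2
    exact e2.2
  obtain ⟨a, a', b, b', ea, ea', eb, eb', aa, bb, ab, ab', a'b, a'b'⟩ := h.mza_h3 h0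
  have con : ∀ u, P.B e u = 0 → u ∉ span F {e} → f u = f a := by
    intro u k hu
    obtain ⟨s, s1, s2⟩ := h.trans_Y (h.ti_pt e) (h.mza_perp.2 ea) (h.mza_perp.2 k)
      (h.mza_nmem ea' (by rw [aa]; exact one_ne_zero)) hu
    rw [← s2, inv s (mem_fix_pt.1 s1) a ea]
  have f0 : f a = 0 := by
    have e1 := add a b ea eb ab
    rw [con b eb (h.mza_nmem eb' (by rw [bb]; exact one_ne_zero)), con (a + b)
      (by rw [P.B_add_right, ea, eb, add_zero]) (h.mza_nmem eb'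
        (by rw [P.B_add_left, ab', bb, zero_add]; exact one_ne_zero)), h.add_self] at e1
    exact e1
  have cx : ∀ u, P.B e u = 0 → p * x C φ e u * p⁻¹ = x C φ e u := by
    intro u k
    by_cases hu : u ∈ span F {e}
    · have : x C φ e u = 1 := (hE.τ_eq_one h0 k).2 ⟨hu, rfl⟩
      rw [this, mul_one, mul_inv_cancel]
    · have := hf u k
      rwa [con u k hu, f0] at this
  have cz : ∀ c, p * z C φ e c * p⁻¹ = z C φ e c := by
    intro c
    have k1 : P.B e (c • a') = 0 := by rw [P.B_smul_right, ea', mul_zero]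
    have k2 : P.B e (a + c • a') = 0 := by rw [P.B_add_right, ea, k1, add_zero]
    have e1 := hE.x_mul ea k1
    rw [P.B_smul_right, aa, mul_one] at e1
    have e2 : z C φ e c = (x C φ e (a + c • a'))⁻¹ * (x C φ e a * x C φ e (c • a')) := by
      rw [e1, inv_mul_cancel_left]
    rw [e2]
    calc _ = (p * x C φ e (a + c • a') * p⁻¹)⁻¹ *
          (p * x C φ e a * p⁻¹ * (p * x C φ e (c • a') * p⁻¹)) := by group
      _ = _ := by rw [cx _ k2, cx _ ea, cx _ k1]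
  refine mem_centralizer_iff.2 fun r hr => ?_
  obtain ⟨u, c, k, rfl⟩ := (hE.mem_Q h0).1 hr
  have : p * τ C φ e u c * p⁻¹ = τ C φ e u c := by
    rw [hE.τ_eq k]
    calc _ = p * x C φ e u * p⁻¹ * (p * z C φ e c * p⁻¹) := by group
      _ = _ := by rw [cx u k, cz c]
  rw [← mul_inv_eq_iff_eq_mul.1 this]

theorem mza_cQ (h0 : e ≠ 0)
    (hn : p ∈ normalizer ((Yg C φ (span F {e}) ⊔ zpowers t : Subgroup G) : Set G))
    (h1 : ∀ a c, P.B e a = 0 → ∃ c', p * τ C φ e a c * p⁻¹ = τ C φ e a c') :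
    p ∈ centralizer (Rg C φ (span F {e}) : Set G) := by
  have hE := h.toEmb
  refine h.cQ_of h0 hn fun r hr => ?_
  obtain ⟨a, c, k, rfl⟩ := (hE.mem_Q h0).1 hr
  obtain ⟨c', e1⟩ := h1 a c k
  rw [e1, hE.τ_inv k, hE.τ_mul k k, h.vadd_self]
  exact hE.mem_Z.2 ⟨_, rfl⟩

theorem mza_cm {n d : G}
    (hn : n ∈ normalizer ((Yg C φ (span F {e}) ⊔ zpowers t : Subgroup G) : Set G))
    (h0 : e ≠ 0) (hd : d ∈ normalizer (Rg C φ (span F {e}) : Set G)) (k : MzC C φ e d) :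
    MzC C φ e (n * d * n⁻¹) := by
  have hE := h.toEmb
  intro s hs r hr
  have nQ := (h.norm_Q h0 (inv_mem hn)).1
  obtain ⟨s', h1, -, h2⟩ := h.mza_nY' (inv_mem hn) hs
  have r1 : n⁻¹ * r * n⁻¹⁻¹ ∈ Rg C φ (span F {e}) := (mem_normalizer_iff.1 nQ _).1 hr
  have r2 : d * (n⁻¹ * r * n⁻¹⁻¹) * d⁻¹ ∈ Rg C φ (span F {e}) := (mem_normalizer_iff.1 hd _).1 r1
  have e1 := h2 r (hE.mza_QL r1)
  have e2 := k s' h1 _ r1
  have e3 := h2 (n * (d * (n⁻¹ * r * n⁻¹⁻¹) * d⁻¹) * n⁻¹) (by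
    have := hE.mza_QL r2
    convert this using 1; group)
  calc n * d * n⁻¹ * (φ s * r * (φ s)⁻¹) * (n * d * n⁻¹)⁻¹
      = n * (d * (n⁻¹ * (φ s * r * (φ s)⁻¹) * n⁻¹⁻¹) * d⁻¹) * n⁻¹ := by group
    _ = n * (φ s' * (n⁻¹ * (n * (d * (n⁻¹ * r * n⁻¹⁻¹) * d⁻¹) * n⁻¹) * n⁻¹⁻¹) * (φ s')⁻¹) * n⁻¹ := by
        rw [e1, e2]; group
    _ = _ := by rw [← e3]; group

theorem pz1_big (hs : ¬ Small F) (hz : Tz C φ t) (h0 : e ≠ 0) : ∃ p, Pz1 C φ t e p := by
  have hE := h.toEmb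
  obtain ⟨n, hn, nt⟩ := h.mza_nu hz h0
  obtain ⟨l, l0, l1⟩ := h.exists_big hs
  obtain ⟨d, d1, d2⟩ := hE.mza_diag h0 l0
  have dn := h.mza_norm d2
  have kn : n * φ d * n⁻¹ ∈ normalizer ((Yg C φ (span F {e}) ⊔ zpowers t : Subgroup G) : Set G) :=
    mul_mem (mul_mem hn dn) (inv_mem hn)
  have dC : MzC C φ e (φ d) := by
    intro s hs r hr
    obtain ⟨a, c, k, rfl⟩ := (hE.mem_Q h0).1 hr
    rw [hE.mza_conj hs k, d1 _ _ (Mod.mza_act hs k), d1 _ _ k,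
      hE.mza_conj hs (by rw [P.B_smul_right, k, mul_zero]), map_smul]
  have kC := h.mza_cm hn h0 (h.norm_Q h0 dn).1 dC
  have kt : n * φ d * n⁻¹ * (t * z C φ e 1) * (n * φ d * n⁻¹)⁻¹ = t * z C φ e 1 := by
    rw [← nt]
    calc _ = n * (φ d * t * (φ d)⁻¹) * n⁻¹ := by group
      _ = _ := by rw [h.tl d, mul_inv_cancel_right]
  have kz : n * φ d * n⁻¹ * z C φ e 1 * (n * φ d * n⁻¹)⁻¹ ≠ z C φ e 1 := by
    intro e1
    obtain ⟨c, hc⟩ := hE.mem_Z.1 ((mem_normalizer_iff.1 (h.norm_Q h0 (inv_mem hn)).2 _).1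
      (hE.mem_Z.2 ⟨1, rfl⟩))
    have e2 : φ d * z C φ e c * (φ d)⁻¹ = z C φ e c := by
      rw [← hc]
      calc _ = n⁻¹ * (n * φ d * n⁻¹ * z C φ e 1 * (n * φ d * n⁻¹)⁻¹) * n⁻¹⁻¹ := by group
        _ = _ := by rw [e1]
    have e3 := d1 0 c (by simp)
    rw [smul_zero] at e3
    have e4 : l * l * c = c := hE.z_inj h0 (e3.symm.trans e2)
    have c0 : c ≠ 0 := by
      rintro rfl
      rw [hE.z_zero, mul_inv_eq_one, mul_eq_left] at hc
      exact (hE.z_eq_one.1 hc).elim h0 one_ne_zero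
    exact l1 (h.sq_inj (by rw [mul_one]; exact mul_right_cancel₀ c0 (by rw [e4, one_mul])))
  generalize n * φ d * n⁻¹ = k at kn kC kt kz
  obtain ⟨kQ, kZ⟩ := h.norm_Q h0 kn
  obtain ⟨θ, q⟩ := hE.mza_exists h0 kQ kZ
  obtain ⟨μ, hμ⟩ := h.scalar (h.ti_pt e) (θ := θ)
    (fun a ha => h.mza_perp.2 (q.perp a (h.mza_perp.1 ha)))
    (fun a ha b hb => hE.mza_add h0 q (h.mza_perp.1 ha) (h.mza_perp.1 hb))
    (fun a ha => hE.mza_zero h0 q ha) (fun v hv a ha c => by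
      have kv := h.mza_perp.1 hv
      have ka := h.mza_perp.1 ha
      have s1 : C.act (C.T v 0 c) e = e := by
        rw [h.z_app, h.B_comm v e, kv, mul_zero, zero_smul, add_zero]
      have e1 := kC _ s1 _ (hE.mza_mem h0 ka 0)
      obtain ⟨c1, e2⟩ := q.act a 0 ka
      obtain ⟨c2, e3⟩ := q.act _ 0 (Mod.mza_act s1 ka)
      rw [hE.mza_conj s1 ka, e3, e2, hE.mza_conj s1 (q.perp a ka), hE.τ_eq_iff h0
        (q.perp _ (Mod.mza_act s1 ka)) (Mod.mza_act s1 (q.perp a ka)), h.z_app, h.z_app] at e1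
      exact e1.1)
  have act : ∀ a c, P.B e a = 0 → ∃ c', k * τ C φ e a c * k⁻¹ = τ C φ e (μ • a) c' := by
    intro a c ka
    obtain ⟨c', e1⟩ := q.act a c ka
    exact ⟨c', by rw [e1, hE.mza_congr (q.perp a ka) (hμ a (h.mza_perp.2 ka))]⟩
  have μ0 : μ ≠ 0 := by
    rintro rfl
    obtain ⟨a, ka⟩ := h.exists_ln h0
    obtain ⟨c', e1⟩ := act a 0 ka.perp
    rw [zero_smul] at e1
    obtain ⟨r, hr⟩ := hE.mem_Z.1 ((mem_normalizer_iff.1 kZ _).2 (hE.mem_Z.2 ⟨c', e1⟩))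
    have := ((hE.τ_eq_iff h0 ka.perp (b := 0) (by simp)).1 hr).1
    exact ka.nmem (by simpa using this)
  obtain ⟨d', d1', d2'⟩ := hE.mza_diag h0 (inv_ne_zero μ0)
  have pn := mul_mem (h.mza_norm d2') kn
  have pQ := h.mza_cQ h0 pn fun a c ka => by
    obtain ⟨c', e1⟩ := act a c ka
    refine ⟨μ⁻¹ * μ⁻¹ * c', ?_⟩
    calc _ = φ d' * (k * τ C φ e a c * k⁻¹) * (φ d')⁻¹ := by group
      _ = _ := by
        rw [e1, d1' _ _ (by rw [P.B_smul_right, ka, mul_zero]), smul_smul, inv_mul_cancel₀ μ0,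
          one_smul]
  obtain ⟨ψ, hψ⟩ := hE.mem_Z.1 ((mem_normalizer_iff.1 kZ _).1 (hE.mem_Z.2 ⟨1, rfl⟩))
  have ψ1 : 1 + ψ ≠ 0 := fun e1 => kz (by rw [hψ, ← h.eq_of_add e1])
  have kt' : k * t * k⁻¹ = t * z C φ e (1 + ψ) := by
    rw [hE.z_add, ← hψ, ← mul_assoc, ← kt]
    calc k * t * k⁻¹ = k * (t * (z C φ e 1 * z C φ e 1)) * k⁻¹ := by rw [hE.z_sq, mul_one]
      _ = _ := by group
  have dz : ∀ {d : S} {l : F}, (∀ a c, P.B e a = 0 →
      φ d * τ C φ e a c * (φ d)⁻¹ = τ C φ e (l • a) (l * l * c)) → ∀ c,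
      φ d * (t * z C φ e c) * (φ d)⁻¹ = t * z C φ e (l * l * c) := by
    intro d l H c
    have e3 := H 0 c (by simp)
    rw [smul_zero] at e3
    rw [← mul_assoc, h.tl d, mul_assoc t, mul_assoc t]
    exact congrArg _ e3
  have pt : φ d' * k * t * (φ d' * k)⁻¹ = t * z C φ e (μ⁻¹ * μ⁻¹ * (1 + ψ)) := by
    rw [← dz d1', ← kt']; group
  have κ0 : μ⁻¹ * μ⁻¹ * (1 + ψ) ≠ 0 :=
    mul_ne_zero (mul_ne_zero (inv_ne_zero μ0) (inv_ne_zero μ0)) ψ1
  generalize μ⁻¹ * μ⁻¹ * (1 + ψ) = κ at pt κ0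
  generalize φ d' * k = p at pn pQ pt
  obtain ⟨ρ, hρ⟩ := h.exists_sqrt κ⁻¹
  have ρ0 : ρ ≠ 0 := by
    rintro rfl
    exact inv_ne_zero κ0 (by rw [← hρ, mul_zero])
  obtain ⟨d, d1, d2⟩ := hE.mza_diag h0 ρ0
  have dn := h.mza_norm d2
  refine ⟨φ d * p * (φ d)⁻¹, ?_, mul_mem (mul_mem dn pn) (inv_mem dn), ?_⟩
  · exact (mem_normalizer_iff.1 (loc_ncent (h.norm_Q h0 dn).1) _).1 pQ
  · have e1 := dz d1 κ
    rw [hρ, inv_mul_cancel₀ κ0, ← pt] at e1
    rw [← e1]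
    calc _ = φ d * (p * ((φ d)⁻¹ * t * φ d) * p⁻¹) * (φ d)⁻¹ := by group
      _ = _ := by rw [mul_assoc (φ d)⁻¹, ← h.tl d, inv_mul_cancel_left]

theorem pz1_small (hs : Small F) (hz : Tz C φ t) (h0 : e ≠ 0) : ∃ p, Pz1 C φ t e p := by
  have hE := h.toEmb
  have hU := h.ti_pt e
  obtain ⟨n, hn, nt⟩ := h.mza_nu hz h0
  obtain ⟨nQ, nZ⟩ := h.norm_Q h0 hn
  obtain ⟨θ, q⟩ := hE.mza_exists h0 nQ nZ
  have cg : ∀ {u u' w : V}, u + u' ∈ span F {e} → P.B e w = 0 → P.B u w = P.B u' w :=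
    fun H k => h.eq_of_add (by rw [← P.B_add_left]; exact h.mza_B H k)
  have inv : ∀ s, C.act s e = e → ∀ a b, P.B e a = 0 → P.B e b = 0 →
      P.B (θ (C.act s a)) (θ (C.act s b)) = P.B (θ a) (θ b) := by
    intro s s1
    obtain ⟨s', h2, -, h3⟩ := h.mza_nY' hn s1
    have H : ∀ a, P.B e a = 0 → θ (C.act s a) + C.act s' (θ a) ∈ span F {e} := by
      intro a k
      obtain ⟨c1, e1⟩ := q.act a 0 k
      obtain ⟨c2, e2⟩ := q.act _ 0 (Mod.mza_act s1 k)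
      have := h3 (τ C φ e a 0) (by rw [e1]; exact ⟨_, rfl⟩)
      rw [hE.mza_conj s1 k, e2, e1, hE.mza_conj h2 (q.perp a k), hE.τ_eq_iff h0
        (q.perp _ (Mod.mza_act s1 k)) (Mod.mza_act h2 (q.perp a k))] at this
      exact this.1
    intro a b ka kb
    rw [cg (H a ka) (q.perp _ (Mod.mza_act s1 kb)), h.B_comm,
      cg (H b kb) (Mod.mza_act h2 (q.perp a ka)), C.B_act, h.B_comm]
  have add : ∀ a b b', P.B e a = 0 → P.B e b = 0 → P.B e b' = 0 →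
      P.B (θ a) (θ (b + b')) = P.B (θ a) (θ b) + P.B (θ a) (θ b') := by
    intro a b b' ka kb kb'
    have := hE.mza_add h0 q kb kb'
    rw [add_assoc] at this
    rw [h.B_comm, cg this (q.perp a ka), h.B_comm, P.B_add_right]
  have zer : ∀ a b, P.B e a = 0 → b ∈ span F {e} → P.B (θ a) (θ b) = 0 := by
    intro a b ka hb
    rw [h.B_comm]; exact h.mza_B (hE.mza_zero h0 q hb) (q.perp a ka)
  have dep : ∀ a b, P.B e a = 0 → b ∈ span F {e} ⊔ span F {a} →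
      P.B (θ a) (θ b) = 0 ∧ P.B a b = 0 := by
    intro a b ka hb
    obtain ⟨u, hu, w, hw, rfl⟩ := Submodule.mem_sup.1 hb
    obtain ⟨c, rfl⟩ := Submodule.mem_span_singleton.1 hw
    have ku : P.B e u = 0 := by rw [h.B_comm]; exact h.mza_B hu (h.B_self e)
    refine ⟨?_, by rw [P.B_add_right, P.B_smul_right, h.B_self, h.B_comm, h.mza_B hu ka]; simp⟩
    rcases hs c with rfl | rfl
    · rw [zero_smul, add_zero, zer a u ka hu]
    · rw [one_smul, add a u a ka ku ka, zer a u ka hu, h.B_self, add_zero]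
  have nm : ∀ {a b f : V}, P.B e f = 0 → P.B a f = 0 → P.B b f = 1 →
      b ∉ span F {e} ⊔ span F {a} := by
    intro a b f k1 k2 k3 hb
    obtain ⟨u, hu, w, hw, rfl⟩ := Submodule.mem_sup.1 hb
    rw [P.B_add_left, h.mza_B hu k1, h.mza_B hw k2, add_zero] at k3
    exact zero_ne_one k3
  obtain ⟨a, a', b, b', ea, ea', eb, eb', aa, bb, ab, ab', a'b, a'b'⟩ := h.mza_h3 h0
  have na : a ∉ span F {e} := h.mza_nmem ea' (by rw [aa]; exact one_ne_zero)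
  have con : ∀ {w u v : V}, P.B e w = 0 → w ∉ span F {e} ⊔ span F {a} → P.B e u = 0 →
      P.B e v = 0 → u ∉ span F {e} → v ∉ span F {e} ⊔ span F {u} → P.B u v = P.B a w →
      P.B (θ u) (θ v) = P.B (θ a) (θ w) := by
    intro w u v kw nw ku kv nu nv e1
    obtain ⟨s, s1, s2, s3⟩ := h.trans_Y2 hU (h.mza_perp.2 ea) (h.mza_perp.2 kw) (h.mza_perp.2 ku)
      (h.mza_perp.2 kv) na nw nu nv e1
    rw [← s2, ← s3, inv s (mem_fix_pt.1 s1) a w ea kw]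
  have nb : b ∉ span F {e} ⊔ span F {a} := nm eb' ab' bb
  have na' : a' ∉ span F {e} ⊔ span F {a} := nm ea (h.B_self a) (by rw [h.B_comm, aa])
  have b0 : P.B (θ a) (θ b) = 0 := by
    have e1 := add a b b' ea eb eb'
    rw [con eb nb ea eb' na (nm eb ab (by rw [h.B_comm, bb])) (by rw [ab, ab']),
      con eb nb ea (by rw [P.B_add_right, eb, eb', add_zero]) na
        (nm eb' ab' (by rw [P.B_add_left, bb, h.B_self, add_zero]))
        (by rw [P.B_add_right, ab, ab', add_zero]), h.add_self] at e1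
    exact e1
  have gen : ∀ u v, P.B e u = 0 → P.B e v = 0 →
      P.B (θ u) (θ v) = P.B u v * P.B (θ a) (θ a') := by
    intro u v ku kv
    by_cases nu : u ∈ span F {e}
    · rw [h.B_comm, zer v u kv nu, h.mza_B nu kv, zero_mul]
    by_cases nv : v ∈ span F {e} ⊔ span F {u}
    · rw [(dep u v ku nv).1, (dep u v ku nv).2, zero_mul]
    rcases hs (P.B u v) with e1 | e1
    · rw [con eb nb ku kv nu nv (by rw [e1, ab]), b0, e1, zero_mul]
    · rw [con ea' na' ku kv nu nv (by rw [e1, aa]), e1, one_mul]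
  have onto : ∀ u, P.B e u = 0 → ∃ v, P.B e v = 0 ∧ u + θ v ∈ span F {e} := by
    intro u ku
    obtain ⟨v, c, kv, e1⟩ := (hE.mem_Q h0).1
      ((mem_normalizer_iff.1 (inv_mem nQ) _).1 (hE.mza_mem h0 ku 0))
    obtain ⟨c', e2⟩ := q.act v c kv
    have e3 : τ C φ e u 0 = τ C φ e (θ v) c' := by rw [← e2, ← e1]; group
    exact ⟨v, kv, ((hE.τ_eq_iff h0 ku (q.perp v kv)).1 e3).1⟩
  have b1 : P.B (θ a) (θ a') = 1 := by
    refine (hs _).resolve_left fun e1 => ?_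
    obtain ⟨u, ku, hu⟩ := onto a ea
    obtain ⟨v, kv, hv⟩ := onto a' ea'
    have e2 := gen u v ku kv
    rw [e1, mul_zero, ← cg hu (q.perp v kv), h.B_comm, ← cg hv ea, h.B_comm, aa] at e2
    exact one_ne_zero e2
  obtain ⟨s, s1, s2⟩ := h.exists_Y hU (θ := θ)
    (fun a ha => h.mza_perp.2 (q.perp a (h.mza_perp.1 ha)))
    (fun a ha b hb => hE.mza_add h0 q (h.mza_perp.1 ha) (h.mza_perp.1 hb))
    (fun a _ c => by
      rcases hs c with rfl | rfl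
      · rw [zero_smul, zero_smul, add_zero]; exact hE.mza_zero h0 q (zero_mem _)
      · rw [one_smul, one_smul, h.vadd_self]; exact zero_mem _)
    (fun u hu v hv => by rw [gen u v (h.mza_perp.1 hu) (h.mza_perp.1 hv), b1, mul_one])
  have s3 : C.act s e = e := mem_fix_pt.1 s1
  have sn : φ s ∈ normalizer ((Yg C φ (span F {e}) ⊔ zpowers t : Subgroup G) : Set G) :=
    le_normalizer (mem_sup_left (hE.mza_Y s3))
  have pn := mul_mem (inv_mem sn) hn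
  refine ⟨(φ s)⁻¹ * n, h.mza_cQ h0 pn fun u c ku => ?_, pn, ?_⟩
  · obtain ⟨c', e1⟩ := q.act u c ku
    refine ⟨c', ?_⟩
    rw [hE.mza_congr (Mod.mza_act s3 ku) (s2 u (h.mza_perp.2 ku)), ← hE.mza_conj s3 ku] at e1
    calc _ = (φ s)⁻¹ * (n * τ C φ e u c * n⁻¹) * φ s := by group
      _ = _ := by rw [e1]; group
  · have e1 := hE.z_conj s e 1
    rw [s3] at e1
    calc _ = (φ s)⁻¹ * (n * t * n⁻¹) * φ s := by group
      _ = (φ s)⁻¹ * (t * φ s) * z C φ e 1 := by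
        rw [nt]; conv_lhs => rw [← e1]
        group
      _ = _ := by rw [← h.tl s, inv_mul_cancel_left]

end Sit

end CfsgLib.SPC
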