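import Cfsg.Agent.Lib.SPC.ShI

/-! t ~ t a: the structures HW and HA -/

set_option autoImplicit false
set_option linter.unusedSectionVars false
set_option Elab.async false

namespace CfsgLib.SPC

open Subgroup Module CfsgLib.Forms CfsgLib.LieMult
open CfsgLib.HX (Std CO Two Mv M2)
open CfsgLib.UN (AV SI TI HH Rad Stb Yg Rg Eg Act nu)
open CfsgLib.ClSys (II)
open Submodule (span)
open scoped commutatorElement Pointwise

universe u

variable {F : Type} [Field F] [Finite F] {V : Type} [AddCommGroup V] [Module F V]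
  [FiniteDimensional F V] {P : PQ (RingHom.id F) V} {S : Type} [Group S] [Finite S] {G : Type u}
  [Group G] [Finite G] {C : CG P S} {φ : S →* G} {t : G}

/-- the defect of additivity in type `κ` -/
def ShjD (C : CG P S) (φ : S →* G) (w : V → V → G) (κ δ : F) : Prop :=
  ∀ e a b, P.B e a = 0 → P.B e b = 0 →
    w e (a + κ • b) = w e a * w e (κ • b) * z C φ e (κ * δ * P.B a b)

/-- the commutator formula -/
def ShjT (C : CG P S) (φ : S →* G) (w : V → V → G) (κ δ δ' : F) (u v e c : V) : Prop :=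
  w u v * w e c * w u v = w e c * w e (P.B c u • v + ((1 + κ) * P.B c v) • u) *
    τ C φ e (δ • (P.B c u • v + P.B c v • u)) (κ * δ' * P.B c u * P.B c v)

theorem shj_swap {p q r : G} (hp : p * p = 1) (hq : q * q = 1) (hr : r * r = 1) (e : p = q * r) :
    p = r * q := by
  have h1 : p⁻¹ = p := inv_eq_of_mul_eq_one_right hp
  have h2 : q⁻¹ = q := inv_eq_of_mul_eq_one_right hq
  have h3 : r⁻¹ = r := inv_eq_of_mul_eq_one_right hr
  rw [← h1, e, mul_inv_rev, h2, h3]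

theorem shj_comm {p q : G} (hp : p * p = 1) (e : p * q * p = q) : Commute p q := by
  calc p * q = p * q * (p * p) := by rw [hp, mul_one]
    _ = (p * q * p) * p := by group
    _ = q * p := by rw [e]

theorem shj_conj {p q : G} (hp : p * p = 1) (e : Commute p q) : p * q * p = q := by
  rw [e.eq, mul_assoc, hp, mul_one]

namespace Mod

variable (h : Mod C)
include h

theorem shj_pair {e a : V} (k : P.B e a = 0) : ∃ b b', P.B e b = 0 ∧ P.B e b' = 0 ∧ P.B a b = 0 ∧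
    P.B a b' = 0 ∧ P.B b b' = 1 := by
  have key : ∀ e a : V, Ln P e a → ∃ b b', P.B e b = 0 ∧ P.B e b' = 0 ∧ P.B a b = 0 ∧
      P.B a b' = 0 ∧ P.B b b' = 1 := by
    intro e a l
    obtain ⟨f, f', k⟩ := h.hh_of_ln l
    obtain ⟨b, b', k'⟩ := h.exists_h3 k
    exact ⟨b, b', k'.h13.ee, k'.h13.ef, k'.h23.ee, k'.h23.ef, h.hp_iff.1 k'.h13.h₂⟩
  have key2 : ∀ e : V, ∃ b b', P.B e b = 0 ∧ P.B e b' = 0 ∧ P.B b b' = 1 := by
    intro e
    by_cases h0 : e = 0
    · obtain ⟨b, hb⟩ := h.exists_ne0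
      obtain ⟨b', hb'⟩ := h.exists_hp hb
      exact ⟨b, b', by simp [h0], by simp [h0], hb'⟩
    · obtain ⟨a, l⟩ := h.exists_ln h0
      obtain ⟨b, b', h1, h2, -, -, h3⟩ := key e a l
      exact ⟨b, b', h1, h2, h3⟩
  by_cases h0 : e = 0
  · obtain ⟨b, b', h1, h2, h3⟩ := key2 a
    exact ⟨b, b', by simp [h0], by simp [h0], h1, h2, h3⟩
  by_cases h1 : a ∈ span F {e}
  · obtain ⟨l, rfl⟩ := Submodule.mem_span_singleton.1 h1
    obtain ⟨b, b', h1, h2, h3⟩ := key2 e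
    exact ⟨b, b', h1, h2, by rw [h.B_smul_left, h1, mul_zero], by rw [h.B_smul_left, h2, mul_zero], h3⟩
  · exact key e a ⟨h0, h1, k⟩

theorem shj_Br (c : F) (v w : V) : P.B v (c • w) = c * P.B v w := by
  rw [h.B_comm, h.B_smul_left, h.B_comm]

end Mod

namespace HW2

variable {w : V → V → G} {κ δ : F} (h : HW2 C φ t w κ)
include h

theorem shj_hE : Emb C φ := h.toHW1.toSit.toEmb

theorem shj_hM : Mod C := h.toHW1.toSit.toEmb.toMod

theorem shj_wz {e a : V} (k : P.B e a = 0) (c : F) : Commute (w e a) (z C φ e c) := by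
  refine shj_comm (h.sq e a k) ?_
  have := h.wQ e a 0 c k (by simp)
  rwa [map_zero, mul_zero, add_zero] at this

theorem shj_wQ' {e a b : V} (k : P.B e a = 0) (k' : P.B a b = 0) (c : F) :
    w e a * τ C φ a b c * w e a = τ C φ a b (c + κ * P.B e b) := by
  have ka : P.B a e = 0 := by rw [h.shj_hM.B_comm, k]
  have kb : P.B a (κ • e) = 0 := by rw [h.shj_hM.shj_Br, ka, mul_zero]
  have e1 := h.symm a e ka
  have e2 := shj_swap (h.sq e a k) (h.sq a e ka) (h.shj_hE.x_sq kb) e1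
  have e3 : x C φ a (κ • e) * τ C φ a b c * x C φ a (κ • e) = τ C φ a b c :=
    shj_conj (h.shj_hE.x_sq kb) (h.shj_hE.τ_comm kb k' 0 c)
  calc w e a * τ C φ a b c * w e a
      = (w a e * x C φ a (κ • e)) * τ C φ a b c * (x C φ a (κ • e) * w a e) := by rw [← e1, ← e2]
    _ = w a e * (x C φ a (κ • e) * τ C φ a b c * x C φ a (κ • e)) * w a e := by group
    _ = _ := by rw [e3, h.wQ a e b c ka k']

theorem shj_del_sq {Δ : V → F → G} (D : Del C φ t w κ Δ) (e : V) (β : F) : Δ e β * Δ e β = 1 := by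
  have h0 : Δ e 0 = 1 := by
    have := D.add e 0 0
    rw [add_zero] at this
    exact left_eq_mul.1 this
  rw [← D.add, h.shj_hM.add_self, h0]

theorem shj_del_z (hκ : κ = 1) {Δ : V → F → G} (D : Del C φ t w κ Δ) {e : V} (h0 : e ≠ 0) (β : F) :
    ∃ r, Δ e β = z C φ e r := by
  have m := D.mv e β
  have h1 : Δ e β * t = t * Δ e β := by
    have := m.pt
    rw [hκ, h.shj_hM.add_self, zero_mul, h.shj_hE.z_zero, mul_one] at this
    exact mul_inv_eq_iff_eq_mul.1 this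
  obtain ⟨ε, hε, c, hc, e1⟩ := h.shj_hE.cY (h.shj_hM.ti_pt e) (h.toHW1.toSit.norm_of h1) m.cY
  obtain ⟨r, rfl⟩ := h.shj_hE.mem_Z.1 hε
  have hL : z C φ e r ∈ φ.range := ⟨_, rfl⟩
  have h2 := (h.shj_hE.sq_split hL hc (e1 ▸ h.shj_del_sq D e β)).2
  have h3 := h.toHW1.toSit.ct_of hL (e1 ▸ h1)
  have h4 : IsPGroup 2 (zpowers c) := by
    rintro ⟨_, n, rfl⟩
    refine ⟨1, Subtype.ext ?_⟩
    show (c ^ n) ^ 2 ^ 1 = 1
    rw [pow_one, pow_two, ← Commute.mul_zpow (Commute.refl c), h2, one_zpow]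
  rcases h.two' c hc h3 h4 with rfl | rfl
  · exact ⟨r, by rw [e1, mul_one]⟩
  · exfalso
    obtain ⟨a, l⟩ := h.shj_hM.exists_ln h0
    have c1 : Commute (w e a) (z C φ e r * c) := e1 ▸ (D.com e a β l.perp).symm
    have c2 : Commute (w e a) c := by
      have := (h.shj_wz l.perp r).mul_right c1
      rwa [← mul_assoc, h.shj_hE.z_sq, one_mul] at this
    have c3 := (h.mv e a l.perp).pt
    rw [c2.eq, mul_inv_cancel_right, left_eq_mul] at c3
    have := (h.shj_hE.x_eq_one l (c := 1)).1 (by rw [one_smul]; exact c3)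
    exact one_ne_zero this

theorem shj_exD1 (hκ : κ = 1) : ∃ δ', ShjD C φ w κ δ' := by
  obtain ⟨Δ, D⟩ := h.exists_del
  obtain ⟨e₀, h0⟩ := h.shj_hM.exists_ne0
  obtain ⟨δ', hδ⟩ := h.shj_del_z hκ D h0 1
  have key : ∀ e, e ≠ 0 → ∀ β, Δ e β = z C φ e (δ' * β) := by
    intro e he β
    obtain ⟨l, rfl⟩ := h.shj_hM.exists_sqrt β
    by_cases hl : l = 0
    · subst hl
      have := D.add e 0 0
      rw [add_zero] at this
      rw [mul_zero, mul_zero, h.shj_hE.z_zero]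
      exact left_eq_mul.1 this
    · obtain ⟨s, hs⟩ := h.shj_hM.trans h0 (smul_ne_zero hl he)
      have := D.eqv s e₀ 1
      rw [hδ, h.shj_hE.z_conj, hs, D.smul, h.shj_hE.z_smul, mul_one] at this
      rw [← this, mul_comm δ']
  refine ⟨δ', fun e a b k k' => ?_⟩
  subst hκ
  rw [one_smul, one_mul]
  by_cases he : e = 0
  · subst he
    rw [h.zero, h.zero, h.zero, h.shj_hE.z_zero', mul_one, mul_one]
  · rw [D.ww e a b k k', key e he, mul_assoc, h.shj_hE.z_sq, mul_one]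

theorem shj_exD0 (hκ : κ = 0) (δ' : F) : ShjD C φ w κ δ' := by
  intro e a b _ _
  subst hκ
  rw [zero_smul, add_zero, h.toHW1.w_zero, zero_mul, zero_mul, h.shj_hE.z_zero, mul_one, mul_one]

theorem shj_step {δ' : F} (D : ShjD C φ w κ δ') {W W' : G} {s : S} {e c m n m₀ : V} {r : F}
    (hW : W' = W * φ s) (s2 : s * s = 1) (W2 : W * W = 1) (W2' : W' * W' = 1)
    (se : C.act s e = e) (sm : C.act s m = m) (sn : C.act s n = n) (sc : C.act s c = c + κ • m₀)
    (kc : P.B e c = 0) (km : P.B e m = 0) (kn : P.B e n = 0) (k0 : P.B e m₀ = 0)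
    (k1 : P.B m m₀ = 0) (R : W * w e c * W = w e c * w e m * τ C φ e n r) :
    W' * w e c * W' = w e c * w e (m + κ • m₀) * τ C φ e n (r + κ * δ' * P.B c m₀) := by
  have s2' : φ s * φ s = 1 := by rw [← map_mul, s2, map_one]
  have e1 := shj_swap W2' W2 s2' hW
  have e2 : (φ s)⁻¹ = φ s := inv_eq_of_mul_eq_one_right s2'
  have k0' : P.B e (κ • m₀) = 0 := by rw [h.shj_hM.shj_Br, k0, mul_zero]
  have k1' : P.B m (κ • m₀) = 0 := by rw [h.shj_hM.shj_Br, k1, mul_zero]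
  have a1 := h.eqv s e c kc
  have a2 := h.eqv s e m km
  have a3 := h.shj_hE.τ_conj s kn r
  rw [se, sc, D e c m₀ kc k0] at a1
  rw [se, sm] at a2
  rw [se, sn] at a3
  have a4 : τ C φ e n (r + κ * δ' * P.B c m₀) = z C φ e (κ * δ' * P.B c m₀) * τ C φ e n r := by
    have := h.shj_hE.τ_mul (e := e) (a := 0) (by simp) kn (κ * δ' * P.B c m₀) r
    rw [zero_add, map_zero, LinearMap.zero_apply, add_zero, add_comm] at this
    exact this.symm
  have a5 := (h.shj_wz km (κ * δ' * P.B c m₀)).eq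
  have a6 := (h.com e m _ km k0').eq
  calc W' * w e c * W' = (φ s * W) * w e c * (W * (φ s)⁻¹) := by rw [e2, ← hW, ← e1]
    _ = φ s * (W * w e c * W) * (φ s)⁻¹ := by group
    _ = (φ s * w e c * (φ s)⁻¹) * (φ s * w e m * (φ s)⁻¹) * (φ s * τ C φ e n r * (φ s)⁻¹) := by
      rw [R]; group
    _ = w e c * w e (κ • m₀) * (z C φ e (κ * δ' * P.B c m₀) * w e m) * τ C φ e n r := by
      rw [a1, a2, a3]; group
    _ = w e c * (w e (κ • m₀) * w e m) * (z C φ e (κ * δ' * P.B c m₀) * τ C φ e n r) := by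
      rw [← a5]; group
    _ = _ := by rw [← a6, ← a4, h.add e m _ km k0' k1']

theorem shj_T_shift {δ' : F} (D : ShjD C φ w κ δ') {u v e c : V} (h1 : P.B u v = 0) (h2 : P.B e u = 0)
    (h3 : P.B e v = 0) (h4 : P.B e c = 0) (μ : F) (R : ShjT C φ w κ δ δ' u v e c) :
    ShjT C φ w κ δ δ' u (v + μ • u) e c := by
  have M := h.shj_hM
  have h1' : P.B v u = 0 := by rw [M.B_comm, h1]
  have h2' : P.B u e = 0 := by rw [M.B_comm, h2]
  have huu := M.B_self u
  have := h.shj_step D (s := C.T u 0 (κ * μ)) (m₀ := (μ * P.B c u) • u) (h.shift u v μ h1)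
    (M.T_sq (by simp) _) (h.sq u v h1) (h.sq u _ (by simp [h1, huu]))
    (by rw [M.z_app]; simp [h2']) (by rw [M.z_app]; simp [h1, huu]) (by rw [M.z_app]; simp [h1, huu])
    (by rw [M.z_app, M.B_comm u c, smul_smul, mul_assoc]) h4 (by simp [h2, h3]) (by simp [h2, h3])
    (by simp [h2]) (by simp [h1', huu]) R
  unfold ShjT
  rw [this]
  have two := M.two
  congr 2
  · congr 1
    simp only [map_add, map_smul, smul_eq_mul]
    linear_combination (norm := module) (two * (-(μ * P.B c u))) • u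
  · simp only [map_add, map_smul, smul_eq_mul]
    linear_combination (norm := module) (two * (-(δ * μ * P.B c u))) • u
  · simp only [map_add, map_smul, smul_eq_mul]
    ring

theorem shj_T_swap {δ' : F} (D : ShjD C φ w κ δ') {u v e c : V} (h1 : P.B u v = 0) (h2 : P.B e u = 0)
    (h3 : P.B e v = 0) (h4 : P.B e c = 0) (R : ShjT C φ w κ δ δ' u v e c) :
    ShjT C φ w κ δ δ' v u e c := by
  have M := h.shj_hM
  have h1' : P.B v u = 0 := by rw [M.B_comm, h1]
  have h2' : P.B u e = 0 := by rw [M.B_comm, h2]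
  have h3' : P.B v e = 0 := by rw [M.B_comm, h3]
  have huu := M.B_self u
  have hvv := M.B_self v
  have hk : P.B u (κ • v) = 0 := by simp [h1]
  have := h.shj_step D (s := C.T u (κ • v) 0) (m₀ := P.B c v • u + P.B c u • v) (h.symm u v h1)
    (M.T_sq hk _) (h.sq u v h1) (h.sq v u h1')
    (by rw [M.x_app hk, M.B_smul_left]; simp [h2', h3'])
    (by rw [M.x_app hk, M.B_smul_left]; simp [h1, h1', huu, hvv])
    (by rw [M.x_app hk, M.B_smul_left]; simp [h1, h1', huu, hvv])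
    (by rw [M.x_app hk, M.B_smul_left, M.B_comm u c, M.B_comm v c]; module) h4
    (by simp [h2, h3]) (by simp [h2, h3])
    (by simp [h2, h3]) (by rw [M.B_comm]; simp [h1, h1', huu, hvv]) R
  unfold ShjT
  rw [this]
  have two := M.two
  congr 2
  · congr 1
    linear_combination (norm := module) (two * (κ * P.B c v)) • u
  · rw [add_comm]
  · simp only [map_add, map_smul, smul_eq_mul]
    linear_combination two * (κ * δ' * P.B c u * P.B c v)

theorem shj_T_smul {δ' : F} {u v e c : V} (h1 : P.B u v = 0) (l : F)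
    (R : ShjT C φ w κ δ δ' u (l • v) e c) : ShjT C φ w κ δ δ' (l • u) v e c := by
  unfold ShjT at R ⊢
  rw [h.smul u v l h1, R]
  simp only [map_smul, smul_eq_mul]
  congr 2
  · congr 1
    module
  · module
  · ring

theorem shj_T_nf {δ' : F} (hκ : κ = 0 ∨ κ = 1) (h6 : W6 C φ w δ) {u v e c : V} (h1 : P.B u v = 0)
    (h2 : P.B e u = 0) (h3 : P.B e v = 0) (h4 : P.B e c = 0) (h5 : P.B c u = 1) (h5' : P.B c v = 0) :
    ShjT C φ w κ δ δ' u v e c := by
  have M := h.shj_hM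
  have E := h.shj_hE
  unfold ShjT
  rw [h5, h5', mul_zero, mul_zero, zero_smul, add_zero, one_smul]
  have u0 : u ≠ 0 := by
    rintro rfl
    simp at h5
  by_cases a1 : v ∈ span F {u}
  · obtain ⟨μ, rfl⟩ := Submodule.mem_span_singleton.1 a1
    rw [M.shj_Br, h5, mul_one] at h5'
    subst h5'
    rw [zero_smul, smul_zero, h.toHW1.w_zero, h.toHW1.w_zero, one_mul, mul_one]
    exact (mul_one _).symm.trans (congrArg _ (E.x_zero e).symm)
  by_cases a2 : e ∈ span F {u, v}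
  · obtain ⟨a, b, rfl⟩ := Submodule.mem_span_pair.1 a2
    have a0 : a = 0 := by
      rw [M.B_comm] at h4
      simpa [h5, h5'] using h4
    subst a0
    rw [zero_smul, zero_add] at h2 h3 h4 ⊢
    by_cases b0 : b = 0
    · subst b0
      rw [zero_smul, h.zero, h.zero, mul_one, h.sq u v h1, one_mul, one_mul]
      exact (E.x_zero' _).symm
    obtain ⟨e, he⟩ : ∃ e, e = b • v := ⟨_, rfl⟩
    have hv : v = b⁻¹ • e := by rw [he, smul_smul, inv_mul_cancel₀ b0, one_smul]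
    rw [← he] at h2 h3 h4 ⊢
    subst hv
    have h2' : P.B u e = 0 := by rw [M.B_comm, h2]
    have k1 : P.B e (b⁻¹ • u) = 0 := by simp [h2]
    have k2 : P.B e (κ • b⁻¹ • u) = 0 := by simp [h2]
    have e1 : w u (b⁻¹ • e) = w e (b⁻¹ • u) * x C φ e (κ • b⁻¹ • u) := by
      rw [← h.smul u e _ h2', h.symm e _ k1]
    have e2 := shj_swap (h.sq _ _ h1) (h.sq _ _ k1) (E.x_sq k2) e1
    have e3 := shj_conj (h.sq _ _ k1) (h.com e _ c k1 h4)
    have e4 := h.wQ e c _ 0 h4 k2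
    have e5 := E.τ_mul k2 k2 (0 + κ * P.B c (κ • b⁻¹ • u)) 0
    have e6 : κ * κ = κ := by rcases hκ with rfl | rfl <;> simp
    rw [M.vadd_self, M.B_self, M.shj_Br, M.shj_Br, h5, mul_one, zero_add, add_zero, add_zero,
      ← mul_assoc, e6] at e5
    rw [M.shj_Br, M.shj_Br, h5, mul_one, zero_add, ← mul_assoc, e6] at e4
    have e7 : τ C φ e (δ • b⁻¹ • e) 0 = 1 := by rw [smul_smul]; exact E.x_self e _
    have e8 := h.sq e c h4
    rw [e7, h.dep, mul_one]
    calc w u (b⁻¹ • e) * w e c * w u (b⁻¹ • e)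
        = (x C φ e (κ • b⁻¹ • u) * w e (b⁻¹ • u)) * w e c *
            (w e (b⁻¹ • u) * x C φ e (κ • b⁻¹ • u)) := by rw [← e1, ← e2]
      _ = x C φ e (κ • b⁻¹ • u) * (w e (b⁻¹ • u) * w e c * w e (b⁻¹ • u)) *
            x C φ e (κ • b⁻¹ • u) := by group
      _ = (w e c * w e c) * x C φ e (κ • b⁻¹ • u) * w e c * x C φ e (κ • b⁻¹ • u) := by
        rw [e3, e8, one_mul]
      _ = w e c * ((w e c * τ C φ e (κ • b⁻¹ • u) 0 * w e c) * τ C φ e (κ • b⁻¹ • u) 0) := by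
        simp only [mul_assoc]; rfl
      _ = _ := by rw [e4, e5]; rfl
  · exact h6 e u v c ⟨⟨u0, a1, h1⟩, a2, h2, h3, h4, h5', h5⟩

theorem shj_T_ne {δ' : F} (D : ShjD C φ w κ δ') (hκ : κ = 0 ∨ κ = 1) (h6 : W6 C φ w δ) {u v e c : V}
    (h1 : P.B u v = 0) (h2 : P.B e u = 0) (h3 : P.B e v = 0) (h4 : P.B e c = 0) (h5 : P.B c u ≠ 0) :
    ShjT C φ w κ δ δ' u v e c := by
  have M := h.shj_hM
  obtain ⟨α, hα⟩ : ∃ α, α = P.B c u := ⟨_, rfl⟩
  rw [← hα] at h5
  obtain ⟨u₁, hu⟩ : ∃ u₁, u₁ = α⁻¹ • u := ⟨_, rfl⟩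
  have k0 : P.B c u₁ = 1 := by rw [hu, M.shj_Br, ← hα, inv_mul_cancel₀ h5]
  have k1 : P.B u₁ v = 0 := by rw [hu, M.B_smul_left, h1, mul_zero]
  have k2 : P.B e u₁ = 0 := by rw [hu, M.shj_Br, h2, mul_zero]
  have e1 : u = α • u₁ := by rw [hu, smul_smul, mul_inv_cancel₀ h5, one_smul]
  rw [e1]
  refine h.shj_T_smul k1 α ?_
  have e2 : α • v = (α • v + (α * P.B c v) • u₁) + (α * P.B c v) • u₁ := by
    rw [add_assoc, M.vadd_self, add_zero]
  rw [e2]
  have k3 : P.B u₁ (α • v + (α * P.B c v) • u₁) = 0 := by simp [k1, M.B_self]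
  have k4 : P.B e (α • v + (α * P.B c v) • u₁) = 0 := by simp [k2, h3]
  refine h.shj_T_shift D k3 k2 k4 h4 _ (h.shj_T_nf hκ h6 k3 k2 k4 h4 k0 ?_)
  simp [k0, M.add_self]

theorem shj_T_all {δ' : F} (D : ShjD C φ w κ δ') (hκ : κ = 0 ∨ κ = 1) (h6 : W6 C φ w δ) {u v e c : V}
    (h1 : P.B u v = 0) (h2 : P.B e u = 0) (h3 : P.B e v = 0) (h4 : P.B e c = 0) :
    ShjT C φ w κ δ δ' u v e c := by
  by_cases a1 : P.B c u = 0
  · by_cases a2 : P.B c v = 0
    · unfold ShjT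
      rw [a1, a2, shj_conj (h.sq u v h1) (h.com4 h1 h2 h3 h4 a1 a2)]
      simp only [mul_zero, zero_smul, add_zero, smul_zero]
      rw [h.toHW1.w_zero, mul_one]
      exact (mul_one _).symm.trans (congrArg _ (h.shj_hE.x_zero e).symm)
    · have h1' : P.B v u = 0 := by rw [h.shj_hM.B_comm, h1]
      exact h.shj_T_swap D h1' h3 h2 h4 (h.shj_T_ne D hκ h6 h1' h3 h2 h4 a2)
  · exact h.shj_T_ne D hκ h6 h1 h2 h3 h4 a1

theorem shj_delta_eq {δ' : F} (hκ : κ = 1) (D : ShjD C φ w κ δ') (h6 : W6 C φ w δ) : δ' = δ := by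
  have M := h.shj_hM
  have E := h.shj_hE
  obtain ⟨u, u0⟩ := M.exists_ne0
  obtain ⟨c, k0⟩ := M.exists_hp u0
  obtain ⟨v, c', k1⟩ := M.exists_hh k0
  obtain ⟨e, f, k2⟩ := M.exists_h3 k1
  have uv := k1.ee
  have eu : P.B e u = 0 := by rw [M.B_comm, k2.h13.ee]
  have ev : P.B e v = 0 := by rw [M.B_comm, k2.h23.ee]
  have ec : P.B e c = 0 := by rw [M.B_comm, k2.h13.fe]
  have ec' : P.B e c' = 0 := by rw [M.B_comm, k2.h23.fe]
  have cu : P.B c u = 1 := by rw [M.B_comm, k0]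
  have cv := k1.fe
  have cu' : P.B c' u = 0 := by rw [M.B_comm, k1.ef]
  have cv' : P.B c' v = 1 := by rw [M.B_comm, M.hp_iff.1 k1.h₂]
  have cc := k1.ff
  have vu : P.B v u = 0 := by rw [M.B_comm, uv]
  have e0 : e ≠ 0 := M.hp_ne (M.hp_iff.1 k2.h13.h₂)
  have t1 := h.shj_T_all D (Or.inr hκ) h6 uv eu ev ec
  have t2 := h.shj_T_all D (Or.inr hκ) h6 uv eu ev ec'
  have t3 := h.shj_T_all D (Or.inr hκ) h6 uv eu ev (c := c + c') (by simp [ec, ec'])
  subst hκ
  unfold ShjT at t1 t2 t3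
  simp only [map_add, LinearMap.add_apply, cu, cv, cu', cv', M.add_self, mul_zero, zero_smul,
    one_smul, add_zero, zero_add, mul_one, one_mul] at t1 t2 t3
  rw [h.toHW1.w_zero, mul_one] at t2
  have kv : P.B e (δ • v) = 0 := by simp [ev]
  have ku : P.B e (δ • u) = 0 := by simp [eu]
  have a1 := h.wQ e c' _ 0 ec' kv
  have a2 := E.τ_mul kv ku (0 + 1 * P.B c' (δ • v)) 0
  have a3 := h.sq e c' ec'
  have a4 := h.sq u v uv
  have a5 := (h.com e v c' ev ec').eq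
  have a6 : w e c * w e c' * w e v * τ C φ e (δ • (v + u)) δ' =
      w e c * w e c' * w e v * τ C φ e (δ • v + δ • u) (0 + 1 * P.B c' (δ • v) + 0 +
        P.B (δ • v) (δ • u)) := by
    calc _ = w u v * (w e c * w e c') * w u v := by rw [← h.add e c c' ec ec' cc, t3]
      _ = w u v * w e c * (w u v * w u v) * w e c' * w u v := by rw [a4]; group
      _ = (w u v * w e c * w u v) * (w u v * w e c' * w u v) := by group
      _ = w e c * w e v * (w e c' * w e c') * τ C φ e (δ • v) 0 * w e c' * τ C φ e (δ • u) 0 := by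
        rw [t1, t2, a3]; group
      _ = w e c * (w e v * w e c') * ((w e c' * τ C φ e (δ • v) 0 * w e c') * τ C φ e (δ • u) 0) := by
        group
      _ = _ := by rw [a1, a2, a5]; group
  have a7 := ((E.τ_eq_iff e0 (by simp [eu, ev]) (by simp [eu, ev])).1 (mul_left_cancel a6)).2
  rw [a7, M.B_smul_left]
  simp [cv', vu]

theorem shj_exD (hκ : κ = 0 ∨ κ = 1) (h6 : W6 C φ w δ) : ShjD C φ w κ δ := by
  rcases hκ with hκ | hκ
  · exact h.shj_exD0 hκ δ
  · obtain ⟨δ', D⟩ := h.shj_exD1 hκ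
    rwa [h.shj_delta_eq hκ D h6] at D

theorem del (hκ : κ = 1) (h6 : W6 C φ w δ) {e a b : V} (k : P.B e a = 0) (k' : P.B e b = 0) :
    w e a * w e b = w e (a + b) * z C φ e (δ * P.B a b) := by
  have D := h.shj_exD (Or.inr hκ) h6 e a b k k'
  rw [hκ, one_smul, one_mul] at D
  rw [D, mul_assoc, h.shj_hE.z_sq, mul_one]

theorem cw (hκ : κ = 0 ∨ κ = 1) (h6 : W6 C φ w δ) {u v e c : V} (h1 : P.B u v = 0) (h2 : P.B e u = 0)
    (h3 : P.B e v = 0) (h4 : P.B e c = 0) :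
    w u v * w e c * w u v = w e c * w e (P.B c u • v + ((1 + κ) * P.B c v) • u) *
      x C φ e (δ • (P.B c u • v + P.B c v • u)) * z C φ e (κ * δ * P.B c u * P.B c v) := by
  have := h.shj_T_all (h.shj_exD hκ h6) hκ h6 h1 h2 h3 h4
  unfold ShjT at this
  rw [this, h.shj_hE.τ_eq (by simp [h2, h3]), ← mul_assoc]

theorem shj_ct_ln (hκ : κ = 0 ∨ κ = 1) {g : G} {α : RingAut F} {γ : AV V} (hg : g * t = t * g)
    (k : Act C φ g α γ) {e a : V} (l : Ln P e a) :
    ∃ μ : F, g * w e a * g⁻¹ = w (γ e) (γ a) * x C φ (γ e) (μ • γ a) := by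
  have M := h.shj_hM
  have E := h.shj_hE
  have i := h.toHW1.iv l.perp
  have ακ : α κ = κ := by rcases hκ with rfl | rfl <;> simp
  have ka : P.B a e = 0 := by rw [M.B_comm, l.perp]
  have cj : ∀ y, g * w e a * g⁻¹ * (g * y * g⁻¹) * (g * w e a * g⁻¹) =
      g * (w e a * y * w e a) * g⁻¹ := fun y => by group
  have perp : ∀ p q, P.B (γ p) (γ q) = 0 → P.B p q = 0 := fun p q e1 => by
    rw [k.B_eq] at e1
    exact (map_eq_zero_iff α α.injective).1 e1
  refine h.toHW1.chr (SI_ln k.toSI l) ⟨⟨?_, ?_⟩, h.toHW1.toSit.co_conj' hg i.co, ?_⟩ ?_ ?_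
  · rintro _ ⟨s, hs, rfl⟩
    have k' := E.act_inv k
    obtain ⟨s', hs'⟩ := M.exists_conj k'.toSI s
    have e1 := k'.conj s s' hs'
    have e2 : ∀ v, C.act s (γ v) = γ v → C.act s' v = v := fun v e3 => by
      have := hs' (γ v)
      rw [e3] at this
      simpa using this
    have e3 : φ s' ∈ Yg C φ (span F {e, a}) := by
      refine ⟨s', C.mem_fixG.2 fun v hv => ?_, rfl⟩
      obtain ⟨p, q, rfl⟩ := Submodule.mem_span_pair.1 hv
      rw [map_add, map_smul, map_smul,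
        e2 e (C.mem_fixG.1 hs _ (Submodule.subset_span (by simp))),
        e2 a (C.mem_fixG.1 hs _ (Submodule.subset_span (by simp)))]
    have e4 := i.cY _ e3
    have e5 : φ s = g * φ s' * g⁻¹ := by rw [← e1]; group
    rw [e5]
    calc g * φ s' * g⁻¹ * (g * w e a * g⁻¹) = g * (φ s' * w e a) * g⁻¹ := by group
      _ = _ := by rw [e4]; group
  · have e1 : t = g * t * g⁻¹ := by rw [hg, mul_inv_cancel_right]
    calc g * w e a * g⁻¹ * t * (g * w e a * g⁻¹)⁻¹
        = g * w e a * g⁻¹ * (g * t * g⁻¹) * (g * w e a * g⁻¹)⁻¹ := by rw [← e1]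
      _ = g * (w e a * t * (w e a)⁻¹) * g⁻¹ := by group
      _ = (g * t * g⁻¹) * (g * x C φ e a * g⁻¹) := by rw [i.pt]; group
      _ = _ := by rw [← e1, E.act_x k l.perp]
  · calc g * w e a * g⁻¹ * (g * w e a * g⁻¹) = g * (w e a * w e a) * g⁻¹ := by group
      _ = 1 := by rw [i.sq]; group
  · intro b hb
    obtain ⟨b, rfl⟩ := γ.surjective b
    have hb' := perp _ _ hb
    have e1 := h.wQ e a b 0 l.perp hb'
    have e2 : x C φ e b = τ C φ e b 0 := rfl
    rw [← E.τ_eq hb, ← E.act_x k hb', cj, e2, e1, E.act_τ k hb', zero_add, map_mul, ακ, k.B_eq]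
  · intro b hb
    obtain ⟨b, rfl⟩ := γ.surjective b
    have hb' := perp _ _ hb
    have e1 := h.shj_wQ' l.perp hb' 0
    have e2 : x C φ a b = τ C φ a b 0 := rfl
    rw [← E.τ_eq hb, ← E.act_x k hb', cj, e2, e1, E.act_τ k hb', zero_add, map_mul, ακ, k.B_eq]

theorem ct (hκ : κ = 0 ∨ κ = 1) {g : G} {α : RingAut F} {γ : AV V} (hg : g * t = t * g)
    (k : Act C φ g α γ) : ∃ μ : F, ∀ e a, P.B e a = 0 →
      g * w e a * g⁻¹ = w (γ e) (γ a) * x C φ (γ e) (μ • γ a) := by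
  have M := h.shj_hM
  have E := h.shj_hE
  have ακ : α κ = κ := by rcases hκ with rfl | rfl <;> simp
  obtain ⟨e₀, h0⟩ := M.exists_ne0
  obtain ⟨a₀, l₀⟩ := M.exists_ln h0
  obtain ⟨μ, hμ⟩ := h.shj_ct_ln hκ hg k l₀
  refine ⟨μ, fun e a k' => ?_⟩
  by_cases he : e = 0
  · subst he
    rw [map_zero, h.zero, h.zero, E.x_zero']
    group
  by_cases ha : a ∈ span F {e}
  · obtain ⟨l, rfl⟩ := Submodule.mem_span_singleton.1 ha
    rw [k.semi, h.dep, h.dep, smul_smul, E.x_self, mul_one, E.act_z k, map_mul, ακ]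
  obtain ⟨s, s1, s2⟩ := M.trans_ln l₀ ⟨he, ha, k'⟩
  obtain ⟨s', hs'⟩ := M.exists_conj k.toSI s
  have e1 := k.conj s s' hs'
  have l₁ := SI_ln k.toSI l₀
  have e2 := h.eqv s e₀ a₀ l₀.perp
  have e3 := h.eqv s' _ _ l₁.perp
  have e4 := E.x_conj s' (e := γ e₀) (a := μ • γ a₀) (by rw [M.shj_Br, l₁.perp, mul_zero])
  rw [map_smul, hs', hs', s1, s2] at e4
  rw [hs', hs', s1, s2] at e3
  rw [s1, s2] at e2
  calc g * w e a * g⁻¹ = (g * φ s * g⁻¹) * (g * w e₀ a₀ * g⁻¹) * (g * φ s * g⁻¹)⁻¹ := by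
        rw [← e2]; group
    _ = (φ s' * w (γ e₀) (γ a₀) * (φ s')⁻¹) * (φ s' * x C φ (γ e₀) (μ • γ a₀) * (φ s')⁻¹) := by
        rw [e1, hμ]; group
    _ = _ := by rw [e3, e4]

theorem shj_hw6 (hκ : κ = 0 ∨ κ = 1) (h6 : W6 C φ w δ) : HW C φ t w κ δ :=
  { h.toHW1.toSit with
    two' := h.two'
    kk := hκ
    mv := h.mv
    sq := h.sq
    eqv := h.eqv
    shift := h.shift
    smul := h.smul
    symm := h.symm
    add := h.add
    wQ := h.wQ
    com := h.com
    cx := h.cx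
    cw := fun _ _ _ _ h1 h2 h3 h4 => h.cw hκ h6 h1 h2 h3 h4
    del := fun k _ _ _ h1 h2 => h.del k h6 h1 h2
    ct := fun _ _ _ hg k => h.ct hκ hg k }

theorem hw : ∃ δ, HW C φ t w κ δ := by
  obtain ⟨hκ, δ, h6⟩ := h.w6
  exact ⟨δ, h.shj_hw6 hκ h6⟩

theorem shj_a_wx (hκ : κ = 0) {e a b : V} (k : P.B e a = 0) (k' : P.B e b = 0) :
    Commute (w e a) (x C φ e b) := by
  refine shj_comm (h.sq e a k) ?_
  have := h.wQ e a b 0 k k'
  rwa [hκ, zero_mul, add_zero] at this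

theorem shj_a_symm (hκ : κ = 0) {e a : V} (k : P.B e a = 0) : w a e = w e a := by
  rw [h.symm e a k, hκ, zero_smul, h.shj_hE.x_zero, mul_one]

theorem shj_a_cw (hκ : κ = 0) (h6 : W6 C φ w δ) {u v e c : V} (h1 : P.B u v = 0) (h2 : P.B e u = 0)
    (h3 : P.B e v = 0) (h4 : P.B e c = 0) :
    w u v * w e c * w u v = w e c * (w e (P.B c u • v + P.B c v • u) *
      x C φ e (δ • (P.B c u • v + P.B c v • u))) := by
  have := h.cw (Or.inl hκ) h6 h1 h2 h3 h4
  rw [hκ, add_zero, one_mul, zero_mul, zero_mul, zero_mul, h.shj_hE.z_zero, mul_one] at this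
  rw [this, mul_assoc]

/-- the correction factor commutes with the hats -/
theorem shj_a_fc (hκ : κ = 0) {e n c : V} (k : P.B e n = 0) (k' : P.B e c = 0) :
    Commute (w e n * x C φ e (δ • n)) (w e c) :=
  (h.com e n c k k').mul_left (h.shj_a_wx hκ k' (by simp [k])).symm

theorem shj_a_fsq (hκ : κ = 0) {e n : V} (k : P.B e n = 0) :
    (w e n * x C φ e (δ • n)) * (w e n * x C φ e (δ • n)) = 1 := by
  have k' : P.B e (δ • n) = 0 := by simp [k]
  rw [← mul_assoc, (h.shj_a_fc hκ k k).eq, ← mul_assoc, h.sq e n k, one_mul, h.shj_hE.x_sq k']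

theorem shj_a_fadd (hκ : κ = 0) {e n n' : V} (k : P.B e n = 0) (k' : P.B e n' = 0) (k'' : P.B n n' = 0) :
    w e (n + n') * x C φ e (δ • (n + n')) =
      (w e n * x C φ e (δ • n)) * (w e n' * x C φ e (δ • n')) := by
  have k1 : P.B e (δ • n) = 0 := by simp [k]
  have k2 : P.B e (δ • n') = 0 := by simp [k']
  rw [smul_add, h.add e n n' k k' k'', h.shj_hE.x_add k1 k2 (by simp [k'']), ← mul_assoc, ← mul_assoc,
    mul_assoc (w e n), (h.shj_a_wx hκ k' k1).eq, ← mul_assoc]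

theorem shj_a_del {Δ : V → F → G} (D : Del C φ t w κ Δ) {e c c' : V} (k : P.B e c = 0)
    (k' : P.B e c' = 0) : Δ e (P.B c c') = w e (c + c') * w e c * w e c' := by
  rw [mul_assoc, D.ww e c c' k k', ← mul_assoc, h.sq e _ (by simp [k, k']), one_mul]

theorem shj_a_dw (hκ : κ = 0) (h6 : W6 C φ w δ) {Δ : V → F → G} (D : Del C φ t w κ Δ) {e u v : V} (β : F)
    (h2 : P.B e u = 0) (h3 : P.B e v = 0) (h1 : P.B u v = 0) : Commute (w u v) (Δ e β) := by
  have M := h.shj_hM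
  obtain ⟨c, c₀, k1, k0, -, -, k3⟩ := M.shj_pair (e := e) (a := 0) (by simp)
  obtain ⟨c', k2, rfl⟩ : ∃ c', P.B e c' = 0 ∧ P.B c c' = β :=
    ⟨β • c₀, by simp [k0], by simp [k3]⟩
  have h1' : P.B v u = 0 := by rw [M.B_comm, h1]
  have k4 : P.B e (c + c') = 0 := by simp [k1, k2]
  have t1 := h.shj_a_cw hκ h6 h1 h2 h3 k1
  have t2 := h.shj_a_cw hκ h6 h1 h2 h3 k2
  have t3 := h.shj_a_cw hκ h6 h1 h2 h3 k4
  have e1 : P.B (c + c') u • v + P.B (c + c') v • u =
      (P.B c u • v + P.B c v • u) + (P.B c' u • v + P.B c' v • u) := by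
    simp only [map_add, LinearMap.add_apply]
    module
  obtain ⟨n, hn⟩ : ∃ n, n = P.B c u • v + P.B c v • u := ⟨_, rfl⟩
  obtain ⟨n', hn'⟩ : ∃ n, n = P.B c' u • v + P.B c' v • u := ⟨_, rfl⟩
  have m1 : P.B e n = 0 := by simp [hn, h2, h3]
  have m2 : P.B e n' = 0 := by simp [hn', h2, h3]
  have m3 : P.B n n' = 0 := by simp [hn, hn', h1, h1', M.B_self]
  rw [e1, ← hn, ← hn', h.shj_a_fadd hκ m1 m2 m3] at t3
  rw [← hn] at t1
  rw [← hn'] at t2
  have f1 := h.shj_a_fsq (δ := δ) hκ m1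
  have f2 := h.shj_a_fsq (δ := δ) hκ m2
  have g1 := (h.shj_a_fc (δ := δ) hκ m1 k1).eq
  have g2 := (h.shj_a_fc (δ := δ) hκ m1 k2).eq
  have g3 := (h.shj_a_fc (δ := δ) hκ m2 k1).eq
  have g4 := (h.shj_a_fc (δ := δ) hκ m2 k2).eq
  have g5 : (w e n * x C φ e (δ • n)) * (w e n' * x C φ e (δ • n')) =
      (w e n' * x C φ e (δ • n')) * (w e n * x C φ e (δ • n)) := by
    rw [← h.shj_a_fadd hκ m1 m2 m3, ← h.shj_a_fadd hκ m2 m1 (by rw [M.B_comm, m3]), add_comm]
  generalize w e n * x C φ e (δ • n) = p at *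
  generalize w e n' * x C φ e (δ • n') = q at *
  have s := h.sq u v h1
  refine shj_comm s ?_
  rw [h.shj_a_del D k1 k2]
  calc w u v * (w e (c + c') * w e c * w e c') * w u v
      = w u v * w e (c + c') * (w u v * w u v) * w e c * (w u v * w u v) * w e c' * w u v := by
        rw [s]; group
    _ = (w u v * w e (c + c') * w u v) * (w u v * w e c * w u v) * (w u v * w e c' * w u v) := by group
    _ = w e (c + c') * p * (q * w e c) * (p * w e c') * q := by rw [t1, t2, t3]; group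
    _ = w e (c + c') * (p * w e c) * (q * w e c') * (p * q) := by rw [g3, g2]; group
    _ = w e (c + c') * w e c * (p * w e c') * q * (q * p) := by rw [g1, g4, g5]; group
    _ = w e (c + c') * w e c * w e c' * (p * (q * q) * p) := by rw [g2]; group
    _ = _ := by rw [f2, mul_one, f1, mul_one]

theorem shj_a_dline (hκ : κ = 0) (h6 : W6 C φ w δ) {Δ : V → F → G} (D : Del C φ t w κ Δ) {e a : V} (β : F)
    (k : P.B e a = 0) :
    Δ (e + a) β = Δ e β * Δ a β * (w e (β • a) * x C φ e (δ • β • a)) := by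
  have M := h.shj_hM
  have E := h.shj_hE
  obtain ⟨b, b₀, k1, k0, k2, k0', k3⟩ := M.shj_pair k
  obtain ⟨b', k4, k5, rfl⟩ : ∃ b', P.B e b' = 0 ∧ P.B a b' = 0 ∧ P.B b b' = β :=
    ⟨β • b₀, by simp [k0], by simp [k0'], by simp [k3]⟩
  have ka : P.B a e = 0 := by rw [M.B_comm, k]
  have k6 : P.B e (b + b') = 0 := by simp [k1, k4]
  have k7 : P.B a (b + b') = 0 := by simp [k2, k5]
  have al : ∀ c, P.B e c = 0 → P.B a c = 0 → w (e + a) c = w e c * w a c := fun c h1 h2 =>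
    h.add_left (by rw [M.B_comm, h1]) (by rw [M.B_comm, h2]) k
  obtain ⟨N, hN⟩ : ∃ N, N = w e (P.B b b' • a) * x C φ e (δ • P.B b b' • a) := ⟨_, rfl⟩
  have kn : P.B e (P.B b b' • a) = 0 := by simp [k]
  have kn' : P.B a (P.B b b' • e) = 0 := by simp [ka]
  have hN' : N = w a (P.B b b' • e) * x C φ a (δ • P.B b b' • e) := by
    rw [hN, ← h.smul a e _ ka, h.shj_a_symm hκ kn, smul_smul, smul_smul, ← E.x_smul ka,
      E.x_symm (e := e) (by simp [k])]
  have n1 : ∀ c, P.B e c = 0 → N * w e c = w e c * N := fun c hc => by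
    rw [hN]; exact (h.shj_a_fc hκ kn hc).eq
  have n2 : ∀ c, P.B a c = 0 → N * w a c = w a c * N := fun c hc => by
    rw [hN']; exact (h.shj_a_fc hκ kn' hc).eq
  have n3 : N * N = 1 := by rw [hN]; exact h.shj_a_fsq hκ kn
  have sw : ∀ c c', P.B e c = 0 → P.B a c = 0 → P.B e c' = 0 → P.B a c' = 0 → P.B c' c = P.B b b' →
      w a c * w e c' = w e c' * N * w a c := fun c c' h1 h2 h3 h4 h5 => by
    have := h.shj_a_cw hκ h6 h2 k h1 h3
    rw [M.B_comm c' a, h4, zero_smul, zero_add, h5, ← hN] at this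
    rw [← this, mul_assoc, h.sq a c h2, mul_one]
  have s1 := sw (b + b') b k6 k7 k1 k2 (by simp [M.B_self])
  have s2 := sw (b + b') b' k6 k7 k4 k5 (by simp [M.B_self, M.B_comm b' b])
  have s3 := sw b b' k1 k2 k4 k5 (M.B_comm _ _)
  rw [← hN, h.shj_a_del D (e := e + a) (by simp [k1, k2]) (by simp [k4, k5]), h.shj_a_del D k1 k4,
    h.shj_a_del D k2 k5, al _ k6 k7, al _ k1 k2, al _ k4 k5]
  have m1 := n1 _ k4
  have m3 := n2 _ k2
  have m4 := n2 _ k5
  generalize w e (b + b') = E₃ at *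
  generalize w a (b + b') = A₃ at *
  generalize w e b = E₁ at *
  generalize w a b = A₁ at *
  generalize w e b' = E₂ at *
  generalize w a b' = A₂ at *
  calc E₃ * A₃ * (E₁ * A₁) * (E₂ * A₂) = E₃ * (A₃ * E₁) * (A₁ * E₂) * A₂ := by group
    _ = E₃ * E₁ * N * (A₃ * E₂) * (N * A₁) * A₂ := by rw [s1, s3]; group
    _ = E₃ * E₁ * (N * E₂) * N * A₃ * (N * A₁) * A₂ := by rw [s2]; group
    _ = E₃ * E₁ * E₂ * (N * N) * A₃ * A₁ * (N * A₂) := by rw [m1, m3]; group
    _ = _ := by rw [n3, m4]; group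

theorem ha (hκ : κ = 0) : ∃ y δ, HA C φ t w y δ := by
  have M := h.shj_hM
  have E := h.shj_hE
  obtain ⟨-, δ, h6⟩ := h.w6
  obtain ⟨Δ, D⟩ := h.exists_del
  have H := h.shj_hw6 (Or.inl hκ) h6
  have dz : ∀ e a β r, P.B a e = 0 → Commute (z C φ e r) (Δ a β) := fun e a β r k =>
    (D.mv a β).cY _ (E.τ_mem_Y (by simp) (M.mem_perp_span.2 (by simpa using k)) (zero_mem _) r)
  refine ⟨fun e β => Δ e β * z C φ e (δ * β), δ, hκ ▸ H, ?_, ?_, ?_, ?_, ?_, ?_, ?_⟩
  · intro e β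
    have m := D.mv e β
    have hL : z C φ e (δ * β) ∈ φ.range := ⟨_, rfl⟩
    refine ⟨mul_mem m.cY (E.E_cent (M.ti_pt e) (E.mem_Z.2 ⟨_, rfl⟩)), ?_, fun o h1 h2 h3 => ?_⟩
    · have e1 := h.toHW1.toSit.tL hL
      have e2 := m.pt
      rw [hκ, add_zero, one_mul] at e2
      calc Δ e β * z C φ e (δ * β) * t * (Δ e β * z C φ e (δ * β))⁻¹
          = Δ e β * (z C φ e (δ * β) * t) * (z C φ e (δ * β))⁻¹ * (Δ e β)⁻¹ := by group
        _ = Δ e β * t * (Δ e β)⁻¹ := by rw [e1]; group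
        _ = _ := e2
    · rw [mul_assoc, h1 _ hL, ← mul_assoc, m.co o h1 h2 h3, mul_assoc]
  · intro e β β'
    have := (dz e e β' (δ * β) (M.B_self e)).eq
    rw [D.add, mul_add, E.z_add]
    calc Δ e β * Δ e β' * (z C φ e (δ * β) * z C φ e (δ * β'))
        = Δ e β * (Δ e β' * z C φ e (δ * β)) * z C φ e (δ * β') := by group
      _ = _ := by rw [← this]; group
  · intro e β l
    rw [D.smul, E.z_smul]
    congr 2
    ring
  · intro l e β
    rw [← D.eqv, ← E.z_conj]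
    group
  · intro e a b k k'
    rw [D.ww e a b k k', mul_assoc, mul_assoc, E.z_sq, mul_one]
  · intro e a b β h1 h2 h3
    refine (h.shj_a_dw hκ h6 D β h1 h2 h3).symm.mul_left ?_
    exact (h.toHW1.comm_τ h3 (p := e) (q := 0) (by simp) (by rw [M.B_comm, h1]) (by simp)
      (by rw [M.B_comm, h2]) (by simp) _).symm
  · intro e a β k
    have ka : P.B a e = 0 := by rw [M.B_comm, k]
    have kn : P.B e (β • a) = 0 := by simp [k]
    have kx : P.B e ((δ * β) • a) = 0 := by simp [k]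
    rw [h.shj_a_dline hκ h6 D β k, E.z_line k, smul_smul]
    have c1 := (dz e a β (δ * β) ka).eq
    have c2 := (h.shj_wz kn (δ * β)).eq
    have c3 : w e (β • a) * z C φ a (δ * β) = z C φ a (δ * β) * w e (β • a) :=
      (h.toHW1.comm_τ kn (p := a) (q := 0) (by simp) k (by simp)
        (by rw [M.B_smul_left, M.B_self, mul_zero]) (by simp) _).eq
    have c4 : x C φ e ((δ * β) • a) * z C φ e (δ * β) = z C φ e (δ * β) * x C φ e ((δ * β) • a) :=
      (E.τ_comm kx (b := 0) (by simp) _ _).eq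
    have c5 : x C φ e ((δ * β) • a) * z C φ a (δ * β) = z C φ a (δ * β) * x C φ e ((δ * β) • a) := by
      rw [E.x_symm kx, E.x_smul ka]
      exact (E.τ_comm (by simp [ka]) (b := 0) (by simp) _ _).eq
    have c6 := E.x_sq kx
    generalize x C φ e ((δ * β) • a) = X at *
    generalize z C φ e (δ * β) = Z at *
    generalize z C φ a (δ * β) = Z' at *
    calc Δ e β * Δ a β * (w e (β • a) * X) * (Z * Z' * X)
        = Δ e β * Δ a β * w e (β • a) * (X * Z) * Z' * X := by group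
      _ = Δ e β * Δ a β * (w e (β • a) * Z) * (X * Z') * X := by rw [c4]; group
      _ = Δ e β * (Δ a β * Z) * (w e (β • a) * Z') * (X * X) := by rw [c2, c5]; group
      _ = _ := by rw [← c1, c3, c6]; group

end HW2

end CfsgLib.SPC
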