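import Cfsg.Agent.Lib.SPC.PresA
import Cfsg.Agent.Lib.LieMult.SUMult
import Cfsg.Agent.Lib.HX.Base
import Cfsg.Agent.Lib.Tits.PQa

/-! The Steinberg presentation of a classical group of rank at least two in characteristic two -/

set_option autoImplicit false
set_option linter.unusedSectionVars false

namespace CfsgLib.SPC

open Subgroup Module CfsgLib.Forms CfsgLib.LieMult
open CfsgLib.HX (M2)
open CfsgLib.ClSys (II RBC rootB)
open scoped commutatorElement MatrixGroups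

variable {F : Type} [Field F] {σ : F →+* F} {V : Type} [AddCommGroup V] [Module F V] {P : PQ σ V}
  {S : Type} [Group S] {G : Type*} [Group G] {m : ℕ}

/-- the relations between the elements `xm a b t = T (v a) (t • v b) 0` and `xe a w c = T (v a) w c`
(`w` in the anisotropic part) -/
structure XRel (Fr : Frame P m) (xm : II m → II m → F → G) (xe : II m → V → F → G) : Prop where
  add : ∀ a b, Ap a b → ∀ t u, xm a b (t + u) = xm a b t * xm a b u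
  symm : ∀ a b, Ap a b → ∀ t, xm a b t = xm b a (-σ t)
  mul : ∀ a w w' c c', w ∈ Fr.V0 → w' ∈ Fr.V0 → TOk P (Fr.v a) w c → TOk P (Fr.v a) w' c' →
    xe a w c * xe a w' c' = xe a (w + w') (c + c' + P.B w' w)
  mid : ∀ a b c, Ap a b → Ap c a → Ap c b → ∀ t u, ⁅xm a b t, xm c b.swap u⁆ = xm c a (u * σ t)
  mid' : ∀ a b, Ap a b → ∀ t u, ⁅xm a b t, xm a b.swap u⁆ = xe a 0 (σ (u * σ t) - u * σ t)
  mide : ∀ a b w c, Ap a b → w ∈ Fr.V0 → TOk P (Fr.v b.swap) w c → ∀ t,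
    ⁅xe b.swap w c, xm a b t⁆ = xe a (t • -w) (σ t * t * σ c) * xm a b.swap (-(t * σ c))
  ends : ∀ a b w w' c c', Ap a b → w ∈ Fr.V0 → w' ∈ Fr.V0 → TOk P (Fr.v a) w c →
    TOk P (Fr.v b) w' c' → ⁅xe b w' c', xe a w c⁆ = xm a b (P.B w' w)
  cmm : ∀ a b c d, Ap a b → Ap c d → a ≠ c.swap → a ≠ d.swap → b ≠ c.swap → b ≠ d.swap →
    ∀ t u, Commute (xm a b t) (xm c d u)
  cme : ∀ a b c w d, Ap a b → c ≠ a.swap → c ≠ b.swap → w ∈ Fr.V0 → TOk P (Fr.v c) w d →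
    ∀ t, Commute (xm a b t) (xe c w d)

/-- the group generated by the root elements -/
def XG (Fr : Frame P m) (xm : II m → II m → F → G) (xe : II m → V → F → G) : Subgroup G :=
  closure {g | (∃ a b t, Ap a b ∧ g = xm a b t) ∨
    ∃ a w c, w ∈ Fr.V0 ∧ TOk P (Fr.v a) w c ∧ g = xe a w c}

variable (C : CG P S) (Fr : Frame P m)

theorem xrel_model : XRel Fr (Fr.xm C) fun a => C.T (Fr.v a) where
  add _ _ h := Fr.xm_add C h.ne_swap
  symm _ _ h := Fr.xm_symm C h.ne_swap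
  mul _ _ _ _ _ _ _ h h' := C.T_mul h h'
  mid _ _ _ h h1 h2 := Fr.comm_mid C h h1.ne_swap h2
  mid' a _ h t u := by rw [Fr.comm_mid C h (ClSys.swap_ne a).symm h, Fr.xm_self]
  mide _ _ _ _ h hw hc := Fr.comm_mid_end C h hw hc
  ends _ _ _ _ _ _ h hw hw' hc hc' := Fr.comm_end C h hw hw' hc hc'
  cmm _ _ _ _ h h' k1 k2 k3 k4 t u :=
    commutatorElement_eq_one_iff_commute.1 (Fr.xm_comm C h.ne_swap h'.ne_swap k1 k2 k3 k4 t u)
  cme _ _ _ _ _ h e2 e1 hw hd t := commutatorElement_eq_one_iff_commute.1 (C.comm_of_fix hd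
    (Fr.xm_fix C h.ne_swap t (Fr.B_ne fun e => e2 (ClSys.eq_swap_comm.1 e))
      (Fr.B_ne fun e => e1 (ClSys.eq_swap_comm.1 e)))
    (Fr.xm_fix C h.ne_swap t (Frame.B_V0 hw _) (Frame.B_V0 hw _)))

theorem commAll_model : CommAll (rootB m) (Fr.X C) := fun _ _ h1 h2 _ hx _ hy => Fr.comm_X C h1 h2 hx hy

section Gen

open CfsgLib.ClSys

theorem pb_key_simple (i : Fin m) : keyBC (simpleBC i) = -1 := by
  rcases simpleBC_cases i with ⟨r, e, -, h1, h2⟩ | ⟨a, e, -, h⟩ <;> rw [e]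
  · change key r.1.1 + key r.1.2 = -1
    omega
  · exact h

theorem genX_model (hm : 2 ≤ m) (hne : Fr.V0 ≠ ⊥ ∨ P.Λ ≠ ⊥) : GenX (rootB m) (Fr.X C) := fun i => by
  have low : ∀ (j : Fin m) k, keyBC k ≤ -2 → Fr.X C k ≤ UX (Fr.X C) {s | s = (rootB m).neg ((rootB m).simple j) ∨
      (rootB m).Pos s ∧ s ≠ (rootB m).simple j ∧ s ≠ (rootB m).simple i} := fun j k hk =>
    le_UX _ (Or.inr ⟨(rootBC_pos_iff _).2 (by omega), fun e => by rw [e, rootBC_simple, pb_key_simple] at hk; omega,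
      fun e => by rw [e, rootBC_simple, pb_key_simple] at hk; omega⟩)
  have lowm : ∀ (j : Fin m) a b, Ap a b → key a + key b ≤ -2 → ∀ t, Fr.xm C a b t ∈ UX (Fr.X C)
      {s | s = (rootB m).neg ((rootB m).simple j) ∨
        (rootB m).Pos s ∧ s ≠ (rootB m).simple j ∧ s ≠ (rootB m).simple i} := fun j a b h hk t => by
    refine low j (.inl (mkM a b h.ne h.ne_swap)) ?_ ?_
    · have := key_mkM a b h.ne h.ne_swap
      change key _ + key _ ≤ _
      omega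
    · rw [Fr.X_mid C h (evM_mkM _ _ _ _)]
      exact Fr.xm_mem C h.ne_swap t
  have ng : ∀ (j : Fin m) k, simpleBC j = k → Fr.X C (Sum.map negM Sum.swap k) ≤ UX (Fr.X C)
      {s | s = (rootB m).neg ((rootB m).simple j) ∨
        (rootB m).Pos s ∧ s ≠ (rootB m).simple j ∧ s ≠ (rootB m).simple i} := fun j k e =>
    le_UX _ (Or.inl (e ▸ rfl))
  have cm : ∀ {K : Subgroup S} {x y : S}, x ∈ K → y ∈ K → ⁅x, y⁆ ∈ K := fun hx hy =>
    mul_mem (mul_mem (mul_mem hx hy) (inv_mem hx)) (inv_mem hy)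
  have := i.2
  rcases simpleBC_cases i with ⟨r, e, hi, h1, h2⟩ | ⟨a, e, hi, h⟩
  · refine ⟨⟨i + 1, hi⟩, fun e => by simp [Fin.ext_iff] at e, fun x hx => ?_⟩
    rw [rootBC_simple, e] at hx
    obtain ⟨t, rfl⟩ := (Fr.mem_XA C r.ne_swap).1 hx
    have hr := ap_mid r
    rcases simpleBC_cases ⟨i + 1, hi⟩ with ⟨s, e', hj, k1, k2⟩ | ⟨d, e', hj, k⟩
    · simp only [Nat.cast_add, Nat.cast_one] at hj k1 k2
      have k3 : s.1.1.swap = r.1.2 := key_injective (by rw [key_swap]; omega)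
      have k4 : Ap r.1.2 s.1.2.swap := by simp only [Ap, key_swap]; omega
      have k5 : Ap r.1.1 s.1.2.swap := by simp only [Ap, key_swap]; omega
      have k6 := Fr.comm_mid C k4 hr.ne_swap k5 1 t
      rw [map_one, mul_one] at k6
      rw [← k6]
      refine cm (ng _ _ e' ?_) (lowm _ _ _ k5.sr (by simp only [key_swap]; omega) _)
      change _ ∈ Fr.XA C s.1.2.swap s.1.1.swap
      rw [k3, ← Fr.XA_symm C k4.ne_swap]
      exact Fr.xm_mem C k4.ne_swap _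
    · simp only at hj
      have k3 : d.swap = r.1.2 := key_injective (by rw [key_swap]; omega)
      have k4 := ng _ _ e'
      rw [Sum.map_inr, k3] at k4
      have k5 := low ⟨i + 1, hi⟩ (.inr r.1.1) (by change key _ ≤ _; omega)
      by_cases h0 : Fr.V0 = ⊥
      · obtain ⟨⟨c, hc⟩, c0⟩ := AddSubgroup.ne_bot_iff_exists_ne_zero.1 (hne.resolve_left (not_not.2 h0))
        have c1 : σ c ≠ 0 := (map_ne_zero σ).2 fun e => c0 (Subtype.ext e)
        have hc' := TOk.zero (Fr.sing r.1.2.swap.swap) hc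
        have k6 := Fr.comm_mid_end C hr.sr (zero_mem _) hc' (-t / σ c)
        rw [div_mul_cancel₀ _ c1, neg_neg, Sum.swap_swap] at k6
        rw [Sum.swap_swap] at hc'
        rw [← mul_mem_cancel_left (k5 (C.T_mem_QU (((hc'.neg C).change (Fr.sing r.1.1) (by simp)).smul (-t / σ c))
          (Fr.V0.smul_mem _ (neg_mem (zero_mem _))))), ← k6]
        exact cm (k4 (C.T_mem_QU hc' (zero_mem _))) (lowm _ _ _ hr.sr (by simp only [key_swap]; omega) _)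
      · obtain ⟨w', hw', w0⟩ := Submodule.exists_mem_ne_zero_of_ne_bot h0
        obtain ⟨w, hw, k6⟩ : ∃ w ∈ Fr.V0, P.B w' w ≠ 0 := by
          by_contra! k6
          refine w0 (C.nondeg w' fun x => ?_)
          simpa [Frame.B_V0' hw'] using k6 _ (Fr.decomp x)
        have hw1 := Fr.V0.smul_mem (t / P.B w' w) hw
        have o1 := TOk.self (Fr.sing r.1.1) (Frame.B_V0 hw1 _)
        have o2 := TOk.self (Fr.sing r.1.2) (Frame.B_V0 hw' _)
        have k7 := Fr.comm_end C hr hw1 hw' o1 o2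
        rw [map_smul, smul_eq_mul, div_mul_cancel₀ _ k6] at k7
        rw [← k7]
        exact cm (k4 (C.T_mem_QU o2 hw')) (k5 (C.T_mem_QU o1 hw1))
  · refine ⟨⟨m - 2, by omega⟩, fun e => by simp only [Fin.ext_iff] at e; omega, fun x hx => ?_⟩
    rw [rootBC_simple, e] at hx
    obtain ⟨w, hw, c, hc, rfl⟩ := hx
    rcases simpleBC_cases (⟨m - 2, by omega⟩ : Fin m) with ⟨s, e', hj, k1, k2⟩ | ⟨d, e', hj, k⟩
    swap
    · simp only at hj; omega
    simp only at hj k1 k2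
    have k3 : s.1.2.swap = a := key_injective (by rw [key_swap]; omega)
    have k4 : Ap a s.1.1.swap := by simp only [Ap, key_swap]; omega
    have hc' := (hc.neg C).change (Fr.sing s.1.1.swap.swap) (Frame.B_V0 (neg_mem hw) _)
    have k6 := Fr.comm_mid_end C k4 (neg_mem hw) hc' 1
    rw [neg_neg, one_smul, map_one, one_mul, one_mul, P.σσ] at k6
    rw [← mul_mem_cancel_right (lowm _ _ _ k4.sr (by simp only [key_swap]; omega) _), ← k6]
    refine cm (low _ (.inr _) (by change key _ ≤ _; simp only [key_swap]; omega) (C.T_mem_QU hc' (neg_mem hw)))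
      (ng _ _ e' ?_)
    change _ ∈ Fr.XA C s.1.2.swap s.1.1.swap
    rw [k3]
    exact Fr.xm_mem C k4.ne_swap _

variable {Fr} {xm : II m → II m → F → G} {xe : II m → V → F → G}

namespace XRel

variable (h : XRel Fr xm xe)
include h

theorem pb_xe0 (a : II m) : xe a 0 0 = 1 := by
  have o := TOk.zero (Fr.sing a) (zero_mem P.Λ)
  simpa using h.mul a 0 0 0 0 (zero_mem _) (zero_mem _) o o

theorem pb_xm0 {a b : II m} (k : Ap a b) : xm a b 0 = 1 := by simpa using h.add a b k 0 0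

/-- the root groups -/
def pbA : RBC m → Subgroup G := Sum.elim (fun r => addRange (xm r.1.1 r.1.2) (h.add _ _ (ap_mid r))) fun a =>
  { carrier := {g | ∃ w ∈ Fr.V0, ∃ c, TOk P (Fr.v a) w c ∧ xe a w c = g}
    one_mem' := ⟨0, zero_mem _, 0, TOk.zero (Fr.sing a) (zero_mem _), h.pb_xe0 a⟩
    mul_mem' := by
      rintro _ _ ⟨w, hw, c, k, rfl⟩ ⟨w', hw', d, k', rfl⟩
      exact ⟨_, add_mem hw hw', _, k.add k', (h.mul _ _ _ _ _ hw hw' k k').symm⟩
    inv_mem' := by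
      rintro _ ⟨w, hw, c, k, rfl⟩
      refine ⟨_, neg_mem hw, _, k.neg C, eq_inv_of_mul_eq_one_right ?_⟩
      rw [h.mul _ _ _ _ _ hw (neg_mem hw) k (k.neg C), k.trace C]
      simpa using h.pb_xe0 a }

theorem pb_end {a : II m} {w : V} {c : F} (hw : w ∈ Fr.V0) (k : TOk P (Fr.v a) w c) :
    xe a w c ∈ h.pbA C (.inr a) := ⟨w, hw, c, k, rfl⟩

theorem pb_mid {r : MidR m} {a b : II m} (k : Ap a b) (e : evM r = eps a + eps b) {g : G} :
    g ∈ h.pbA C (.inl r) ↔ ∃ t, xm a b t = g := by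
  rw [evM_injective (e.trans (evM_mkM a b k.ne k.ne_swap).symm)]
  refine mem_addRange.trans ?_
  rw [mkM]
  split_ifs
  · rfl
  · exact ⟨fun ⟨t, e⟩ => ⟨_, (h.symm _ _ k.symm t).symm.trans e⟩, fun ⟨t, e⟩ => ⟨_, (h.symm _ _ k t).symm.trans e⟩⟩

theorem pb_UX {a b : II m} (k : Ap a b) {Ψ : Set (RBC m)}
    (hΨ : ∀ k, evBC 1 k = eps a + eps b → k ∈ Ψ) (t : F) : xm a b t ∈ UX (h.pbA C) Ψ := by
  obtain ⟨r, hr⟩ := exists_mid k
  exact le_UX (h.pbA C) (r := .inl r) (hΨ (.inl r) hr) ((h.pb_mid C k hr).2 ⟨t, rfl⟩)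

open Frame in
theorem pb_end_mid (r : MidR m) (c : II m) {x y : G} (hx : x ∈ h.pbA C (.inl r))
    (hy : y ∈ h.pbA C (.inr c)) : ⁅y, x⁆ ∈ UX (h.pbA C) {k | CSum (rootB m) (.inl r) (.inr c) k} := by
  obtain ⟨w, hw, d, hd, rfl⟩ := hy
  have key : ∀ a b, Ap a b → evM r = eps a + eps b → c = b.swap →
      ⁅xe c w d, x⁆ ∈ UX (h.pbA C) {k | CSum (rootB m) (.inl r) (.inr c) k} := by
    rintro a b k e rfl
    obtain ⟨t, rfl⟩ := (h.pb_mid C k e).1 hx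
    rw [h.mide a b w d k hw hd]
    refine mul_mem (le_UX (h.pbA C) (r := .inr a) (csum_of 1 1 one_pos one_pos ?_) (h.pb_end C
      (Fr.V0.smul_mem _ (neg_mem hw)) (((hd.neg C).change (Fr.sing a) (by simp [B_V0 hw])).smul t)))
      (h.pb_UX C k.sr (fun k hk => csum_of 1 2 one_pos two_pos ?_) _)
    · rw [evBC_inl, evBC_inr, evBC_inr, e, eps_swap]; module
    · rw [hk, evBC_inl, evBC_inr, e, eps_swap]; module
  by_cases e1 : c = r.1.2.swap
  · exact key _ _ (ap_mid r) rfl e1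
  by_cases e2 : c = r.1.1.swap
  · exact key _ _ (ap_mid r).symm (add_comm _ _) e2
  obtain ⟨t, rfl⟩ := (h.pb_mid C (ap_mid r) rfl).1 hx
  rw [(h.cme _ _ c w d (ap_mid r) e2 e1 hw hd t).symm.commutator_eq]
  exact one_mem _

open Frame in
theorem pb_mid_mid {r s : MidR m} (h1 : evM s ≠ evM r) (h2 : evM s ≠ -evM r) {x y : G}
    (hx : x ∈ h.pbA C (.inl r)) (hy : y ∈ h.pbA C (.inl s)) :
    ⁅x, y⁆ ∈ UX (h.pbA C) {k | CSum (rootB m) (.inl r) (.inl s) k} := by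
  obtain ⟨a, b, c, d, e1, e2, k, H⟩ := pair_cases (ap_mid r) (ap_mid s) h1 h2
  change evM r = _ at e1
  change evM s = _ at e2
  have comm : Ap c d → a ≠ c.swap → a ≠ d.swap → b ≠ c.swap → b ≠ d.swap →
      ⁅x, y⁆ ∈ UX (h.pbA C) {k | CSum (rootB m) (.inl r) (.inl s) k} := fun h' k1 k2 k3 k4 => by
    obtain ⟨t, rfl⟩ := (h.pb_mid C k e1).1 hx
    obtain ⟨u, rfl⟩ := (h.pb_mid C h' e2).1 hy
    rw [(h.cmm _ _ _ _ k h' k1 k2 k3 k4 t u).commutator_eq]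
    exact one_mem _
  rcases H with ⟨rfl, rfl⟩ | ⟨rfl | rfl, k1, k2⟩ | ⟨k0, k1, k2, k3, k4⟩
  · obtain ⟨t, rfl⟩ := (h.pb_mid C k e1).1 hx
    obtain ⟨u, rfl⟩ := (h.pb_mid C k.sr e2).1 hy
    rw [h.mid' _ _ k]
    exact le_UX (h.pbA C) (r := .inr c) (csum_mid e1 e2) (h.pb_end C (zero_mem _)
      (TOk.zero (Fr.sing c) (by simpa using neg_mem (C.sub_conj_mem (u * σ t)))))
  · exact comm k1.symm (swap_ne c).symm k1.symm.ne_swap k.symm.ne_swap k2.symm.ne_swap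
  · obtain ⟨t, rfl⟩ := (h.pb_mid C k.symm (e1.trans (add_comm _ _))).1 hx
    obtain ⟨u, rfl⟩ := (h.pb_mid C k1.sr (e2.trans (add_comm _ _))).1 hy
    rw [h.mid _ _ _ k.symm k2 k1]
    refine h.pb_UX C k2 (fun k hk => csum_of 1 1 one_pos one_pos ?_) _
    rw [hk, evBC_inl, evBC_inl, e1, e2, eps_swap]; module
  · exact comm k0 k1.ne_swap k2.ne_swap k3.ne_swap k4.ne_swap

open Frame in
theorem pb_commAll : CommAll (rootB m) (h.pbA C) := fun r s h1 h2 x hx y hy => by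
  rcases r with r | a <;> rcases s with s | c
  · have k := ev_ne_of (epsBC m (k := 1) (Or.inl rfl)) h1 h2
    exact h.pb_mid_mid C k.1 k.2 hx hy
  · rw [← commutatorElement_inv]
    exact inv_mem (h.pb_end_mid C r c hx hy)
  · exact UX_mono _ (fun k hk => CSum.symm hk) (h.pb_end_mid C s a hy hx)
  · obtain ⟨w, hw, d, hd, rfl⟩ := hx
    obtain ⟨w', hw', d', hd', rfl⟩ := hy
    have k : Ap c a := ap_of_ne (fun e => h1 (congrArg _ e)) fun e => h2 (congrArg Sum.inr e)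
    rw [h.ends _ _ _ _ _ _ k hw' hw hd' hd]
    refine h.pb_UX C k (fun k hk => csum_of 1 1 one_pos one_pos ?_) _
    rw [hk, evBC_inr, evBC_inr]; module

theorem pb_sup : ⨆ r, h.pbA C r = XG Fr xm xe := by
  refine le_antisymm (iSup_le ?_) ((closure_le _).2 ?_)
  · rintro (r | a) x hx
    · obtain ⟨t, rfl⟩ := (h.pb_mid C (ap_mid r) rfl).1 hx
      exact subset_closure (Or.inl ⟨_, _, t, ap_mid r, rfl⟩)
    · obtain ⟨w, hw, d, hd, rfl⟩ := hx
      exact subset_closure (Or.inr ⟨a, w, d, hw, hd, rfl⟩)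
  · rintro _ (⟨a, b, t, k, rfl⟩ | ⟨a, w, d, hw, hd, rfl⟩)
    · obtain ⟨r, hr⟩ := exists_mid k
      exact mem_iSup_of_mem (.inl r) ((h.pb_mid C k hr).2 ⟨t, rfl⟩)
    · exact mem_iSup_of_mem (.inr a) (h.pb_end C hw hd)

theorem pb_prod {G' : Type*} [Group G'] {xm' : II m → II m → F → G'} {xe' : II m → V → F → G'}
    (h' : XRel Fr xm' xe') : XRel Fr (fun a b t => (xm a b t, xm' a b t)) fun a w c => (xe a w c, xe' a w c) where
  add a b k t u := Prod.ext (h.add a b k t u) (h'.add a b k t u)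
  symm a b k t := Prod.ext (h.symm a b k t) (h'.symm a b k t)
  mul a w w' c c' k1 k2 k3 k4 := Prod.ext (h.mul a w w' c c' k1 k2 k3 k4) (h'.mul a w w' c c' k1 k2 k3 k4)
  mid a b c k1 k2 k3 t u := Prod.ext (h.mid a b c k1 k2 k3 t u) (h'.mid a b c k1 k2 k3 t u)
  mid' a b k t u := Prod.ext (h.mid' a b k t u) (h'.mid' a b k t u)
  mide a b w c k1 k2 k3 t := Prod.ext (h.mide a b w c k1 k2 k3 t) (h'.mide a b w c k1 k2 k3 t)
  ends a b w w' c c' k1 k2 k3 k4 k5 :=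
    Prod.ext (h.ends a b w w' c c' k1 k2 k3 k4 k5) (h'.ends a b w w' c c' k1 k2 k3 k4 k5)
  cmm a b c d k1 k2 k3 k4 k5 k6 t u :=
    Prod.ext (h.cmm a b c d k1 k2 k3 k4 k5 k6 t u) (h'.cmm a b c d k1 k2 k3 k4 k5 k6 t u)
  cme a b c w d k1 k2 k3 k4 k5 t := Prod.ext (h.cme a b c w d k1 k2 k3 k4 k5 t) (h'.cme a b c w d k1 k2 k3 k4 k5 t)

end XRel

end Gen

theorem pb_abs {Γ : Type*} [Group Γ] [Finite Γ] {π : Γ →* S} (θ : Γ →* G)
    (inj : ∀ x, π x = 1 → θ x = 1 → x = 1) (hπ : Schur.IsCentralExt π)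
    (perf : (⊤ : Subgroup S) ≤ ⁅(⊤ : Subgroup S), ⊤⁆) (mult : M2 S)
    (hz : ∀ g ∈ θ.range, g ∈ centralizer (θ.range : Set G) → g * g = 1 → g = 1) :
    ∃ ψ : S →* G, ψ.range ≤ θ.range ∧ ∀ (x : Γ) (k : ℕ), x ^ 2 ^ k = 1 → ψ (π x) = θ x := by
  have key : ∀ (n : ℕ), ∀ x ∈ π.ker, x ^ 2 ^ n = 1 → x = 1 := fun n => by
    induction n with
    | zero => simp
    | succ n ih =>
      intro x hx e
      refine ih x hx ?_
      have h3 := pow_mem hx (2 ^ n)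
      rw [pow_succ, pow_mul, pow_two] at e
      generalize x ^ 2 ^ n = z at h3 e
      refine inj z h3 (hz (θ z) ⟨z, rfl⟩ ?_ (by rw [← map_mul, e, map_one]))
      rintro _ ⟨w, rfl⟩
      rw [← map_mul, ← map_mul, hπ.comm h3]
  let σ : commutator Γ →* S := π.comp (commutator Γ).subtype
  have hs : Function.Surjective σ := fun s => by
    obtain ⟨y, hy, e⟩ : s ∈ (commutator Γ).map π := by
      rw [map_commutator_eq, MonoidHom.range_eq_top.2 hπ.surj]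
      exact perf (mem_top s)
    exact ⟨⟨y, hy⟩, e⟩
  have hp := mult.isPGroup σ ⟨hs, fun x hx => mem_center_iff.2 fun y => Subtype.ext (hπ.comm hx y), fun x _ => by
    have e := Schur.commutator_eq_of_sup_center (H := commutator Γ) fun x => by
      obtain ⟨y, hy⟩ := hs (π x)
      exact ⟨y, y.2, hπ.central (by rw [MonoidHom.mem_ker, map_mul, map_inv, ← hy]; exact inv_mul_cancel _)⟩
    have e2 := map_commutator_eq _ (commutator Γ).subtype
    rw [range_subtype, ← e] at e2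
    obtain ⟨y, hy, e3⟩ := e2.ge x.2
    rwa [← show y = x from Subtype.ext e3]⟩
  have i1 : Function.Injective σ := (injective_iff_map_eq_one σ).2 fun x hx => by
    obtain ⟨n, e⟩ := hp ⟨x, hx⟩
    exact Subtype.ext (key n x hx (congrArg (Subtype.val ∘ Subtype.val) e))
  let e := MulEquiv.ofBijective σ ⟨i1, hs⟩
  refine ⟨θ.comp ((commutator Γ).subtype.comp e.symm.toMonoidHom), fun _ ⟨s, e⟩ => ⟨_, e⟩, fun x k hk => ?_⟩
  obtain ⟨y, hy⟩ := hs (π x)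
  have h1 : π ((y : Γ)⁻¹ * x) = 1 := by rw [map_mul, map_inv, ← hy]; exact inv_mul_cancel _
  have h2 : y ^ 2 ^ k = 1 := i1 (by rw [map_pow, hy, ← map_pow, hk, map_one, map_one])
  have h3 := key k _ h1 (by
    have := Commute.mul_pow (hπ.comm h1 y) (2 ^ k)
    rw [mul_inv_cancel_left, hk, show (y : Γ) ^ 2 ^ k = 1 from congrArg Subtype.val h2, one_mul] at this
    exact this.symm)
  rw [← hy, ← inv_mul_eq_one.1 h3]
  exact congrArg (fun z : commutator Γ => θ z) (e.symm_apply_apply y)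

variable [Finite F] [Finite S] [Finite G]

/-- **PRES** -/
theorem pres (h2 : (2 : F) = 0) (hm : 2 ≤ m) {R : Type} [Group R] {ρ : RankOne R}
    (nd : ∀ a, Fr.Node C (.inr a) ρ) (hU : IsPGroup 2 ρ.U) (hV : IsPGroup 2 ρ.V)
    (hT : ∀ t ∈ ρ.T, ∃ k : ℕ, ¬ 2 ∣ k ∧ t ^ k = 1) (hne : Fr.V0 ≠ ⊥ ∨ P.Λ ≠ ⊥)
    (gen : ∀ K : Subgroup S, (∀ e a c, TOk P e a c → C.T e a c ∈ K) → K = ⊤)
    (perf : (⊤ : Subgroup S) ≤ ⁅(⊤ : Subgroup S), ⊤⁆) (mult : M2 S)
    {xm : II m → II m → F → G} {xe : II m → V → F → G} (h : XRel Fr xm xe)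
    (hz : ∀ g ∈ XG Fr xm xe, g ∈ centralizer (XG Fr xm xe : Set G) → g * g = 1 → g = 1) :
    ∃ ψ : S →* G, (∀ a b, Ap a b → ∀ t, ψ (Fr.xm C a b t) = xm a b t) ∧
      (∀ a w c, w ∈ Fr.V0 → TOk P (Fr.v a) w c → ψ (C.T (Fr.v a) w c) = xe a w c) ∧
      ψ.range = XG Fr xm xe := by
  have : CharP F 2 := CharTwo.of_one_ne_zero_of_two_eq_zero one_ne_zero h2
  have hc := Frame.charP nd hne gen hU hV hT
  have h₁ := (xrel_model C Fr).pb_prod h
  have hs := h₁.pb_sup C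
  set Γ := XG Fr (fun a b t => (Fr.xm C a b t, xm a b t)) fun a w c => (C.T (Fr.v a) w c, xe a w c) with hΓ
  have le : ∀ r, h₁.pbA C r ≤ Γ := fun r => hs ▸ le_iSup (h₁.pbA C) r
  let π : Γ →* S := (MonoidHom.fst S G).comp Γ.subtype
  let θ : Γ →* G := (MonoidHom.snd S G).comp Γ.subtype
  have mp : ∀ r, ((h₁.pbA C r).subgroupOf Γ).map Γ.subtype = h₁.pbA C r := fun r => map_subgroupOf_eq_of_le (le r)
  have h1 : ∀ r, ((h₁.pbA C r).subgroupOf Γ).map π = Fr.X C r := fun r => by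
    rw [← Subgroup.map_map, mp]
    ext x
    rcases r with r | a
    · rw [Frame.X_inl, Fr.mem_XA C r.ne_swap]
      refine ⟨?_, fun ⟨t, e⟩ => ⟨_, (h₁.pb_mid C (ap_mid r) rfl).2 ⟨t, rfl⟩, e⟩⟩
      rintro ⟨y, hy, rfl⟩
      obtain ⟨t, rfl⟩ := (h₁.pb_mid C (ap_mid r) rfl).1 hy
      exact ⟨t, rfl⟩
    · refine ⟨?_, fun ⟨w, hw, c, hc, e⟩ => ⟨_, h₁.pb_end C hw hc, e⟩⟩
      rintro ⟨_, ⟨w, hw, c, hc, rfl⟩, rfl⟩
      exact ⟨w, hw, c, hc, rfl⟩
  have h3 : ∀ r, ∀ x ∈ (h₁.pbA C r).subgroupOf Γ, π x = 1 → x = 1 := fun r x hx e => Subtype.ext <| by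
    change (x : S × G).1 = 1 at e
    rcases r with r | a
    · obtain ⟨t, k⟩ := (h₁.pb_mid C (ap_mid r) rfl).1 hx
      change _ = (x : S × G) at k
      rw [← k] at e ⊢
      have k1 := Fr.xm_apply C r.ne_swap t (Fr.v r.1.1.swap)
      rw [show Fr.xm C r.1.1 r.1.2 t = 1 from e, C.one_apply] at k1
      have k2 := congrArg (P.B (Fr.v r.1.2.swap)) k1
      rw [show t = 0 by simpa [Fr.B_swap, Fr.B_swap', Fr.B_ap (ap_mid r).symm.sl, Fr.B_ap (ap_mid r).symm.sl.sr] using k2]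
      exact h₁.pb_xm0 (ap_mid r)
    · obtain ⟨w, hw, c, hc, k⟩ := hx
      change _ = (x : S × G) at k
      rw [← k] at e ⊢
      obtain ⟨rfl, rfl⟩ := C.T_inj (Fr.hp a) hc (TOk.zero (Fr.sing a) (zero_mem _)) (Frame.B_V0 hw _) (map_zero _)
        (e.trans (C.T_zero (Fr.sing a)).symm)
      exact h₁.pb_xe0 a
  have h4 : ⨆ r, (h₁.pbA C r).subgroupOf Γ = ⊤ := map_injective Γ.subtype_injective (by
    rw [Subgroup.map_iSup, ← MonoidHom.range_eq_map, range_subtype]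
    simp only [mp]
    exact hs)
  have h5 := gst (Frame.rgHom nd hne).sys rfl (commAll_model C Fr) (genX_model C Fr hm hne)
    (fun u hu ht => by
      obtain ⟨k, e⟩ := hc.U_p ⟨u, hu⟩
      exact hc.Tor_pow u ht k (congrArg Subtype.val e))
    (A := fun r => (h₁.pbA C r).subgroupOf Γ) (π := π) (fun r s k1 k2 x hx y hy => by
      have k := h₁.pb_commAll C r s k1 k2 _ hx _ hy
      rw [← mem_map_iff_mem Γ.subtype_injective, map_UX, map_commutatorElement]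
      simpa only [mp] using k) h1 h3 h4
  have h6 : θ.range = XG Fr xm xe := by
    rw [MonoidHom.range_comp, range_subtype, hΓ, XG, XG, MonoidHom.map_closure]
    congr 1
    ext g
    constructor
    · rintro ⟨_, ⟨a, b, t, k, rfl⟩ | ⟨a, w, c, hw, hc, rfl⟩, rfl⟩
      exacts [Or.inl ⟨a, b, t, k, rfl⟩, Or.inr ⟨a, w, c, hw, hc, rfl⟩]
    · rintro (⟨a, b, t, k, rfl⟩ | ⟨a, w, c, hw, hc, rfl⟩)
      exacts [⟨_, Or.inl ⟨a, b, t, k, rfl⟩, rfl⟩, ⟨_, Or.inr ⟨a, w, c, hw, hc, rfl⟩, rfl⟩]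
  obtain ⟨ψ, k1, k2⟩ := pb_abs (π := π) θ (fun x e e' => Subtype.ext (Prod.ext e e'))
    ⟨MonoidHom.range_eq_top.1 (gen _ fun _ _ _ k => Fr.T_mem C (fun r => h1 r ▸ map_le_range _ _) k), h5⟩
    perf mult (h6 ▸ hz)
  have k3 : ∀ r, ∀ x, ∀ hx : x ∈ h₁.pbA C r, ψ x.1 = x.2 := fun r x hx => by
    obtain ⟨k, e⟩ := Fr.isPGroup_X C 2 r ⟨π ⟨x, le r hx⟩, h1 r ▸ mem_map_of_mem π hx⟩
    exact k2 ⟨x, le r hx⟩ k (h3 r _ (pow_mem (show _ ∈ (h₁.pbA C r).subgroupOf Γ from hx) _)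
      ((map_pow π _ _).trans (congrArg Subtype.val e)))
  have k4 : ∀ a b, Ap a b → ∀ t, ψ (Fr.xm C a b t) = xm a b t := fun a b k t => by
    obtain ⟨r, hr⟩ := exists_mid k
    exact k3 _ _ ((h₁.pb_mid C k hr).2 ⟨t, rfl⟩)
  have k5 : ∀ a w c, w ∈ Fr.V0 → TOk P (Fr.v a) w c → ψ (C.T (Fr.v a) w c) = xe a w c := fun a w c hw hc =>
    k3 _ _ (h₁.pb_end C hw hc)
  refine ⟨ψ, k4, k5, le_antisymm (h6 ▸ k1) ((closure_le _).2 ?_)⟩
  rintro _ (⟨a, b, t, k, rfl⟩ | ⟨a, w, c, hw, hc, rfl⟩)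
  exacts [⟨_, k4 a b k t⟩, ⟨_, k5 a w c hw hc⟩]

/-- the unitary case -/
theorem pres_su [FiniteDimensional F V] (hH : P.IsHerm) (h2 : (2 : F) = 0) (hm : 2 ≤ m)
    (gen : ∀ K : Subgroup S, (∀ e a c, TOk P e a c → C.T e a c ∈ K) → K = ⊤)
    (perf : (⊤ : Subgroup S) ≤ ⁅(⊤ : Subgroup S), ⊤⁆) (mult : M2 S)
    {xm : II m → II m → F → G} {xe : II m → V → F → G} (h : XRel Fr xm xe)
    (hz : ∀ g ∈ XG Fr xm xe, g ∈ centralizer (XG Fr xm xe : Set G) → g * g = 1 → g = 1) :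
    ∃ ψ : S →* G, (∀ a b, Ap a b → ∀ t, ψ (Fr.xm C a b t) = xm a b t) ∧
      (∀ a w c, w ∈ Fr.V0 → TOk P (Fr.v a) w c → ψ (C.T (Fr.v a) w c) = xe a w c) ∧
      ψ.range = XG Fr xm xe := by
  have : CharP F 2 := CharTwo.of_one_ne_zero_of_two_eq_zero one_ne_zero h2
  have hne : P.Λ ≠ ⊥ := fun h => by
    obtain ⟨δ, h1, h2⟩ := hH.exists_trace_zero
    exact h1 (h.le ((hH.mem_Λ δ).2 h2))
  obtain ⟨q, hq, -, hσ, -⟩ := Tits.PQa.invol P.σσ (by
    by_contra! k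
    exact hH.σ_ne (RingHom.ext k))
  have := Fintype.ofFinite F
  have hF : Fintype.card F = q ^ 2 := Nat.card_eq_fintype_card.symm.trans hq
  obtain rfl : σ = Unitary.conj hF := RingHom.ext hσ
  rcases (Fr.V0_cases hH).2 with h0 | ⟨w, hw, w1, w2⟩
  · choose nd _ using Fr.exists_node_two C hH h0 (Unitary.fixedSubfield hF).subtype
      fun c => ⟨fun h => ⟨⟨c, h⟩, rfl⟩, fun ⟨k, hk⟩ => hk ▸ k.2⟩
    exact pres C Fr h2 hm nd (sl2_U_p 2) (sl2_V_p 2) (sl2_T_p 2) (Or.inr hne) gen perf mult h hz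
  · obtain ⟨t⟩ := nonempty_tri hF
    obtain ⟨ρ, hU, hV, hT, b, c, hb, hc, n1, n2⟩ := t.exists_rankOne (cgSU hF 3) (uPQ_isHerm hF 3) (su_det 3)
    choose nd _ using Fr.exists_node_three C hH hw w1 w2 (cgSU hF 3) (uPQ_isHerm hF 3) t hU hV hT hb hc n1 n2
    refine pres C Fr h2 hm nd (hU ▸ (cgSU hF 3).isPGroup_QU 2 _ _) (hV ▸ (cgSU hF 3).isPGroup_QU 2 _ _)
      (fun g hg => ⟨_, not_dvd_card_units (F := F) 2, (cgSU hF 3).ext fun x => ?_⟩) (Or.inr hne) gen perf mult h hz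
    obtain ⟨⟨s, hs, h1⟩, s', hs', h2⟩ := hT ▸ hg
    obtain ⟨s'', h3⟩ := t.mem_Wp.1 ((cgSU hF 3).act_mem_perp_pair ⟨s, hs, h1⟩ ⟨s', hs', h2⟩
      (t.mem_Wp.2 ⟨1, one_smul _ _⟩))
    have h4 : s'' ≠ 0 := fun h => by
      have := t.ww
      rw [← (cgSU hF 3).B_act g, ← h3, h] at this
      simp at this
    rw [t.dec x, (cgSU hF 3).one_apply, map_add, map_add, map_smul, map_smul, map_smul,
      (cgSU hF 3).pow_card_apply hs h1, (cgSU hF 3).pow_card_apply hs' h2, (cgSU hF 3).pow_card_apply h4 h3.symm]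

end CfsgLib.SPC
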