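import Cfsg.Agent.Lib.SPC.Defs
import Cfsg.Agent.Lib.HX.Red

/-! The reduction to a simple normal subgroup -/

set_option autoImplicit false
set_option linter.unusedSectionVars false

namespace CfsgLib.SPC

open Subgroup Module CfsgLib.Forms CfsgLib.LieMult
open CfsgLib.HX (Std CO Two Mv M2)
open CfsgLib.UN (AV SI TI HH Rad Stb Yg Rg Eg Act nu)
open CfsgLib.ClSys (II)
open Submodule (span)
open scoped commutatorElement Pointwise

universe u

variable {F : Type} [Field F] [Finite F] {V : Type} [AddCommGroup V] [Module F V]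
  [FiniteDimensional F V] {P : PQ (RingHom.id F) V} {S : Type} [Group S] [Finite S] {G : Type u}
  [Group G] [Finite G] {C : CG P S} {φ : S →* G} {t : G}

section

open Cfsg CfsgLib.HX CfsgLib.HX.RedAux CfsgLib.Tech

variable {H : Subgroup G}

/-- the case `O(G) = 1` -/
theorem red_bot1 (hO : oddCore G = ⊥) (h : Std H t) (hs : IsSimpleGroup H) (h4 : Has4 H)
    (hn : ¬ H.Normal) (Pr : ∀ (K : Type u) [Group K], Prop)
    (hPr : ∀ (K K' : Type u) [Group K] [Group K'], (K ≃* K') → Pr K → Pr K')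
    (main : ∀ (G₀ : Type u) [Group G₀] [Finite G₀] (H₀ Gs : Subgroup G₀) (t₀ : G₀), (H₀ ≃* H) →
      Std H₀ t₀ → SLE.Glob Gs t₀ → H₀ ≤ Gs → Fus1 H₀ t₀ ∧ Pr Gs) :
    Fus1 H t ∧ normalClosure (H : Set G) = layer G ∧
      (IsSimpleGroup (layer G) ∧ Pr (layer G) ∨ Nonempty (layer G ≃* H × H)) := by
  have hq := qs hs h4
  have hA := h.standard hq h4
  have ht := Invol.orderOf_eq_two h.t1 h.t2
  have hN := Comp.layer_normal (G := G)
  have hE : H ≤ layer G := PComp.pLayer_eq_layer_of_pPrimeCore_eq_bot hO ▸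
    LBal.bal_two_singleton ht (LBal.std_rc hA ht h.tC).pc_two
  rcases LBal.s1347 hA hO ht h.tC with h0 | ⟨X, h1, -, ⟨f⟩, h3, h5, h6, -⟩ | ⟨-, h1, h2⟩
  · exact (hn h0).elim
  · obtain ⟨f'⟩ := Fusion.nonempty_sup_equiv_prod h3 h5
    have hX : layer G ≤ normalizer (X : Set G) := h6 ▸ sup_le le_normalizer
      fun b hb => centralizer_le_normalizer _ fun a ha => h3 a ha b hb
    have ti : t⁻¹ = t := inv_eq_of_mul_eq_one_right h.t2
    have hm : ∀ x ∈ X, t * x * t⁻¹ ∈ X.map (MulAut.conj t).toMonoidHom := fun x hx => ⟨x, hx, rfl⟩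
    have uq : ∀ x ∈ X, ∀ x' ∈ X, ∀ y ∈ X, ∀ y' ∈ X,
        x * (t * y * t⁻¹) = x' * (t * y' * t⁻¹) → x = x' := fun x hx x' hx' y hy y' hy' e => by
      have : x'⁻¹ * x ∈ X ⊓ X.map (MulAut.conj t).toMonoidHom :=
        mem_inf.2 ⟨mul_mem (inv_mem hx') hx, by
          have e' : x'⁻¹ * x = t * (y' * y⁻¹) * t⁻¹ := by
            calc x'⁻¹ * x = x'⁻¹ * (x * (t * y * t⁻¹)) * (t * y * t⁻¹)⁻¹ := by group
              _ = _ := by rw [e]; group
          rw [e']; exact hm _ (mul_mem hy' (inv_mem hy))⟩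
      rw [h5, mem_bot, inv_mul_eq_one] at this
      exact this.symm
    have dec : ∀ e ∈ H, ∃ x ∈ X, e = x * (t * x * t⁻¹) := fun e he => by
      have h7 := hE he
      rw [← h6, ← SetLike.mem_coe, coe_mul_of_right_le_normalizer_left _ _
        (le_sup_right.trans (h6.le.trans hX))] at h7
      obtain ⟨x, hx, _, ⟨y, hy, rfl⟩, rfl⟩ := h7
      refine ⟨x, hx, ?_⟩
      have h8 : x * (t * y * t⁻¹) * t = t * (x * (t * y * t⁻¹)) := h.tC _ he
      have h9 : x * (t * y * t⁻¹) = y * (t * x * t⁻¹) := by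
        rw [h3 y hy _ (hm x hx)]
        calc x * (t * y * t⁻¹) = x * (t * y * t⁻¹) * t * t⁻¹ := by group
          _ = t * x * t * y * (t⁻¹ * t⁻¹) := by rw [h8]; group
          _ = _ := by rw [ti, h.t2, mul_one]
      rw [uq x hx y hy y hy x hx h9]; rfl
    have mul : ∀ x ∈ X, ∀ y ∈ X, x * (t * x * t⁻¹) * (y * (t * y * t⁻¹)) =
        x * y * (t * (x * y) * t⁻¹) := fun x hx y hy => by
      calc _ = x * ((t * x * t⁻¹) * y) * (t * y * t⁻¹) := by group
        _ = _ := by rw [← h3 y hy _ (hm x hx)]; group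
    refine ⟨?_, le_antisymm (normalClosure_le_normal hE) ?_, .inr ⟨((MulEquiv.subgroupCongr h6.symm).trans f').trans
      (f.prodCongr ((X.equivMapOfInjective _ (MulAut.conj t).injective).symm.trans f))⟩⟩
    · obtain ⟨a, ha, -, -, a2, -, -, a1, -⟩ := h4
      refine ⟨a, ha, a2, a1, ?_⟩
      obtain ⟨x, hx, rfl⟩ := dec a ha
      have x2 : x * x = 1 := uq _ (mul_mem hx hx) 1 (one_mem _) _ (mul_mem hx hx) 1 (one_mem _)
        (by rw [← mul x hx x hx, a2]; group)
      exact ⟨x, (Commute.refl x).mul_right (h3 x hx _ (hm x hx)), by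
        rw [h3 x hx _ (hm x hx), inv_eq_of_mul_eq_one_right x2, ti, ← mul_assoc, ← mul_assoc,
          ← mul_assoc, h.t2, one_mul]⟩
    rcases (normalClosure_normal (s := (H : Set G))).subgroupOf X |>.eq_bot_or_eq_top with e | e
    · have h7 : X ≤ centralizer (H : Set G) := fun x hx a ha => by
        have h7 : a * x * a⁻¹ * x⁻¹ ∈ X :=
          mul_mem (conj_mem_of_mem_normalizer (hX (hE ha)) hx) (inv_mem hx)
        have h8 := congrArg Subtype.val (mem_bot.1 (e.le (show (⟨_, h7⟩ : X) ∈ subgroupOf _ X from by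
          have := mul_mem (subset_normalClosure ha)
            (normalClosure_normal.conj_mem _ (inv_mem (subset_normalClosure ha)) x)
          rwa [← mul_assoc, ← mul_assoc] at this)))
        exact mul_inv_eq_iff_eq_mul.1 (mul_inv_eq_one.1 h8)
      refine absurd (hE.trans (h6.ge.trans (sup_le h7 ?_))) (Comp.qs_sub_not_le_centralizer hq)
      rintro _ ⟨x, hx, rfl⟩
      exact mul_mem (mul_mem h.tC (h7 hx)) (inv_mem h.tC)
    · rw [subgroupOf_eq_top] at e
      refine h6.ge.trans (sup_le e ?_)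
      rintro _ ⟨x, hx, rfl⟩
      exact normalClosure_normal.conj_mem _ (e hx) t
  · have h3 : centralizer (layer G : Set G) = ⊥ :=
      LBal.eq_bot_of_no_invol hO (Normal.isSubnormal inferInstance) fun s hs h2 =>
        hn (normalizer_eq_top_iff.1 (top_le_iff.1 fun g _ => by
          by_contra hg
          have h4 := odd_mem (hA.2.1.2 g (hA.2.2.2 ▸ hg)) (x := s) ⟨centralizer_le hE hs,
            g⁻¹ * s * g, centralizer_le hE (Normal.conj_mem' inferInstance s hs g),
            by simp [mul_assoc]⟩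
          rw [h2] at h4
          exact absurd h4 (by decide)))
    have HG : H ≤ layer G ⊔ zpowers t := hE.trans le_sup_left
    obtain ⟨⟨a, ha, a2, a1, g, c1, c3⟩, h6⟩ := main _ _ _ _ (subgroupOfEquivOfLe HG)
      (std_sub h HG (mem_sup_right (mem_zpowers t))) (glob_sub hN h1 h2 h3 h.t2) fun x hx => hE hx
    refine ⟨⟨a, ha, congrArg Subtype.val a2, fun e => a1 (Subtype.ext e), g,
      congrArg Subtype.val c1.eq, congrArg Subtype.val c3⟩,
      le_antisymm (normalClosure_le_normal hE) ?_,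
      .inl ⟨h1, hPr _ _ (subgroupOfEquivOfLe le_sup_left) h6⟩⟩
    · refine subgroupOf_eq_top.1 (((normalClosure_normal (s := (H : Set G))).subgroupOf
        (layer G)).eq_bot_or_eq_top.resolve_left fun e => a1 (Subtype.ext ?_))
      have := mem_bot.1 (e.le (show (⟨a, hE ha⟩ : layer G) ∈ subgroupOf _ _ from
        subset_normalClosure ha))
      exact congrArg (fun x : layer G => (x : G)) this

theorem cent_core1 (h : Std H t) (hs : IsSimpleGroup H) (h4 : Has4 H)
    (hf : Fus1 (H.map (QuotientGroup.mk' (oddCore G))) (QuotientGroup.mk' (oddCore G) t)) :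
    H ≤ centralizer (oddCore G : Set G) := by
  have hO := Core.odd_card_oddCore G
  obtain ⟨_, ⟨e, he, rfl⟩, a2, a1, g, c1, c3⟩ := hf
  obtain ⟨g, rfl⟩ := QuotientGroup.mk'_surjective _ g
  have e2 : e * e = 1 := inf_core hs h4 (mul_mem he he) (memO.1 (by rw [map_mul, a2]))
  have e1 : e ≠ 1 := fun h1 => a1 (by rw [h1, map_one])
  have et : e * t = t * e := h.tC e he
  have te2 : t * e * (t * e) = 1 := by rw [mul_assoc, ← mul_assoc e, et, mul_assoc, e2, mul_one, h.t2]
  obtain ⟨g', h1, h2⟩ := lift_conj (g := g) h.t2 te2 (by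
    simp only [map_mul, map_inv]; exact c3)
  rw [← h1] at c1
  have hC : oddCore G ⊓ centralizer {t} ≤ centralizer (H : Set G) := fun o ho =>
    cent_of_mod (qs hs h4) (h.CN ho.2) fun y _ =>
      mul_mem (Normal.conj_mem inferInstance o ho.1 y) (inv_mem ho.1)
  have hC' : ∀ o ∈ oddCore G ⊓ centralizer {t * e}, Commute (g' * e * g'⁻¹) o := fun o ho => by
    have h3 := hC (x := g'⁻¹ * o * g') ⟨Normal.conj_mem' inferInstance o ho.1 g',
      mem_centralizer_singleton_iff.2 (by
        have := mem_centralizer_singleton_iff.1 ho.2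
        rw [← h2] at this
        calc g'⁻¹ * o * g' * t = g'⁻¹ * (o * (g' * t * g'⁻¹)) * g' := by group
          _ = _ := by rw [this]; group)⟩ e he
    calc g' * e * g'⁻¹ * o = g' * (e * (g'⁻¹ * o * g')) * g'⁻¹ := by group
      _ = _ := by rw [h3]; group
  have h3 : g' * e * g'⁻¹ = e := by
    have a1 : Commute (g' * e * g'⁻¹) (t * e) := by
      rw [← h2]
      calc g' * e * g'⁻¹ * (g' * t * g'⁻¹) = g' * (e * t) * g'⁻¹ := by group
        _ = _ := by rw [et]; group
    have a2 : Commute e (t * e) := Commute.mul_right et (Commute.refl e)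
    have a3 : g' * e * g'⁻¹ * e ∈ oddCore G := memO.1 (by
      rw [map_mul, map_mul, map_mul, map_inv, c1.eq, mul_inv_cancel_right, ← map_mul, e2, map_one])
    have a4 := hC' _ ⟨a3, mem_centralizer_singleton_iff.2 (a1.mul_left a2).eq⟩
    have a5 : g' * e * g'⁻¹ * (g' * e * g'⁻¹) = 1 := by rw [conj_mul, e2]; group
    have a6 := eq_one_of_odd (odd_mem hO a3) (by
      rw [← mul_assoc, ← a4.eq, ← mul_assoc, a5, one_mul, e2])
    rw [mul_eq_one_iff_eq_inv, inv_eq_of_mul_eq_one_right e2] at a6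
    exact a6
  have h6 : oddCore G ≤ centralizer {e} :=
    UFP.le_of_four hO h.t2 e2 et.symm h.t1 e1 (fun h0 => h.t1 (by
      rw [← h2, mul_inv_eq_one, mul_eq_left] at h0; exact h0))
      (le_normalizer_of_normal (mem_top t)) (le_normalizer_of_normal (mem_top e))
      (fun o ho => mem_centralizer_singleton_iff.2 (hC ho e he).symm) inf_le_right
      fun o ho => mem_centralizer_singleton_iff.2 (by
        have := hC' o ho
        rw [h3] at this
        exact this.eq.symm)
  refine subgroupOf_eq_top.1 (((inferInstance : (centralizer (oddCore G : Set G)).Normal).subgroupOf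
    H).eq_bot_or_eq_top.resolve_left fun h0 => e1 ?_)
  exact congrArg Subtype.val (mem_bot.1 (h0.le (show (⟨e, he⟩ : H) ∈ subgroupOf _ _ from
    fun o ho => mem_centralizer_singleton_iff.1 (h6 ho))))

end

open Cfsg CfsgLib.HX CfsgLib.HX.RedAux CfsgLib.Tech in
theorem red2 {H : Subgroup G} (hH : Cfsg.IsStandardSubgroup H)
    (hR : ∀ R : Sylow 2 (centralizer (H : Set G)), IsCyclic (R : Subgroup (centralizer (H : Set G))))
    (hs : IsSimpleGroup H) (h4 : HX.Has4 H) (hM : M2 H) (Pr : ∀ (K : Type u) [Group K], Prop)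
    (hPr : ∀ (K K' : Type u) [Group K] [Group K'], (K ≃* K') → Pr K → Pr K')
    (main : ∀ (G₀ : Type u) [Group G₀] [Finite G₀] (H₀ Gs : Subgroup G₀) (t₀ : G₀), (H₀ ≃* H) →
      Std H₀ t₀ → SLE.Glob Gs t₀ → H₀ ≤ Gs → Fus1 H₀ t₀ ∧ Pr Gs) :
    (H ⊔ Cfsg.oddCore G).Normal ∨
      (∃ (X : Type u) (_ : Group X) (π : normalClosure (H : Set G) →* X), Pr X ∧ IsSimpleGroup X ∧
        Cfsg.IsStemExtension π ∧ Odd (Nat.card π.ker)) ∨
      Nonempty (normalClosure (H : Set G) ≃* H × H) := by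
  obtain ⟨t, h⟩ := exists_std hH hR
  have hO := Core.odd_card_oddCore G
  set f := QuotientGroup.mk' (oddCore G) with hf
  have fs : Function.Surjective f := QuotientGroup.mk'_surjective _
  have e : H ≃* H.map f := MulEquiv.ofBijective (f.subgroupMap H) ⟨(injective_iff_map_eq_one _).2
    fun x hx => Subtype.ext (inf_core hs h4 x.2 (memO.1 (congrArg Subtype.val hx))),
    f.subgroupMap_surjective H⟩
  by_cases hn : (H.map f).Normal
  · left
    have := hn.comap f
    rwa [comap_map_eq, hf, QuotientGroup.ker_mk'] at this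
  right
  have h4' : Has4 (H.map f) := by
    obtain ⟨a, ha, b, hb, a2, b2, hc, a1, b1, ab⟩ := id h4
    refine ⟨_, ⟨a, ha, rfl⟩, _, ⟨b, hb, rfl⟩, by rw [← map_mul, a2, map_one],
      by rw [← map_mul, b2, map_one], hc.map f, fun h0 => a1 (inf_core hs h4 ha (memO.1 h0)),
      fun h0 => b1 (inf_core hs h4 hb (memO.1 h0)), fun h0 => ab ?_⟩
    have := inf_core hs h4 (mul_mem ha (inv_mem hb)) (memO.1 (by
      rw [map_mul, map_inv, ← hf, h0, mul_inv_cancel]))
    rwa [mul_inv_eq_one] at this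
  obtain ⟨h1, h2, h3⟩ := red_bot1 (Core.pPrimeCore_quotient_pPrimeCore 2 G) (h.quot hH.1)
    e.symm.isSimpleGroup h4' hn Pr hPr fun G₀ _ _ H₀ Gs t₀ e' => main G₀ H₀ Gs t₀ (e'.trans e.symm)
  have h5 := cent_core1 h hs h4 h1
  set N := normalClosure (H : Set G)
  have h6 : N ≤ centralizer (oddCore G : Set G) := normalClosure_le_normal h5
  have h7 : N.map f = layer (G ⧸ oddCore G) := by rw [← h2, map_normalClosure _ _ fs]; rfl
  have h8 : N ≤ ⁅N, N⁆ := normalClosure_le_normal ((Comp.qs_sub_perfect hH.1).ge.trans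
    (commutator_mono le_normalClosure le_normalClosure))
  have h9 : (⊤ : Subgroup N) ≤ ⁅(⊤ : Subgroup N), (⊤ : Subgroup N)⁆ := fun k _ => by
    have := h8 k.2
    rw [← map_subtype_commutator] at this
    obtain ⟨k', h4, h5⟩ := this
    rwa [← Subtype.ext h5]
  let σ : N →* layer (G ⧸ oddCore G) :=
    (MulEquiv.subgroupCongr h7).toMonoidHom.comp (f.subgroupMap N)
  have hk : ∀ x, σ x = 1 → (x : G) ∈ oddCore G := fun x hx => memO.1 (congrArg Subtype.val hx)
  have hσ : IsStemExtension σ := ⟨(MulEquiv.subgroupCongr h7).surjective.comp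
    (f.subgroupMap_surjective N), fun x hx => mem_center_iff.2 fun y =>
      Subtype.ext (h6 y.2 _ (hk x hx)).symm, le_top.trans h9⟩
  rcases h3 with ⟨h3, h3'⟩ | ⟨⟨g⟩⟩
  · refine .inl ⟨_, _, σ, h3', h3, hσ, hO.of_dvd_nat ?_⟩
    rw [← card_map_of_injective N.subtype_injective]
    exact card_dvd_of_le (by rintro _ ⟨x, hx, rfl⟩; exact hk x hx)
  have hσ2 : IsPGroup 2 σ.ker :=
    (ker_prod (hM.of_equiv e) (Comp.qs_of_mulEquiv hH.1 e).1.commutator_eq_top.ge
      (g.toMonoidHom.comp σ) ⟨g.surjective.comp hσ.1, fun x hx => hσ.2.1 (g.injective (by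
        rw [map_one]; exact hx)), le_top.trans h9⟩ h9).to_le
      fun x hx => show g (σ x) = 1 by rw [show σ x = 1 from hx, map_one]
  have e' : N ≃* layer (G ⧸ oddCore G) := MulEquiv.ofBijective σ ⟨(injective_iff_map_eq_one _).2
    fun x hx => by
      obtain ⟨n, hn⟩ := hσ2 ⟨x, hx⟩
      have a1 : orderOf (x : G) ∣ 2 ^ n :=
        orderOf_dvd_of_pow_eq_one (congrArg (fun y => (y.1 : G)) hn)
      exact Subtype.ext (orderOf_eq_one_iff.1 (Nat.Coprime.eq_one_of_dvd
        ((Nat.coprime_two_right.2 (odd_mem hO (hk x hx))).pow_right n) a1)), hσ.1⟩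
  exact .inr ⟨e'.trans (g.trans (e.symm.prodCongr e.symm))⟩

end CfsgLib.SPC
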