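import Cfsg.Agent.Lib.SPC.Main
import Cfsg.Agent.Lib.SPC.Inst
import Cfsg.Agent.Lib.SPC.Red
import Cfsg.Agent.Lib.UN.Fin
import Cfsg.Agent.Lib.Classical.SmallIso3
import Cfsg.Agent.S2089
import Cfsg.Agent.S2092
import Cfsg.Agent.S2098
import Cfsg.Agent.S2099

/-! Wrappers -/

set_option autoImplicit false
set_option linter.unusedSectionVars false

namespace CfsgLib.SPC

open Subgroup Module CfsgLib.Forms CfsgLib.LieMult
open CfsgLib.HX (Std CO Two Mv M2)
open CfsgLib.UN (AV SI TI HH Rad Stb Yg Rg Eg Act nu)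
open CfsgLib.ClSys (II)
open Submodule (span)
open scoped commutatorElement Pointwise

universe u

variable {F : Type} [Field F] [Finite F] {V : Type} [AddCommGroup V] [Module F V]
  [FiniteDimensional F V] {P : PQ (RingHom.id F) V} {S : Type} [Group S] [Finite S] {G : Type u}
  [Group G] [Finite G] {C : CG P S} {φ : S →* G} {t : G}

theorem Pr.congr {k : ℕ} {H H' : Type u} [Group H] [Group H'] (e : H ≃* H') (h : Pr F k H) :
    Pr F k H' := by
  rcases h with ⟨⟨i⟩⟩ | ⟨⟨i⟩⟩ | ⟨K, _, _, hK, h⟩ | ⟨⟨i⟩⟩ | ⟨a, b, hab, ⟨i⟩⟩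
  · exact .inl ⟨e.symm.trans i⟩
  · exact .inr (.inl ⟨e.symm.trans i⟩)
  · exact .inr (.inr (.inl ⟨K, _, _, hK, h.imp (fun ⟨i⟩ => ⟨e.symm.trans i⟩)
      (.imp (fun ⟨i⟩ => ⟨e.symm.trans i⟩) fun ⟨i⟩ => ⟨e.symm.trans i⟩)⟩))
  · exact .inr (.inr (.inr (.inl ⟨e.symm.trans i⟩)))
  · exact .inr (.inr (.inr (.inr ⟨a, b, hab, ⟨e.symm.trans i⟩⟩)))

theorem Mod.exists_emb (h : Mod C) {L : Subgroup G} (e : S ≃* L) :
    ∃ φ : S →* G, Emb C φ ∧ φ.range = L := by
  refine ⟨L.subtype.comp e.toMonoidHom, ⟨h, L.subtype_injective.comp e.injective⟩, ?_⟩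
  rw [MonoidHom.range_comp, MonoidHom.range_eq_top.2 e.surjective, ← MonoidHom.range_eq_map, range_subtype]

theorem exists_GF (F' : Type*) [Field F'] [Fintype F'] {n : ℕ} (hn : 1 ≤ n)
    (hF : Fintype.card F' = 2 ^ n) : ∃ (F : Type) (_ : Field F) (_ : Fintype F),
      (2 : F) = 0 ∧ Nat.card F = 2 ^ n ∧ Nonempty (F' ≃+* F) := by
  have hc : Nat.card (GaloisField 2 n) = 2 ^ n := GaloisField.card 2 _ (by omega)
  have := Fintype.ofFinite (GaloisField 2 n)
  exact ⟨_, _, this, CharTwo.two_eq_zero, hc,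
    ⟨FiniteField.ringEquivOfCardEq (hF.trans (hc.symm.trans Nat.card_eq_fintype_card))⟩⟩

/-- transport of the list along a field isomorphism -/
theorem Pr.field {F' : Type*} [Field F'] (f : F' ≃+* F) {k : ℕ} {H : Type u} [Group H] (h : Pr F k H) :
    Nonempty (H ≃* Matrix.ProjectiveSpecialLinearGroup (Fin (2 * k)) F') ∨
    Nonempty (H ≃* Matrix.ProjectiveSpecialLinearGroup (Fin (2 * k + 1)) F') ∨
    (∃ (K : Type) (_ : Field K) (_ : Fintype K), Fintype.card K = Nat.card F ^ 2 ∧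
      (Nonempty (H ≃* Cfsg.PSU (2 * k) K (Nat.card F)) ∨
        Nonempty (H ≃* Cfsg.PSU (2 * k + 1) K (Nat.card F)) ∨ Nonempty (H ≃* Cfsg.PSp k K))) ∨
    Nonempty (H ≃* Cfsg.POmega F' (Cfsg.quadFormPlus (k + 1) F')) ∨
    ∃ a b : F', (∀ z₁ z₂ : F', z₁ ^ 2 + a * z₁ * z₂ + b * z₂ ^ 2 = 0 → z₁ = 0 ∧ z₂ = 0) ∧
      Nonempty (H ≃* Cfsg.POmega F' (Cfsg.quadFormMinus k F' a b)) := by
  rcases h with ⟨⟨i⟩⟩ | ⟨⟨i⟩⟩ | h | ⟨⟨i⟩⟩ | ⟨a, b, hab, ⟨i⟩⟩
  · exact .inl ⟨i.trans (Classical.pslMapEquiv f.symm)⟩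
  · exact .inr (.inl ⟨i.trans (Classical.pslMapEquiv f.symm)⟩)
  · exact .inr (.inr (.inl h))
  · exact .inr (.inr (.inr (.inl
      ⟨i.trans (Classical.pomegaMapEquiv f.symm _ _ (Classical.quadFormPlus_map f.symm _))⟩)))
  · refine .inr (.inr (.inr (.inr ⟨f.symm a, f.symm b, fun z₁ z₂ hz => ?_,
      ⟨i.trans (Classical.pomegaMapEquiv f.symm _ _ (Classical.quadFormMinus_map f.symm _ a b))⟩⟩)))
    have := hab (f z₁) (f z₂) (by simpa using congrArg f hz)
    simpa using this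

theorem psp_field {F' : Type*} [Field F'] (f : F' ≃+* F) (k : ℕ) :
    Nonempty (Cfsg.PSp k F' ≃* Cfsg.PSp k F) := by
  exact ⟨Classical.centerQuotEquiv (Classical.spMapEquiv f)⟩

/-- the case of a simple `F*(G)` -/
theorem std_simple (hF : IsSimpleGroup (Cfsg.generalizedFittingSubgroup G))
    (hF' : ¬ IsMulCommutative (Cfsg.generalizedFittingSubgroup G)) {L : Subgroup G}
    (hL : Cfsg.IsStandardSubgroup L)
    (hR : ∀ R : Sylow 2 (centralizer (L : Set G)), IsCyclic (R : Subgroup (centralizer (L : Set G))))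
    {k : ℕ} (hk : 3 ≤ k) (h2 : (2 : F) = 0) (e : (L ⧸ Cfsg.oddCore L) ≃* Cfsg.PSp k F) :
    Pr F k (Cfsg.generalizedFittingSubgroup G) := by
  obtain ⟨P, C, h⟩ := exists_mod hk h2
  obtain ⟨i⟩ := equiv_PSp hk h2
  have := h.simp
  let π := (e.trans i.symm).toMonoidHom.comp (QuotientGroup.mk' (Cfsg.oddCore L))
  have hs : Function.Surjective π := (e.trans i.symm).surjective.comp (QuotientGroup.mk'_surjective _)
  have hker : π.ker = Cfsg.oddCore L := by
    rw [MonoidHom.ker_comp_of_injective _ _ (e.trans i.symm).injective, QuotientGroup.ker_mk']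
  have h1 : π.ker ≤ center L := (Comp.qs_normal hL.1 _ inferInstance).resolve_left fun k' => by
    obtain ⟨y, hy⟩ := exists_ne (1 : Matrix.symplecticGroup (Fin k) F)
    obtain ⟨y, rfl⟩ := hs y
    exact hy (k'.ge (mem_top y))
  have h3 := h.mult.isPGroup π ⟨hs, h1, hL.1.1.commutator_eq_top ▸ le_top⟩
  have h4 : π.ker = ⊥ := by
    obtain ⟨j, hj⟩ := IsPGroup.iff_card.1 h3
    have h5 : ¬ 2 ∣ Nat.card π.ker := hker ▸ (Core.odd_card_oddCore L).not_two_dvd_nat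
    rw [hj] at h5
    rcases j with _ | j
    · exact card_eq_one.1 hj
    · exact absurd (dvd_pow_self 2 j.succ_ne_zero) h5
  obtain ⟨φ, h6, rfl⟩ := h.exists_emb (MulEquiv.ofBijective π ⟨(MonoidHom.ker_eq_bot_iff π).1 h4, hs⟩).symm
  obtain ⟨t, ht⟩ := HX.exists_std hL hR
  have hn' := Comp.fstar_normal (G := G)
  have hb : centralizer (Cfsg.generalizedFittingSubgroup G : Set G) = ⊥ := by
    rcases ((inferInstance : (centralizer (Cfsg.generalizedFittingSubgroup G : Set G)).Normal).subgroupOf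
      (Cfsg.generalizedFittingSubgroup G)).eq_bot_or_eq_top with k | k
    · exact (subgroupOf_eq_bot.1 k).eq_bot_of_le Comp.centralizer_fstar_le
    · exact absurd ⟨⟨fun x y => Subtype.ext (subgroupOf_eq_top.1 k y.2 x x.2)⟩⟩ hF'
  have g := HX.RedAux.glob_sub hn' hF hF' hb ht.t2
  have hLF := StdW.le_fstar hF hF' hL
  have hG := hLF.trans (le_sup_left (b := zpowers t))
  let φ₀ := φ.codRestrict _ fun s => hG ⟨s, rfl⟩
  have e0 : φ₀.range = φ.range.subgroupOf _ :=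
    Subgroup.ext fun y => ⟨fun ⟨s, k⟩ => ⟨s, congrArg Subtype.val k⟩, fun ⟨s, k⟩ => ⟨s, Subtype.ext k⟩⟩
  exact (Sit.main (φ := φ₀) ⟨⟨h, fun s s' k => h6.inj (congrArg Subtype.val k)⟩,
    e0.symm ▸ HX.RedAux.std_sub ht hG (mem_sup_right (mem_zpowers t))⟩ g (e0.le.trans (comap_mono hLF))
    ClAut.finrank_sp).2.congr (subgroupOfEquivOfLe le_sup_left)

theorem fin_triv {X Γ : Type u} [Group X] [Group Γ] [Finite Γ] {π : Γ →* X} (h1 : Cfsg.IsStemExtension π)
    (h2 : Odd (Nat.card π.ker)) {Y : Type} [Group Y] (e : X ≃* Y) {A : Type} [CommGroup A]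
    (hA : Cfsg.HasSchurMultiplier Y A) (h4 : Nat.card A ∣ 4) : Nonempty (X ≃* Γ) := by
  obtain ⟨f, hf⟩ := (Schur.mult_congr_left hA e.symm).2 Γ π h1
  have h5 : Nat.card π.ker ∣ 2 ^ 2 := (Subgroup.card_dvd_of_surjective f hf).trans h4
  have h6 : π.ker = ⊥ := card_eq_one.1 (Nat.Coprime.eq_one_of_dvd (h2.coprime_two_right.pow_right 2) h5)
  exact ⟨(MulEquiv.ofBijective π ⟨(MonoidHom.ker_eq_bot_iff π).1 h6, h1.1⟩).symm⟩

theorem fin_stem {E Q : Type*} [Group E] [Group Q] [hQ : Group.IsPerfect Q] {τ : E →* Q}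
    (h : Schur.IsCentralExt τ) : Cfsg.IsStemExtension (τ.comp (commutator E).subtype) := by
  have h1 : ∀ q, ∃ y ∈ commutator E, τ y = q := fun q => by
    have : q ∈ (commutator E).map τ := by
      rw [map_commutator_eq, MonoidHom.range_eq_top.2 h.surj, ← _root_.commutator_def, hQ.commutator_eq_top]
      exact mem_top q
    exact this
  have h2 : commutator E = ⁅commutator E, commutator E⁆ := Schur.commutator_eq_of_sup_center fun x => by
    obtain ⟨y, hy, e⟩ := h1 (τ x)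
    exact ⟨y, hy, h.central (by rw [MonoidHom.mem_ker, map_mul, map_inv, e, inv_mul_cancel])⟩
  have h3 : commutator (commutator E) = ⊤ := by
    apply map_injective (commutator E).subtype_injective
    rw [Subgroup.map_subtype_commutator, ← h2, ← MonoidHom.range_eq_map, range_subtype]
  refine ⟨fun q => ?_, fun x hx => mem_center_iff.2 fun y => Subtype.ext (h.comm hx y.1), h3 ▸ le_top⟩
  obtain ⟨y, hy, e⟩ := h1 q
  exact ⟨⟨y, hy⟩, e⟩

theorem fin_psu (n : ℕ) (K : Type) [Field K] {q q' : ℕ} (h : q = q') :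
    Nonempty (Cfsg.PSU n K q ≃* Cfsg.PSU n K q') := by
  subst h
  exact ⟨MulEquiv.refl _⟩

theorem fin_su {K : Type} [Field K] [Fintype K] (hK : Fintype.card K = 2 ^ 2) {Γ : Type u} [Group Γ] [Finite Γ]
    {ξ : Γ →* Cfsg.PSU 6 K 2} (h1 : Cfsg.IsStemExtension ξ) (h2 : Odd (Nat.card ξ.ker)) :
    Nonempty (Γ ≃* Cfsg.PSU 6 K 2) ∨ Nonempty (Γ ≃* Cfsg.SU 6 K 2) := by
  let σ := QuotientGroup.mk' (center (Cfsg.SU 6 K 2))
  have hp : Group.IsPerfect (Cfsg.SU 6 K 2) := ⟨Unitary.su_commutator_eq_top hK (by omega) (by omega)⟩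
  have hc := Schur.isCentralExt_pbFst σ (Schur.centralExt_of_stem h1)
  have h3 : Schur.stemKer (Schur.pbFst σ ξ) = ⊥ := by
    have hρ := fin_stem hc
    obtain ⟨t⟩ := nonempty_tri hK
    have : CharP K 2 := charP_of_card_eq_prime_pow hK
    have h4 := (cgSU hK 6).su_ker_eq_bot (uPQ_isHerm hK 6) (by simp) (cgSU_gen hK 6 (by omega))
      (Unitary.fixedSubfield hK).subtype (fun c => ⟨fun h => ⟨⟨c, h⟩, rfl⟩, fun ⟨k, hk⟩ => hk ▸ k.2⟩)
      (cgSU hK 3) (uPQ_isHerm hK 3) t (su_det 3) 2 (multP_SU3 hK 2) hρ (fun h5 => by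
        have h6 : 2 ∣ Nat.card (Schur.pbFst σ ξ).ker := h5.trans (card_dvd_of_injective
          (((commutator _).subtype.comp (MonoidHom.ker _).subtype).codRestrict _ fun x => x.2)
          fun x y e => Subtype.ext (Subtype.ext (congrArg (fun z : (Schur.pbFst σ ξ).ker => z.1) e)))
        rw [Nat.card_congr (Schur.kerPbFstEquiv σ ξ).toEquiv] at h6
        exact Nat.not_even_iff_odd.2 h2 (even_iff_two_dvd.2 h6))
    rw [eq_bot_iff]
    intro x hx
    exact congrArg Subtype.val (mem_bot.1 (h4.le (show (⟨x, hx.2⟩ : commutator _) ∈ _ from hx.1)))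
  obtain ⟨s, hs⟩ := Schur.exists_section_of_perfect hc.surj h3
  obtain ⟨η, hη⟩ := Schur.exists_lift_of_section s hs
  have h4 := Schur.surjective_of_lift (QuotientGroup.mk'_surjective _) h1 η hη
  have h5 : η.ker ≤ center (Cfsg.SU 6 K 2) := fun x hx => by
    have := DFunLike.congr_fun hη x
    rw [MonoidHom.comp_apply, MonoidHom.mem_ker.1 hx, map_one] at this
    exact (QuotientGroup.eq_one_iff x).1 this.symm
  have h6 : Nat.card (center (Cfsg.SU 6 K 2)) = 3 := Unitary.card_center_SU hK (by omega)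
  rcases (Nat.dvd_prime Nat.prime_three).1 (h6 ▸ card_dvd_of_le h5) with h7 | h7
  · exact .inr ⟨(MulEquiv.ofBijective η ⟨(MonoidHom.ker_eq_bot_iff η).1 (card_eq_one.1 h7), h4⟩).symm⟩
  · have h8 : η.ker = center (Cfsg.SU 6 K 2) := eq_of_le_of_card_ge h5 (by rw [h6, h7])
    exact .inl ⟨(QuotientGroup.quotientKerEquivOfSurjective η h4).symm.trans
      (QuotientGroup.quotientMulEquivOfEq h8)⟩

/-- the odd stem extensions of the groups of the list for `Sp₆(2)` -/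
theorem stem6 (hF : Nat.card F = 2) {X Γ : Type u} [Group X] [Group Γ] [Finite Γ] (h : Pr F 3 X)
    {π : Γ →* X} (h1 : Cfsg.IsStemExtension π) (h2 : Odd (Nat.card π.ker)) :
    Pr F 3 Γ ∨ ∃ (K : Type) (_ : Field K) (_ : Fintype K), Fintype.card K = 4 ∧
      Nonempty (Γ ≃* Cfsg.SU 6 K 2) := by
  have := Fintype.ofFinite F
  have hF' : Fintype.card F = 2 := Nat.card_eq_fintype_card.symm.trans hF
  have key : ∀ {Y : Type} [Group Y] (_ : X ≃* Y) {A : Type} [CommGroup A] (_ : Cfsg.HasSchurMultiplier Y A)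
      (_ : Nat.card A ∣ 4), Pr F 3 Γ := fun e _ _ hA h4 => (fin_triv h1 h2 e hA h4).elim fun i => h.congr i
  rcases h with ⟨⟨i⟩⟩ | ⟨⟨i⟩⟩ | ⟨K, _, _, hK, ⟨⟨i⟩⟩ | ⟨⟨i⟩⟩ | ⟨⟨i⟩⟩⟩ | ⟨⟨i⟩⟩ | ⟨a, b, hab, ⟨i⟩⟩
  · exact .inl (key i (Cfsg.Agent.S2086.result hF' _ (by omega) (by omega) (by simp)) (by simp))
  · exact .inl (key i (Cfsg.Agent.S2086.result hF' _ (by omega) (by omega) (by simp)) (by simp))
  · obtain ⟨i0⟩ := fin_psu 6 K hF
    have hK0 := hK
    rw [hF] at hK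
    replace i := i.trans i0
    have h3 : (i.toMonoidHom.comp π).ker = π.ker := π.ker_comp_of_injective _ i.injective
    rcases fin_su hK (ξ := i.toMonoidHom.comp π) ⟨i.surjective.comp h1.1, h3 ▸ h1.2.1, h3 ▸ h1.2.2⟩
      (h3 ▸ h2) with j | j
    · exact .inl (.inr (.inr (.inl ⟨K, _, _, hK0, .inl (j.elim fun j => ⟨j.trans i0.symm⟩)⟩)))
    · exact .inr ⟨K, _, _, hK, j⟩
  · obtain ⟨i0⟩ := fin_psu 7 K hF
    rw [hF] at hK
    exact .inl (key (i.trans i0) (Cfsg.Agent.S2089.result _ _ hK (by omega) (by omega) (by simp)) (by simp))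
  · rw [hF] at hK
    exact .inl (key i (Cfsg.Agent.S2092.result hK _ (by omega) (by omega) (by omega)) (by simp))
  · exact .inl (key i (Cfsg.Agent.S2098.result hF') (by simp))
  · exact .inl (key i (Cfsg.Agent.S2099.result hF' 4 le_rfl a b hab) (by simp))

end CfsgLib.SPC
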