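import Cfsg.Agent.Lib.SPC.ADefs

/-! The axes of U / U' -/

set_option autoImplicit false
set_option linter.unusedSectionVars false

namespace CfsgLib.SPC

open Subgroup Module CfsgLib.Forms CfsgLib.LieMult
open CfsgLib.HX (Std CO Two Mv M2 QA)
open CfsgLib.UN (AV SI TI HH Rad Stb Yg Rg Eg Act nu Bas Nh flag Ub Uni TD Od)
open CfsgLib.UN.SB (D)
open CfsgLib.ClSys (II)
open Submodule (span)
open scoped commutatorElement Pointwise

universe u

variable {F : Type} [Field F] [Finite F] {V : Type} [AddCommGroup V] [Module F V]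
  [FiniteDimensional F V] {P : PQ (RingHom.id F) V} {S : Type} [Group S] [Finite S] {G : Type u}
  [Group G] [Finite G] {C : CG P S} {φ : S →* G} {t : G}

/-- the elements of `N(U)` acting trivially on `A U' / U'` -/
def aaxT (U A : Subgroup G) : Subgroup G where
  carrier := {x | x ∈ normalizer (U : Set G) ∧ ∀ u ∈ A, x * u * x⁻¹ * u⁻¹ ∈ ⁅U, U⁆}
  one_mem' := ⟨one_mem _, fun u _ => by simp⟩
  mul_mem' {x y} hx hy := ⟨mul_mem hx.1 hy.1, fun u hu => by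
    rw [show x * y * u * (x * y)⁻¹ * u⁻¹ = x * (y * u * y⁻¹ * u⁻¹) * x⁻¹ * (x * u * x⁻¹ * u⁻¹) by group]
    exact mul_mem (UFP.conj_mem (Core.normalizer_inf_le_normalizer_commutator _ _ ⟨hx.1, hx.1⟩)
      (hy.2 u hu)) (hx.2 u hu)⟩
  inv_mem' {x} hx := ⟨inv_mem hx.1, fun u hu => by
    rw [show x⁻¹ * u * x⁻¹⁻¹ * u⁻¹ = x⁻¹ * (x * u * x⁻¹ * u⁻¹)⁻¹ * x by group]
    exact UFP.conj_mem' (Core.normalizer_inf_le_normalizer_commutator _ _ ⟨hx.1, hx.1⟩)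
      (inv_mem (hx.2 u hu))⟩

theorem aaxT_conj {U A : Subgroup G} {k x : G} (hk : k ∈ normalizer (U : Set G)) (hx : x ∈ aaxT U A) :
    k * x * k⁻¹ ∈ aaxT U (MulAut.conj k • A) :=
  ⟨mul_mem (mul_mem hk hx.1) (inv_mem hk), fun u hu => by
    rw [show k * x * k⁻¹ * u * (k * x * k⁻¹)⁻¹ * u⁻¹ =
      k * (x * (k⁻¹ * u * k) * x⁻¹ * (k⁻¹ * u * k)⁻¹) * k⁻¹ by group]
    exact UFP.conj_mem (Core.normalizer_inf_le_normalizer_commutator _ _ ⟨hk, hk⟩)
      (hx.2 _ (Coprime.mem_conj_smul_iff.1 hu))⟩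

/-- `en` identifies `U / U'` with `κ → F`, and `B` induces the group of all diagonal maps -/
theorem axes_perm (hq : ∃ c : F, c ≠ 0 ∧ c ≠ 1) {κ : Type} [Fintype κ] [DecidableEq κ] {GN U B : Subgroup G}
    (en : G → κ → F) (mul : ∀ u ∈ U, ∀ v ∈ U, en (u * v) = en u + en v)
    (ker : ∀ u ∈ U, en u = 0 ↔ u ∈ ⁅U, U⁆) (sur : ∀ i c, ∃ u ∈ U, en u = Pi.single i c)
    (nB : ∀ c ∈ GN, c ∈ normalizer (U : Set G) → c ∈ normalizer (B : Set G))
    (BU : B ≤ normalizer (U : Set G)) (two : ∀ b ∈ B, IsPGroup 2 (zpowers b) → b ∈ U)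
    (sc : ∀ b ∈ B, ∃ μ : κ → F, ∀ u ∈ U, en (b * u * b⁻¹) = μ * en u)
    (tor : ∀ μ : κ → F, (∀ i, μ i ≠ 0) → ∃ b ∈ B, ∀ u ∈ U, en (b * u * b⁻¹) = μ * en u)
    {d : G} (hd : d ∈ normalizer (U : Set G)) (ha : UFP.ActsLike GN U B d) (i : κ) :
    ∃ j, ∀ u ∈ U, (∀ l, l ≠ i → en u l = 0) → ∀ l, l ≠ j → en (d * u * d⁻¹) l = 0 := by
  obtain ⟨c, c0, c1⟩ := hq
  have e1 : en 1 = 0 := (ker 1 (one_mem U)).2 (one_mem _)
  have ei : ∀ u ∈ U, en u⁻¹ = -en u := fun u hu =>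
    eq_neg_of_add_eq_zero_left (by rw [← mul _ (inv_mem hu) _ hu, inv_mul_cancel, e1])
  have eq : ∀ u ∈ U, ∀ v ∈ U, u * v⁻¹ ∈ ⁅U, U⁆ ↔ en u = en v := fun u hu v hv => by
    rw [← ker _ (mul_mem hu (inv_mem hv)), mul _ hu _ (inv_mem hv), ei v hv, add_neg_eq_zero]
  let A : κ → Subgroup G := fun i =>
    { carrier := {u | u ∈ U ∧ ∀ l, l ≠ i → en u l = 0}
      one_mem' := ⟨one_mem _, fun l _ => congrFun e1 l⟩
      mul_mem' := fun {a b} h1 h2 => ⟨mul_mem h1.1 h2.1, fun l hl => by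
        rw [mul a h1.1 b h2.1, Pi.add_apply, h1.2 l hl, h2.2 l hl, add_zero]⟩
      inv_mem' := fun {a} h1 => ⟨inv_mem h1.1, fun l hl => by
        rw [ei a h1.1, Pi.neg_apply, h1.2 l hl, neg_zero]⟩ }
  have UU : ⁅U, U⁆ ≤ U := commutator_le.2 fun a ha b hb =>
    mul_mem (mul_mem (mul_mem ha hb) (inv_mem ha)) (inv_mem hb)
  have one : ∀ i, ∃ u ∈ A i, en u i = 1 := fun i => by
    obtain ⟨u, hu, e⟩ := sur i 1
    exact ⟨u, ⟨hu, fun l hl => by rw [e, Pi.single_eq_of_ne hl]⟩, by rw [e, Pi.single_eq_same]⟩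
  have gen : ∀ i, ∀ V : Subgroup G, ⁅U, U⁆ ≤ V → B ≤ normalizer (V : Set G) → ∀ w ∈ V, w ∈ A i →
      en w i ≠ 0 → A i ≤ V := fun i V h1 h2 w hw wA w0 u hu => by
    by_cases u0 : en u i = 0
    · exact h1 ((ker u hu.1).1 (funext fun l => if hl : l = i then hl ▸ u0 else hu.2 l hl))
    obtain ⟨b, hb, e⟩ := tor (fun _ => en u i / en w i) fun _ => div_ne_zero u0 w0
    refine (mul_mem_cancel_right (inv_mem (UFP.conj_mem (h2 hb) hw))).1
      (h1 ((eq _ hu.1 _ (UFP.conj_mem (BU hb) wA.1)).2 (funext fun l => ?_)))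
    rw [e w wA.1, Pi.mul_apply]
    by_cases hl : l = i
    · rw [hl, div_mul_cancel₀ _ w0]
    · rw [hu.2 l hl, wA.2 l hl, mul_zero]
  have ex : ∀ V : Subgroup G, V ≤ U → ¬ V ≤ ⁅U, U⁆ → ∃ v ∈ V, ∃ j, en v j ≠ 0 := fun V h1 h2 => by
    by_contra! h
    exact h2 fun v hv => (ker v (h1 hv)).1 (funext (h v hv))
  have upd : ∀ j, ∃ b ∈ B, ∀ u ∈ U, en (b * u * b⁻¹) = Function.update (1 : κ → F) j c * en u := fun j =>
    tor _ fun l => by
      by_cases hl : l = j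
      · rwa [hl, Function.update_self]
      · rw [Function.update_of_ne hl]; exact one_ne_zero
  have key := UFP.rn_of_axes A nB BU two (fun b hb b' hb' u hu => ?_)
    (fun i u hu => ⟨UU hu, fun l _ => congrFun ((ker u (UU hu)).2 hu) l⟩) (fun i u hu => hu.1)
    (fun i h => ?_) (fun i b hb => Tech.mem_normalizer_of_forall fun u hu => ?_)
    (fun i V h1 h2 h3 => or_iff_not_imp_left.2 fun h4 => ?_) (fun V h1 h2 h3 h4 => ?_)
    (fun k hk ho h hT i => ?_) hd ha i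
  · obtain ⟨j, hj⟩ := key
    exact ⟨j, fun u hu h => (hj.le (Coprime.conj_mem_conj_smul (show u ∈ A i from ⟨hu, h⟩))).2⟩
  · obtain ⟨μ, e⟩ := sc b hb
    obtain ⟨μ', e'⟩ := sc b' hb'
    have m := UFP.conj_mem' (BU (mul_mem hb' hb)) hu
    refine (eq _ (UFP.conj_mem (BU (mul_mem (mul_mem (mul_mem hb hb') (inv_mem hb)) (inv_mem hb'))) hu)
      _ hu).2 ?_
    calc _ = en (b * (b' * ((b' * b)⁻¹ * u * (b' * b)) * b'⁻¹) * b⁻¹) := by congr 1; group
      _ = en (b' * (b * ((b' * b)⁻¹ * u * (b' * b)) * b⁻¹) * b'⁻¹) := by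
        rw [e _ (UFP.conj_mem (BU hb') m), e' _ m, e' _ (UFP.conj_mem (BU hb) m), e _ m, mul_left_comm]
      _ = _ := by congr 1; group
  · obtain ⟨u, hu, e⟩ := one i
    exact one_ne_zero (e.symm.trans (congrFun ((ker u hu.1).2 (h hu)) i))
  · obtain ⟨μ, e⟩ := sc b hb
    exact ⟨UFP.conj_mem (BU hb) hu.1, fun l hl => by rw [e u hu.1, Pi.mul_apply, hu.2 l hl, mul_zero]⟩
  · obtain ⟨v, hv, j, hj⟩ := ex V (fun _ h => (h2 h).1) h4
    exact gen i V h1 h3 v hv (h2 hv) fun e => hj (if hl : j = i then hl ▸ e else (h2 hv).2 j hl)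
  · obtain ⟨v, hv, j, hj⟩ := ex V h2 h4
    obtain ⟨b, hb, e⟩ := upd j
    have m := UFP.conj_mem (BU hb) (h2 hv)
    have e2 : ∀ l, en (b * v * b⁻¹ * v⁻¹) l = (Function.update (1 : κ → F) j c l - 1) * en v l := fun l => by
      rw [mul _ m _ (inv_mem (h2 hv)), ei v (h2 hv), e v (h2 hv)]
      simp only [Pi.add_apply, Pi.mul_apply, Pi.neg_apply]
      ring
    refine ⟨j, gen j V h1 h3 _ (mul_mem (UFP.conj_mem (h3 hb) hv) (inv_mem hv))
      ⟨mul_mem m (inv_mem (h2 hv)), fun l hl => by simp [e2, Function.update_of_ne hl]⟩ ?_⟩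
    rw [e2, Function.update_self]
    exact mul_ne_zero (sub_ne_zero.2 c1) hj
  · by_contra hn
    choose p hp using h
    have inj : ∀ i j, A i = A j → i = j := fun i j e => by
      by_contra hn
      obtain ⟨u, hu, e1⟩ := one i
      exact one_ne_zero (e1.symm.trans ((e.le hu).2 i hn))
    have ps : Function.Surjective p := Finite.injective_iff_surjective.1 fun i j e =>
      inj i j (MulAction.injective _ ((hp i).trans (e ▸ (hp j).symm)))
    obtain ⟨m, hm⟩ := ps i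
    obtain ⟨m', hm'⟩ := ps m
    have m1 : m ≠ i := fun e => hn (Coprime.mem_normalizer_iff_conj_smul_eq.2 (by rw [hp, ← e, hm, e]))
    have m2 : m' ≠ i := fun e => hn (zpowers_le.2 (Coprime.mem_normalizer_iff_conj_smul_eq.2 (by
      rw [pow_one, sq, map_mul, mul_smul, hp, ← e, hm', hp, hm, e])) (UFP.mem_zpowers_two_pow ho 1))
    obtain ⟨b, hb, e⟩ := upd i
    have t1 : ∀ l, l ≠ i → b ∈ aaxT U (A l) := fun l hl => ⟨BU hb, fun u hu =>
      (eq _ (UFP.conj_mem (BU hb) hu.1) _ hu.1).2 (funext fun r => by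
        rw [e u hu.1, Pi.mul_apply]
        by_cases hr : r = i
        · rw [hu.2 r (hr ▸ hl.symm), mul_zero]
        · rw [Function.update_of_ne hr, Pi.one_apply, one_mul])⟩
    have t2 : ∀ {x l}, x ∈ aaxT U (A l) → k * x⁻¹ * k⁻¹ ∈ aaxT U (A (p l)) := fun hx =>
      hp _ ▸ aaxT_conj hk (inv_mem hx)
    have t3 : ⁅b, k⁆ ∈ aaxT U (A m) := by
      rw [commutatorElement_def, mul_assoc, mul_assoc, ← mul_assoc k]
      exact mul_mem (t1 m m1) (hm' ▸ t2 (t1 m' m2))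
    have t4 : ⁅⁅b, k⁆, k⁆ ∈ aaxT U (A i) := ⟨mul_mem (mul_mem (mul_mem t3.1 hk) (inv_mem t3.1))
      (inv_mem hk), fun u hu => hT b hb u hu.1⟩
    rw [commutatorElement_def, mul_assoc, mul_assoc, ← mul_assoc k,
      mul_mem_cancel_right (hm ▸ t2 t3), commutatorElement_def, mul_assoc, mul_assoc, ← mul_assoc k,
      mul_mem_cancel_right (hm ▸ t2 (t1 m m1))] at t4
    obtain ⟨u, hu, e2⟩ := one i
    have := congrFun ((eq _ (UFP.conj_mem (BU hb) hu.1) _ hu.1).1 (t4.2 u hu)) i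
    rw [e u hu.1, Pi.mul_apply, Function.update_self, e2, mul_one] at this
    exact c1 this

end CfsgLib.SPC
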