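import Cfsg.Agent.Lib.SPC.ABas0

/-! Type A: the group generated by the hats -/

set_option autoImplicit false
set_option linter.unusedSectionVars false

namespace CfsgLib.SPC

open Subgroup Module CfsgLib.Forms CfsgLib.LieMult
open CfsgLib.HX (Std CO Two Mv M2 QA)
open CfsgLib.UN (AV SI TI HH Rad Stb Yg Rg Eg Act nu Bas Nh flag Ub Uni TD Od)
open CfsgLib.UN.SB (D)
open CfsgLib.ClSys (II)
open Submodule (span)
open scoped commutatorElement Pointwise

universe u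

variable {F : Type} [Field F] [Finite F] {V : Type} [AddCommGroup V] [Module F V]
  [FiniteDimensional F V] {P : PQ (RingHom.id F) V} {S : Type} [Group S] [Finite S] {G : Type u}
  [Group G] [Finite G] {C : CG P S} {φ : S →* G} {t : G}

namespace HA

variable {w : V → V → G} {y : V → F → G} {δ : F} (h : HA C φ t w y δ) {e a b p u c : V} {r s β : F} {g : G}
  {Gs : Subgroup G}
include h

theorem L_le : φ.range ≤ GA φ y := le_sup_left
theorem y_mem (e : V) (β : F) : y e β ∈ GA φ y := mem_sup_right (subset_closure ⟨e, β, rfl⟩)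
theorem w_mem (k : P.B e a = 0) : w e a ∈ GA φ y := by
  have := mul_mem (inv_mem (mul_mem (h.y_mem e 1) (h.y_mem a 1))) (h.y_mem (e + a) 1)
  rwa [h.yline e a 1 k, inv_mul_cancel_left, one_smul] at this
theorem ab_le {H : Subgroup G} (hL : φ.range ≤ H) (hy : ∀ e β, e ≠ 0 → y e β ∈ H) : GA φ y ≤ H :=
  sup_le hL ((closure_le _).2 (by
    rintro _ ⟨e, β, rfl⟩
    by_cases h0 : e = 0
    · rw [h0, h.y_zero']; exact one_mem H
    · exact hy e β h0))
theorem ab_hh (h0 : e ≠ 0) : ∃ a b, P.B e a = 0 ∧ P.B e b = 0 ∧ P.B a b = 1 := by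
  obtain ⟨f, k⟩ := h.exists_hp h0
  obtain ⟨a, b, k⟩ := h.exists_hh k
  exact ⟨a, b, k.ee, k.ef, h.hp_iff.1 k.h₂⟩
theorem GA_le_w {H : Subgroup G} (hL : φ.range ≤ H) (hw : ∀ e a, P.B e a = 0 → w e a ∈ H) :
    GA φ y ≤ H := by
  refine h.ab_le hL fun e β h0 => ?_
  obtain ⟨a, b, ka, kb, k⟩ := h.ab_hh h0
  have kb' : P.B e (β • b) = 0 := by simp [kb]
  have e1 := h.ww e a (β • b) ka kb'
  rw [show P.B a (β • b) = β by simp [k]] at e1
  have := mul_mem (mul_mem (inv_mem (hw e (a + β • b) (by simp [ka, kb]))) (mul_mem (hw e a ka) (hw e _ kb')))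
    (inv_mem (hL (⟨_, rfl⟩ : z C φ e (δ * β) ∈ φ.range)))
  rwa [e1, mul_assoc (w e _), inv_mul_cancel_left, mul_inv_cancel_right] at this
theorem ab_zy_sq (e : V) (s r : F) : z C φ e s * y e r * (z C φ e s * y e r) = 1 := by
  rw [(h.zy (h.B_self e) s r).symm.mul_mul_mul_comm, h.z_sq, h.y_sq, mul_one]
theorem mem_ZA : g ∈ ZA C φ y e ↔ ∃ s r, g = z C φ e s * y e r := by
  refine ⟨fun hg => ?_, fun ⟨s, r, e1⟩ => e1 ▸ mul_mem (subset_closure ⟨s, Or.inl rfl⟩) (subset_closure ⟨r, Or.inr rfl⟩)⟩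
  induction hg using closure_induction with
  | mem x hx =>
    obtain ⟨s, rfl | rfl⟩ := hx
    · exact ⟨s, 0, by rw [h.y_zero, mul_one]⟩
    · exact ⟨0, s, by rw [h.z_zero, one_mul]⟩
  | one => exact ⟨0, 0, by rw [h.y_zero, h.z_zero, mul_one]⟩
  | mul x x' _ _ hx hx' =>
    obtain ⟨s, r, rfl⟩ := hx
    obtain ⟨s', r', rfl⟩ := hx'
    exact ⟨s + s', r + r', by rw [(h.zy (h.B_self e) s' r).symm.mul_mul_mul_comm, h.z_add, h.yadd]⟩
  | inv x _ hx =>
    obtain ⟨s, r, rfl⟩ := hx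
    exact ⟨s, r, inv_eq_of_mul_eq_one_right (h.ab_zy_sq e s r)⟩
theorem ZA_cY (e : V) : ZA C φ y e ≤ centralizer (Yg C φ (span F {e}) : Set G) :=
  (closure_le _).2 (by
    rintro _ ⟨c, rfl | rfl⟩
    exacts [h.E_cent (h.ti_pt e) (h.mem_Z.2 ⟨c, rfl⟩), (h.ymv e c).cY])
theorem ZA_le (e : V) : ZA C φ y e ≤ GA φ y :=
  (closure_le _).2 (by
    rintro _ ⟨c, rfl | rfl⟩
    exacts [h.L_le ⟨_, rfl⟩, h.y_mem e c])
theorem cent_le (hg : g * t = t * g) : g ∈ normalizer (GA φ y : Set G) := by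
  obtain ⟨α, γ, k⟩ := h.exists_act (h.norm_of hg)
  obtain ⟨μ, hμ⟩ := h.ct g α γ hg k
  refine mem_normalizer_fintype fun a ha => (h.GA_le_w (H := (GA φ y).comap (MulAut.conj g).toMonoidHom)
    (fun a ha => h.L_le (UFP.conj_mem (h.norm_of hg) ha)) fun e a k' => ?_) ha
  show g * w e a * g⁻¹ ∈ GA φ y
  rw [hμ e a k']
  exact mul_mem (h.w_mem (by rw [k.B_eq, k', map_zero])) (h.L_le ⟨_, rfl⟩)
theorem t_norm : t ∈ normalizer (GA φ y : Set G) := h.cent_le rfl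
theorem ab_z_ne (h0 : e ≠ 0) : z C φ e 1 ≠ 1 := fun e1 => by simpa [h0] using h.z_eq_one.1 e1
theorem cent_odd : Odd (Nat.card (centralizer (GA φ y : Set G))) := by
  obtain ⟨e, h0⟩ := h.g2_ne
  refine SLE.odd_of_inv h.t2 (Core.normalizer_le_normalizer_centralizer _ h.t_norm) fun c hc c2 ct =>
    (h.toStd.invol (centralizer_le h.L_le hc) ct c2).resolve_right fun e1 => ?_
  have := (h.ymv e 1).pt
  rw [e1] at hc
  rw [hc _ (h.y_mem e 1), mul_inv_cancel_right, left_eq_mul] at this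
  exact h.ab_z_ne h0 this
theorem GA_eq (h0 : e ≠ 0) : GA φ y = φ.range ⊔ ZA C φ y e := by
  refine le_antisymm (h.ab_le le_sup_left fun p s p0 => ?_) (sup_le h.L_le (h.ZA_le e))
  obtain ⟨l, rfl⟩ := h.trans h0 p0
  rw [← h.yeqv l e s]
  exact mul_mem (mul_mem_sup ⟨l, rfl⟩ (subset_closure ⟨s, Or.inr rfl⟩)) (mem_sup_left (inv_mem ⟨l, rfl⟩))
theorem GA_le {H : Subgroup G} (hH : GA φ y ≤ normalizer (H : Set G)) (hL : φ.range ≤ H) :
    GA φ y ≤ H := by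
  have key : ∀ {e u v c : V}, P.B u v = 0 → P.B e u = 0 → P.B e v = 0 → P.B e c = 0 →
      w e (P.B c u • v + P.B c v • u) ∈ H := fun {e u v c} k0 k1 k2 k3 => by
    have m : x C φ e c ∈ H := hL ⟨_, rfl⟩
    have := mul_mem (inv_mem m) (UFP.conj_mem (hH (h.w_mem k0)) m)
    rwa [ab0_inv (h.sq u v k0), h.Wx k0 k1 k2 k3, inv_mul_cancel_left] at this
  refine h.GA_le_w hL fun e a k => ?_
  by_cases h0 : e = 0
  · rw [h0, h.w_zero']; exact one_mem H
  by_cases ha : a ∈ span F {e}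
  · obtain ⟨μ, rfl⟩ := Submodule.mem_span_singleton.1 ha
    rw [h.w_self]; exact one_mem H
  obtain ⟨f, f', k1⟩ := h.hh_of_ln ⟨h0, ha, k⟩
  obtain ⟨u, c, k2⟩ := h.exists_h3 k1
  have := key (e := e) (u := u) (v := a) (c := c) (by rw [h.B_comm, k2.h23.ee]) k2.h13.ee k k2.h13.ef
  rwa [h.B_comm c u, h.hp_iff.1 k2.h13.h₂, h.B_comm c a, k2.h23.ef, one_smul, zero_smul, add_zero] at this
theorem GA_le_Gs (hG : SLE.Glob Gs t) (hL : φ.range ≤ Gs) : GA φ y ≤ Gs := by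
  have := hG.nrm
  exact h.GA_le le_normalizer_of_normal hL
theorem GA_co (hg : g ∈ GA φ y) : CO φ.range t g := by
  intro o ho k k'
  have : GA φ y ≤ centralizer {o} := sup_le (fun l hl => mem_centralizer_singleton_iff.2 (ho l hl))
    ((closure_le _).2 fun _ ⟨p, s, e⟩ => e ▸ mem_centralizer_singleton_iff.2 ((h.ymv p s).co o ho k k'))
  exact mem_centralizer_singleton_iff.1 (this hg)
/-- the hats of the elements of `E(U)` -/
theorem hat_E {U : Submodule F V} (hU : TI P U) (hg : g ∈ Eg C φ U) :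
    ∃ n ∈ GA φ y, n * n = 1 ∧ n ∈ centralizer (Yg C φ U : Set G) ∧ n * t * n⁻¹ = t * g := by
  let X : Set G := {g | ∃ p ∈ U, ∃ s, g = y p s}
  have h1 : closure X ≤ centralizer (closure X : Set G) := by
    rw [centralizer_closure, closure_le]
    rintro _ ⟨p, hp, s, rfl⟩ _ ⟨p', hp', s', rfl⟩
    exact h.yy (hU hp p' hp') s' s
  have h2 : ∀ g ∈ closure X, g * g = 1 := fun g hg => by
    induction hg using closure_induction with
    | mem _ hx => obtain ⟨p, hp, s, rfl⟩ := hx; exact h.y_sq p s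
    | one => exact one_mul 1
    | mul a b ha hb ea eb => rw [mul_assoc, ← mul_assoc b, h1 ha b hb, mul_assoc, eb, mul_one, ea]
    | inv a _ ea => rw [← mul_inv_rev, ea, inv_one]
  have h3 : closure X ≤ GA φ y ⊓ centralizer (Yg C φ U : Set G) := (closure_le _).2 (by
    rintro _ ⟨p, hp, s, rfl⟩
    refine ⟨h.y_mem p s, ?_⟩
    rintro _ ⟨l, hl, rfl⟩
    exact h.y_fix (hl p hp) s)
  let H : Subgroup S :=
    { carrier := {s | s ∈ C.fixG (P.perp U) ∧ ∃ n ∈ closure X, n * t * n⁻¹ = t * φ s}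
      one_mem' := ⟨one_mem _, 1, one_mem _, by simp⟩
      mul_mem' := by
        rintro a b ⟨ha, n, hn, ea⟩ ⟨hb, n', hn', eb⟩
        have := (h3 hn).2 (φ b) ⟨b, rad_le_fix U (h.E_le_rad hU hb), rfl⟩
        refine ⟨mul_mem ha hb, n * n', mul_mem hn hn', ?_⟩
        calc _ = n * (n' * t * n'⁻¹) * n⁻¹ := by group
          _ = n * t * n⁻¹ * (n * φ b) * n⁻¹ := by rw [eb]; group
          _ = _ := by rw [ea, ← this, map_mul]; group
      inv_mem' := by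
        rintro a ⟨ha, k⟩
        rw [inv_eq_of_mul_eq_one_right (h.toMod.E_sq hU ha)]
        exact ⟨ha, k⟩ }
  obtain ⟨a, ha, rfl⟩ := hg
  obtain ⟨-, n, hn, e1⟩ := h.E_gen hU (H := H) (fun p hp c =>
    ⟨h.T_mem_E hU hp (zero_mem _) c, _, subset_closure ⟨p, hp, c, rfl⟩, (h.ymv p c).pt⟩) ha
  exact ⟨n, (h3 hn).1, h2 n hn, (h3 hn).2, e1⟩
/-- the hats of the elements of `Q_e` -/
theorem hat_Q (h0 : e ≠ 0) (hg : g ∈ Rg C φ (span F {e})) :
    ∃ n ∈ GA φ y, n * n = 1 ∧ n ∈ centralizer (Rg C φ (span F {e}) : Set G) ∧ n * t * n⁻¹ = t * g := by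
  obtain ⟨a, c, k, rfl⟩ := (h.mem_Q h0).1 hg
  refine ⟨w e a * y e c, mul_mem (h.w_mem k) (h.y_mem e c), ?_, fun q hq => ?_, ?_⟩
  · rw [(h.yw' k c).mul_mul_mul_comm, h.sq e a k, h.y_sq, mul_one]
  · obtain ⟨b, d, k', rfl⟩ := (h.mem_Q h0).1 hq
    exact (h.τw k k' d).mul_right (h.τy k' d c)
  · have c1 : z C φ e c * w e a = w e a * z C φ e c := (h.τw k (b := 0) (by simp) c).eq
    calc _ = w e a * (y e c * t * (y e c)⁻¹) * (w e a)⁻¹ := by group
      _ = w e a * t * (w e a)⁻¹ * (w e a * z C φ e c) * (w e a)⁻¹ := by rw [(h.ymv e c).pt]; group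
      _ = _ := by rw [← c1, (h.mv e a k).pt, h.τ_eq k]; group
theorem eq_Gs (hG : SLE.Glob Gs t) (hL : φ.range ≤ Gs)
    (h1 : ∀ u ∈ Gs, u * u = 1 → u ∈ normalizer (GA φ y : Set G)) : GA φ y = Gs := by
  obtain ⟨e, h0⟩ := h.g2_ne
  have h2 := h.ab_z_ne h0
  exact hG.eq_of_norm (h.GA_le_Gs hG hL) (UFP.le_of_invol hG.simple (hL ⟨_, rfl⟩) h2 (h.z_sq e 1) h1)
    (h.L_le ⟨_, rfl⟩) h2

end HA

end CfsgLib.SPC
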