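import Cfsg.Agent.Lib.SPC.Max
import Cfsg.Agent.Lib.SPC.Loc
import Cfsg.Agent.Lib.UN.Odd

/-! Type-free facts on a copy of the symplectic group -/

set_option autoImplicit false
set_option linter.unusedSectionVars false

namespace CfsgLib.SPC

open Subgroup Module CfsgLib.Forms CfsgLib.LieMult
open CfsgLib.HX (Std CO Two Mv M2 QA)
open CfsgLib.UN (AV SI TI HH Rad Stb Yg Rg Eg Act nu Bas Nh flag Ub Uni TD Od)
open CfsgLib.ClSys (II)
open Submodule (span)
open scoped commutatorElement Pointwise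

universe u

variable {F : Type} [Field F] [Finite F] {V : Type} [AddCommGroup V] [Module F V]
  [FiniteDimensional F V] {P : PQ (RingHom.id F) V} {S : Type} [Group S] [Finite S] {G : Type u}
  [Group G] [Finite G] {C : CG P S} {φ : S →* G} {t : G}

/-- an involution normalising an elementary abelian group has many fixed points -/
theorem card_cent_inv {E : Subgroup G} (h2 : ∀ a ∈ E, a * a = 1) {s : G} (s2 : s * s = 1)
    (hs : s ∈ normalizer (E : Set G)) : Nat.card E ≤ Nat.card (E ⊓ centralizer {s} : Subgroup G) ^ 2 := by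
  have inv : ∀ b ∈ E, b⁻¹ = b := fun b hb => inv_eq_of_mul_eq_one_right (h2 b hb)
  have ab : ∀ a ∈ E, ∀ b ∈ E, a * b = b * a := fun a ha b hb => by
    rw [← inv _ (E.mul_mem ha hb), mul_inv_rev, inv a ha, inv b hb]
  have cj : ∀ a ∈ E, s * a * s⁻¹ ∈ E := fun a ha => (mem_normalizer_iff.1 hs a).1 ha
  have si : s⁻¹ = s := inv_eq_of_mul_eq_one_right s2
  let f : E →* G := MonoidHom.mk' (fun a => a * (s * a * s⁻¹)) fun a b => by
    rw [coe_mul, ← conj_mul, mul_assoc (a : G), mul_assoc (a : G), ← mul_assoc (b : G),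
      ab _ b.2 _ (cj _ a.2), mul_assoc (s * a * s⁻¹)]
  have h1 : f.range ≤ E ⊓ centralizer {s} := by
    rintro _ ⟨a, rfl⟩
    refine ⟨E.mul_mem a.2 (cj _ a.2), mem_centralizer_singleton_iff.2 ?_⟩
    change a * (s * a * s⁻¹) * s = s * (a * (s * a * s⁻¹))
    rw [ab _ a.2 _ (cj _ a.2), si]
    calc s * a * s * a * s = s * (a * (s * a * s)) := by group
      _ = s * (s * a * s * a) := by rw [← si, ab _ a.2 _ (by rw [si]; simpa only [si] using cj _ a.2), si]
  have h3 : f.ker.map E.subtype ≤ E ⊓ centralizer {s} := by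
    rintro _ ⟨a, ha, rfl⟩
    refine ⟨a.2, mem_centralizer_singleton_iff.2 ?_⟩
    have e : (a : G) * (s * a * s⁻¹) = 1 := ha
    rw [mul_eq_one_iff_inv_eq, inv _ a.2, eq_mul_inv_iff_mul_eq] at e
    exact e
  have c1 := card_le_of_le h1
  have c2 := card_le_of_le h3
  rw [card_map_of_injective E.subtype_injective] at c2
  rw [← f.ker.card_mul_index, index_ker, sq]
  exact Nat.mul_le_mul c2 c1

theorem Mod.gen_line (h : Mod C) {e f e' f' : V} (k : HH P e f e' f') {H : Subgroup S}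
    (h1 : ∀ p c, P.B e p = 0 → C.T p 0 c ∈ H) (h2 : ∀ l : F, C.T e' (l • f) 0 ∈ H) : H = ⊤ := by
  have mv : ∀ s ∈ H, ∀ p c, C.T (C.act s p) 0 c ∈ H → C.T p 0 c ∈ H := fun s hs p c hp => by
    have := H.mul_mem (H.mul_mem (H.inv_mem hs) hp) hs
    rwa [← map_zero (C.act s), ← h.T_conj s (map_zero _), mul_assoc s, inv_mul_cancel_left,
      inv_mul_cancel_right] at this
  have a1 : P.B e' f = 0 := (h.B_comm _ _).trans k.fe
  have a2 : P.B e' e = 0 := (h.B_comm _ _).trans k.ee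
  have s1 : ∀ p c, P.B e' p ≠ 0 → C.T p 0 c ∈ H := fun p c hp =>
    mv _ (h2 (P.B e p / P.B e' p)) p c (h1 _ c (by
      rw [h.x_app (by rw [map_smul, a1, smul_zero]), map_add, map_add, map_smul (P.B e), map_smul (P.B e),
        map_smul (P.B e), k.ee, k.h₁.ef, smul_zero, add_zero, smul_eq_mul, smul_eq_mul, mul_one,
        mul_div_cancel₀ _ hp, h.add_self]))
  have s2 : C.T e f' 0 ∈ H := h.fix_gen (h.ti_pt e) (fun p hp c => h1 p c (P.mem_perp_span_singleton.1 hp))
    (h.T_mem_fix k.ef (P.mem_perp_span_singleton.2 (h.B_self e)) (P.mem_perp_span_singleton.2 k.ef) 0)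
  refine h.gen fun p c => ?_
  by_cases hp : P.B e p = 0
  · exact h1 p c hp
  by_cases hp' : P.B e' p = 0
  · refine mv _ s2 p c (s1 _ c ?_)
    rwa [h.x_app k.ef, map_add, map_add, map_smul, map_smul, hp', a2, k.h₂.ef, smul_zero, add_zero,
      zero_add, smul_eq_mul, mul_one]
  · exact s1 p c hp'

theorem Mod.E_inf (h : Mod C) {U W : Submodule F V} :
    C.fixG (P.perp U) ⊓ C.fixG (P.perp W) = C.fixG (P.perp (U ⊓ W)) :=
  le_antisymm (fun _ hs => h.mx_fix fun v => Submodule.mem_inf.2 ⟨h.E_range hs.1 v, h.E_range hs.2 v⟩)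
    (le_inf (fix_anti (P.perp_anti inf_le_left)) (fix_anti (P.perp_anti inf_le_right)))

theorem Mod.ae0_pairs (h : Mod C) {α : RingAut F} {γ : AV V} (hγ : SI P α γ) {θ : F} (hθ : θ + α θ = 1)
    (h3 : ∀ v, γ (γ v) = v) (j : ℕ) (hj : 2 * j ≤ finrank F V) : ∃ e f : ℕ → V,
      (∀ i < j, γ (e i) = e i ∧ γ (f i) = f i) ∧
      (∀ i < j, ∀ i' < j, P.B (e i) (e i') = 0 ∧ P.B (f i) (f i') = 0 ∧
        P.B (e i) (f i') = if i = i' then 1 else 0) ∧
      ∀ w, w ≠ 0 → (∀ i < j, P.B (e i) w = 0 ∧ P.B (f i) w = 0) →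
        ∃ v, (∀ i < j, P.B (e i) v = 0 ∧ P.B (f i) v = 0) ∧ P.B w v = 1 := by
  induction j with
  | zero => exact ⟨0, 0, by simp, by simp, fun w w0 _ => by simpa using h.exists_hp w0⟩
  | succ j ih =>
    obtain ⟨e, f, a1, a2, a3⟩ := ih (by omega)
    have iv : ∀ w, (∀ i < j, P.B (e i) w = 0 ∧ P.B (f i) w = 0) →
        ∀ i < j, P.B (e i) (γ w) = 0 ∧ P.B (f i) (γ w) = 0 := fun w hw i hi => by
      rw [← (a1 i hi).1, ← (a1 i hi).2, hγ.B_eq, hγ.B_eq, (hw i hi).1, (hw i hi).2, map_zero]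
      exact ⟨rfl, rfl⟩
    have av : ∀ w, (∀ i < j, P.B (e i) w = 0 ∧ P.B (f i) w = 0) → γ (w + γ w) = w + γ w ∧
        ∀ i < j, P.B (e i) (w + γ w) = 0 ∧ P.B (f i) (w + γ w) = 0 := fun w hw =>
      ⟨by rw [map_add, h3, add_comm], fun i hi => by
        rw [map_add, map_add, (hw i hi).1, (hw i hi).2, (iv w hw i hi).1, (iv w hw i hi).2, add_zero]
        exact ⟨rfl, rfl⟩⟩
    obtain ⟨w, hw, w0⟩ := (Submodule.ne_bot_iff _).1 (LinearMap.ker_ne_bot_of_finrank_lt
      (f := LinearMap.pi fun p : Fin j ⊕ Fin j => P.B (Sum.elim (fun i : Fin j => e i) (fun i : Fin j => f i) p))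
      (by rw [finrank_fintype_fun_eq_card, Fintype.card_sum, Fintype.card_fin]; omega))
    have hw' : ∀ i < j, P.B (e i) w = 0 ∧ P.B (f i) w = 0 := fun i hi =>
      ⟨congrFun hw (.inl ⟨i, hi⟩), congrFun hw (.inr ⟨i, hi⟩)⟩
    obtain ⟨p, p0, p1, p2⟩ : ∃ p, p ≠ 0 ∧ γ p = p ∧ ∀ i < j, P.B (e i) p = 0 ∧ P.B (f i) p = 0 := by
      by_cases e1 : w = γ w
      · exact ⟨w, w0, e1.symm, hw'⟩
      · exact ⟨w + γ w, fun e2 => e1 (h.veq_of_add e2), av w hw'⟩
    obtain ⟨v, v1, v2⟩ := a3 p p0 p2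
    obtain ⟨r, r0, r1, r2⟩ : ∃ r, P.B p r = 1 ∧ γ r = r ∧ ∀ i < j, P.B (e i) r = 0 ∧ P.B (f i) r = 0 := by
      refine ⟨θ • v + γ (θ • v), ?_, av _ fun i hi => ?_⟩
      · rw [map_add]
        conv_lhs => rw [← p1, hγ.B_eq, p1]
        rw [map_smul, v2, smul_eq_mul, mul_one, hθ]
      · rw [map_smul, map_smul, (v1 i hi).1, (v1 i hi).2, smul_zero]
        exact ⟨rfl, rfl⟩
    refine ⟨fun i => if i = j then p else e i, fun i => if i = j then r else f i, fun i hi => ?_,
      fun i hi i' hi' => ?_, fun u u0 hu => ?_⟩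
    · by_cases e1 : i = j
      · simp only [if_pos e1, p1, r1, and_self]
      · simpa only [if_neg e1] using a1 i (by omega)
    · by_cases e1 : i = j <;> by_cases e2 : i' = j
      · simp only [if_pos e1, if_pos e2, h.B_self, r0, if_pos (e1.trans e2.symm), and_self]
      · have := p2 i' (by omega)
        have := r2 i' (by omega)
        simp only [if_pos e1, if_neg e2, h.B_comm p, h.B_comm r, if_neg (fun e3 : i = i' => e2 (e3 ▸ e1))]
        tauto
      · have := p2 i (by omega)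
        have := r2 i (by omega)
        simp only [if_neg e1, if_pos e2, if_neg (fun e3 : i = i' => e1 (e3 ▸ e2))]
        tauto
      · simpa only [if_neg e1, if_neg e2] using a2 i (by omega) i' (by omega)
    · have u1 := hu j (by omega)
      simp only [if_pos] at u1
      obtain ⟨y, y1, y2⟩ := a3 u u0 fun i hi => by simpa only [if_neg hi.ne] using hu i (by omega)
      refine ⟨y + P.B r y • p + P.B p y • r, fun i hi => ?_, ?_⟩
      · by_cases e1 : i = j
        · simp only [if_pos e1, map_add, map_smul, h.B_self, r0, h.B_comm r p, smul_eq_mul, mul_one, mul_zero,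
            add_zero, h.add_self, and_self]
        · have hi' : i < j := by omega
          simp only [if_neg e1, map_add, map_smul, y1 i hi', p2 i hi', r2 i hi', smul_zero, add_zero, and_self]
      · rw [map_add, map_add, map_smul, map_smul, y2, h.B_comm u p, h.B_comm u r, u1.1, u1.2, smul_zero,
          smul_zero, add_zero, add_zero]

/-- a semilinear involution fixes a symplectic basis -/
theorem Mod.exists_bas_fix (h : Mod C) {α : RingAut F} {γ : AV V} (hγ : SI P α γ) (h1 : α ≠ 1)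
    (h2 : α * α = 1) (h3 : ∀ v, γ (γ v) = v) {k : ℕ} (hk : finrank F V = 2 * k) :
    ∃ b : Basis (Fin (2 * k)) F V, Bas P b ∧ ∀ i, γ (b i) = b i := by
  obtain ⟨⟨θ, hθ⟩, -⟩ := h.aut_two h1 h2
  obtain ⟨e, f, a1, a2, -⟩ := h.ae0_pairs hγ hθ h3 k hk.ge
  let b : Fin (2 * k) → V := fun i => if (i : ℕ) < k then e i else f (2 * k - (i + 1))
  have hb : ∀ i j, P.B (b i) (b j) = if j = i.rev then 1 else 0 := fun i j => by
    have := i.2
    have := j.2
    simp only [b, Fin.ext_iff, Fin.val_rev]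
    by_cases e1 : (i : ℕ) < k <;> by_cases e2 : (j : ℕ) < k
    · rw [if_pos e1, if_pos e2, (a2 _ e1 _ e2).1, if_neg (by omega)]
    · rw [if_pos e1, if_neg e2, (a2 _ e1 _ (by omega)).2.2]
      exact if_congr (by omega) rfl rfl
    · rw [if_neg e1, if_pos e2, h.B_comm, (a2 _ e2 _ (by omega)).2.2]
    · rw [if_neg e1, if_neg e2, (a2 _ (by omega) _ (by omega)).2.1, if_neg (by omega)]
  have li : LinearIndependent F b := Mod.g2_li (P := P) (w := fun i => b i.rev) fun i j => by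
    rw [hb, Fin.rev_rev]
    exact if_congr eq_comm rfl rfl
  refine ⟨basisOfLinearIndependentOfCardEqFinrank' b li (by rw [Fintype.card_fin, hk]), fun i j => ?_,
    fun i => ?_⟩
  · rw [coe_basisOfLinearIndependentOfCardEqFinrank', hb]
  · rw [coe_basisOfLinearIndependentOfCardEqFinrank']
    have := i.2
    simp only [b]
    split_ifs with e1
    · exact (a1 _ e1).1
    · exact (a1 _ (by omega)).2

end CfsgLib.SPC
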