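import Cfsg.Agent.Lib.SPC.Inst

/-! The matrix model -/

set_option autoImplicit false
set_option linter.unusedSectionVars false

namespace CfsgLib.SPC

open Subgroup Module CfsgLib.Forms CfsgLib.LieMult
open CfsgLib.HX (Std CO Two Mv M2)
open CfsgLib.UN (AV SI TI HH Rad Stb Yg Rg Eg Act nu)
open CfsgLib.ClSys (II)
open Submodule (span)
open scoped commutatorElement Pointwise

universe u

variable {F : Type} [Field F] [Finite F] {V : Type} [AddCommGroup V] [Module F V]
  [FiniteDimensional F V] {P : PQ (RingHom.id F) V} {S : Type} [Group S] [Finite S] {G : Type u}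
  [Group G] [Finite G] {C : CG P S} {φ : S →* G} {t : G}

theorem exists_model (K : Type) [Field K] [Finite K] (h2 : (2 : K) = 0) {k : ℕ} (hk : 3 ≤ k) :
    ∃ (V : Type) (_ : AddCommGroup V) (_ : Module K V) (_ : FiniteDimensional K V)
      (P : PQ (RingHom.id K) V) (S : Type) (_ : Group S) (_ : Finite S) (C : CG P S),
      Mod C ∧ finrank K V = 2 * k ∧ Nonempty (S ≃* Cfsg.PSp k K) := by
  obtain ⟨P, C, h⟩ := exists_mod hk h2
  exact ⟨_, _, _, inferInstance, P, _, _, inferInstance, C, h, ClAut.finrank_sp, equiv_PSp hk h2⟩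

end CfsgLib.SPC
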