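import Cfsg.Agent.Lib.SPC.ARel
import Cfsg.Agent.Lib.SPC.Model

/-! Type A: the field case, identification -/

set_option autoImplicit false
set_option linter.unusedSectionVars false

namespace CfsgLib.SPC

open Subgroup Module CfsgLib.Forms CfsgLib.LieMult
open CfsgLib.HX (Std CO Two Mv M2 QA)
open CfsgLib.UN (AV SI TI HH Rad Stb Yg Rg Eg Act nu Bas Nh flag Ub Uni TD Od)
open CfsgLib.UN.SB (D)
open CfsgLib.ClSys (II)
open Submodule (span)
open scoped commutatorElement Pointwise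

universe u

variable {F : Type} [Field F] [Finite F] {V : Type} [AddCommGroup V] [Module F V]
  [FiniteDimensional F V] {P : PQ (RingHom.id F) V} {S : Type} [Group S] [Finite S] {G : Type u}
  [Group G] [Finite G] {C : CG P S} {φ : S →* G} {t : G}

theorem afa_one {W : Subgroup G} (hW : Odd (Nat.card W)) {g : G} (hg : g ∈ W) (g2 : g * g = 1) : g = 1 := by
  have h1 : orderOf g ∣ 2 := orderOf_dvd_of_pow_eq_one (by rwa [pow_two])
  have h2 : orderOf g ∣ Nat.card W := W.orderOf_dvd_natCard hg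
  exact orderOf_eq_one_iff.1 (Nat.eq_one_of_dvd_coprimes hW.coprime_two_left h1 h2)

theorem afa_ap {k : ℕ} {ε : Fin (2 * k) ≃ II k} (hε : ∀ i, ε i.rev = (ε i).swap) {i j : Fin (2 * k)}
    (h1 : i ≠ j) (h2 : j ≠ i.rev) : Ap (ε i) (ε j) :=
  ap_of_ne (ε.injective.ne h1) (by
    rw [← hε]
    exact ε.injective.ne fun e => h2 (by rw [e, Fin.rev_rev]))

theorem HA.field {w : V → V → G} {y : V → F → G} {δ : F} (h : HA C φ t w y δ) (hδ : ∀ r : F, r * r + r ≠ δ)
    {k : ℕ} (hk : finrank F V = 2 * k) :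
    ∃ (b : Basis (Fin (2 * k)) F V) (K : Type) (_ : Field K) (_ : Finite K) (V' : Type) (_ : AddCommGroup V')
      (_ : Module K V') (_ : FiniteDimensional K V') (P' : PQ (RingHom.id K) V') (S' : Type) (_ : Group S')
      (_ : Finite S') (C' : CG P' S') (ψ : S' →* G) (b' : Basis (Fin (2 * k)) K V') (σ : RingAut K),
      AF C φ t w y δ b C' ψ b' σ ∧ Nat.card K = Nat.card F ^ 2 ∧ Nonempty (S' ≃* Cfsg.PSp k K) := by
  have m : Mod C := h.toMod
  have hF : Fact (∀ r : F, r ^ 2 ≠ δ + 1 * r) := ⟨fun r e => hδ r (by linear_combination e + m.add_self r)⟩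
  have fF : Finite (QA F δ) := Finite.of_equiv _ (QuadraticAlgebra.equivProd δ 1).symm
  have k3 : 3 ≤ k := by have := m.d6; omega
  have h2 : (2 : QA F δ) = 0 := by rw [← map_ofNat (algebraMap F (QA F δ)) 2, m.two, map_zero]
  obtain ⟨V', _, _, _, P', S', _, _, C', m', hk', iso⟩ := exists_model (QA F δ) h2 k3
  obtain ⟨Fr⟩ := m.exists_frame hk
  obtain ⟨Fr'⟩ := m'.exists_frame hk'
  obtain ⟨ψ, p1, p2, p3⟩ := pres_sp C' Fr' h2 m'.lam (by omega)
    (fun K hK => m'.gen fun p c => hK _ _ _ (m'.tok0 p c)) m'.perf m'.mult (h.srel Fr) fun g _ h1 g2 =>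
      afa_one h.cent_odd (h.SG_eq Fr ▸ h1) g2
  rw [h.SG_eq Fr] at p3
  obtain ⟨ε, hε⟩ := exists_eps k
  obtain ⟨b, hb, e1⟩ := m.bas_of_frame Fr hε
  obtain ⟨b', hb', e2⟩ := m'.bas_of_frame Fr' hε
  have inj : Function.Injective ψ := by
    have := m'.simp
    have := m.simp
    refine (MonoidHom.ker_eq_bot_iff ψ).1 ((IsSimpleGroup.eq_bot_or_eq_top_of_normal ψ.ker inferInstance).resolve_right
      fun e => ?_)
    obtain ⟨s, hs⟩ := exists_ne (1 : S)
    obtain ⟨s', e'⟩ : φ s ∈ ψ.range := p3 ▸ h.L_le ⟨s, rfl⟩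
    refine hs (h.inj ?_)
    rw [← e', map_one]
    exact (e ▸ mem_top s' : s' ∈ ψ.ker)
  have r1 : ∀ i c, rta C' b' i i c = C'.T (Fr'.v (ε i)) 0 c := fun i c => by rw [rta, if_pos rfl, e2]
  have r2 : ∀ i j c, i ≠ j → rta C' b' i j c = Fr'.xm C' (ε i) (ε j) c := fun i j c e => by
    rw [rta, if_neg e, e2, e2]; rfl
  refine ⟨b, QA F δ, inferInstance, fF, V', _, _, inferInstance, P', S', _, inferInstance, C', ψ, b',
    HX.barE δ m.add_self, ⟨h, ⟨m', inj⟩, hb, hb', fun e => ?_, RingEquiv.ext fun c => ?_, fun i j c e => ?_,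
      fun i j c e => ?_, p3⟩, HX.dbl_card δ, iso⟩
  · have := congrArg (fun σ : RingAut (QA F δ) => (σ ⟨0, 1⟩).re) e
    simp [HX.barE, HX.bar] at this
  · exact (HX.barE δ m.add_self).left_inv c
  · refine ⟨⟨c, 0⟩, ?_⟩
    by_cases hij : i = j
    · subst hij
      rw [r1, p2, h.xlA_re, rta, if_pos rfl, e1]
    · rw [r2 _ _ _ hij, p1 _ _ (afa_ap hε hij e), h.xmA_re Fr (afa_ap hε hij e), rta, if_neg hij, e1, e1]; rfl
  · by_cases hij : i = j
    · subst hij
      rw [r1, r1, p2, p2, h.t_xlA]; rfl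
    · rw [r2 _ _ _ hij, r2 _ _ _ hij, p1 _ _ (afa_ap hε hij e), p1 _ _ (afa_ap hε hij e),
        h.t_xmA Fr (afa_ap hε hij e)]; rfl

end CfsgLib.SPC
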