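import Cfsg.Agent.Lib.SPC.ABas
import Cfsg.Agent.Lib.SPC.ASyl
import Cfsg.Agent.Lib.UN.Top

/-! Type A: odd subgroups normalised by the radicals -/

set_option autoImplicit false
set_option linter.unusedSectionVars false

namespace CfsgLib.SPC

open Subgroup Module CfsgLib.Forms CfsgLib.LieMult
open CfsgLib.HX (Std CO Two Mv M2 QA)
open CfsgLib.UN (AV SI TI HH Rad Stb Yg Rg Eg Act nu Bas Nh flag Ub Uni TD Od)
open CfsgLib.UN.SB (D)
open CfsgLib.ClSys (II)
open Submodule (span)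
open scoped commutatorElement Pointwise

universe u

variable {F : Type} [Field F] [Finite F] {V : Type} [AddCommGroup V] [Module F V]
  [FiniteDimensional F V] {P : PQ (RingHom.id F) V} {S : Type} [Group S] [Finite S] {G : Type u}
  [Group G] [Finite G] {C : CG P S} {φ : S →* G} {t : G}

namespace HA

variable {w : V → V → G} {y : V → F → G} {δ : F} (h : HA C φ t w y δ) {Gs : Subgroup G}
include h

theorem hat_of {U0 B : Subgroup G} {p a : V} (k : Ln P p a) (h1 : B ≤ Rg C φ (span F {p})) (h2 : B ≤ U0)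
    (h3 : z C φ p 1 ∈ B) (h4 : x C φ p a ∈ B) {g : G} (hg : g ∈ B) : UFP.Hat t U0 g := by
  obtain ⟨n, -, -, n1, n2⟩ := h.hat_Q k.ne (h1 hg)
  exact ⟨n, B, n2.symm, hg, h2, fun b hb => UFP.mem_cent1.2 (n1 b (h1 hb)).symm, fun W hW hc hn =>
    h.toEmb.cent_odd_sub hW (hc.trans h.CN) k (hn h3) (hn h4) (h1 hg) (hn hg)⟩

theorem uw (hG : SLE.Glob Gs t) (hL : φ.range ≤ Gs) (ht : t ∉ Gs)
    (hu : UFP.U (normalizer (GA φ y : Set G)) t) {e e' : V} (k : Ln P e e') :
    UFP.UW (normalizer (GA φ y : Set G)) t (Rg C φ (span F {e}) ⊔ Rg C φ (span F {e, e'})) := by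
  have M := h.toMod
  have E := h.toEmb
  obtain ⟨f, f', kk⟩ := M.hh_of_ln k
  have h0 := k.ne
  have h1 := k.nmem
  have m1 : ∀ p : V, p ∈ span F {p} := Submodule.mem_span_singleton_self
  have m2 : e ∈ span F {e, e'} := Submodule.subset_span (by simp)
  have m3 : e' ∈ span F {e, e'} := Submodule.subset_span (by simp)
  have t1 := M.ti_pt e
  have t2 := M.ti_pair k.perp
  have le : ∀ p ∈ span F {e, e'}, span F {p} ≤ span F {e, e'} := fun p hp =>
    (Submodule.span_singleton_le_iff_mem _ _).2 hp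
  let U : Bool → Submodule F V := fun i => cond i (span F {e, e'}) (span F {e})
  have tU : ∀ i, TI P (U i) := Bool.forall_bool.2 ⟨t1, t2⟩
  have mU : ∀ i, e ∈ U i := Bool.forall_bool.2 ⟨m1 e, m2⟩
  set U0 := Rg C φ (span F {e}) ⊔ Rg C φ (span F {e, e'})
  have hX : ∀ i, Rg C φ (U i) ≤ closure {g | UFP.Hat t U0 g} := by
    refine Bool.forall_bool.2 ⟨fun g hg => subset_closure (h.hat_of k le_rfl le_sup_left
      (E.τ_mem_R t1 (m1 e) (zero_mem _) 1) (E.τ_mem_R t1 (m1 e) (P.perp_anti (le e m2) (t2 m3)) 0) hg), ?_⟩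
    refine map_le_iff_le_comap.2 (M.rad_gen t2 fun p hp a ha c => ?_)
    by_cases p0 : p = 0
    · rw [p0, M.T_zero']; exact one_mem _
    have mB : ∀ a ∈ P.perp (span F {e, e'}), ∀ c,
        τ C φ p a c ∈ Rg C φ (span F {p}) ⊓ Rg C φ (span F {e, e'}) := fun a ha c =>
      ⟨E.τ_mem_R (M.ti_pt p) (m1 p) (P.perp_anti (le p hp) ha) c, E.τ_mem_R t2 hp ha c⟩
    obtain ⟨a₀, a1, a2⟩ : ∃ a₀ ∈ span F {e, e'}, a₀ ∉ span F {p} := by
      by_cases c : e ∈ span F {p}
      · exact ⟨e', m3, fun c' =>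
          h1 (eq_span_singleton_of_mem_of_finrank_eq_one (finrank_span_singleton p0) c h0 ▸ c')⟩
      · exact ⟨e, m2, c⟩
    exact subset_closure (h.hat_of ⟨p0, a2, t2 a1 p hp⟩ inf_le_left (inf_le_right.trans le_sup_right)
      (mB 0 (zero_mem _) 1) (mB a₀ (t2 a1) 0) (mB a ha c))
  have hz : ∀ r, z C φ e r ∈ closure {g | UFP.Hat t U0 g} := fun r =>
    hX false (E.τ_mem_R t1 (m1 e) (zero_mem _) r)
  have hY : ∀ i, Rg C φ (U i) ≤ Yg C φ (span F {e}) := fun i =>
    map_mono ((rad_le_fix _).trans (fix_anti ((Submodule.span_singleton_le_iff_mem _ _).2 (mU i))))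
  refine UFP.UWData.uw (L := φ.range) (Zh := ZA C φ y e) (X := {g | UFP.Hat t U0 g}) (R := fun i => Rg C φ (U i))
    (P := fun i => (Stb C (U i)).map φ) ⟨⟨true⟩, fun _ e => e, fun g hg => UFP.mem_cent1.2 (h.toSit.tL hg).symm, ?_,
      fun i => map_le_range _ _, ?_, fun H hH e1 => E.le_of_norm hH ((closure_le H).2 e1 (hz 1)) ⟨_, rfl⟩
        fun e2 => by simpa [h0] using E.z_eq_one.1 e2, hX, fun i => (M.rad_two (tU i)).map φ,
      fun i => (map_mono ((M.stb_norm _).trans (inf_le_left.trans inf_le_right))).trans (le_normalizer_map φ),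
      fun i e => h.toSit.t_not_mem (map_le_range _ _ e), Bool.forall_bool.2
        ⟨(h.toSit.td_Q h.two' h0).iso_of hG hL ht fun a ha => ?_,
          (h.toSit.td_R h.two' t2 ?_).iso_of hG hL ht fun a ha => ?_⟩,
      fun i => (h.ZA_cY e).trans (centralizer_le (hY i)), fun g hg => ?_,
      UFP.fin_of (fun H hH e1 => le_sup_right.trans ((h.GA_eq h0).ge.trans (h.GA_le ((h.GA_eq h0).le.trans hH) e1)))
        (by rw [← h.GA_eq h0]; exact centralizer_le_normalizer _)⟩ hu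
  · exact Bool.forall_bool.2 ⟨sup_le (map_mono (UN.top_rad_le_stb t1 le_rfl))
      (map_mono ((rad_le_fix _).trans ((fix_anti (le e m2)).trans (fix_le_stb _)))),
      sup_le (map_mono (UN.top_rad_le_stb t2 (le e m2))) (map_mono (UN.top_rad_le_stb t2 le_rfl))⟩
  · rintro _ ⟨l, rfl⟩
    refine (M.gen_line kk (H := (⨆ i, (Stb C (U i)).map φ).comap φ) (fun p c hep => mem_iSup_of_mem false
      ⟨_, fix_le_stb _ (mem_fix_pt.2 ?_), rfl⟩) fun l => mem_iSup_of_mem true ⟨_, UN.top_rad_le_stb t2 (le e' m3)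
        (M.T_mem_rad (M.ti_pt e') (m1 e') (M.mem_perp_span.2 ?_) 0), rfl⟩).ge (mem_top l)
    · rw [M.z_app, M.B_comm, hep, mul_zero, zero_smul, add_zero]
    · rintro _ rfl
      rw [map_smul, M.B_comm, kk.fe, smul_zero]
  · obtain ⟨g, g1, g2, g3, g4⟩ := h.hat_Q h0 ha
    exact ⟨g, h.GA_le_Gs hG hL g1, g2, h.GA_co g1, g3, g4⟩
  · rw [Submodule.span_insert, Submodule.finrank_sup_span_singleton h1, finrank_span_singleton h0]
  · obtain ⟨g, g1, g2, g3, g4⟩ := h.hat_E t2 ha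
    exact ⟨g, h.GA_le_Gs hG hL g1, g2, h.GA_co g1, centralizer_le (map_mono (rad_le_fix _)) g3, g4⟩
  · obtain ⟨s, r, rfl⟩ := h.mem_ZA.1 hg
    have e1 : z C φ e s * y e r * t * (z C φ e s * y e r)⁻¹ = t * z C φ e r := by
      rw [(h.zy (M.B_self e) s r).eq, mul_assoc _ _ t, show z C φ e s * t = _ from h.toSit.tl _,
        ← (h.ymv e r).pt, z]
      group
    rw [e1, inv_mul_cancel_left]
    exact hz r

theorem uw_Ub (hG : SLE.Glob Gs t) (hL : φ.range ≤ Gs) (ht : t ∉ Gs)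
    (hu : UFP.U (normalizer (GA φ y : Set G)) t) {k : ℕ} {b : Basis (Fin (2 * k)) F V} (hb : Bas P b) :
    UFP.UW (normalizer (GA φ y : Set G)) t ((Ub C b).map φ) := by
  have M := h.toMod
  obtain ⟨e, f, e', f', kk, e1, e2⟩ := M.exists_flag hb
  have h3 := (M.bas_rank hb).2
  refine (h.uw hG hL ht hu (M.ln_of_hh kk)).mono ?_
  rw [← e1, ← e2]
  exact sup_le (map_mono (M.rad_le_Ub hb (by omega))) (map_mono (M.rad_le_Ub hb (by omega)))

end HA

end CfsgLib.SPC
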