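import Cfsg.Agent.Lib.SPC.ASylB
import Cfsg.Agent.Lib.SPC.AAx
import Cfsg.Agent.Lib.SPC.AEmb

/-! Two radicals in the Sylow subgroup -/

set_option autoImplicit false
set_option linter.unusedSectionVars false

namespace CfsgLib.SPC

open Subgroup Module CfsgLib.Forms CfsgLib.LieMult
open CfsgLib.HX (Std CO Two Mv M2 QA)
open CfsgLib.UN (AV SI TI HH Rad Stb Yg Rg Eg Act nu Bas Nh flag Ub Uni TD Od)
open CfsgLib.UN.SB (D)
open CfsgLib.ClSys (II)
open Submodule (span)
open scoped commutatorElement Pointwise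

universe u

variable {F : Type} [Field F] [Finite F] {V : Type} [AddCommGroup V] [Module F V]
  [FiniteDimensional F V] {P : PQ (RingHom.id F) V} {S : Type} [Group S] [Finite S] {G : Type u}
  [Group G] [Finite G] {C : CG P S} {φ : S →* G} {t : G}

theorem asc_uni {M : ℕ → Submodule F V} {s : S} (e : ∀ i, s ∈ Stb C (M i)) :
    s ∈ normalizer (Uni C M : Set S) :=
  mem_normalizer_fintype fun u hu i => ⟨fun v => by
    rw [C.mul_apply, C.mul_apply, e i, (hu i).1, ← e i, C.apply_inv], fun v hv => by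
    have := (e i _).2 ((hu i).2 (C.act s⁻¹ v) (by rwa [← e (i + 1), C.apply_inv]))
    rwa [map_sub, C.apply_inv, ← C.mul_apply, ← C.mul_apply] at this⟩

theorem asc_stb {M : Submodule F V} {s : S} (e : ∀ v ∈ M, C.act s v ∈ M) : s ∈ Stb C M :=
  fun v => ⟨UN.mem_of_map_mem e, e v⟩

theorem asc_two {M : Submodule F V} {u v : V} (hu : u ∉ P.perp M) (hv : v ∉ P.perp M) :
    ∃ p ∈ M, P.B p u ≠ 0 ∧ P.B p v ≠ 0 := by
  simp only [P.mem_perp, not_forall] at hu hv
  obtain ⟨p, hp, k1⟩ := hu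
  obtain ⟨q, hq, k2⟩ := hv
  by_cases e1 : P.B p v = 0
  · by_cases e2 : P.B q u = 0
    · exact ⟨p + q, add_mem hp hq, by simpa [e2] using k1, by simpa [e1] using k2⟩
    · exact ⟨q, hq, e2, k2⟩
  · exact ⟨p, hp, k1, e1⟩

namespace Mod

variable (h : Mod C) {k : ℕ}
include h

/-- a transvection of `GL(M)` has a large centraliser in `E(M)` -/
theorem card_cent_tv (hk : finrank F V = 2 * k) {M : Submodule F V} (hM : Lag P M) {p f : V} (hp : p ∈ M)
    (e : P.B p f = 0) : Nat.card (C.fixG (P.perp M)) ≤ Nat.card F ^ (k - 1) *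
      Nat.card (C.fixG (P.perp M) ⊓ centralizer {C.T p f 0} : Subgroup S) := by
  by_cases p0 : p = 0
  · rw [p0, h.T_zero', inf_of_le_left fun s _ => UFP.mem_cent1.2 (by simp)]
    exact Nat.le_mul_of_pos_left _ (pow_pos Nat.card_pos _)
  have hT := h.lag_ti hM
  let χ : C.fixG (P.perp M) →* Multiplicative (M ⧸ span F {(⟨p, hp⟩ : M)}) := MonoidHom.mk'
    (fun s => .ofAdd (Submodule.Quotient.mk ⟨nu C s f, h.E_range s.2 f⟩)) fun s s' => by
      rw [← ofAdd_add, ← Submodule.Quotient.mk_add]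
      congr 2
      exact Subtype.ext (by simp [h.E_nu_mul hT s.2 s'.2])
  have r1 := Submodule.finrank_quotient_add_finrank (span F {(⟨p, hp⟩ : M)})
  rw [finrank_span_singleton (fun e' => p0 (congrArg Subtype.val e'))] at r1
  have r2 := h.lag_rank hM
  have : Finite (M ⧸ span F {(⟨p, hp⟩ : M)}) := Module.finite_of_finite F
  have c1 : Nat.card χ.range ≤ Nat.card F ^ (k - 1) := by
    refine (Subgroup.card_le_card_group _).trans (le_of_eq ?_)
    rw [Nat.card_congr Multiplicative.toAdd, Module.natCard_eq_pow_finrank (K := F)]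
    congr 1; omega
  rw [← χ.ker.card_mul_index, index_ker, mul_comm]
  refine Nat.mul_le_mul c1 (Nat.card_le_card_of_injective (fun s => ⟨s.1.1, s.1.2, ?_⟩) fun s s' e' =>
    Subtype.ext (Subtype.ext (Subtype.mk.inj e')))
  obtain ⟨c, hc⟩ := Submodule.mem_span_singleton.1 ((Submodule.Quotient.mk_eq_zero _).1
    (ofAdd_eq_one.1 (MonoidHom.mem_ker.1 s.2)))
  have e1 : c • p = nu C s.1.1 f := congrArg Subtype.val hc
  have e2 := h.comm_tv hM hp e s.1.2
  rw [← e1, (h.T_eq_one p0 (by simp [h.B_self])).2 ⟨Submodule.smul_mem _ _ (Submodule.mem_span_singleton_self p),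
    by rw [map_smul, h.B_comm, e, smul_zero]⟩, mul_assoc] at e2
  refine UFP.mem_cent1.2 ((eq_inv_of_mul_eq_one_left e2).trans ?_)
  rw [mul_inv_rev, inv_eq_of_mul_eq_one_right (h.T_sq e 0), inv_eq_of_mul_eq_one_right (h.E_sq hT s.1.2)]

variable {b : Basis (Fin (2 * k)) F V} (hb : Bas P b) {s : S}
include hb

theorem lag_eq {M : Submodule F V} (hM : Lag P M) (e : C.fixG (P.perp M) ≤ Ub C b) : M = flag b k := by
  have le : M ≤ flag b k := fun p hp => (UN.mem_flag b).2 fun j hj => by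
    by_contra n
    have k1 := UN.SB.move (e (h.T_mem_E (h.lag_ti hM) hp (zero_mem _) 1)) (UN.b_mem_flag b (j.rev.1.lt_succ_self))
    rw [h.z_app, add_sub_cancel_left, one_mul, h.B_comm, UN.SB.B_bas hb, Fin.rev_rev] at k1
    have := (UN.mem_flag b).1 k1 j (by have := j.2; rw [Fin.val_rev]; omega)
    simp [n] at this
  exact le_antisymm le ((h.lag_flag hb).ge.trans ((P.perp_anti le).trans hM.le))

theorem asc_perp {i j : Fin (2 * k)} (e : j ≠ i.rev) (c : F) : P.B (b i) (c • b j) = 0 := by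
  rw [map_smul, hb i j, if_neg e, smul_zero]

theorem Ub_gen {H : Subgroup S} (h1 : C.fixG (P.perp (flag b k)) ≤ H)
    (h2 : ∀ p ∈ flag b k, ∀ f, P.B p f = 0 → C.T p f 0 ∈ Ub C b → C.T p f 0 ∈ H) : Ub C b ≤ H := by
  have key : ∀ i j : Fin (2 * k), (i : ℕ) + j + 1 < 2 * k → (i : ℕ) < k → ∀ c, rta C b i j c ∈ H := by
    intro i j e hi c
    have m := D_le (h.rta_mem_D hb one_pos e c)
    unfold rta at m ⊢
    split_ifs at m ⊢
    · exact h1 (h.T_mem_E (h.ti_flag hb le_rfl) (UN.b_mem_flag b hi) (zero_mem _) c)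
    · exact h2 _ (UN.b_mem_flag b hi) _ (h.asc_perp hb (fun e' => by rw [e', Fin.val_rev] at e; omega) c) m
  rw [← UN.SB.D_one]
  refine h.gen_D hb one_pos fun i j e c => ?_
  by_cases hi : (i : ℕ) < k
  · exact key i j e hi c
  · rw [h.rta_symm hb (fun e' => by rw [e', Fin.val_rev] at e; omega)]
    exact key j i (by omega) (by omega) c

theorem asc_R2 {i : Fin (2 * k)} (hi : (i : ℕ) = k) :
    s ∈ R2 C b k ↔ s ∈ Ub C b ∧ C.act s (b i) - b i ∈ flag b (k - 1) := by
  have k3 := (h.bas_rank hb).2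
  have m : b i ∈ flag b (k + 1) := UN.b_mem_flag b (by omega)
  refine ⟨fun hs' => ?_, fun ⟨h1, h2⟩ n => ⟨?_, fun v hv => ?_⟩⟩
  · have hs : ∀ n, _ ∧ ∀ v ∈ (if n + 1 < k then flag b (n + 1) else flag b (n + 1 + 1)),
        C.act s v - v ∈ if n < k then flag b n else flag b (n + 1) := hs'
    have a : ∀ v ∈ flag b (k + 1), C.act s v - v ∈ flag b (k - 1) := fun v hv => by
      have := (hs (k - 1)).2 v (by rwa [if_neg (by omega), show k - 1 + 1 + 1 = k + 1 by omega])
      rwa [if_pos (by omega)] at this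
    refine ⟨(UN.mem_Ub b).2 ((UN.mem_Nh b).2 fun n v hv => ?_), a _ m⟩
    rw [UN.SB.nu_apply]
    rcases lt_or_ge n k with c | c
    · rcases n with _ | n
      · rw [UN.flag_zero] at hv
        rw [(Submodule.mem_bot F).1 hv]; simp
      · have := (hs n).2 v (by rwa [if_pos c])
        rwa [if_pos (by omega)] at this
    rcases le_or_gt n (k + 1) with c' | c'
    · exact UN.flag_mono b (by omega) (a v (UN.flag_mono b c' hv))
    · have := (hs (n - 2)).2 v (by rwa [if_neg (by omega), show n - 2 + 1 + 1 = n by omega])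
      rwa [if_neg (by omega), show n - 2 + 1 = n - 1 by omega] at this
  · beta_reduce
    split_ifs <;> exact h.Ub_le_stb hb _ h1
  · beta_reduce at hv ⊢
    rcases lt_trichotomy (n + 1) k with c | c | c
    · rw [if_pos c] at hv
      rw [if_pos (by omega)]
      exact UN.SB.move h1 hv
    · rw [if_neg (by omega)] at hv
      have a := UN.flag_mono b (show (i : ℕ) ≤ n + 1 by omega)
        (UN.sub_mem_flag b (j := i) (UN.flag_mono b (by omega) hv))
      have := add_mem (UN.SB.move h1 a) (Submodule.smul_mem _ (b.repr v i) (UN.flag_mono b (by omega) h2))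
      rw [if_pos (by omega)]
      convert this using 1
      rw [map_sub, map_smul, smul_sub]; abel
    · rw [if_neg (by omega)] at hv ⊢
      exact UN.SB.move h1 hv

theorem mem_R2 : s ∈ R2 C b k ↔ s ∈ Ub C b ∧ ent C b s (k - 1) = 0 := by
  have k3 := (h.bas_rank hb).2
  rw [h.asc_R2 hb (i := ⟨k - 1 + 1, by omega⟩) (show k - 1 + 1 = k by omega), ent, dif_pos (by omega),
    UN.SB.nu_apply]
  refine and_congr_right fun hs => ⟨fun e => (UN.mem_flag b).1 e _ le_rfl, fun e => ?_⟩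
  have := UN.sub_mem_flag b (j := ⟨k - 1, by omega⟩)
    (UN.SB.move hs (UN.b_mem_flag b (j := ⟨k - 1 + 1, by omega⟩) (Nat.lt_succ_self _)))
  rwa [e, zero_smul, sub_zero] at this

theorem rad_le_R2 : Rad C (flag b 1) ≤ R2 C b k := fun s hs => by
  have k3 := (h.bas_rank hb).2
  refine (h.asc_R2 hb (i := ⟨k, by omega⟩) rfl).2 ⟨h.rad_le_Ub hb (by omega) hs,
    UN.flag_mono b (by omega) (hs.2 _ ?_)⟩
  rw [h.perp_flag hb (by omega)]
  exact UN.b_mem_flag b (show k < 2 * k - 1 by omega)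

theorem Ub_norm_R2 : Ub C b ≤ normalizer (R2 C b k : Set S) := fun _ hs => asc_uni fun _ => by
  split_ifs <;> exact h.Ub_le_stb hb _ hs

theorem z_norm_R2 {i : Fin (2 * k)} (hi : (i : ℕ) = k) (c : F) :
    C.T (b i) 0 c ∈ normalizer (R2 C b k : Set S) := asc_uni fun n => asc_stb fun v hv => by
  rw [h.z_app]
  split_ifs at hv ⊢
  · rwa [UN.SB.B_bas hb, (UN.mem_flag b).1 hv _ (by rw [Fin.val_rev]; omega), mul_zero, zero_smul, add_zero]
  · exact add_mem hv (Submodule.smul_mem _ _ (UN.b_mem_flag b (by omega)))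

theorem mem_ED2 (hs : s ∈ Ub C b) :
    s ∈ C.fixG (P.perp (flag b k)) ⊔ D C b 2 ↔ ∀ i < k - 1, ent C b s i = 0 := by
  have k3 := (h.bas_rank hb).2
  refine ⟨fun e i hi => ?_, fun e => ?_⟩
  · obtain ⟨a, ha, d, hd, rfl⟩ := (Core.mem_sup_of_le_normalizer_right ((h.E_le_Ub hb).trans D_norm)).1 e
    rw [ent_mul (h.E_le_Ub hb ha) (D_le hd), (h.mem_D2 hb (D_le hd)).1 hd i (by omega), add_zero, ent,
      dif_pos (by omega), UN.SB.nu_apply, ha _ (h.ti_flag hb le_rfl (UN.b_mem_flag b (by simp; omega)))]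
    simp
  · let j : Fin (2 * k) := ⟨k - 1, by omega⟩
    have m : rta C b j j (ent C b s (k - 1)) ∈ C.fixG (P.perp (flag b k)) := by
      rw [rta, if_pos rfl]
      exact h.T_mem_E (h.ti_flag hb le_rfl) (UN.b_mem_flag b (show k - 1 < k by omega)) (zero_mem _) _
    refine (mul_mem_cancel_right (mem_sup_left m)).1 (mem_sup_right
      ((h.mem_D2 hb (mul_mem hs (h.E_le_Ub hb m))).2 fun i hi => ?_))
    rw [ent_mul hs (h.E_le_Ub hb m), h.ent_rta hb (show k - 1 + (k - 1) + 2 = 2 * k by omega)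
      (show k - 1 < k by omega) _ hi]
    split_ifs with c
    · rw [c]; exact h.add_self _
    · rw [e i (by have : i ≠ k - 1 := c; omega), add_zero]

theorem gen_par {H : Subgroup S} (h1 : ∀ l ∈ Stb C (flag b k), ∀ u ∈ Ub C b, l * u * l⁻¹ ∈ H)
    (h2 : ∀ l ∈ normalizer (R2 C b k : Set S), ∀ u ∈ Ub C b, l * u * l⁻¹ ∈ H) : H = ⊤ := by
  have k3 := (h.bas_rank hb).2
  have hM := h.lag_flag hb
  have A : ∀ p ∈ flag b k, ∀ f c, P.B p f = 0 → C.T p f c ∈ H := by
    intro p hp f c e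
    by_cases p0 : p = 0
    · rw [p0, h.T_zero']; exact one_mem _
    let i : Fin (2 * k) := ⟨0, by omega⟩
    have m : b i ∈ flag b k := UN.b_mem_flag b (show 0 < k by omega)
    obtain ⟨g, -, g1, g2⟩ := asc_two (P := P) (M := ⊤) (u := b i) (v := p)
      (fun e' => b.ne_zero i (h.nd fun w => by rw [h.B_comm]; exact e' w trivial))
      fun e' => p0 (h.nd fun w => by rw [h.B_comm]; exact e' w trivial)
    have a1 : (P.B g (b i) / P.B g p) • p + b i ∈ flag b k := add_mem (Submodule.smul_mem _ _ hp) m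
    have a2 : P.B ((P.B g (b i) / P.B g p) • p + b i) ((P.B g (b i))⁻¹ • g) = 0 := by
      rw [h.B_comm, h.B_smul_left, map_add, map_smul, smul_eq_mul, div_mul_cancel₀ _ g2, h.add_self, mul_zero]
    obtain ⟨l, l1, l2⟩ : ∃ l ∈ Stb C (flag b k), C.act l (b i) = (P.B g (b i) / P.B g p) • p :=
      ⟨_, asc_stb fun v hv => by
        rw [h.x_app a2, Mod.g2_B hM a1 hv, zero_smul, add_zero]
        exact add_mem hv (Submodule.smul_mem _ _ a1), by
        rw [h.x_app a2, Mod.g2_B hM a1 m, zero_smul, add_zero, h.B_smul_left, inv_mul_cancel₀ g1, one_smul,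
          add_left_comm, h.vadd_self, add_zero]⟩
    generalize hx : P.B g (b i) / P.B g p = x at l2
    have x0 : x ≠ 0 := hx ▸ div_ne_zero g1 g2
    have e1 : P.B (b i) (C.act l⁻¹ (x⁻¹ • f)) = 0 := by
      rw [← C.B_act_left, l2, h.B_smul_left, map_smul, e, smul_zero, mul_zero]
    have := h1 l l1 _ (h.rad_le_Ub hb (r := 1) (by omega) (h.T_mem_rad (h.ti_flag hb (by omega))
      (UN.b_mem_flag b (j := i) Nat.zero_lt_one) (a := C.act l⁻¹ (x⁻¹ • f)) (fun w hw => by
        have := UN.sub_mem_flag b (j := i) hw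
        rw [show flag b i = ⊥ from UN.flag_zero b, Submodule.mem_bot, sub_eq_zero] at this
        rw [this, h.B_smul_left, e1, mul_zero]) (x⁻¹ * x⁻¹ * c)))
    rwa [h.T_conj l e1, l2, C.apply_inv, h.T_smul (by rw [map_smul, e, smul_zero]), smul_inv_smul₀ x0,
      show x * x * (x⁻¹ * x⁻¹ * c) = c by field_simp] at this
  let i : Fin (2 * k) := ⟨k - 1, by omega⟩
  let j : Fin (2 * k) := ⟨k, by omega⟩
  have ij : P.B (b i) (b j) = 1 := by rw [hb i j, if_pos (Fin.ext (by simp [i, j]; omega))]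
  have zi : ∀ c, C.T (b i) 0 c ∈ Ub C b := fun c => h.E_le_Ub hb
    (h.T_mem_E (h.ti_flag hb le_rfl) (UN.b_mem_flag b (show k - 1 < k by omega)) (zero_mem _) c)
  have Z : ∀ c, C.T (b j) 0 c ∈ H := fun c => by
    have := h2 _ (mul_mem (h.Ub_norm_R2 hb (zi 1)) (h.z_norm_R2 hb (i := j) rfl 1)) _ (zi c)
    rwa [h.T_conj _ (by simp), map_zero, C.mul_apply, h.z_app (b j), h.B_comm, ij, h.z_app, map_add, h.B_self,
      map_smul, ij, mul_one, one_smul, smul_eq_mul, mul_one, zero_add, one_mul, one_smul, add_right_comm,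
      h.vadd_self, zero_add] at this
  refine h.gen fun v c => ?_
  by_cases hv : v ∈ flag b k
  · exact A v hv 0 c (by simp)
  obtain ⟨p, hp, p1, p2⟩ := asc_two (P := P) (M := flag b k) (u := b j) (v := v)
    (by rw [hM]; exact fun e => by simpa using (UN.mem_flag b).1 e j le_rfl) (by rwa [hM])
  generalize hx : P.B p (b j) / P.B p v = x
  have x0 : x ≠ 0 := hx ▸ div_ne_zero p1 p2
  have a2 : P.B ((P.B p (b j))⁻¹ • p) (x • v + b j) = 0 := by
    rw [h.B_smul_left, map_add, map_smul, smul_eq_mul, ← hx, div_mul_cancel₀ _ p2, h.add_self, mul_zero]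
  have m := A _ (Submodule.smul_mem _ (P.B p (b j))⁻¹ hp) _ (P.B (x • v + b j) (b j)) a2
  have := mul_mem (mul_mem m (Z (x⁻¹ * x⁻¹ * c))) (inv_mem m)
  rwa [h.T_conj _ (by simp), map_zero, h.T_app a2, h.B_smul_left, inv_mul_cancel₀ p1, mul_one, h.add_self,
    zero_smul, add_zero, one_smul, add_left_comm, h.vadd_self, add_zero, h.T_smul (by simp), smul_zero,
    show x * x * (x⁻¹ * x⁻¹ * c) = c by field_simp] at this

end Mod

namespace Emb

variable (h : Emb C φ) {k : ℕ} {b : Basis (Fin (2 * k)) F V} (hb : Bas P b) {d : G}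
include h hb

/-- `E(M)` is characteristic in the Sylow subgroup -/
theorem E_char (hd : d ∈ normalizer ((Ub C b).map φ : Set G)) :
    d ∈ normalizer (Eg C φ (flag b k) : Set G) := by
  obtain ⟨hk, k3⟩ := h.bas_rank hb
  have hM := h.lag_flag hb
  have le : (Eg C φ (flag b k)).map (MulAut.conj d).toMonoidHom ≤ (Ub C b).map φ := by
    rintro _ ⟨x, hx, rfl⟩
    exact UFP.conj_mem hd (map_mono (h.E_le_Ub hb) hx)
  obtain ⟨X, hX⟩ : ∃ X, X = ((Eg C φ (flag b k)).map (MulAut.conj d).toMonoidHom).comap φ := ⟨_, rfl⟩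
  have e1 : X.map φ = (Eg C φ (flag b k)).map (MulAut.conj d).toMonoidHom :=
    hX ▸ map_comap_eq_self (le.trans (map_le_range _ _))
  have c1 : Nat.card X = Nat.card F ^ (k * (k + 1) / 2) := by
    rw [← card_map_of_injective h.inj, e1, card_map_of_injective (MulAut.conj d).injective, h.card_EM hk hM]
  obtain ⟨M, h1, h2⟩ := h.maxe hk (X := X) (fun s hs => h.inj (by
    obtain ⟨_, ⟨x, hx, rfl⟩, e⟩ := e1.le (mem_map_of_mem φ hs)
    rw [map_mul, ← e, ← map_mul, ← map_mul, show x * x = 1 from h.toMod.E_sq (h.lag_ti hM) hx, map_one, map_one])) (by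
    rw [c1]
    exact Nat.pow_lt_pow_right Finite.one_lt_card (Nat.sub_one_lt
      (Nat.div_pos (by nlinarith) two_pos).ne'))
  have e2 : X = C.fixG (P.perp M) := eq_of_le_of_card_ge h2 (by
    rw [c1, ← h.card_EM hk h1, Eg, card_map_of_injective h.inj])
  have e3 := h.lag_eq hb h1 (e2 ▸ (map_le_map_iff_of_injective h.inj).1 (e1.le.trans le))
  refine mem_normalizer_fintype fun x hx => ?_
  have := e1.ge (mem_map_of_mem _ hx)
  rwa [e2, e3] at this

theorem asc_norm {l : S} (hl : φ l ∈ normalizer ((Ub C b).map φ : Set G)) : l ∈ normalizer (Ub C b : Set S) :=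
  mem_normalizer_fintype fun u hu => (mem_map_iff_mem h.inj).1 (by
    rw [map_mul, map_mul, map_inv]; exact UFP.conj_mem hl (mem_map_of_mem φ hu))

theorem mem_U {l : S} (h2 : IsPGroup 2 (zpowers (φ l))) (hl : φ l ∈ normalizer ((Ub C b).map φ : Set G)) :
    l ∈ Ub C b := by
  obtain ⟨n, hn⟩ := Core.isPGroup_zpowers_iff.1 h2
  exact h.mem_Ub_of hb (Core.isPGroup_zpowers_iff.2 ⟨n, h.inj (by rw [map_pow, hn, map_one])⟩) (h.asc_norm hb hl)

theorem rn (hq : ¬ Small F) {GN : Subgroup G} (hN : GN ≤ normalizer (φ.range : Set G))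
    (hd : d ∈ normalizer ((Ub C b).map φ : Set G))
    (ha : UFP.ActsLike GN ((Ub C b).map φ) (φ.range ⊓ normalizer ((Ub C b).map φ : Set G)) d) :
    d ∈ normalizer ((R2 C b k).map φ : Set G) := by
  have k3 := (h.bas_rank hb).2
  have : Nonempty S := ⟨1⟩
  obtain ⟨en, he⟩ : ∃ en : G → Fin k → F, ∀ s i, en (φ s) i = ent C b s i :=
    ⟨fun g i => ent C b (Function.invFun φ g) i, fun s i => by simp only [Function.leftInverse_invFun h.inj s]⟩
  have mul : ∀ u ∈ (Ub C b).map φ, ∀ v ∈ (Ub C b).map φ, en (u * v) = en u + en v := by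
    rintro _ ⟨u, hu, rfl⟩ _ ⟨v, hv, rfl⟩
    ext i
    rw [← map_mul, Pi.add_apply, he, he, he, ent_mul hu hv]
  have eD : ⁅(Ub C b).map φ, (Ub C b).map φ⁆ = (D C b 2).map φ := by rw [← map_commutator, h.der hb hq]
  have ker : ∀ u ∈ (Ub C b).map φ, en u = 0 ↔ u ∈ ⁅(Ub C b).map φ, (Ub C b).map φ⁆ := by
    rintro _ ⟨u, hu, rfl⟩
    rw [eD, mem_map_iff_mem h.inj, h.mem_D2 hb hu, funext_iff]
    exact ⟨fun e i hi => (he u ⟨i, hi⟩).symm.trans (e _), fun e i => (he u i).trans (e i i.2)⟩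
  have sur : ∀ i c, ∃ u ∈ (Ub C b).map φ, en u = Pi.single i c := fun i c => by
    obtain ⟨s, hs, e⟩ := h.exists_ent hb i.2 c
    exact ⟨_, mem_map_of_mem φ hs, funext fun l => by rw [he, e l l.2, Pi.single_apply]; simp [Fin.ext_iff]⟩
  have ax := axes_perm (h.exists_big hq) en mul ker sur (fun c h1 h2 => loc_ninf (hN h1) (le_normalizer h2))
    inf_le_right (by
      rintro _ ⟨⟨l, rfl⟩, hl⟩ h2
      exact mem_map_of_mem φ (h.mem_U hb h2 hl)) (by
      rintro _ ⟨⟨l, rfl⟩, hl⟩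
      obtain ⟨μ, hμ⟩ := h.ent_conj hb (h.asc_norm hb hl)
      refine ⟨fun i => μ i, ?_⟩
      rintro _ ⟨u, hu, rfl⟩
      ext i
      rw [← map_inv, ← map_mul, ← map_mul, Pi.mul_apply, he, he, hμ u hu]) (fun μ hμ => by
      obtain ⟨l, hl, e⟩ := h.exists_tor hb (μ := fun i => if c : i < k then μ ⟨i, c⟩ else 1)
        fun i hi => by rw [dif_pos hi]; exact hμ _
      refine ⟨φ l, ⟨⟨l, rfl⟩, le_normalizer_map φ (mem_map_of_mem φ hl)⟩, ?_⟩
      rintro _ ⟨u, hu, rfl⟩
      ext i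
      rw [← map_inv, ← map_mul, ← map_mul, Pi.mul_apply, he, he, e u hu i i.2, dif_pos i.2]) hd ha
  let j : Fin k := ⟨k - 1, by omega⟩
  have nD : d ∈ normalizer (((D C b 2).map φ : Subgroup G) : Set G) := eD ▸ loc_ncomm hd hd
  have A : ∀ u ∈ (Ub C b).map φ, u ∈ Eg C φ (flag b k) ⊔ (D C b 2).map φ ↔ ∀ l, l ≠ j → en u l = 0 := by
    rintro _ ⟨u, hu, rfl⟩
    rw [Eg, ← Subgroup.map_sup, mem_map_iff_mem h.inj, h.mem_ED2 hb hu]
    exact ⟨fun e l hl => (he u l).trans (e l (by have := l.2; have := Fin.val_ne_of_ne hl; simp [j] at this; omega)),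
      fun e i hi => (he u ⟨i, by omega⟩).symm.trans (e _ fun e' => by simp [j] at e'; omega)⟩
  have z0 : ∀ u ∈ (Ub C b).map φ, en u = 0 → en (d * u * d⁻¹) j = 0 := fun u hu e =>
    congrFun ((ker _ (UFP.conj_mem hd hu)).2 (eD ▸ UFP.conj_mem nD (eD ▸ (ker u hu).1 e))) j
  have key : ∀ n ≤ k - 1, ∀ u ∈ (Ub C b).map φ, (∀ l : Fin k, n ≤ l → en u l = 0) → en (d * u * d⁻¹) j = 0 := by
    intro n
    induction n with
    | zero => exact fun _ u hu e => z0 u hu (funext fun l => e l (Nat.zero_le _))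
    | succ n ih =>
      intro hn u hu e
      let i : Fin k := ⟨n, by omega⟩
      obtain ⟨v, hv, ev⟩ := sur i (en u i)
      have v1 : ∀ l, l ≠ i → en v l = 0 := fun l hl => by rw [ev, Pi.single_eq_of_ne hl]
      have k1 : en (d * v * d⁻¹) j = 0 := by
        obtain ⟨i', hi'⟩ := ax i
        by_cases c : j = i'
        · subst c
          have := (A v hv).1 ((mem_normalizer_iff.1 (HX.mem_nsup (h.E_char hb hd) nD) v).2
            ((A _ (UFP.conj_mem hd hv)).2 (hi' v hv v1)))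
          refine z0 v hv (funext fun l => ?_)
          by_cases c' : l = i
          · exact this l fun e' => by rw [c'] at e'; simp [i, j] at e'; omega
          · exact v1 l c'
        · exact hi' v hv v1 j c
      have k2 := ih (by omega) _ (mul_mem hu hv) fun l hl => by
        rw [mul u hu v hv, Pi.add_apply]
        by_cases c : l = i
        · rw [c, ev, Pi.single_eq_same, h.add_self]
        · rw [v1 l c, e l (by have := Fin.val_ne_of_ne c; simp [i] at this; omega), add_zero]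
      rwa [← conj_mul, mul _ (UFP.conj_mem hd hu) _ (UFP.conj_mem hd hv), Pi.add_apply, k1, add_zero] at k2
  refine mem_normalizer_fintype ?_
  rintro _ ⟨s, hs, rfl⟩
  obtain ⟨s1, s2⟩ := (h.mem_R2 hb).1 hs
  obtain ⟨u, hu, e⟩ := UFP.conj_mem hd (mem_map_of_mem φ s1)
  refine ⟨u, (h.mem_R2 hb).2 ⟨hu, (he u j).symm.trans (e ▸ key _ le_rfl _ (mem_map_of_mem φ s1) fun l hl => ?_)⟩, e⟩
  rw [he, show (l : ℕ) = k - 1 by have := l.2; omega, s2]

end Emb

end CfsgLib.SPC
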