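import Cfsg.Agent.Lib.SPC.APrdA
import Cfsg.Agent.Lib.SPC.ASylC

/-! Type A: the product case, the characteristic subgroup -/

set_option autoImplicit false
set_option linter.unusedSectionVars false

namespace CfsgLib.SPC

open Subgroup Module CfsgLib.Forms CfsgLib.LieMult
open CfsgLib.HX (Std CO Two Mv M2 QA)
open CfsgLib.UN (AV SI TI HH Rad Stb Yg Rg Eg Act nu Bas Nh flag Ub Uni TD Od)
open CfsgLib.UN.SB (D)
open CfsgLib.ClSys (II)
open Submodule (span)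
open scoped commutatorElement Pointwise

universe u

variable {F : Type} [Field F] [Finite F] {V : Type} [AddCommGroup V] [Module F V]
  [FiniteDimensional F V] {P : PQ (RingHom.id F) V} {S : Type} [Group S] [Finite S] {G : Type u}
  [Group G] [Finite G] {C : CG P S} {φ : S →* G} {t : G}

theorem prdN_sup_le {A B : Subgroup G} (hc : A ≤ centralizer (B : Set G)) :
    Nat.card (A ⊔ B : Subgroup G) ≤ Nat.card A * Nat.card B :=
  (Nat.le_mul_of_pos_right _ Nat.card_pos).trans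
    (PLocal.card_sup_mul_card_inf (hc.trans (centralizer_le_normalizer _))).le

theorem prdN_tri {k : ℕ} (hk : 3 ≤ k) : 2 * k ≤ k * (k + 1) / 2 :=
  (Nat.le_div_iff_mul_le two_pos).2 (by nlinarith)

theorem Emb.prdN_inn (h : Emb C φ) {k : ℕ} {b : Basis (Fin (2 * k)) F V} (hb : Bas P b)
    {T : Subgroup G} (hT : IsPGroup 2 T) (hU : T ⊓ φ.range = (Ub C b).map φ) {l : S} {c : G}
    (hc : c ∈ centralizer (φ.range : Set G)) (hw : φ l * c ∈ T) : l ∈ Ub C b := by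
  have n : φ l * c ∈ normalizer ((Ub C b).map φ : Set G) := hU ▸ UFP.norm_inf (le_normalizer hw)
    (mul_mem (le_normalizer ⟨l, rfl⟩) (centralizer_le_normalizer _ hc))
  obtain ⟨i, hi⟩ := hT ⟨_, hw⟩
  have e : (φ l * c) ^ 2 ^ i = 1 := congrArg Subtype.val hi
  rw [Commute.mul_pow (UFP.mem_cent.1 hc _ ⟨l, rfl⟩), ← mul_one (1 : G)] at e
  exact h.mem_U hb (Tech.isPGroup_zpowers_of_pow
    (h.dec_inj (φ.range.pow_mem ⟨l, rfl⟩ _) (one_mem _) (pow_mem hc _) (one_mem _) e).1)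
    ((Subgroup.mul_mem_cancel_right _ (centralizer_le_normalizer _
      (centralizer_le (map_le_range φ (Ub C b)) hc))).1 n)

namespace AP

variable {w : V → V → G} {y : V → F → G} {δ : F} {φ₁ φ₂ : S →* G} (h : AP C φ t w y δ φ₁ φ₂)
  {Gs : Subgroup G}
include h

theorem prdN_one {c : G} (h1 : c ∈ centralizer (φ₁.range : Set G))
    (h2 : c ∈ centralizer (φ₂.range : Set G)) (h3 : IsPGroup 2 (zpowers c)) : c = 1 :=
  UFP.eq_one_of_odd h3 (mem_zpowers c) (h.odd_W h1 h2) (pow_orderOf_eq_one c)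

theorem prdN_mul (A B : Subgroup G) (hA : A ≤ φ₁.range) (hB : B ≤ φ₂.range) :
    Nat.card A * Nat.card B ≤ Nat.card (A ⊔ B : Subgroup G) :=
  SLE.card_sup_comm (fun _ ha _ hb => h.cm (hA ha) (hB hb))
    fun _ ha hb => h.emb₁.eq_one (hA ha) (h.c21 (hB hb))

theorem prdN_q : 2 ≤ Nat.card F := Finite.one_lt_card

variable {k : ℕ} {b : Basis (Fin (2 * k)) F V} (hb : Bas P b) {T : Subgroup G}
  (hT : IsPGroup 2 T) (hN : T ≤ normalizer (GA φ y : Set G)) (e1 : T ⊓ φ₁.range = (Ub C b).map φ₁)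
  (e2 : T ⊓ φ₂.range = (Ub C b).map φ₂)
include hb

theorem prdN_cent : Eg C φ₁ (flag b k) ≤
    centralizer ((Eg C φ₁ (flag b k) ⊔ Eg C φ₂ (flag b k) : Subgroup G) : Set G) := by
  have M := h.toMod
  refine le_centralizer_iff.1 (sup_le ?_ ((map_le_range _ _).trans
    (h.c21.trans (centralizer_le (map_le_range _ _)))))
  have := h.emb₁.E_cent (M.ti_flag hb le_rfl)
  rwa [← show Eg C φ₁ (flag b k) = Yg C φ₁ (flag b k) from
    congrArg (fun U => Yg C φ₁ U) (M.lag_flag hb)] at this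

theorem prdN_half {A : Subgroup G} (n1 : A ≤ normalizer (φ₁.range : Set G))
    (n2 : A ≤ normalizer (φ₂.range : Set G)) (h2 : ∀ a ∈ A, a * a = 1) :
    Nat.card A ≤ Nat.card F ^ (k * (k + 1) / 2) * Nat.card F ^ (k * (k + 1) / 2) ∧
      (Nat.card F ^ (k * (k + 1) / 2) * Nat.card F ^ (k * (k + 1) / 2) ≤ Nat.card A →
        ∃ M, Lag P M ∧ Eg C φ₂ M ≤ A) := by
  have hk := (h.toMod.bas_rank hb).1
  have a1 := h.emb₁.ea_le hk n1 h2
  have z : A ⊓ centralizer (φ₁.range : Set G) ⊓ centralizer (φ₂.range : Set G) = ⊥ :=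
    eq_bot_iff.2 fun c hc => h.prdN_one hc.1.2 hc.2 (UFP.pgroup_zpowers_of_sq (h2 c hc.1.1))
  have a2 := h.emb₂.ea_le hk (A := A ⊓ centralizer (φ₁.range : Set G)) (inf_le_left.trans n2)
    fun a ha => h2 a ha.1
  rw [z, card_bot, mul_one] at a2
  refine ⟨a1.trans (Nat.mul_le_mul_left _ a2), fun h3 => ?_⟩
  obtain ⟨M, hM, e⟩ := h.emb₂.ea_eq hk (A := A ⊓ centralizer (φ₁.range : Set G)) (inf_le_left.trans n2)
    (fun a ha => h2 a ha.1) (by
      rw [z, card_bot, mul_one]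
      exact Nat.le_of_mul_le_mul_left (h3.trans a1) (Nat.pow_pos Nat.card_pos))
  refine ⟨M, hM, fun ε hε => ?_⟩
  obtain ⟨a, ha, c, hc, rfl⟩ := e ε hε
  have m := map_le_range _ _ hε
  have s2 : a * c * c⁻¹ * (a * c * c⁻¹) = 1 := by rw [mul_inv_cancel_right]; exact h2 a ha.1
  have s3 := inv_eq_one.1 (h.prdN_one (inv_mem ((Subgroup.mul_mem_cancel_left _ ha.2).1 (h.c21 m)))
    (inv_mem hc) (UFP.pgroup_zpowers_of_sq (h.emb₂.sq_split m (inv_mem hc) s2).2))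
  rw [s3, mul_one]
  exact ha.1

theorem prdN_fld {g : G} {α : RingAut F} {γ : AV V} (a : Act C φ₁ g α γ)
    (n2 : g ∈ normalizer (φ₂.range : Set G))
    (h3 : Nat.card (Eg C φ₁ (flag b k) ⊔ Eg C φ₂ (flag b k) : Subgroup G) ≤ Nat.card F ^ (k - 1) *
      Nat.card ((Eg C φ₁ (flag b k) ⊔ Eg C φ₂ (flag b k)) ⊓ centralizer {g} : Subgroup G)) : α = 1 := by
  by_contra h1
  have M := h.toMod
  obtain ⟨hk, k3⟩ := M.bas_rank hb
  have a1 := h.emb₁.card_fld (M.ti_flag hb le_rfl) a h1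
    (X := Eg C φ₁ (flag b k) ⊓ centralizer {g}) inf_le_left inf_le_right
  have a2 : (Eg C φ₁ (flag b k) ⊔ Eg C φ₂ (flag b k)) ⊓ centralizer {g} ≤
      Eg C φ₁ (flag b k) ⊓ centralizer {g} ⊔ Eg C φ₂ (flag b k) := fun x hx => by
    obtain ⟨p, hp, q, hq, rfl⟩ := SLE.mem_sup_comm
      (fun _ hp _ hq => h.cm (map_le_range _ _ hp) (map_le_range _ _ hq)) hx.1
    have p1 := map_le_range _ _ hp
    have q1 := map_le_range _ _ hq
    refine mul_mem_sup ⟨hp, UFP.mem_cent1.2 (mul_inv_eq_iff_eq_mul.1 (h.emb₁.dec_inj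
      (UFP.conj_mem (h.emb₁.act_mem a) p1) p1 (h.c21 (UFP.conj_mem n2 q1)) (h.c21 q1) ?_).1)⟩ hq
    rw [← mul_inv_eq_iff_eq_mul.2 (UFP.mem_cent1.1 hx.2)]; group
  have a3 := (card_le_of_le a2).trans (prdN_sup_le (inf_le_left.trans ((map_le_range _ _).trans
    (h.flip.c21.trans (centralizer_le (map_le_range _ _))))))
  have a4 := (h.prdN_mul _ _ (map_le_range _ _) (map_le_range _ _)).trans
    (h3.trans (Nat.mul_le_mul_left _ a3))
  rw [← mul_assoc] at a4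
  have a5 := Nat.le_of_mul_le_mul_right a4 Nat.card_pos
  have a6 := Nat.pow_le_pow_left a5 2
  rw [mul_pow] at a6
  have a7 := a6.trans (Nat.mul_le_mul_left _ a1)
  change Nat.card (Eg C φ₁ (flag b k)) ^ 2 ≤ _ at a7
  rw [h.emb₁.card_EM hk (M.lag_flag hb), ← pow_mul, ← pow_mul, ← pow_add,
    Nat.pow_le_pow_iff_right h.prdN_q] at a7
  have := prdN_tri k3
  omega

theorem prdN_gen {H : Subgroup G} (h2 : (Ub C b).map φ₁ ≤ H) : (Ub C b).map φ₁ ≤ closure {x | x ∈ H ∧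
    Nat.card (Eg C φ₁ (flag b k) ⊔ Eg C φ₂ (flag b k) : Subgroup G) ≤ Nat.card F ^ (k - 1) *
      Nat.card ((Eg C φ₁ (flag b k) ⊔ Eg C φ₂ (flag b k)) ⊓ centralizer {x} : Subgroup G)} := by
  have M := h.toMod
  refine map_le_iff_le_comap.2 (M.Ub_gen hb (fun s hs => subset_closure ⟨h2 ⟨s, M.E_le_Ub hb hs, rfl⟩, ?_⟩)
    fun p hp f e hu => subset_closure ⟨h2 ⟨_, hu, rfl⟩, ?_⟩)
  · rw [inf_eq_left.2 fun x hx => UFP.mem_cent1.2 (UFP.mem_cent.1 (h.prdN_cent hb ⟨s, hs, rfl⟩) x hx).symm]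
    exact Nat.le_mul_of_pos_left _ (Nat.pow_pos Nat.card_pos)
  · have a1 := M.card_cent_tv (M.bas_rank hb).1 (M.lag_flag hb) hp e
    rw [← h.emb₁.card_map, ← h.emb₁.card_map] at a1
    refine (prdN_sup_le ((map_le_range _ _).trans
      (h.flip.c21.trans (centralizer_le (map_le_range _ _))))).trans
      ((Nat.mul_le_mul_right _ a1).trans ?_)
    rw [mul_assoc]
    refine Nat.mul_le_mul_left _ ((h.prdN_mul _ _ (map_le_range _ _) (map_le_range _ _)).trans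
      (card_le_of_le (sup_le ?_ fun x hx => ⟨mem_sup_right hx,
        UFP.mem_cent1.2 (h.cm ⟨_, rfl⟩ (map_le_range _ _ hx))⟩)))
    rintro _ ⟨s, hs, rfl⟩
    exact ⟨mem_sup_left ⟨s, hs.1, rfl⟩, UFP.mem_cent1.2 (by
      rw [← map_mul, ← map_mul, UFP.mem_cent1.1 hs.2])⟩

include hT hN e1 e2

theorem E_uniq {A : Subgroup G} (hA : A ≤ T) (h2 : ∀ a ∈ A, a * a = 1)
    (h3 : Nat.card (Eg C φ₁ (flag b k) ⊔ Eg C φ₂ (flag b k) : Subgroup G) ≤ Nat.card A) :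
    A = Eg C φ₁ (flag b k) ⊔ Eg C φ₂ (flag b k) := by
  have M := h.toMod
  obtain ⟨hk, k3⟩ := M.bas_rank hb
  have c0 := h.prdN_mul (Eg C φ₁ (flag b k)) (Eg C φ₂ (flag b k)) (map_le_range _ _) (map_le_range _ _)
  rw [h.emb₁.card_EM hk (M.lag_flag hb), h.emb₂.card_EM hk (M.lag_flag hb)] at c0
  have n1 : A ≤ normalizer (φ₁.range : Set G) := fun a ha => by
    by_contra hn
    have z : A ⊓ normalizer (φ₁.range : Set G) ⊓ centralizer (φ₁.range : Set G) = ⊥ :=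
      eq_bot_iff.2 fun c hc => h.prdN_one hc.2 (UFP.mem_cent.2 fun p hp => by
        have e := UFP.mem_cent.1 hc.2 _ ((h.swaps (hN (hA ha)) hn).2 p hp)
        have ca : a * c = c * a := by
          rw [eq_inv_of_mul_eq_one_left (h2 _ (mul_mem ha hc.1.1)), mul_inv_rev,
            inv_eq_of_mul_eq_one_right (h2 a ha), inv_eq_of_mul_eq_one_right (h2 c hc.1.1)]
        calc p * c = a⁻¹ * (a * p * a⁻¹ * (a * c * a⁻¹)) * a := by group
          _ = a⁻¹ * (a * c * a⁻¹ * (a * p * a⁻¹)) * a := by rw [ca, mul_inv_cancel_right, e]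
          _ = c * p := by group) (UFP.pgroup_zpowers_of_sq (h2 c hc.1.1))
    have a1 := h.emb₁.ea_le hk (A := A ⊓ normalizer (φ₁.range : Set G)) inf_le_right
      fun a ha => h2 a ha.1
    rw [z, card_bot, mul_one] at a1
    have a2 : (normalizer (φ₁.range : Set G)).relIndex A ∣ 2 := index_dvd_two_iff.2 ⟨⟨a, ha⟩, fun x => by
      by_cases hx : (x : G) ∈ normalizer (φ₁.range : Set G)
      · exact .inr hx
      · exact .inl (h.swap.idx _ (hN (hA x.2)) _ (hN (hA ha)) (fun e => hx e.2) fun e => hn e.2).2⟩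
    have a3 := c0.trans h3
    rw [PLocal.card_eq_relIndex_mul (normalizer (φ₁.range : Set G)) A, inf_comm] at a3
    have a4 := Nat.le_of_mul_le_mul_right (a3.trans (Nat.mul_le_mul (Nat.le_of_dvd two_pos a2) a1))
      (Nat.pow_pos Nat.card_pos)
    have a5 := (Nat.pow_le_pow_left h.prdN_q _).trans a4
    rw [show ∀ n, 2 ^ n ≤ 2 ↔ n ≤ 1 from fun n => Nat.pow_le_pow_iff_right (m := 1) one_lt_two] at a5
    have := prdN_tri k3
    omega
  have n2 : A ≤ normalizer (φ₂.range : Set G) := fun a ha => h.norm2 (hN (hA ha)) (n1 ha)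
  obtain ⟨b1, b2⟩ := h.prdN_half hb n1 n2 h2
  have key : ∀ {ψ : S →* G}, Emb C ψ → T ⊓ ψ.range = (Ub C b).map ψ → (∃ M, Lag P M ∧ Eg C ψ M ≤ A) →
      Eg C ψ (flag b k) ≤ A := by
    rintro ψ E e ⟨L, hL, h1⟩
    rwa [← M.lag_eq hb hL ((map_le_map_iff_of_injective E.inj).1
      (e ▸ le_inf (h1.trans hA) (map_le_range _ _)))]
  exact (eq_of_le_of_card_ge (sup_le
    (key h.emb₁ e1 ((h.flip.prdN_half hb n2 n1 h2).2 (c0.trans h3)))
    (key h.emb₂ e2 (b2 (c0.trans h3)))) (b1.trans c0)).symm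

theorem mem_hat {g : G} (hg : g ∈ T)
    (h3 : Nat.card (Eg C φ₁ (flag b k) ⊔ Eg C φ₂ (flag b k) : Subgroup G) ≤ Nat.card F ^ (k - 1) *
      Nat.card ((Eg C φ₁ (flag b k) ⊔ Eg C φ₂ (flag b k)) ⊓ centralizer {g} : Subgroup G)) :
    g ∈ (Ub C b).map φ₁ ⊔ (Ub C b).map φ₂ := by
  have M := h.toMod
  obtain ⟨hk, k3⟩ := M.bas_rank hb
  have n1 : g ∈ normalizer (φ₁.range : Set G) := by
    by_contra hn
    have a1 := (SLE.card_sup_comm (B := Eg C φ₁ (flag b k))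
      (A := (Eg C φ₁ (flag b k) ⊔ Eg C φ₂ (flag b k)) ⊓ centralizer {g})
      (fun x hx p hp => UFP.mem_cent.1 (h.prdN_cent hb hp) x hx.1) fun x hx hp => by
        have := (h.swaps (hN hg) hn).1 x (map_le_range _ _ hp)
        rw [UFP.mem_cent1.1 hx.2, mul_inv_cancel_right] at this
        exact h.emb₁.eq_one (map_le_range _ _ hp) (h.c21 this)).trans
      ((card_le_of_le (sup_le inf_le_left le_sup_left)).trans h3)
    rw [mul_comm] at a1
    have a2 := Nat.le_of_mul_le_mul_right a1 Nat.card_pos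
    rw [h.emb₁.card_EM hk (M.lag_flag hb), Nat.pow_le_pow_iff_right h.prdN_q] at a2
    have := prdN_tri k3
    omega
  have n2 := h.norm2 (hN hg) n1
  obtain ⟨α, γ, a⟩ := h.emb₁.exists_act n1
  obtain ⟨α', γ', a'⟩ := h.emb₂.exists_act n2
  obtain rfl := h.prdN_fld hb a n2 h3
  obtain rfl := h.flip.prdN_fld hb a' n1 (by rwa [sup_comm])
  obtain ⟨l, -, c, hc, e⟩ := h.emb₁.act_one a
  obtain ⟨l', -, c', hc', e'⟩ := h.emb₂.act_one a'
  have m : φ₁ l ∈ (Ub C b).map φ₁ := ⟨l, h.emb₁.prdN_inn hb hT e1 hc (e ▸ hg), rfl⟩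
  have m' : φ₂ l' ∈ (Ub C b).map φ₂ := ⟨l', h.emb₂.prdN_inn hb hT e2 hc' (e' ▸ hg), rfl⟩
  have o : (φ₁ l * φ₂ l')⁻¹ * g = 1 := h.prdN_one
    (by rw [e, mul_inv_rev, mul_assoc, inv_mul_cancel_left]; exact mul_mem (inv_mem (h.c21 ⟨_, rfl⟩)) hc)
    (by
      rw [e', (h.c12 l l').eq, mul_inv_rev, mul_assoc, inv_mul_cancel_left]
      exact mul_mem (inv_mem (h.flip.c21 ⟨_, rfl⟩)) hc')
    (SLE.pg_zpowers hT (mul_mem (inv_mem (mul_mem (e1.ge m).1 (e2.ge m').1)) hg))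
  rw [← inv_mul_eq_one.1 o]
  exact mul_mem_sup m m'

theorem nh {H : Subgroup G} (h1 : H ≤ T) (h2 : (Ub C b).map φ₁ ⊔ (Ub C b).map φ₂ ≤ H) :
    normalizer (H : Set G) ≤ normalizer (((Ub C b).map φ₁ ⊔ (Ub C b).map φ₂ : Subgroup G) : Set G) := by
  intro n hn
  have M := h.toMod
  have a1 : Eg C φ₁ (flag b k) ⊔ Eg C φ₂ (flag b k) ≤ H :=
    (sup_le_sup (map_mono (M.E_le_Ub hb)) (map_mono (M.E_le_Ub hb))).trans h2
  have a2 : Tech.cj n (Eg C φ₁ (flag b k) ⊔ Eg C φ₂ (flag b k)) =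
      Eg C φ₁ (flag b k) ⊔ Eg C φ₂ (flag b k) := by
    refine h.E_uniq hb hT hN e1 e2 (Tech.cj_le_iff.2 fun x hx => h1 (UFP.conj_mem hn (a1 hx))) ?_
      (Tech.card_cj _ _).ge
    rintro _ ⟨x, hx, rfl⟩
    obtain ⟨p, hp, q, hq, rfl⟩ := SLE.mem_sup_comm
      (fun _ hp _ hq => h.cm (map_le_range _ _ hp) (map_le_range _ _ hq)) hx
    rw [← map_mul, (Commute.symm (h.cm (map_le_range _ _ hp) (map_le_range _ _ hq))).mul_mul_mul_comm,
      h.emb₁.E_sq (M.ti_flag hb le_rfl) hp, h.emb₂.E_sq (M.ti_flag hb le_rfl) hq, mul_one, map_one]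
  have a3 : (Ub C b).map φ₁ ⊔ (Ub C b).map φ₂ = closure {x | x ∈ H ∧
      Nat.card (Eg C φ₁ (flag b k) ⊔ Eg C φ₂ (flag b k) : Subgroup G) ≤ Nat.card F ^ (k - 1) *
        Nat.card ((Eg C φ₁ (flag b k) ⊔ Eg C φ₂ (flag b k)) ⊓ centralizer {x} : Subgroup G)} := by
    refine le_antisymm (sup_le (h.prdN_gen hb (le_sup_left.trans h2)) ?_)
      ((closure_le _).2 fun x hx => h.mem_hat hb hT hN e1 e2 (h1 hx.1) hx.2)
    rw [sup_comm]
    exact h.flip.prdN_gen hb (le_sup_right.trans h2)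
  rw [a3]
  refine SLE.norm_closure fun x hx => subset_closure ⟨UFP.conj_mem hn hx.1, ?_⟩
  rw [← Tech.cj_centralizer_singleton]
  nth_rewrite 2 [← a2]
  rw [← Tech.cj_inf, Tech.card_cj]
  exact hx.2

end AP

end CfsgLib.SPC
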