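import Cfsg.Agent.Lib.SPC.APrdB
import Cfsg.Agent.Lib.SPC.APrdN
import Cfsg.Agent.Lib.SPC.ATop

/-! Type A: the product case, the contradiction -/

set_option autoImplicit false
set_option linter.unusedSectionVars false

namespace CfsgLib.SPC

open Subgroup Module CfsgLib.Forms CfsgLib.LieMult
open CfsgLib.HX (Std CO Two Mv M2 QA)
open CfsgLib.UN (AV SI TI HH Rad Stb Yg Rg Eg Act nu Bas Nh flag Ub Uni TD Od)
open CfsgLib.UN.SB (D)
open CfsgLib.ClSys (II)
open Submodule (span)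
open scoped commutatorElement Pointwise

universe u

variable {F : Type} [Field F] [Finite F] {V : Type} [AddCommGroup V] [Module F V]
  [FiniteDimensional F V] {P : PQ (RingHom.id F) V} {S : Type} [Group S] [Finite S] {G : Type u}
  [Group G] [Finite G] {C : CG P S} {φ : S →* G} {t : G}

namespace AP

variable {w : V → V → G} {y : V → F → G} {δ : F} {φ₁ φ₂ : S →* G} (h : AP C φ t w y δ φ₁ φ₂)
  {Gs : Subgroup G}
include h

theorem prdL (hG : SLE.Glob Gs t) (hL : φ.range ≤ Gs) {k : ℕ} {b : Basis (Fin (2 * k)) F V}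
    (hb : Bas P b) : ∃ T, T ⊓ φ₁.range = (Ub C b).map φ₁ ∧ T ⊓ φ₂.range = (Ub C b).map φ₂ ∧
    UFP.PrdL (normalizer (GA φ y : Set G))
      (normalizer (GA φ y : Set G) ⊓ normalizer (φ₁.range : Set G))
      (normalizer (GA φ y : Set G) ⊓ centralizer (φ₂.range : Set G))
      (normalizer (GA φ y : Set G) ⊓ centralizer (φ₁.range : Set G)) T φ₁.range t := by
  have : Fact (Nat.Prime 2) := ⟨Nat.prime_two⟩
  have M := h.toMod
  have U2 := M.Ub_two hb
  obtain ⟨T, h0, h1, hT, syl⟩ := SLE.exists_syl ((UFP.pgroup_zpowers_of_sq h.t2).to_sup_of_normal_right'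
    (SLE.pg_sup_comm (U2.map φ₁) (U2.map φ₂) fun _ hp _ hq => h.cm (map_le_range _ _ hp) (map_le_range _ _ hq))
    (zpowers_le.2 (UFP.norm_sup
      (fun p hp => mem_sup_right ((h.conj_map _).le (Coprime.conj_mem_conj_smul hp)))
      fun p hp => mem_sup_left ((h.flip.conj_map _).le (Coprime.conj_mem_conj_smul hp)))))
    (sup_le (zpowers_le.2 h.toHA.t_norm)
      (sup_le ((map_le_range _ _).trans h.L1_le) ((map_le_range _ _).trans h.flip.L1_le)))
  have eq := h.emb₁.inf_Ub hb hT ((le_sup_left.trans le_sup_right).trans h0)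
  have k3 := (M.bas_rank hb).2
  refine ⟨T, eq, h.emb₂.inf_Ub hb hT ((le_sup_right.trans le_sup_right).trans h0), h.swap, hT, h1,
    h0 (mem_sup_left (mem_zpowers t)), fun k => h.t_not_norm k.2, syl,
    le_inf h.L1_le h.flip.c21, inf_le_right, inf_le_right, ?_, ?_⟩ <;> rw [eq]
  · have m : ∀ i : Fin (2 * k), (i : ℕ) < k → z C φ₁ (b i) 1 ∈ Eg C φ₁ (flag b k) := fun i hi =>
      h.emb₁.τ_mem_E (M.ti_flag hb le_rfl) (Submodule.subset_span ⟨i, hi, rfl⟩) (zero_mem _) 1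
    have n : ∀ i, z C φ₁ (b i) 1 ≠ 1 := fun i e => (h.emb₁.z_eq_one.1 e).elim (b.ne_zero i) one_ne_zero
    exact ⟨Eg C φ₁ (flag b k), map_mono (M.E_le_Ub hb),
      fun g hg => h.emb₁.E_char hb (eq ▸ UFP.norm_inf (le_normalizer hg.1) hg.2.2),
      fun a ha => h.emb₁.E_sq (M.ti_flag hb le_rfl) ha, _, m ⟨0, by omega⟩ (by simp; omega), _,
      m ⟨1, by omega⟩ (by simp; omega), n _, n _,
      fun e => absurd (b.injective (h.emb₁.z_one_inj e)) (by simp)⟩
  · refine (h.toHA.uw_Ub hG hL (h.not_mem hG) (h.isU hG hL) hb).mono ?_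
    rw [h.conj_map]
    rintro _ ⟨s, hs, rfl⟩
    exact ⟨h.ext s ▸ mul_mem_sup ⟨s, hs, rfl⟩ ⟨s, hs, rfl⟩, UFP.mem_cent1.2 (h.toSit.tl s).symm⟩

theorem false (hG : SLE.Glob Gs t) (hL : φ.range ≤ Gs) : False := by
  have H := h.emb₁
  have M := h.toMod
  have ht := h.not_mem hG
  have hu := h.isU hG hL
  have s1 := hG.pf_le H.perf
  have s2 := hG.pf_le h.emb₂.perf
  obtain ⟨k, -, hk⟩ := M.even_rank
  obtain ⟨b, hb⟩ := M.exists_bas hk
  obtain ⟨T, eq, eq2, d⟩ := h.prdL hG hL hb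
  obtain ⟨e, f, e', f', kk, f1, -⟩ := M.exists_flag hb
  have e0 := (M.ln_of_hh kk).ne
  have x1 : ∀ {ψ : S →* G}, Emb C ψ → z C ψ e 1 ≠ 1 := fun E e1 =>
    (E.z_eq_one.1 e1).elim e0 one_ne_zero
  have xm : ∀ ψ : S →* G, z C ψ e 1 ∈ ψ.range := fun ψ => ⟨_, rfl⟩
  have e1 : GA φ y = Gs := h.toHA.eq_Gs hG hL fun u us u2 => by
    have cC : ∀ {g x c : G}, g ∈ normalizer (GA φ y : Set G) → x ∈ φ₁.range →
        c ∈ centralizer (φ₁.range : Set G) → g = x * c →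
        c ∈ normalizer (GA φ y : Set G) ⊓ centralizer (φ₁.range : Set G) := fun hg hx hc k =>
      ⟨(Subgroup.mul_mem_cancel_left _ (h.L1_le hx)).1 (k ▸ hg), hc⟩
    by_cases hq : Small F
    · refine d.mem hu (hG.index ht) ht hG.perf s1 d.L1N d.c2 (fun g hg _ _ n _ => absurd hg n)
        (fun g hg _ => ?_) us u2
      obtain ⟨l, c, hc, rfl⟩ := H.act_small hq hg.2.2
      have m : φ₁ l ∈ T ⊓ φ₁.range := eq.ge ⟨l, H.prdN_inn hb d.Sp eq hc hg.1, rfl⟩
      exact mul_mem_sup m ⟨(T.mul_mem_cancel_left m.1).1 hg.1, cC hg.2.1 m.2 hc rfl⟩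
    refine SLF.NU4.mem (R := fun i : Bool => bif i then Eg C φ₁ (flag b k) else (R2 C b k).map φ₁)
      ⟨d, ?_, ?_, fun g g1 g2 => ?_, ?_, ?_, ?_, fun j g hg _ hc => ?_, fun J hJ => ?_, ?_⟩
      hu (hG.index ht) ht us u2
    · rw [eq]; exact Side4_map (M.side4 hb hq) H.inj
    · rw [eq, h.conj_map]
      exact fun D h1 h2 => h.nh hb d.Sp d.S1 eq eq2 h1 h2
    · rw [h.conj_t] at g2
      rw [← h.eqG]
      exact UFP.norm_sup (fun p hp => mem_sup_left (UFP.conj_mem g1 hp))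
        fun p hp => mem_sup_right (UFP.conj_mem g2 hp)
    · rw [eq]
      refine fun J hJ => map_le_iff_le_comap.2 (M.fpf hb hq fun l hl u hu => ?_)
      simpa only [mem_comap, map_mul, map_inv] using
        hJ _ ⟨⟨l, rfl⟩, le_normalizer_map φ₁ ⟨l, hl, rfl⟩⟩ _ ⟨u, hu, rfl⟩
    · rw [eq]
      rintro (_ | _)
      exacts [map_mono fun s hs => ((M.mem_R2 hb).1 hs).1, map_mono (M.E_le_Ub hb)]
    · rw [eq]
      rintro (_ | _)
      exacts [(map_mono (M.Ub_norm_R2 hb)).trans (le_normalizer_map φ₁),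
        fun g hg => H.E_char hb (le_normalizer hg)]
    · cases j
      · have r : Rg C φ₁ (span F {e}) ≤ (R2 C b k).map φ₁ := map_mono (f1 ▸ M.rad_le_R2 hb)
        obtain ⟨x, hx, c, m, rfl⟩ := H.cQ e0 hg.2 (centralizer_le r hc)
        exact mul_mem_sup (r hx) (cC hg.1 (map_le_range _ _ hx) m rfl)
      · obtain ⟨x, hx, c, m, rfl⟩ := H.cY (M.ti_flag hb le_rfl) hg.2 (by
          rwa [← show Eg C φ₁ (flag b k) = Yg C φ₁ (flag b k) from
            congrArg (fun U => Yg C φ₁ U) (M.lag_flag hb)])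
        exact mul_mem_sup hx (cC hg.1 (map_le_range _ _ hx) m rfl)
    · rw [eq] at hJ
      rw [MonoidHom.range_eq_map, map_le_iff_le_comap]
      refine (M.gen_par hb (fun l hl u hu => ?_) fun l hl u hu => ?_).ge
      · simpa only [mem_comap, map_mul, map_inv] using hJ true _ ⟨⟨l, rfl⟩,
          le_normalizer_map φ₁ ⟨l, (M.stb_norm _ hl).2, rfl⟩⟩ _ ⟨u, hu, rfl⟩
      · simpa only [mem_comap, map_mul, map_inv] using hJ Bool.false _ ⟨⟨l, rfl⟩,
          le_normalizer_map φ₁ ⟨l, hl, rfl⟩⟩ _ ⟨u, hu, rfl⟩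
    · rw [eq]
      rintro δ hδ - ha (_ | _)
      exacts [H.rn hb hq inf_le_right hδ ha, H.E_char hb hδ]
  exact h.ne ((hG.eq_of_norm s1 (e1 ▸ h.norm1) (xm _) (x1 H)).trans
    (hG.eq_of_norm s2 (e1 ▸ h.flip.norm1) (xm _) (x1 h.emb₂)).symm)

end AP

end CfsgLib.SPC
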