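import Cfsg.Agent.Lib.SPC.ABas
import Cfsg.Agent.Lib.SPC.ASyl
import Cfsg.Agent.Lib.HX.Dbl

/-! Type A: the relations over F[ω] -/

set_option autoImplicit false
set_option linter.unusedSectionVars false

namespace CfsgLib.SPC

open Subgroup Module CfsgLib.Forms CfsgLib.LieMult
open CfsgLib.HX (Std CO Two Mv M2 QA)
open CfsgLib.UN (AV SI TI HH Rad Stb Yg Rg Eg Act nu Bas Nh flag Ub Uni TD Od)
open CfsgLib.UN.SB (D)
open CfsgLib.ClSys (II)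
open Submodule (span)
open scoped commutatorElement Pointwise

universe u

variable {F : Type} [Field F] [Finite F] {V : Type} [AddCommGroup V] [Module F V]
  [FiniteDimensional F V] {P : PQ (RingHom.id F) V} {S : Type} [Group S] [Finite S] {G : Type u}
  [Group G] [Finite G] {C : CG P S} {φ : S →* G} {t : G}

theorem Mod.gen_frame (h : Mod C) {m : ℕ} (Fr : Frame P m) {H : Subgroup S}
    (h1 : ∀ a b, Ap a b → ∀ c, Fr.xm C a b c ∈ H) (h2 : ∀ a c, C.T (Fr.v a) 0 c ∈ H) : H = ⊤ := by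
  obtain ⟨ε, hε⟩ := exists_eps m
  obtain ⟨b, hb, e⟩ := h.bas_of_frame Fr hε
  refine h.gen_rta hb fun i j k c => ?_
  rw [rta, e, e]
  split_ifs with e1
  · exact h2 _ _
  · exact h1 _ _ (ap_of_ne (ε.injective.ne e1) (by
      rw [← hε]; exact ε.injective.ne fun e2 => k (by rw [e2, Fin.rev_rev]))) c

omit [Finite G] in
theorem arel_comm {p q X W R R' : G} (h1 : p * X * p⁻¹ = X * R) (h2 : p * W * p⁻¹ = W * R')
    (c1 : Commute W R') (c2 : Commute X (R * R')) (e : q = X * W) : ⁅p, q⁆ = R * R' := by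
  rw [e, commutatorElement_def, ← conj_mul, h1, h2, c1.eq]
  calc _ = X * (R * R') * X⁻¹ := by group
    _ = _ := by rw [c2.eq, mul_inv_cancel_right]

omit [Finite G] in
theorem arel_conj {p p' X R R' : G} (h1 : p * X * p⁻¹ = X * R) (h2 : p' * X * p'⁻¹ = X * R')
    (c : Commute p R') : p * p' * X * (p * p')⁻¹ = X * (R * R') := by
  calc _ = p * (p' * X * p'⁻¹) * p⁻¹ := by group
    _ = p * X * p⁻¹ * (p * R' * p⁻¹) := by rw [h2]; group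
    _ = _ := by rw [h1, c.eq, mul_inv_cancel_right, mul_assoc]

variable (C φ) in
/-- the abelian group of the elements over the line through `e` and `a` -/
def arQ (w : V → V → G) (y : V → F → G) (e a : V) (r₁ r₂ r₃ r₄ : F) : G :=
  x C φ e (r₁ • a) * w e (r₂ • a) * (z C φ e r₃ * y e r₄)

namespace HA

variable {w : V → V → G} {y : V → F → G} {δ : F} (h : HA C φ t w y δ) {m : ℕ} (Fr : Frame P m)
include h

section
variable {e a b u v : V}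

omit h in
theorem ar_sm (k : P.B e a = 0) (r : F) : P.B e (r • a) = 0 := by rw [map_smul, k, smul_zero]

theorem ar_sm' (k : P.B e a = 0) (r : F) : P.B (r • e) a = 0 := by rw [h.B_smul_left, k, mul_zero]

theorem ar_aa (a : V) (r s : F) : P.B (r • a) (s • a) = 0 := h.ar_sm' (ar_sm (h.B_self a) s) r

theorem ar_xi (k : P.B e a = 0) : (x C φ e a)⁻¹ = x C φ e a := h.toEmb.τ_inv k 0

theorem ar_zi (e : V) (r : F) : (z C φ e r)⁻¹ = z C φ e r := h.toEmb.τ_inv (map_zero _) r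

theorem ar_wi (k : P.B e a = 0) : (w e a)⁻¹ = w e a := inv_eq_of_mul_eq_one_right (h.sq e a k)

theorem ar_yi (e : V) (r : F) : (y e r)⁻¹ = y e r := inv_eq_of_mul_eq_one_right (h.y_sq e r)

theorem ar_xx (k : P.B e a = 0) (k' : P.B e b = 0) : Commute (x C φ e a) (x C φ e b) :=
  h.toEmb.τ_comm k k' 0 0

theorem ar_xw (k : P.B e a = 0) (k' : P.B e b = 0) : Commute (x C φ e a) (w e b) := h.τw k' k 0

theorem ar_xz (k : P.B e a = 0) (r : F) : Commute (x C φ e a) (z C φ e r) :=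
  h.toEmb.τ_comm k (map_zero _) 0 r

theorem ar_wz (k : P.B e a = 0) (r : F) : Commute (w e a) (z C φ e r) := (h.τw k (map_zero _) r).symm

theorem ar_xQ (k : P.B e a = 0) (k' : P.B e b = 0) (r₁ r₂ r₃ r₄ : F) :
    Commute (x C φ e b) (arQ C φ w y e a r₁ r₂ r₃ r₄) :=
  ((h.ar_xx k' (ar_sm k _)).mul_right (h.ar_xw k' (ar_sm k _))).mul_right
    ((h.ar_xz k' _).mul_right (h.τy k' 0 _))

theorem ar_wQ (k : P.B e a = 0) (k' : P.B e b = 0) (r₁ r₂ r₃ r₄ : F) :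
    Commute (w e b) (arQ C φ w y e a r₁ r₂ r₃ r₄) :=
  ((h.ar_xw (ar_sm k _) k').symm.mul_right (h.com _ _ _ k' (ar_sm k _))).mul_right
    ((h.ar_wz k' _).mul_right (h.yw' k' _).symm)

theorem arQ_mul (k : P.B e a = 0) (r₁ r₂ r₃ r₄ s₁ s₂ s₃ s₄ : F) :
    arQ C φ w y e a r₁ r₂ r₃ r₄ * arQ C φ w y e a s₁ s₂ s₃ s₄ =
      arQ C φ w y e a (r₁ + s₁) (r₂ + s₂) (r₃ + s₃) (r₄ + s₄) := by
  have c : Commute (z C φ e r₃ * y e r₄) (x C φ e (s₁ • a) * w e (s₂ • a)) :=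
    ((h.ar_xz (ar_sm k _) _).symm.mul_right (h.ar_wz (ar_sm k _) _).symm).mul_left
      ((h.τy (ar_sm k _) 0 _).symm.mul_right (h.yw' (ar_sm k _) _))
  simp only [arQ]
  rw [add_smul, add_smul, h.toEmb.x_add (ar_sm k _) (ar_sm k _) (h.ar_aa _ _ _),
    h.add _ _ _ (ar_sm k _) (ar_sm k _) (h.ar_aa _ _ _), h.toEmb.z_add, h.yadd,
    c.mul_mul_mul_comm, (h.ar_xw (ar_sm k s₁) (ar_sm k r₂)).symm.mul_mul_mul_comm,
    (h.zy (h.B_self e) s₃ r₄).symm.mul_mul_mul_comm]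

theorem arQ_x (e a : V) (r : F) : x C φ e (r • a) = arQ C φ w y e a r 0 0 0 := by
  simp only [arQ, zero_smul, h.w_zero, h.toEmb.z_zero, h.y_zero, mul_one]

theorem arQ_w (e a : V) (r : F) : w e (r • a) = arQ C φ w y e a 0 r 0 0 := by
  simp only [arQ, zero_smul, h.toEmb.x_zero, h.toEmb.z_zero, h.y_zero, mul_one, one_mul]

theorem arQ_z (e a : V) (r : F) : z C φ e r = arQ C φ w y e a 0 0 r 0 := by
  simp only [arQ, zero_smul, h.toEmb.x_zero, h.w_zero, h.y_zero, mul_one, one_mul]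

theorem arQ_y (e a : V) (r : F) : y e r = arQ C φ w y e a 0 0 0 r := by
  simp only [arQ, zero_smul, h.toEmb.x_zero, h.w_zero, h.toEmb.z_zero, mul_one, one_mul]

/-- an element of `L` fixing `e` and `a` -/
theorem ar_fix (k : P.B e a = 0) {l : S} (h1 : C.act l e = e) (h2 : C.act l a = a) (r₁ r₂ r₃ r₄ : F) :
    Commute (φ l) (arQ C φ w y e a r₁ r₂ r₃ r₄) := by
  have h3 : ∀ r : F, C.act l (r • a) = r • a := fun r => by rw [map_smul, h2]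
  refine (Commute.mul_right ?_ (h.w_fix (ar_sm k _) h1 (h3 _))).mul_right
    (Commute.mul_right ?_ (h.y_fix h1 _))
  · have := h.toEmb.x_conj l (ar_sm k r₁)
    rwa [h1, h3, mul_inv_eq_iff_eq_mul] at this
  · have := h.toEmb.z_conj l e r₃
    rwa [h1, mul_inv_eq_iff_eq_mul] at this

theorem ar_xfix (k0 : P.B u v = 0) (k1 : P.B u e = 0) (k2 : P.B v e = 0) : C.act (C.T u v 0) e = e := by
  rw [h.x_app k0, k1, k2, zero_smul, zero_smul, add_zero, add_zero]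

theorem ar_zfix (k1 : P.B u e = 0) (r : F) : C.act (C.T u 0 r) e = e := by
  rw [h.z_app, k1, mul_zero, zero_smul, add_zero]

/-- orthogonal vectors -/
theorem ar_wQ' (k : P.B e a = 0) (k0 : P.B u v = 0) (k1 : P.B u e = 0) (k2 : P.B v e = 0) (k3 : P.B u a = 0)
    (k4 : P.B v a = 0) (r₁ r₂ r₃ r₄ : F) : Commute (w u v) (arQ C φ w y e a r₁ r₂ r₃ r₄) := by
  have k1' := (h.B_comm e u).trans k1
  have k2' := (h.B_comm e v).trans k2
  have k3' := (h.B_comm a u).trans k3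
  have k4' := (h.B_comm a v).trans k4
  refine (Commute.mul_right (h.w_fix k0 (h.ar_xfix (ar_sm k _) k1' (h.ar_sm' k3' _))
    (h.ar_xfix (ar_sm k _) k2' (h.ar_sm' k4' _))).symm ?_).mul_right
    (Commute.mul_right (h.w_fix k0 (h.ar_zfix k1' _) (h.ar_zfix k2' _)).symm (h.yw e u v _ k1' k2' k0).symm)
  have := h.Ww k0 k1' k2' (ar_sm k r₂)
  rw [h.ar_sm' k3', h.ar_sm' k4', zero_smul, zero_smul, add_zero, smul_zero, h.w_zero, h.toEmb.x_zero,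
    mul_one, mul_one, ← h.ar_wi k0, mul_inv_eq_iff_eq_mul, h.ar_wi k0] at this
  exact this

end

theorem xmA_eq (a b : II m) (s : QA F δ) :
    xmA C φ w δ Fr a b s = arQ C φ w y (Fr.v a) (Fr.v b) s.re s.im 0 0 := by
  simp only [xmA, arQ, h.toEmb.z_zero, h.y_zero, mul_one]

theorem xlA_eq (a : II m) (v : V) (s : QA F δ) :
    xlA C φ y δ Fr a s = arQ C φ w y (Fr.v a) v 0 0 s.re s.im := by
  simp only [xlA, arQ, zero_smul, h.toEmb.x_zero, h.w_zero, one_mul]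

theorem rel_mid (a b c : II m) (h1 : Ap a b) (h2 : Ap c a) (h3 : Ap c b) (s u : QA F δ) :
    ⁅xmA C φ w δ Fr a b s, xmA C φ w δ Fr c b.swap u⁆ = xmA C φ w δ Fr c a (u * s) := by
  have ab := Fr.B_ap h1
  have ca := Fr.B_ap h2
  have cb := Fr.B_ap h3
  have cb' := Fr.B_ap h3.sr
  have b'a := Fr.B_ap h1.sr.symm
  have ab' := Fr.B_ap h1.sr
  have fx : ∀ r₁ r₂ r₃ r₄, Commute (x C φ (Fr.v a) (s.re • Fr.v b))
      (arQ C φ w y (Fr.v c) (Fr.v a) r₁ r₂ r₃ r₄) :=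
    h.ar_fix ca (h.ar_xfix (ar_sm ab _) (Fr.B_ap h2.symm) (h.ar_sm' (Fr.B_ap h3.symm) _))
      (h.ar_xfix (ar_sm ab _) (Fr.B_self a) (h.ar_sm' (Fr.B_ap h1.symm) _))
  have act : ∀ r : F, C.act (C.T (Fr.v a) (s.re • Fr.v b) 0) (r • Fr.v b.swap) =
      r • Fr.v b.swap + (s.re * r) • Fr.v a := fun r => by
    rw [h.x_app (ar_sm ab _), ar_sm ab', zero_smul, add_zero, h.B_smul_left, map_smul, Fr.B_swap,
      smul_eq_mul, mul_one]
  have actc : C.act (C.T (Fr.v a) (s.re • Fr.v b) 0) (Fr.v c) = Fr.v c :=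
    h.ar_xfix (ar_sm ab _) (Fr.B_ap h2.symm) (h.ar_sm' (Fr.B_ap h3.symm) _)
  have bb : ∀ r : F, P.B (r • Fr.v b.swap) (Fr.v a) • s.im • Fr.v b +
      P.B (r • Fr.v b.swap) (s.im • Fr.v b) • Fr.v a = (r * s.im) • Fr.v a := fun r => by
    rw [h.ar_sm' b'a, zero_smul, zero_add, h.B_smul_left, map_smul, Fr.B_swap', smul_eq_mul, mul_one]
  have e1 : x C φ (Fr.v a) (s.re • Fr.v b) * x C φ (Fr.v c) (u.re • Fr.v b.swap) *
      (x C φ (Fr.v a) (s.re • Fr.v b))⁻¹ = x C φ (Fr.v c) (u.re • Fr.v b.swap) *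
        arQ C φ w y (Fr.v c) (Fr.v a) (s.re * u.re) 0 0 0 := by
    rw [x, h.toEmb.x_conj _ (ar_sm cb' _), act, actc,
      h.toEmb.x_add (ar_sm cb' _) (ar_sm ca _) (h.ar_sm' (ar_sm b'a _) _), h.arQ_x _ (Fr.v a)]
  have e2 : x C φ (Fr.v a) (s.re • Fr.v b) * w (Fr.v c) (u.im • Fr.v b.swap) *
      (x C φ (Fr.v a) (s.re • Fr.v b))⁻¹ = w (Fr.v c) (u.im • Fr.v b.swap) *
        arQ C φ w y (Fr.v c) (Fr.v a) 0 (s.re * u.im) 0 0 := by
    rw [x, h.eqv _ _ _ (ar_sm cb' _), act, actc,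
      h.add _ _ _ (ar_sm cb' _) (ar_sm ca _) (h.ar_sm' (ar_sm b'a _) _), h.arQ_w _ (Fr.v a)]
  have e3 := h.Wx (ar_sm ab s.im) ca (ar_sm cb _) (ar_sm cb' u.re)
  have e4 := h.Ww (ar_sm ab s.im) ca (ar_sm cb _) (ar_sm cb' u.im)
  rw [bb, h.arQ_w _ (Fr.v a)] at e3
  rw [bb, smul_smul, h.arQ_w _ (Fr.v a), h.arQ_x _ (Fr.v a), mul_assoc (w _ _), mul_assoc (w _ _),
    h.arQ_mul ca, ← mul_assoc] at e4
  nth_rewrite 2 [← h.ar_wi (ar_sm ab s.im)] at e3 e4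
  have f1 := arel_conj e1 e3 (fx _ _ _ _)
  have f2 := arel_conj e2 e4 (fx _ _ _ _)
  rw [h.arQ_mul ca] at f1 f2
  rw [arel_comm (p := xmA C φ w δ Fr a b s) (q := xmA C φ w δ Fr c b.swap u) f1 f2
    (h.ar_wQ ca (ar_sm cb' _) _ _ _ _)
    ((h.ar_xQ ca (ar_sm cb' _) _ _ _ _).mul_right (h.ar_xQ ca (ar_sm cb' _) _ _ _ _)) rfl,
    h.arQ_mul ca, h.xmA_eq, QuadraticAlgebra.re_mul, QuadraticAlgebra.im_mul]
  congr 1 <;> ring

theorem rel_mide (a b : II m) (h1 : Ap a b) (c s : QA F δ) :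
    ⁅xlA C φ y δ Fr b.swap c, xmA C φ w δ Fr a b s⁆ =
      xlA C φ y δ Fr a (s * s * c) * xmA C φ w δ Fr a b.swap (s * c) := by
  have ab := Fr.B_ap h1
  have ab' := Fr.B_ap h1.sr
  have b'a := Fr.B_ap h1.sr.symm
  have fx : ∀ r₁ r₂ r₃ r₄, Commute (z C φ (Fr.v b.swap) c.re)
      (arQ C φ w y (Fr.v a) (Fr.v b.swap) r₁ r₂ r₃ r₄) :=
    h.ar_fix ab' (h.ar_zfix b'a _) (h.ar_zfix (Fr.B_self _) _)
  have bb : ∀ r : F, P.B (r • Fr.v b) (Fr.v b.swap) = r := fun r => by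
    rw [h.B_smul_left, Fr.B_swap, mul_one]
  have e1 : z C φ (Fr.v b.swap) c.re * x C φ (Fr.v a) (s.re • Fr.v b) * (z C φ (Fr.v b.swap) c.re)⁻¹ =
      x C φ (Fr.v a) (s.re • Fr.v b) *
        arQ C φ w y (Fr.v a) (Fr.v b.swap) (c.re * s.re) 0 (c.re * s.re * s.re) 0 := by
    have e := h.toEmb.x_mul (ar_sm ab s.re) (ar_sm ab' (c.re * s.re))
    rw [map_smul, bb, smul_eq_mul, ← mul_inv_eq_iff_eq_mul, h.ar_zi, h.arQ_x _ (Fr.v b.swap),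
      h.arQ_z _ (Fr.v b.swap), mul_assoc, h.arQ_mul ab'] at e
    simp only [add_zero, zero_add] at e
    rw [z, h.toEmb.x_conj _ (ar_sm ab _), h.ar_zfix b'a, h.z_app, h.B_comm, bb, e]
  have e2 := h.Zw ab' (ar_sm ab s.im) c.re
  have e3 := h.Yx ab' (ar_sm ab s.re) c.im
  have e4 := h.Yw ab' (ar_sm ab s.im) c.im
  rw [bb, h.arQ_w _ (Fr.v b.swap), h.arQ_y (Fr.v a) (Fr.v b.swap), h.arQ_z (Fr.v a) (Fr.v b.swap),
    mul_assoc (w _ _), mul_assoc (w _ _), h.arQ_mul ab', h.arQ_mul ab'] at e2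
  rw [bb, h.arQ_w _ (Fr.v b.swap), h.arQ_y (Fr.v a) (Fr.v b.swap), mul_assoc (x _ _ _ _),
    h.arQ_mul ab'] at e3
  rw [bb, h.arQ_w _ (Fr.v b.swap), h.arQ_x _ (Fr.v b.swap), h.arQ_y (Fr.v a) (Fr.v b.swap),
    h.arQ_z (Fr.v a) (Fr.v b.swap), mul_assoc (w _ _), mul_assoc (w _ _), mul_assoc (w _ _), h.arQ_mul ab',
    h.arQ_mul ab', h.arQ_mul ab'] at e4
  nth_rewrite 2 [← h.ar_zi (Fr.v b.swap)] at e2
  nth_rewrite 2 [← h.ar_yi (Fr.v b.swap)] at e3 e4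
  have f1 := arel_conj e1 e3 (fx _ _ _ _)
  have f2 := arel_conj e2 e4 (fx _ _ _ _)
  rw [h.arQ_mul ab'] at f1 f2
  rw [arel_comm (p := xlA C φ y δ Fr b.swap c) (q := xmA C φ w δ Fr a b s) f1 f2
    (h.ar_wQ ab' (ar_sm ab _) _ _ _ _)
    ((h.ar_xQ ab' (ar_sm ab _) _ _ _ _).mul_right (h.ar_xQ ab' (ar_sm ab _) _ _ _ _)) rfl,
    h.arQ_mul ab', h.xmA_eq, h.xlA_eq Fr a (Fr.v b.swap), h.arQ_mul ab']
  simp only [QuadraticAlgebra.re_mul, QuadraticAlgebra.im_mul]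
  congr 1
  · ring
  · ring
  · linear_combination (-δ * s.re * s.im * c.im) * h.two
  · linear_combination (-s.re * s.im * c.re - s.re * s.im * c.im) * h.two

/-- root elements for orthogonal vectors commute -/
theorem ar_cm {a b : II m} (h1 : Ap a b) {e v : V} (k : P.B e v = 0) (k1 : P.B (Fr.v a) e = 0)
    (k2 : P.B (Fr.v b) e = 0) (k3 : P.B (Fr.v a) v = 0) (k4 : P.B (Fr.v b) v = 0) (s : QA F δ)
    (r₁ r₂ r₃ r₄ : F) : Commute (xmA C φ w δ Fr a b s) (arQ C φ w y e v r₁ r₂ r₃ r₄) :=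
  have ab := Fr.B_ap h1
  (h.ar_fix k (h.ar_xfix (ar_sm ab _) k1 (h.ar_sm' k2 _)) (h.ar_xfix (ar_sm ab _) k3 (h.ar_sm' k4 _))
    _ _ _ _).mul_left (h.ar_wQ' k (ar_sm ab _) k1 (h.ar_sm' k2 _) k3 (h.ar_sm' k4 _) _ _ _ _)

theorem srel : SRel (xmA C φ w δ Fr) (xlA C φ y δ Fr) where
  add a b k s u := by
    rw [h.xmA_eq, h.xmA_eq, h.xmA_eq, h.arQ_mul (Fr.B_ap k), add_zero]
    rfl
  symm a b k s := by
    have ab := Fr.B_ap k
    rw [xmA, xmA, ← h.toEmb.x_smul ab, h.toEmb.x_symm (h.ar_sm' ab _), ← h.smul _ _ _ ab,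
      h.w_symm (h.ar_sm' ab _)]
  ladd a c d := by
    rw [h.xlA_eq Fr a 0, h.xlA_eq Fr a 0, h.xlA_eq Fr a 0, h.arQ_mul (map_zero _), add_zero]
    rfl
  mid := h.rel_mid Fr
  mid' a b k s u := by
    rw [h.xmA_eq Fr a b.swap]
    exact (h.ar_xQ (Fr.B_ap k.sr) (ar_sm (Fr.B_ap k) _) _ _ _ _).mul_left
      (h.ar_wQ (Fr.B_ap k.sr) (ar_sm (Fr.B_ap k) _) _ _ _ _)
  mide := h.rel_mide Fr
  ends a b k c d :=
    ((h.toEmb.z_comm (Fr.B_ap k) _ _).mul_right (h.zy (Fr.B_ap k) _ _)).mul_left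
      ((h.zy (Fr.B_ap k.symm) _ _).symm.mul_right (h.yy (Fr.B_ap k) _ _))
  cmm a b c d k k' h1 h2 h3 h4 s u := by
    rw [h.xmA_eq Fr c d]
    exact h.ar_cm Fr k (Fr.B_ap k') (Fr.B_ne h1) (Fr.B_ne h3) (Fr.B_ne h2) (Fr.B_ne h4) _ _ _ _ _
  cme a b c k h1 h2 s d := by
    rw [h.xlA_eq Fr c 0]
    exact h.ar_cm Fr k (map_zero _) ((h.B_comm _ _).trans (Fr.B_ne h1)) ((h.B_comm _ _).trans (Fr.B_ne h2))
      (map_zero _) (map_zero _) _ _ _ _ _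

theorem ar_xmA_re (a b : II m) (c : F) : xmA C φ w δ Fr a b ⟨c, 0⟩ = φ (Fr.xm C a b c) := by
  rw [xmA, zero_smul, h.w_zero, mul_one]
  rfl

theorem ar_xlA_re (a : II m) (c : F) : xlA C φ y δ Fr a ⟨c, 0⟩ = φ (C.T (Fr.v a) 0 c) := by
  rw [xlA, h.y_zero, mul_one]
  rfl

theorem SG_eq : SG (xmA C φ w δ Fr) (xlA C φ y δ Fr) = GA φ y := by
  refine le_antisymm ((closure_le _).2 ?_) ?_
  · rintro _ (⟨a, b, s, k, rfl⟩ | ⟨a, s, rfl⟩)
    · exact mul_mem (h.L_le ⟨_, rfl⟩) (h.w_mem (ar_sm (Fr.B_ap k) _))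
    · exact mul_mem (h.L_le ⟨_, rfl⟩) (h.y_mem _ _)
  · obtain ⟨ε, hε⟩ := exists_eps m
    obtain ⟨b, hb, -⟩ := h.bas_of_frame Fr hε
    have := (h.bas_rank hb).2
    let a : II m := Sum.inl ⟨0, by omega⟩
    rw [h.GA_eq (h.hp_ne (Fr.B_swap a))]
    refine sup_le ?_ fun g hg => ?_
    · rintro _ ⟨l, rfl⟩
      have : (SG (xmA C φ w δ Fr) (xlA C φ y δ Fr)).comap φ = ⊤ := h.gen_frame Fr
        (fun a b k c => subset_closure (.inl ⟨a, b, _, k, (h.ar_xmA_re Fr a b c).symm⟩))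
        fun a c => subset_closure (.inr ⟨a, _, (h.ar_xlA_re Fr a c).symm⟩)
      exact (this ▸ mem_top l : l ∈ (SG (xmA C φ w δ Fr) (xlA C φ y δ Fr)).comap φ)
    · obtain ⟨s, r, rfl⟩ := h.mem_ZA.1 hg
      exact subset_closure (.inr ⟨a, ⟨s, r⟩, rfl⟩)

theorem t_xmA {a b : II m} (h1 : Ap a b) (s : QA F δ) :
    t * xmA C φ w δ Fr a b s * t⁻¹ = xmA C φ w δ Fr a b ⟨s.re + s.im, s.im⟩ := by
  have ab := Fr.B_ap h1
  rw [xmA, xmA, ← conj_mul, h.t_w (ar_sm ab _), add_smul,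
    h.toEmb.x_add (ar_sm ab _) (ar_sm ab _) (h.ar_aa _ _ _), x, ← h.toSit.tl, mul_inv_cancel_right,
    mul_assoc]

theorem t_xlA (a : II m) (s : QA F δ) :
    t * xlA C φ y δ Fr a s * t⁻¹ = xlA C φ y δ Fr a ⟨s.re + s.im, s.im⟩ := by
  rw [xlA, xlA, ← conj_mul, h.t_y, h.toEmb.z_add, z, ← h.toSit.tl, mul_inv_cancel_right, mul_assoc]

theorem xmA_re {a b : II m} (h1 : Ap a b) (c : F) : xmA C φ w δ Fr a b ⟨c, 0⟩ = φ (Fr.xm C a b c) :=
  h.ar_xmA_re Fr a b c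

theorem xlA_re (a : II m) (c : F) : xlA C φ y δ Fr a ⟨c, 0⟩ = φ (C.T (Fr.v a) 0 c) := h.ar_xlA_re Fr a c

end HA

end CfsgLib.SPC
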