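import Cfsg.Agent.Lib.SPC.RadA

/-! Radicals and stabilisers in the symplectic group -/

set_option autoImplicit false
set_option linter.unusedSectionVars false

namespace CfsgLib.SPC

open Subgroup Module CfsgLib.Forms CfsgLib.LieMult
open CfsgLib.HX (Std CO Two Mv M2)
open CfsgLib.UN (AV SI TI HH Rad Stb Yg Rg Eg Act nu)
open CfsgLib.ClSys (II)
open Submodule (span)
open scoped commutatorElement Pointwise

universe u

variable {F : Type} [Field F] [Finite F] {V : Type} [AddCommGroup V] [Module F V]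
  [FiniteDimensional F V] {P : PQ (RingHom.id F) V} {S : Type} [Group S] [Finite S] {G : Type u}
  [Group G] [Finite G] {C : CG P S} {φ : S →* G} {t : G}

theorem r2_perp (s : S) {U W : Submodule F V} (e1 : ∀ v, C.act s v ∈ W ↔ v ∈ U) (v : V) :
    C.act s v ∈ P.perp W ↔ v ∈ P.perp U := by
  rw [P.mem_perp, P.mem_perp]
  refine ⟨fun H u hu => by rw [← C.B_act s, H _ ((e1 u).2 hu)], fun H u hu => ?_⟩
  rw [← C.apply_inv s u, C.B_act, H _ ((e1 _).1 (by rw [C.apply_inv]; exact hu))]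

theorem r2_fix (s : S) {U W : Submodule F V} (e1 : ∀ v, C.act s v ∈ W ↔ v ∈ U) {g : S} :
    s * g * s⁻¹ ∈ C.fixG W ↔ g ∈ C.fixG U := by
  refine ⟨fun H v hv => (C.act s).injective ?_, fun H v hv => ?_⟩
  · have := H _ ((e1 v).2 hv)
    rwa [C.mul_apply, C.inv_apply, C.mul_apply] at this
  · rw [C.mul_apply, C.mul_apply, H _ ((e1 _).1 (by rw [C.apply_inv]; exact hv)), C.apply_inv]

theorem r2_rad (s : S) {U W : Submodule F V} (e1 : ∀ v, C.act s v ∈ W ↔ v ∈ U) {g : S} :
    s * g * s⁻¹ ∈ Rad C W ↔ g ∈ Rad C U := by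
  refine and_congr (r2_fix s e1) ⟨fun H v hv => ?_, fun H v hv => ?_⟩
  · have := H _ ((r2_perp s e1 v).2 hv)
    rwa [C.mul_apply, C.inv_apply, C.mul_apply, ← map_sub, e1] at this
  · have := (e1 _).2 (H _ ((r2_perp s e1 (C.act s⁻¹ v)).1 (by rw [C.apply_inv]; exact hv)))
    rwa [map_sub, C.apply_inv, ← C.mul_apply, ← C.mul_apply] at this

theorem r2_nu (s : S) (v : V) : nu C s v = C.act s v - v := rfl

namespace Mod

variable (h : Mod C) {U : Submodule F V} {e f e' f' a : V}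
include h

theorem rad_sq {s : S} (hs : s ∈ Rad C U) : s * s ∈ C.fixG (P.perp U) := by
  intro v hv
  have := hs.1 _ (hs.2 v hv)
  rw [map_sub, h.vsub_eq, h.vsub_eq, add_comm (C.act s v)] at this
  rw [C.mul_apply, add_right_cancel this]
theorem rad_two (hU : TI P U) : IsPGroup 2 (Rad C U) := by
  refine fun s => ⟨2, Subtype.ext ?_⟩
  have := h.E_sq hU (h.rad_sq s.2)
  rw [SubgroupClass.coe_pow, OneMemClass.coe_one, ← this]
  norm_num [pow_succ, mul_assoc]
theorem stb_norm (U : Submodule F V) : Stb C U ≤ normalizer (C.fixG U : Set S) ⊓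
    normalizer (Rad C U : Set S) ⊓ normalizer (C.fixG (P.perp U) : Set S) := by
  exact fun g hg => ⟨⟨mem_normalizer_iff.2 fun s => (r2_fix g hg).symm,
    mem_normalizer_iff.2 fun s => (r2_rad g hg).symm⟩,
    mem_normalizer_iff.2 fun s => (r2_fix g (r2_perp g hg)).symm⟩
theorem conj_fix (s : S) {W : Submodule F V} (e1 : ∀ v, C.act s v ∈ W ↔ v ∈ U) {g : S} :
    (s * g * s⁻¹ ∈ C.fixG W ↔ g ∈ C.fixG U) ∧ (s * g * s⁻¹ ∈ Rad C W ↔ g ∈ Rad C U) ∧
      (s * g * s⁻¹ ∈ C.fixG (P.perp W) ↔ g ∈ C.fixG (P.perp U)) := by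
  exact ⟨r2_fix s e1, r2_rad s e1, r2_fix s (r2_perp s e1)⟩
theorem card_E (hU : TI P U) : Nat.card (C.fixG (P.perp U)) =
    Nat.card F ^ (finrank F U * (finrank F U + 1) / 2) := by
  classical
  obtain ⟨d, hd⟩ : ∃ d, finrank F U = d := ⟨_, rfl⟩
  let b := Module.finBasisOfFinrankEq F U hd
  obtain ⟨u, hu⟩ : ∃ u : Fin d → V, u = fun i => (b i : V) := ⟨_, rfl⟩
  have um : ∀ i, u i ∈ U := fun i => by rw [hu]; exact (b i).2
  have li : LinearIndependent F u := by
    rw [hu]; exact b.linearIndependent.map' U.subtype U.ker_subtype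
  obtain ⟨y, -, hy⟩ := h.exists_partners li fun i j => P.mem_perp.1 (hU (um j)) _ (um i)
  have ex : ∀ w ∈ U, w = ∑ i, P.B w (y i) • u i := fun w hw => by
    have a1 : w = ∑ i, b.repr ⟨w, hw⟩ i • u i := by
      have := congrArg U.subtype (b.sum_repr ⟨w, hw⟩)
      rw [map_sum] at this
      rw [hu]
      exact this.symm
    generalize b.repr ⟨w, hw⟩ = c at a1
    refine a1.trans (Finset.sum_congr rfl fun i _ => ?_)
    rw [a1]
    simp [hy]
  let n : (Sym2 (Fin d) → F) → V →ₗ[F] V := fun m =>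
    ∑ i, ∑ j, m s(i, j) • (P.B (u j)).smulRight (u i)
  have na : ∀ m v, n m v = ∑ i, (∑ j, m s(i, j) * P.B (u j) v) • u i := fun m v => by
    simp [n, LinearMap.sum_apply, Finset.sum_smul, smul_smul]
  have n1 : ∀ m v, n m v ∈ U := fun m v => by
    rw [na]; exact U.sum_mem fun i _ => U.smul_mem _ (um i)
  have n2 : ∀ m v w, P.B (n m v) w = ∑ i, ∑ j, m s(i, j) * P.B (u j) v * P.B (u i) w :=
    fun m v w => by simp [na, Finset.sum_mul]
  have n3 : ∀ m v w, P.B (n m v) w = P.B v (n m w) := fun m v w => by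
    rw [h.B_comm v, n2, n2, Finset.sum_comm]
    refine Finset.sum_congr rfl fun i _ => Finset.sum_congr rfl fun j _ => ?_
    rw [Sym2.eq_swap]
    ring
  have n4 : ∀ m i j, P.B (n m (y j)) (y i) = m s(i, j) := fun m i j => by
    simp [n2, hy]
  choose Φ h1 h2 using fun m => h.exists_E hU (n1 m) (n3 m)
  have hb : Function.Bijective fun m => (⟨Φ m, h1 m⟩ : C.fixG (P.perp U)) := by
    refine ⟨fun m m' e1 => funext fun z => ?_, fun s => ?_⟩
    · induction z using Sym2.ind with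
      | h i j => rw [← n4 m, ← n4 m', ← h2, ← h2, show Φ m = Φ m' from congrArg Subtype.val e1]
    · have sy : ∀ i j, P.B (nu C s.1 (y i)) (y j) = P.B (nu C s.1 (y j)) (y i) := fun i j => by
        rw [h.E_adj hU s.2, h.B_comm]
      refine ⟨Sym2.lift ⟨_, sy⟩, Subtype.ext (C.ext fun v => ?_)⟩
      rw [← sub_left_inj (a := v), ← r2_nu, ← r2_nu, h2, na, ex (nu C s.1 v) (h.E_range s.2 v)]
      refine Finset.sum_congr rfl fun i _ => ?_
      rw [h.E_adj hU s.2, h.B_comm v, ex (nu C s.1 (y i)) (h.E_range s.2 _)]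
      simp
  rw [← Nat.card_eq_of_bijective _ hb, Nat.card_fun, Nat.card_eq_fintype_card (α := Sym2 _),
    Sym2.card, Fintype.card_fin, hd, Nat.choose_two_right, Nat.add_sub_cancel, mul_comm]
theorem card_Q (h0 : e ≠ 0) : Nat.card (Rad C (span F {e})) = Nat.card F ^ (finrank F V - 1) := by
  obtain ⟨f, k⟩ := h.exists_hp h0
  have a1 : ∀ a c, P.B e a = 0 → P.B f a = 0 → C.act (C.T e a c) f - f = c • e + a :=
    fun a c k1 k2 => by
      rw [h.T_app k1, h.B_comm a, k2, k]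
      module
  have hb : Function.Bijective fun s : Rad C (span F {e}) =>
      (⟨_, h.fix_range (rad_le_fix _ s.2) f⟩ : P.perp (span F {e})) := by
    refine ⟨fun s s' e1 => Subtype.ext ?_, fun w => ?_⟩
    · obtain ⟨a, c, k1, k2, e2⟩ := (h.mem_rad_hp k).1 s.2
      obtain ⟨a', c', k1', k2', e2'⟩ := (h.mem_rad_hp k).1 s'.2
      have e3 : C.act s.1 f - f = C.act s'.1 f - f := congrArg Subtype.val e1
      rw [e2, e2', a1 _ _ k1 k2, a1 _ _ k1' k2'] at e3
      have e4 := congrArg (P.B f) e3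
      simp only [map_add, map_smul, k2, k2', h.B_comm f e, k, smul_eq_mul, mul_one, add_zero] at e4
      rw [e4, add_right_inj] at e3
      rw [e2, e2', e3, e4]
    · obtain ⟨a, k1, k2, e1⟩ := h.hp_decomp k w.1
      refine ⟨⟨_, (h.mem_rad_hp k).2 ⟨a, P.B f w.1, k1, k2, rfl⟩⟩, Subtype.ext ?_⟩
      change C.act _ f - f = _
      rw [a1 _ _ k1 k2]
      rw [P.mem_perp_span_singleton.1 w.2, zero_smul, add_zero, add_comm] at e1
      exact e1.symm
  have a2 := h.rank_perp (span F {e})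
  rw [finrank_span_singleton h0] at a2
  rw [Nat.card_eq_of_bijective _ hb, Module.natCard_eq_pow_finrank (K := F)]
  congr 1
  omega
/-- every involution lies in some `E(M)` -/
theorem invol_mem_E {s : S} (s2 : s * s = 1) : ∃ M, Lag P M ∧ s ∈ C.fixG (P.perp M) := by
  have a1 : ∀ v w, P.B (C.act s v) w = P.B v (C.act s w) := fun v w => by
    rw [← C.B_act s, ← C.mul_apply, s2, C.one_apply]
  obtain ⟨M, hM, a2⟩ := h.exists_lag (U := LinearMap.range (nu C s)) (by
    rintro _ ⟨v, rfl⟩ _ ⟨w, rfl⟩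
    simp only [r2_nu, P.B_sub_left, P.B_sub_right, C.B_act, a1 w v]
    linear_combination (P.B w v - P.B w (C.act s v)) * h.two)
  refine ⟨M, hM, fun v hv => ?_⟩
  rw [← sub_eq_zero]
  refine h.nd fun w => ?_
  have := P.mem_perp.1 hv _ (a2 ⟨w, rfl⟩)
  rw [r2_nu, P.B_sub_left, a1] at this
  rw [h.B_comm, P.B_sub_right, this]
/-- the vector `D s` -/
theorem exists_D (hU : TI P U) : ∃ D : S → V, (∀ s ∈ C.fixG (P.perp U), D s ∈ U ∧
      ∀ v, P.B (nu C s v) v = P.B (D s) v * P.B (D s) v) ∧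
    (∀ s ∈ C.fixG (P.perp U), ∀ s' ∈ C.fixG (P.perp U), D (s * s') = D s + D s') ∧
    ∀ p ∈ U, ∀ a ∈ U, ∀ r, D (C.T p a (r * r)) = r • p := by
  have uq : ∀ d d' : V, (∀ v, P.B d v * P.B d v = P.B d' v * P.B d' v) → d = d' := fun d d' H =>
    sub_eq_zero.1 (h.nd fun v => by rw [P.B_sub_left, h.sq_inj (H v), sub_self])
  have ex : ∀ s : S, ∃ d, s ∈ C.fixG (P.perp U) →
      ∀ v, P.B (nu C s v) v = P.B d v * P.B d v := fun s => by
    by_cases hs : s ∈ C.fixG (P.perp U)
    swap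
    · exact ⟨0, fun H => absurd H hs⟩
    choose l hl using fun v => h.exists_sqrt (P.B (nu C s v) v)
    let L : V →ₗ[F] F :=
      { toFun := l
        map_add' := fun v w => h.sq_inj (by
          have a1 := h.E_adj hU hs v w
          rw [h.B_comm v] at a1
          rw [hl, map_add (nu C s), P.B_add_left, P.B_add_right, P.B_add_right, ← hl, ← hl, a1]
          linear_combination (P.B (nu C s w) v - l v * l w) * h.two)
        map_smul' := fun c v => h.sq_inj (by
          rw [hl, map_smul (nu C s), h.B_smul_left, P.B_smul_right, ← hl]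
          simp only [RingHom.id_apply, smul_eq_mul]
          ring) }
    let b := Module.finBasis F V
    obtain ⟨d, hd⟩ := h.exists_dual b.linearIndependent fun i => l (b i)
    have : P.B d = L := b.ext fun i => by rw [h.B_comm, hd]; rfl
    exact ⟨d, fun _ v => by rw [this, ← hl]; rfl⟩
  choose D hD using ex
  refine ⟨D, fun s hs => ⟨?_, hD s hs⟩, fun s hs s' hs' => uq _ _ fun v => ?_,
    fun p hp a ha r => uq _ _ fun v => ?_⟩
  · rw [← h.perp_perp U, P.mem_perp']
    intro v hv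
    have := hD s hs v
    rw [r2_nu, hs v hv, sub_self, map_zero, LinearMap.zero_apply] at this
    exact mul_self_eq_zero.1 this.symm
  · rw [← hD _ (mul_mem hs hs'), h.E_nu_mul hU hs hs', LinearMap.add_apply, P.B_add_left, hD s hs,
      hD s' hs', P.B_add_left]
    linear_combination (-(P.B (D s) v * P.B (D s') v)) * h.two
  · rw [← hD _ (h.T_mem_E hU hp ha _), r2_nu, h.T_app (P.mem_perp.1 (hU ha) _ hp), add_assoc,
      add_sub_cancel_left, P.B_add_left, h.B_smul_left, h.B_smul_left, h.B_smul_left]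
    linear_combination (P.B a v * P.B p v) * h.two
theorem r2_inv (k : P.B e a = 0) (c : F) : (C.T e a c)⁻¹ = C.T e a c :=
  inv_eq_of_mul_eq_one_right (h.T_sq k c)

theorem x_comm (k : HH P e f e' f') {v : V} (h1 : P.B e v = 0) (h2 : P.B e' v = 0)
    (h3 : P.B f' v = 0) : C.T e v 0 = ⁅C.T e f' 0, C.T e' v 0⁆ := by
  have k1 : P.B v e = 0 := by rw [h.B_comm, h1]
  have k2 : P.B v e' = 0 := by rw [h.B_comm, h2]
  rw [commutatorElement_def, h.T_conj _ h2, h.x_app k.ef, h.x_app k.ef, h1, h3, k.ee, k.h₂.fe,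
    zero_smul, zero_smul, one_smul, add_zero, add_zero, add_zero,
    h.T_symm (e := e' + e) (by rw [P.B_add_left, h1, h2, add_zero]), h.T_symm h1, h.T_symm h2, h.r2_inv k2,
    h.T_mul (by rw [P.B_add_right, k1, k2, add_zero]) k2, add_right_comm, h.vadd_self, zero_add,
    P.B_add_left, h.B_self, k.ee]
  simp only [add_zero]
theorem fix_decomp (k : P.B e f = 1) {s : S} (hs : C.act s e = e) :
    ∃ u ∈ Rad C (span F {e}), u⁻¹ * s ∈ C.fixG (span F {e, f}) := by
  have hf := h.hp_iff.2 k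
  have a2 : P.B e (C.act s f) = 1 := by rw [← k, ← C.B_act s e f, hs]
  obtain ⟨a, c, k', -, k2, -⟩ :=
    C.exists_T_map hf (C.sing_act s hf.sf) (by rw [a2]; exact one_ne_zero)
  rw [a2, one_smul] at k2
  refine ⟨_, (h.mem_rad_pt (h.hp_ne k)).2 ⟨a, c, k'.perp, rfl⟩, mem_fix_pair.2 ⟨?_, ?_⟩⟩
  · rw [C.mul_apply, hs, C.inv_apply_eq (C.T_self k')]
  · rw [C.mul_apply, C.inv_apply_eq k2]
theorem rad_le_comm (h0 : e ≠ 0) :
    Rad C (span F {e}) ≤ ⁅Rad C (span F {e}), C.fixG (span F {e})⁆ := by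
  have nm : ∀ a b : V, P.B b a = 1 → P.B b e = 0 → a ∉ span F {e} := fun a b k1 k2 H => by
    obtain ⟨l, rfl⟩ := Submodule.mem_span_singleton.1 H
    rw [P.B_smul_right, k2, mul_zero] at k1
    exact zero_ne_one k1
  have a1 : ∀ a, P.B e a = 0 → a ∉ span F {e} →
      C.T e a 1 ∈ ⁅Rad C (span F {e}), C.fixG (span F {e})⁆ := fun a k1 k2 => by
    obtain ⟨f, b, k⟩ := h.hh_of_ln ⟨h0, k2, k1⟩
    have m : C.act (C.T a 0 1) e = e := by
      rw [h.z_app, h.B_comm a, k1, mul_zero, zero_smul, add_zero]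
    have := commutator_mem_commutator (mem_fix_pt.2 m) ((h.mem_rad_pt h0).2 ⟨b, 0, k.ef, rfl⟩)
    rw [commutatorElement_def, h.T_conj _ k.ef, m, h.z_app, k.h₂.ef, mul_one, one_smul,
      h.r2_inv k.ef, h.T_mul (by rw [P.B_add_right, k.ef, k1, add_zero]) k.ef, add_right_comm,
      h.vadd_self, zero_add, P.B_add_left, h.B_self, k.h₂.ef, commutator_comm] at this
    simpa only [zero_add] using this
  have hZ : ∀ r, C.T e 0 r ∈ ⁅Rad C (span F {e}), C.fixG (span F {e})⁆ := fun r => by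
    obtain ⟨f, k⟩ := h.exists_hp h0
    obtain ⟨e₂, f₂, k2⟩ := h.exists_hh k
    obtain ⟨e₃, f₃, k3⟩ := h.exists_h3 k2
    have c1 : P.B e ((r + 1) • f₂ + e₃) = 0 := by simp [k2.ef, k3.h13.ee]
    have c2 : P.B e (e₂ + ((r + 1) • f₂ + e₃)) = 0 := by rw [P.B_add_right, c1, k2.ee, add_zero]
    have c3 : P.B f₃ e = 0 := by rw [h.B_comm, k3.h13.ef]
    have c4 : P.B f₃ ((r + 1) • f₂ + e₃) = 1 := by
      simp [h.B_comm f₃ f₂, k3.h23.ff, k3.h23.h₂.fe]
    have := mul_mem (mul_mem (a1 e₂ k2.ee (nm _ f₂ k2.h₂.fe (by rw [h.B_comm, k2.ef])))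
      (a1 _ c1 (nm _ f₃ c4 c3))) (a1 _ c2 (nm _ f₃ (by
        rw [P.B_add_right, c4, h.B_comm, k3.h23.ef, zero_add]) c3))
    rw [h.T_mul k2.ee c1, h.T_mul c2 c2, h.vadd_self, h.B_self, P.B_add_right, P.B_smul_right,
      k2.h₂.ef, k3.h23.ee] at this
    rwa [show 1 + 1 + ((r + 1) * 1 + 0) + 1 + 0 = r by linear_combination 2 * h.two] at this
  intro s hs
  obtain ⟨a, c, k, rfl⟩ := (h.mem_rad_pt h0).1 hs
  by_cases H : a ∈ span F {e}
  · obtain ⟨l, rfl⟩ := Submodule.mem_span_singleton.1 H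
    rw [← zero_add (l • e), h.T_shift (map_zero _)]
    exact hZ c
  · have := mul_mem (a1 a k H) (hZ (c + 1))
    rwa [h.T_mul k (map_zero _), add_zero, map_zero, add_zero,
      show 1 + (c + 1) = c by linear_combination h.two] at this
theorem r2_comm (hU : TI P U) {g g' : S} (hg : g ∈ Rad C U) (hg' : g' ∈ Rad C U) :
    ⁅g, g'⁆ ∈ C.fixG (P.perp U) ∧ ∀ w, P.B (C.act ⁅g, g'⁆ w) w = 0 := by
  have a0 : ∀ y, C.act ⁅g, g'⁆ (C.act (g' * g) y) = C.act g (C.act g' y) := fun y => by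
    rw [← C.mul_apply, ← C.mul_apply, commutatorElement_def]
    congr 2
    group
  refine ⟨fun w hw => ?_, fun w => ?_⟩
  · obtain ⟨y, rfl⟩ := (C.act (g' * g)).surjective w
    have hy : y ∈ P.perp U := (r2_perp _ (fix_le_stb U (rad_le_fix U (mul_mem hg' hg))) y).1 hw
    have a1 := hg.1 _ (hg'.2 y hy)
    have a2 := hg'.1 _ (hg.2 y hy)
    rw [map_sub] at a1 a2
    rw [a0, C.mul_apply]
    linear_combination (norm := module) a1 - a2
  · obtain ⟨y, rfl⟩ := (C.act (g' * g)).surjective w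
    rw [a0, C.mul_apply]
    have n1 := h.fix_range (rad_le_fix U hg) y
    have n2 := h.fix_range (rad_le_fix U hg') y
    have p1 := hg.2 _ n2
    have p2 := hg'.2 _ n1
    have b1 := C.B_act g y (C.act g' y - y)
    have b2 := C.B_act g' y (C.act g y - y)
    have e1 : C.act g (C.act g' y) = y + (C.act g y - y) + (C.act g' y - y) +
        (C.act g (C.act g' y - y) - (C.act g' y - y)) := by rw [map_sub]; module
    have e2 : C.act g' (C.act g y) = y + (C.act g y - y) + (C.act g' y - y) +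
        (C.act g' (C.act g y - y) - (C.act g y - y)) := by rw [map_sub]; module
    rw [e1, e2]
    replace b1 : P.B (C.act g y - y + y) (C.act g (C.act g' y - y) - (C.act g' y - y) +
        (C.act g' y - y)) = P.B y (C.act g' y - y) := by rw [sub_add_cancel, sub_add_cancel, b1]
    replace b2 : P.B (C.act g' y - y + y) (C.act g' (C.act g y - y) - (C.act g y - y) +
        (C.act g y - y)) = P.B y (C.act g y - y) := by rw [sub_add_cancel, sub_add_cancel, b2]
    generalize C.act g (C.act g' y - y) - (C.act g' y - y) = p at p1 b1 ⊢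
    generalize C.act g' (C.act g y - y) - (C.act g y - y) = p' at p2 b2 ⊢
    generalize C.act g y - y = n at n1 b1 b2 ⊢
    generalize C.act g' y - y = n' at n2 b1 b2 ⊢
    simp only [P.B_add_left, P.B_add_right, h.B_self, P.mem_perp.1 n1 _ p1, P.mem_perp.1 n2 _ p1,
      P.mem_perp'.1 n1 _ p1, P.mem_perp'.1 n1 _ p2, P.mem_perp'.1 n2 _ p2,
      P.mem_perp.1 (hU p2) _ p1, h.B_comm n y, h.B_comm n' y, h.B_comm n' n, h.B_comm p y] at b1 b2 ⊢
    linear_combination b1 + b2 + (P.B y n + P.B y n') * h.two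

theorem r2_line (k : P.B e a = 0) (r v r' : F) (x : V) :
    C.act (C.T e 0 r * C.T e (v • a) 0 * C.T a 0 r') x =
      x + (r * P.B e x + v * P.B a x) • e + (v * P.B e x + r' * P.B a x) • a := by
  have k1 : P.B e (v • a) = 0 := by rw [P.B_smul_right, k, mul_zero]
  simp only [C.mul_apply, h.z_app, h.x_app k1, P.B_add_right, P.B_smul_right, h.B_smul_left, k,
    h.B_self, map_add (C.act _), map_smul (C.act _)]
  module

/-- `R_l' = A_l` -/
theorem comm_rad_line (k : Ln P e a) {s : S} :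
    s ∈ ⁅Rad C (span F {e, a}), Rad C (span F {e, a})⁆ ↔ ∃ v : F, s = C.T e (v • a) 0 := by
  have k1 : ∀ v : F, P.B e (v • a) = 0 := fun v => by rw [P.B_smul_right, k.perp, mul_zero]
  obtain ⟨f, f', kk⟩ := h.hh_of_ln k
  refine ⟨fun hs => ?_, ?_⟩
  · let A : Subgroup S :=
      { carrier := {s | ∃ v : F, s = C.T e (v • a) 0}
        one_mem' := ⟨0, by rw [zero_smul, C.T_zero (h.sing e)]⟩
        mul_mem' := by
          rintro _ _ ⟨v, rfl⟩ ⟨v', rfl⟩
          refine ⟨v + v', ?_⟩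
          rw [h.T_mul (k1 v) (k1 v'), h.B_smul_left, P.B_smul_right, h.B_self, add_smul]
          simp only [mul_zero, add_zero]
        inv_mem' := by
          rintro _ ⟨v, rfl⟩
          exact ⟨v, h.r2_inv (k1 v) 0⟩ }
    refine (commutator_le (H₃ := A)).2 (fun g hg g' hg' => ?_) hs
    obtain ⟨a1, a2⟩ := h.r2_comm (h.ti_pair k.perp) hg hg'
    obtain ⟨r, v, r', e1⟩ := (h.mem_E_line k).1 a1
    have b1 := a2 f
    have b2 := a2 f'
    rw [e1, h.r2_line k.perp] at b1 b2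
    simp only [P.B_add_left, h.B_smul_left, h.B_self, kk.h₁.ef, kk.h₂.ef, kk.ef, h.B_comm a f, kk.fe,
      mul_zero, mul_one, add_zero, zero_add] at b1 b2
    refine ⟨v, ?_⟩
    rw [e1, b1, b2, C.T_zero (h.sing e), C.T_zero (h.sing a), one_mul, mul_one]
  · rintro ⟨v, rfl⟩
    obtain ⟨e₃, f₃, k3⟩ := h.exists_h3 kk
    have he : e ∈ span F {e, a} := Submodule.subset_span (by simp)
    have ha : a ∈ span F {e, a} := Submodule.subset_span (by simp)
    have c1 : P.B a (v • f₃) = 0 := by rw [P.B_smul_right, k3.h23.ef, mul_zero]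
    have c2 : P.B e (v • f₃) = 0 := by rw [P.B_smul_right, k3.h13.ef, mul_zero]
    have c3 : P.B a (v • e) = 0 := by rw [P.B_smul_right, h.B_comm, k.perp, mul_zero]
    have := commutator_mem_commutator
      (h.T_mem_rad (h.ti_pair k.perp) he (CG.mem_perp_pair.2 ⟨k3.h13.ee, k3.h23.ee⟩) 0)
      (h.T_mem_rad (h.ti_pair k.perp) ha (CG.mem_perp_pair.2 ⟨c2, c1⟩) 0)
    rw [commutatorElement_def, h.T_conj _ c1, h.x_app k3.h13.ee, h.x_app k3.h13.ee, c2, k.perp,
      h.B_comm e₃ a, k3.h23.ee, P.B_smul_right, k3.h13.h₂.ef, zero_smul, zero_smul, add_zero,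
      add_zero, add_zero, mul_one, h.r2_inv c1,
      h.T_mul (by rw [P.B_add_right, c1, c3, add_zero]) c1, add_right_comm, h.vadd_self, zero_add,
      P.B_add_left, h.B_self, h.B_smul_left, c2, mul_zero, add_zero, add_zero,
      h.T_symm c3, h.T_smul k.perp, mul_zero] at this
    exact this
theorem mem_fix_of_two {s : S} (h2 : IsPGroup 2 (zpowers s)) {p : V}
    (hp : C.act s p ∈ span F {p}) : C.act s p = p := by
  obtain ⟨l, hl⟩ := Submodule.mem_span_singleton.1 hp
  obtain ⟨k, hk⟩ := h2 ⟨s, mem_zpowers s⟩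
  have e1 : s ^ 2 ^ k = 1 := congrArg Subtype.val hk
  have a1 : ∀ n : ℕ, C.act (s ^ n) p = l ^ n • p := fun n => by
    induction n with
    | zero => simp
    | succ n ih => rw [pow_succ, C.mul_apply, ← hl, map_smul, ih, smul_smul, pow_succ']
  have a2 : ∀ n : ℕ, l ^ 2 ^ n = 1 → l = 1 := fun n => by
    induction n with
    | zero => simp
    | succ n ih => exact fun H => ih (h.sq_inj (by rw [one_mul, ← H, pow_succ, pow_mul, sq]))
  by_cases p0 : p = 0
  · rw [p0, map_zero]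
  have a3 := a1 (2 ^ k)
  rw [e1, C.one_apply] at a3
  rw [← hl, a2 k (smul_left_injective F p0 (by simpa using a3.symm)), one_smul]
/-- `Y_e` is generated by the stabilisers of two lines -/
theorem fix_pt_gen {b : V} (h1 : P.B e a = 0) (h2 : P.B e b = 0) (h3 : P.B a b = 0) (k : Ln P e a)
    (k' : b ∉ span F {e, a}) :
    C.fixG (span F {e}) ≤ C.fixG (span F {e, a}) ⊔ C.fixG (span F {e, b}) := by
  have m : ∀ (b u : V) (c : F), P.B e u = 0 → P.B b u = 0 → C.T u 0 c ∈ C.fixG (span F {e, b}) :=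
    fun b u c k1 k2 => h.T_mem_fix (map_zero _) (CG.mem_perp_pair.2 ⟨k1, k2⟩) (zero_mem _) c
  have a1 : a ∉ span F {e, b} := fun H => by
    obtain ⟨x, y, rfl⟩ := Submodule.mem_span_pair.1 H
    have y0 : y ≠ 0 := by
      rintro rfl
      exact k.nmem (Submodule.mem_span_singleton.2 ⟨x, by simp⟩)
    exact k' (Submodule.mem_span_pair.2 ⟨-(y⁻¹ * x), y⁻¹, by
      rw [smul_add, smul_smul, smul_smul, inv_mul_cancel₀ y0]; module⟩)
  refine h.fix_gen (h.ti_pt e) fun u hu c => ?_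
  rw [P.mem_perp_span_singleton] at hu
  by_cases ha : P.B a u = 0
  · exact mem_sup_left (m a u c hu ha)
  obtain ⟨p, p1, p2, p3, p4⟩ : ∃ p, P.B e p = 0 ∧ P.B b p = 0 ∧ P.B a p = 1 ∧ P.B p u ≠ 0 := by
    obtain ⟨p, p1, p2⟩ := P.exists_dual_vec C.nondeg _ a1
    have p3 := CG.mem_perp_pair.1 (P.mem_perp'.2 p2)
    rw [h.B_comm] at p1
    by_cases H : P.B p u = 0
    · refine ⟨p + a, ?_, ?_, ?_, ?_⟩
      · rw [P.B_add_right, p3.1, h1, add_zero]
      · rw [P.B_add_right, p3.2, h.B_comm, h3, add_zero]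
      · rw [P.B_add_right, p1, h.B_self, add_zero]
      · rwa [P.B_add_left, H, zero_add]
    · exact ⟨p, p3.1, p3.2, p1, H⟩
  have b1 : C.T p 0 (P.B a u / P.B p u) ∈ C.fixG (span F {e, a}) ⊔ C.fixG (span F {e, b}) :=
    mem_sup_right (m b p _ p1 p2)
  rw [← mul_mem_cancel_left b1, ← mul_mem_cancel_right (inv_mem b1), h.T_conj _ (map_zero _),
    map_zero, h.z_app, div_mul_cancel₀ _ p4]
  refine mem_sup_left (m a _ c ?_ ?_)
  · rw [P.B_add_right, P.B_smul_right, hu, p1, mul_zero, add_zero]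
  · rw [P.B_add_right, P.B_smul_right, p3, mul_one, h.add_self]

end Mod

end CfsgLib.SPC
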