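import Cfsg.Agent.Lib.SPC.BK2

/-! Centre, rational elements, the chain -/

set_option autoImplicit false
set_option linter.unusedSectionVars false

namespace CfsgLib.SPC.BC

open Subgroup Module Matrix CfsgLib.UFP
open scoped commutatorElement Pointwise

universe u

variable {F : Type} [Field F] [Finite F] [CharP F 2] {m : ℕ} {δ : F} {G : Type u} [Group G] [Finite G]

theorem bb_col (a : Mt m δ) (i j : Fin m) : (a *ᵥ ee δ j) i = a i j := by
  simp [ee, mulVec_single]

theorem bb_pow (s : Sg m δ) (n : ℕ) : mat (s ^ n) = mat s ^ n := by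
  induction n with
  | zero => rw [pow_zero, pow_zero, mat_one]
  | succ n ih => rw [pow_succ, pow_succ, mat_mul, ih]

theorem bb_two (a : Mt m δ) : a + a = 0 := Matrix.ext fun _ _ => k_two _

theorem bb_star {l : Sg m δ} (hl : l ∈ Rat m δ) (x : Vk m δ) :
    star (mat l *ᵥ x) = mat l *ᵥ star x := by
  funext i
  simp only [Pi.star_apply, mulVec, dotProduct, star_sum, star_mul']
  refine Finset.sum_congr rfl fun j _ => ?_
  rw [← bar_apply, mem_Rat.1 hl]

theorem bb_self {x : Vk m δ} (hx : star x = x) {i : Fin m} (hi : i = i.rev) : hf x x = x i * x i := by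
  have h0 : star (x i) = x i := congrFun hx i
  have h1 : RV (x - x i • ee δ i) := by
    refine ⟨by rw [star_sub, star_smul, hx, h0, star_ee], fun k hk => ?_⟩
    have : k = i := by
      have a := congrArg Fin.val hi
      have b := congrArg Fin.val hk
      simp only [Fin.val_rev] at a b
      exact Fin.ext (by omega)
    simp [this, ee]
  have h2 := h1.mid i hi
  have h3 := h1.self
  generalize hy : x - x i • ee δ i = y at h2 h3
  rw [sub_eq_iff_eq_add] at hy
  generalize x i = c at *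
  rw [hy, hf_add_left, hf_add_right, hf_add_right, h3, hf_smul_left, hf_smul_left, hf_smul_right,
    hf_smul_right, hf_ee_left, hf_ee_left, hf_ee_right, ← hi, h2, h0]
  simp [ee]

theorem bb_row {l : Sg m δ} (hl : l ∈ Rat m δ) {i : Fin m} (h : i = i.rev) (j : Fin m) :
    mat l i j = if i = j then 1 else 0 := by
  have h1 := bb_self (x := mat l *ᵥ ee δ j) (by rw [bb_star hl, star_ee]) h
  rw [hf_mulVec, bb_col] at h1
  split_ifs with e
  · refine k_sq_one ?_
    rw [← h1, hf_ee_left, ← e, ← h, ee, Pi.single_eq_same]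
  · refine k_sq_zero ?_
    rw [← h1]
    refine (RV.ee fun b => e ?_).self
    have a := congrArg Fin.val h
    have b := congrArg Fin.val b
    simp only [Fin.val_rev] at a b
    exact Fin.ext (by omega)

theorem bb_N0 {s : Sg m δ} (hs : s ∈ Mh m δ 0) : mat s ∈ Nn m δ 0 := fun i j k => by
  have := hs i j (by omega)
  rwa [Matrix.sub_apply, one_apply_ne fun e => by rw [e] at k; omega, sub_zero] at this

theorem mem_center (hm : 6 ≤ m) {s : Sg m δ} :
    s ∈ center (Sg m δ) ↔ ∃ c : KK δ, mat s = c • (1 : Mt m δ) := by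
  refine ⟨fun hs => ?_, fun ⟨c, hc⟩ => mem_center_iff.2 fun g => mat_inj (by
    rw [mat_mul, mat_mul, hc, smul_mul_assoc, mul_smul_comm, one_mul, mul_one])⟩
  have key : ∀ {e a : Vk m δ} {c : KK δ}, Ok e a c → ∀ v,
      TM e a c *ᵥ (mat s *ᵥ v) = mat s *ᵥ (TM e a c *ᵥ v) := by
    intro e a c h v
    rw [mulVec_mulVec, mulVec_mulVec, ← mat_TS h, ← mat_mul, ← mat_mul, mem_center_iff.1 hs]
  have k1 : ∀ {e v : Vk m δ}, RV e → hf e v = 1 → ∃ l : KK δ, mat s *ᵥ e = l • e := by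
    intro e v he hv
    have := key (Ok.z he) v
    simp only [TM_mulVec, hf_zero_left, zero_add, one_mul, smul_zero, add_zero, hv, one_smul,
      mulVec_add, add_right_inj] at this
    exact ⟨_, this.symm⟩
  have e1 : ∀ i : Fin m, hf (ee δ i) (ee δ i.rev) = 1 := fun i => by
    rw [hf_ee_left, ee, Pi.single_eq_same]
  obtain ⟨i₀, h0⟩ : ∃ i : Fin m, i ≠ i.rev :=
    ⟨⟨0, by omega⟩, fun e => by have := congrArg Fin.val e; simp only [Fin.val_rev] at this; omega⟩
  obtain ⟨l, hl⟩ := k1 (RV.ee h0) (e1 i₀)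
  have k2 : ∀ i : Fin m, i ≠ i.rev → mat s *ᵥ ee δ i = l • ee δ i := by
    intro i hi
    by_cases e : i = i₀
    · rw [e, hl]
    obtain ⟨l₁, h₁⟩ := k1 (RV.ee hi) (e1 i)
    obtain ⟨l₂, h₂⟩ := k1 ((RV.ee hi).add (RV.ee h0)) (v := ee δ i.rev) (by
      rw [hf_add_left, e1, hf_ee_left, ee, Pi.single_eq_of_ne (by simpa using Ne.symm e), add_zero])
    rw [mulVec_add, h₁, hl] at h₂
    have h3 := congrFun h₂ i
    have h4 := congrFun h₂ i₀
    simp [ee, e, Ne.symm e] at h3 h4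
    rw [h₁, h3, h4]
  have k3 : ∀ i : Fin m, mat s *ᵥ ee δ i = l • ee δ i := by
    intro i
    by_cases hi : i = i.rev
    swap
    · exact k2 i hi
    have hm' : Odd m := by
      have := congrArg Fin.val hi
      simp only [Fin.val_rev] at this
      exact ⟨i, by omega⟩
    have h1 : i₀.rev ≠ i₀.rev.rev := by rw [Fin.rev_rev]; exact h0.symm
    have := key (Ok.u hm' (RV.ee h0)) (ee δ i₀.rev)
    rw [k2 _ h1, mulVec_smul, TM_mulVec, (RV.ee h1).v0_left, e1, mulVec_add (mat s),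
      mulVec_add (mat s), mulVec_smul, mulVec_smul, k2 _ h1, hl, one_smul, one_smul, smul_add,
      smul_add, smul_comm l, add_right_inj] at this
    rw [← v0_eq hi, this]
  refine ⟨l, Matrix.ext fun i j => ?_⟩
  have := congrFun (k3 j) i
  rw [bb_col] at this
  rw [this]
  simp [ee, one_apply, Pi.single_apply]

theorem center_two (hm : 6 ≤ m) {s : Sg m δ} (hs : s ∈ center (Sg m δ)) {n : ℕ} (e : s ^ 2 ^ n = 1) : s = 1 := by
  obtain ⟨c, hc⟩ := (mem_center hm).1 hs
  have h1 := congrArg mat e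
  rw [bb_pow, hc, smul_pow, one_pow, mat_one] at h1
  have h2 := congrFun (congrFun h1 ⟨0, by omega⟩) ⟨0, by omega⟩
  simp only [Matrix.smul_apply, one_apply_eq, smul_eq_mul, mul_one] at h2
  exact mat_inj (by rw [hc, k_pow_one h2, one_smul, mat_one])

theorem center_odd (hm : 6 ≤ m) : Odd (Nat.card (center (Sg m δ))) := by
  by_contra h
  obtain ⟨g, hg⟩ := exists_prime_orderOf_dvd_card' 2 (even_iff_two_dvd.1 (Nat.not_odd_iff_even.1 h))
  have h1 : (g : Sg m δ) = 1 := center_two hm g.2 (n := 1) (by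
    rw [pow_one, ← hg, ← SubgroupClass.coe_pow, pow_orderOf_eq_one, OneMemClass.coe_one])
  rw [show g = 1 from Subtype.ext h1, orderOf_one] at hg
  omega

theorem rat_mid {l : Sg m δ} (hl : l ∈ Rat m δ) {i j : Fin m} (h : i = i.rev ∨ j = j.rev) :
    mat l i j = if i = j then 1 else 0 := by
  rcases h with h | h
  · exact bb_row hl h j
  · have := bb_row (inv_mem hl) h i.rev
    rw [mat_inv, mem_Rat.1 hl, adj_apply, Fin.rev_rev, ← h] at this
    rw [this]
    refine if_congr ⟨fun e => ?_, fun e => ?_⟩ rfl rfl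
    · rw [← Fin.rev_rev i, ← e, ← h]
    · rw [e, ← h]

theorem rat_v0 {l : Sg m δ} (hl : l ∈ Rat m δ) : mat l *ᵥ v0 m δ = v0 m δ := by
  funext i
  simp only [mulVec, dotProduct, v0, mul_ite, mul_one, mul_zero]
  rw [Finset.sum_congr rfl (g := fun j => if i = j then (if j = j.rev then 1 else 0) else 0)
    fun j _ => ?_, Finset.sum_ite_eq, if_pos (Finset.mem_univ _)]
  by_cases h : j = j.rev
  · rw [if_pos h, if_pos h, rat_mid hl (Or.inr h)]
  · rw [if_neg h, if_neg h, ite_self]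

theorem RV.mulVec {l : Sg m δ} (hl : l ∈ Rat m δ) {x : Vk m δ} (hx : RV x) : RV (mat l *ᵥ x) := by
  refine ⟨by rw [bb_star hl, hx.rat], fun i hi => ?_⟩
  simp only [Matrix.mulVec, dotProduct, rat_mid hl (Or.inl hi), ite_mul, one_mul, zero_mul,
    Finset.sum_ite_eq, Finset.mem_univ, if_true]
  exact hx.mid i hi

theorem star_mulVec {l : Sg m δ} (hl : l ∈ Rat m δ) (x : Vk m δ) : star (mat l *ᵥ x) = mat l *ᵥ star x := bb_star hl x

/-- transitivity on the rational vectors -/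
theorem rat_trans {x y : Vk m δ} (hx : RV x) (hy : RV y) (x0 : x ≠ 0) (y0 : y ≠ 0) :
    ∃ l ∈ Rat m δ, mat l *ᵥ x = y := by
  have key : ∀ {x y : Vk m δ}, RV x → RV y → hf x y ≠ 0 → ∃ l ∈ Rat m δ, mat l *ᵥ x = y := by
    intro x y hx hy h
    obtain ⟨b, hb⟩ := rat_iff.1 ((star_hf x y).trans (hy.symm hx))
    have b0 : b ≠ 0 := fun e => h (by rw [hb, e, map_zero])
    have k := Ok.rv (hx.add hy) RV.zero (hf_zero_right _) b⁻¹
    refine ⟨_, TS_rat k (hx.add hy).rat (star_zero _) (star_rt _), ?_⟩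
    rw [mat_TS k, TM_mulVec, hf_zero_left, hf_add_left, hx.self, hy.symm hx, hb, zero_add, zero_add,
      ← map_mul, inv_mul_cancel₀ b0, map_one, one_smul, smul_zero, add_zero, ← add_assoc,
      show x + x = 0 from funext fun i => k_two _, zero_add]
  obtain ⟨f, hf', h1, h2⟩ : ∃ f : Vk m δ, RV f ∧ hf f x ≠ 0 ∧ hf f y ≠ 0 := by
    obtain ⟨i, hi⟩ := Function.ne_iff.1 x0
    obtain ⟨j, hj⟩ := Function.ne_iff.1 y0
    have ri : RV (ee δ i.rev) := RV.ee fun e => hi (hx.mid i (Fin.rev_injective e))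
    have rj : RV (ee δ j.rev) := RV.ee fun e => hj (hy.mid j (Fin.rev_injective e))
    by_cases a : y i = 0
    · by_cases b : x j = 0
      · refine ⟨_, ri.add rj, ?_, ?_⟩
        · rwa [hf_add_left, hf_ee_left, hf_ee_left, Fin.rev_rev, Fin.rev_rev, b, add_zero]
        · rwa [hf_add_left, hf_ee_left, hf_ee_left, Fin.rev_rev, Fin.rev_rev, a, zero_add]
      · exact ⟨_, rj, by rwa [hf_ee_left, Fin.rev_rev], by rwa [hf_ee_left, Fin.rev_rev]⟩
    · exact ⟨_, ri, by rwa [hf_ee_left, Fin.rev_rev], by rwa [hf_ee_left, Fin.rev_rev]⟩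
  obtain ⟨l, hl, e1⟩ := key hx hf' (by rwa [hx.symm hf'])
  obtain ⟨l', hl', e2⟩ := key hf' hy h2
  exact ⟨l' * l, mul_mem hl' hl, by rw [mat_mul, ← mulVec_mulVec, e1, e2]⟩

/-- permutation matrices -/
theorem exists_perm (π : Equiv.Perm (Fin m)) (hπ : ∀ i, π i.rev = (π i).rev) :
    ∃ l ∈ Rat m δ, ∀ i, mat l *ᵥ ee δ i = ee δ (π i) := by
  obtain ⟨a, ha, hd⟩ : ∃ a : Mt m δ, (∀ i j, a i j = if i = π j then 1 else 0) ∧ a.det = 1 := by
    refine ⟨(π⁻¹).permMatrix (KK δ), fun i j => ?_, ?_⟩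
    · simp only [Equiv.Perm.permMatrix, PEquiv.toMatrix_apply, Equiv.toPEquiv_apply,
        Option.mem_def, Option.some.injEq, Equiv.Perm.inv_eq_iff_eq]
    · rw [det_permutation]
      rcases Int.units_eq_one_or (Equiv.Perm.sign π⁻¹) with e | e <;> simp [e, CharTwo.neg_eq]
  have hb : bar a = a := Matrix.ext fun i j => by rw [bar_apply, ha]; split_ifs <;> simp
  have hu : adj a * bar a = 1 := by
    refine Matrix.ext fun i j => ?_
    simp only [hb, mul_apply, adj_apply, ha, mul_ite, mul_one, mul_zero, Finset.sum_ite_eq',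
      Finset.mem_univ, if_true, one_apply, hπ, Fin.rev_inj, EmbeddingLike.apply_eq_iff_eq, eq_comm]
  refine ⟨toS a, mem_Rat.2 (by rw [mat_toS hd hu, hb]), fun i => funext fun j => ?_⟩
  rw [bb_col, mat_toS hd hu, ha, ee, Pi.single_apply]

theorem Mh_anti {h h' : ℕ} (e : h ≤ h') : Mh m δ h' ≤ Mh m δ h := fun _ hs => Nn_anti (Nat.succ_le_succ e) hs

theorem Mh_top : Mh m δ (m - 1) = ⊥ := by
  refine eq_bot_iff.2 fun s hs => mem_bot.2 (mat_inj ?_)
  rw [mat_one, ← sub_eq_zero]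
  exact Matrix.ext fun i j => hs i j (by have := j.2; omega)

theorem Mh_comm {h h' : ℕ} {s s' : Sg m δ} (hs : s ∈ Mh m δ h) (hs' : s' ∈ Mh m δ h') :
    s * s' * s⁻¹ * s'⁻¹ ∈ Mh m δ (h + h' + 1) := by
  have h0 := bb_N0 (mul_mem (inv_mem (Mh_anti (Nat.zero_le _) hs)) (inv_mem (Mh_anti (Nat.zero_le _) hs')))
  have e1 : mat (s' * s) * mat (s⁻¹ * s'⁻¹) = 1 := by
    rw [← mat_mul, ← mat_one]; congr 1; group
  change mat _ - 1 ∈ Nn m δ (h + h' + 1 + 1)
  rw [mul_assoc (s * s'), mat_mul, ← e1, ← sub_mul, mat_mul s, mat_mul s',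
    show mat s * mat s' - mat s' * mat s = (mat s - 1) * (mat s' - 1) - (mat s' - 1) * (mat s - 1) by
      noncomm_ring]
  exact Nn_mul (h' := 0) (sub_mem (Nn_anti (by omega) (Nn_mul hs hs'))
    (Nn_anti (by omega) (Nn_mul hs' hs))) h0

theorem Mh_sq {h : ℕ} {s : Sg m δ} (hs : s ∈ Mh m δ h) : s * s ∈ Mh m δ (h + 1) := by
  change mat s * mat s - 1 ∈ Nn m δ (h + 1 + 1)
  rw [show mat s * mat s - 1 = (mat s - 1) * (mat s - 1) + ((mat s - 1) + (mat s - 1)) by noncomm_ring,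
    bb_two, add_zero]
  exact Nn_anti (by omega) (Nn_mul hs hs)

theorem Mh_pow {s : Sg m δ} (hs : s ∈ Mh m δ 0) : s ^ 2 ^ m = 1 := by
  have key : ∀ k, s ^ 2 ^ k ∈ Mh m δ k := by
    intro k
    induction k with
    | zero => simpa using hs
    | succ k ih => rw [pow_succ, pow_mul, pow_two]; exact Mh_sq ih
  exact mem_bot.1 ((Mh_top (m := m) (δ := δ)).le (Mh_anti (Nat.sub_le m 1) (key m)))

theorem Mh_pg : IsPGroup 2 (Mh m δ 0) := fun g => ⟨m, Subtype.ext (Mh_pow g.2)⟩

/-- congruence modulo `Mh h` -/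
theorem Mh_iff {h : ℕ} {s s' : Sg m δ} (hs' : s' ∈ Mh m δ 0) :
    s * s'⁻¹ ∈ Mh m δ h ↔ mat s - mat s' ∈ Nn m δ (h + 1) := by
  change mat (s * s'⁻¹) - 1 ∈ Nn m δ (h + 1) ↔ _
  refine ⟨fun k => ?_, fun k => ?_⟩
  · have := Nn_mul k (bb_N0 hs')
    rwa [sub_mul, one_mul, ← mat_mul, inv_mul_cancel_right] at this
  · have := Nn_mul k (bb_N0 (inv_mem hs'))
    rwa [sub_mul, ← mat_mul, ← mat_mul, mul_inv_cancel, mat_one] at this

/-- the leading term is hermitian -/
theorem lead_herm {h : ℕ} {s : Sg m δ} (hs : s ∈ Mh m δ h) :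
    adj (mat s - 1) - bar (mat s - 1) ∈ Nn m δ (h + 2) := by
  have e1 : adj (mat s - 1) = adj (mat s) - 1 := by nth_rewrite 2 [← adj_one]; rfl
  have e2 : bar (mat s - 1) = bar (mat s) - 1 := by
    nth_rewrite 2 [← bar_one]
    exact Matrix.ext fun i j => star_sub _ _
  have e3 : adj (mat s - 1) - bar (mat s - 1) = -(adj (mat s - 1) * bar (mat s - 1)) := by
    have := bb_two (bar (mat s) - 1)
    rw [e1, e2, sub_mul, mul_sub, mat_unit]
    rw [← sub_eq_zero, ← neg_eq_zero, ← this]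
    noncomm_ring
  rw [e3]
  exact neg_mem (Nn_anti (by omega) (Nn_mul (Nn_adj hs) (Nn_bar hs)))

/-- every hermitian matrix is a leading term: `s = (1 + ω̄ n)⁻¹ (1 + ω n)` -/
theorem exists_lead {h : ℕ} {n : Mt m δ} (hn : n ∈ Nn m δ (h + 1)) (e : adj n = bar n) :
    ∃ s ∈ Mh m δ h, mat s - 1 - n ∈ Nn m δ (h + 2) := by
  have tri : ∀ c : KK δ, (1 + c • n).BlockTriangular id := fun c i j k => by
    have k' : (j : ℕ) < i := k
    rw [Matrix.add_apply, Matrix.smul_apply, hn i j (by omega), smul_zero, add_zero,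
      one_apply_ne fun e => by rw [e] at k'; omega]
  have det : ∀ c : KK δ, (1 + c • n).det = 1 := fun c => by
    rw [det_of_isUpperTriangular (tri c)]
    refine Finset.prod_eq_one fun i _ => ?_
    rw [Matrix.add_apply, Matrix.smul_apply, hn i i (by omega), smul_zero, add_zero, one_apply_eq]
  have ad : ∀ c : KK δ, adj (1 + c • n) = 1 + c • bar n := fun c => by
    rw [← e]; nth_rewrite 2 [← adj_one]; rfl
  have ba : ∀ c : KK δ, bar (1 + c • n) = 1 + star c • bar n := fun c => by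
    nth_rewrite 2 [← bar_one]
    exact Matrix.ext fun i j => by simp [bar_apply]
  obtain ⟨C, c0, c1, c2⟩ : ∃ C ∈ Nn m δ 0, C * (1 + star (om δ) • n) = 1 ∧
      (1 + star (om δ) • n) * C = 1 := by
    have hu : IsUnit (1 + star (om δ) • n).det := by rw [det]; exact isUnit_one
    have := invertibleOfIsUnitDet _ hu
    exact ⟨_, fun i j k => blockTriangular_inv_of_blockTriangular (tri _) (show j < i from k),
      nonsing_inv_mul _ hu, mul_nonsing_inv _ hu⟩
  have d1 : (C * (1 + om δ • n)).det = 1 := by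
    have := congrArg Matrix.det c1
    rw [det_mul, det, det_one] at this
    rw [det_mul, det, this]
  have u1 : adj (C * (1 + om δ • n)) * bar (C * (1 + om δ • n)) = 1 := by
    have x1 := congrArg adj c1
    have x2 := congrArg adj c2
    have y2 := congrArg bar c2
    rw [adj_mul, adj_one, ad] at x1 x2
    rw [bar_mul, bar_one, ba, star_star] at y2
    have cm : (1 + star (om δ) • bar n) * (1 + om δ • bar n) =
        (1 + om δ • bar n) * (1 + star (om δ) • bar n) := by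
      simp only [mul_add, add_mul, one_mul, mul_one, smul_mul_assoc, mul_smul_comm, smul_add]
      rw [smul_comm (om δ)]; abel
    rw [adj_mul, bar_mul, ad, ba]
    generalize 1 + star (om δ) • bar n = X at *
    generalize 1 + om δ • bar n = Y at *
    have cm' : Y * adj C = adj C * Y := by
      rw [← one_mul (Y * adj C), ← x2, mul_assoc, ← mul_assoc X, cm, mul_assoc Y, x1, mul_one]
    rw [cm', mul_assoc, ← mul_assoc Y, y2, one_mul, x2]
  have k1 : C * (1 + om δ • n) - 1 - n ∈ Nn m δ (h + 2) := by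
    have e1 : C * (1 + om δ • n) - 1 - n = C * (-(star (om δ) • (n * n))) := by
      have e2 : 1 + om δ • n = (1 + star (om δ) • n) * (1 + n) - star (om δ) • (n * n) := by
        have := bb_two n
        rw [star_om, add_smul, one_smul, ← sub_eq_zero, ← neg_eq_zero, ← this]
        simp only [mul_add, add_mul, one_mul, mul_one, smul_mul_assoc, add_smul, one_smul]
        abel
      rw [e2, mul_sub, ← mul_assoc, c1, one_mul, mul_neg]
      abel
    rw [e1]
    exact Nn_anti (by omega) (Nn_mul c0 (neg_mem (Submodule.smul_mem _ _ (Nn_mul hn hn))))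
  refine ⟨toS (C * (1 + om δ • n)), ?_, by rwa [mat_toS d1 u1]⟩
  change mat _ - 1 ∈ Nn m δ (h + 1)
  rw [mat_toS d1 u1, ← sub_add_cancel (C * (1 + om δ • n) - 1) n]
  exact add_mem (Nn_anti (by omega) k1) hn

theorem mem_U1 {s : Sg m δ} : s ∈ U1 m δ ↔ s ∈ Mh m δ 0 ∧ s * (sb s)⁻¹ ∈ Mh m δ (m - 2) := by
  refine ⟨fun hs => ?_, fun hs => subset_closure hs⟩
  have cj : ∀ a ∈ Mh m δ 0, ∀ b ∈ Mh m δ (m - 2), a * b * a⁻¹ ∈ Mh m δ (m - 2) := fun a ha b hb => by
    have := mul_mem (Mh_anti (show m - 2 ≤ 0 + (m - 2) + 1 by omega) (Mh_comm ha hb)) hb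
    rwa [inv_mul_cancel_right] at this
  induction hs using closure_induction with
  | mem x hx => exact hx
  | one => exact ⟨one_mem _, by simp⟩
  | mul a b _ _ ha hb =>
    refine ⟨mul_mem ha.1 hb.1, ?_⟩
    have := mul_mem (cj _ ha.1 _ hb.2) ha.2
    rwa [show a * (b * (sb b)⁻¹) * a⁻¹ * (a * (sb a)⁻¹) = a * b * (sb (a * b))⁻¹ by
      rw [map_mul]; group] at this
  | inv a _ ha =>
    refine ⟨inv_mem ha.1, ?_⟩
    have := cj _ (inv_mem ha.1) _ (inv_mem ha.2)
    rwa [show a⁻¹ * (a * (sb a)⁻¹)⁻¹ * a⁻¹⁻¹ = a⁻¹ * (sb a⁻¹)⁻¹ by rw [map_inv]; group] at this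

/-- for even `m` the matrix `u⁻¹ ū` has zero antidiagonal -/
theorem anti_even (hm : Even m) (u : Sg m δ) (i : Fin m) : mat (u⁻¹ * sb u) i i.rev = 0 := by
  rw [mat_mul, mat_inv, mat_sb, mul_apply]
  refine Finset.sum_involution (fun k _ => k.rev) (fun k _ => ?_) (fun k _ _ e => ?_)
    (fun _ _ => Finset.mem_univ _) fun k _ => Fin.rev_rev k
  · rw [adj_apply, adj_apply, Fin.rev_rev, mul_comm, k_two]
  · obtain ⟨r, hr⟩ := hm
    have := congrArg Fin.val e
    have := k.2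
    simp only [Fin.val_rev] at *
    omega

theorem U1_even (hm : Even m) : U1 m δ ≤ Mh m δ 0 ⊓ Rat m δ := by
  intro s hs
  obtain ⟨h1, h2⟩ := mem_U1.1 hs
  refine mem_inf.2 ⟨h1, ?_⟩
  have e1 : (s * (sb s)⁻¹)⁻¹ = ((sb s)⁻¹)⁻¹ * sb (sb s)⁻¹ := by rw [map_inv, sb_sb]; group
  have e2 : (s * (sb s)⁻¹)⁻¹ = 1 := by
    refine mat_inj (Matrix.ext fun i j => ?_)
    obtain ⟨r, hr⟩ := id hm
    have := i.2
    have := j.2
    by_cases k : (j : ℕ) < i + (m - 2 + 1)
    · exact sub_eq_zero.1 (inv_mem h2 i j k)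
    · have e3 : j = i.rev := Fin.ext (by simp only [Fin.val_rev]; omega)
      rw [mat_one, one_apply_ne fun e => by have := congrArg Fin.val e; omega, e3, e1, anti_even hm]
  exact (mul_inv_eq_one.1 (inv_eq_one.1 e2)).symm

end CfsgLib.SPC.BC
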