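import Cfsg.Agent.Lib.SPC.BBas

/-! The kernel of `ψ` -/

set_option autoImplicit false
set_option linter.unusedSectionVars false

namespace CfsgLib.SPC.BC

open Subgroup Module Matrix CfsgLib.UFP
open scoped commutatorElement Pointwise

universe u

variable {F : Type} [Field F] [Finite F] [CharP F 2] {m : ℕ} {δ : F} {G : Type u} [Group G] [Finite G]

theorem bb2_elt (hm : 6 ≤ m) : ∃ i j : Fin m, (j : ℕ) = i + 1 ∧
    ∀ ξ : KK δ, ∃ s ∈ Mh m δ 0, mat s i j = ξ := by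
  obtain ⟨i, hi⟩ : ∃ i : Fin m, (i : ℕ) = 0 := ⟨⟨0, by omega⟩, rfl⟩
  obtain ⟨j, hj⟩ : ∃ j : Fin m, (j : ℕ) = 1 := ⟨⟨1, by omega⟩, rfl⟩
  have n1 : i ≠ i.rev := fun e => by have := congrArg Fin.val e; simp only [Fin.val_rev] at this; omega
  have n2 : j ≠ j.rev := fun e => by have := congrArg Fin.val e; simp only [Fin.val_rev] at this; omega
  have n3 : i ≠ j := fun e => by rw [e] at hi; omega
  have n4 : i ≠ j.rev := fun e => by have := congrArg Fin.val e; simp only [Fin.val_rev] at this; omega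
  have n5 : i.rev ≠ j := fun e => n4 (by rw [← e, Fin.rev_rev])
  refine ⟨i, j, by omega, fun ξ => ?_⟩
  have k : Ok (ee δ i) (star ξ • ee δ j.rev) 0 := by
    refine ⟨(RV.ee n1).self, ?_, ?_⟩
    · rw [hf_ee_left]; simp [ee, n3]
    · rw [hf_smul_left, hf_ee_left]; simp [ee, n2]
  refine ⟨_, TS_mem k (fun l hl => ?_) fun _ => rfl, ?_⟩
  · have : l ≠ j.rev := fun e => by rw [e, Fin.rev_rev] at hl; omega
    simp [ee, this]
  · refine (bb_col _ i j).symm.trans ?_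
    rw [mat_TS k, TM_mulVec, hf_smul_left, hf_ee_left, hf_ee_left]
    simp [ee, n3, n5]

namespace MM

variable {ψ : Sg m δ →* G} {t : G} (h : MM ψ t)
include h

theorem inj2 {s s' : Sg m δ} {n n' : ℕ} (e : ψ s = ψ s') (h1 : s ^ 2 ^ n = 1) (h2 : s' ^ 2 ^ n' = 1) :
    s = s' := by
  have hc : s'⁻¹ * s ∈ center (Sg m δ) := h.ker (by rw [MonoidHom.mem_ker, map_mul, map_inv, e, inv_mul_cancel])
  have c : Commute s' (s'⁻¹ * s) := mem_center_iff.1 hc s'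
  have e1 := c.mul_pow (2 ^ (n + n'))
  rw [mul_inv_cancel_left, pow_add, pow_mul, h1, one_pow, mul_comm (2 ^ n), pow_mul s', h2, one_pow,
    one_mul, ← pow_add] at e1
  exact (inv_mul_eq_one.1 (center_two h.m6 hc e1.symm)).symm

theorem mem_Mh {k n : ℕ} {s : Sg m δ} (hs : s ^ 2 ^ n = 1) : ψ s ∈ (Mh m δ k).map ψ ↔ s ∈ Mh m δ k := by
  refine ⟨?_, fun k => ⟨s, k, rfl⟩⟩
  rintro ⟨s', h1, h2⟩
  rwa [← h.inj2 h2 (Mh_pow (Mh_anti (Nat.zero_le _) h1)) hs]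

/-- commuting with a 2-element -/
theorem comm2 {s l : Sg m δ} {n : ℕ} (hs : s ^ 2 ^ n = 1) (e : ψ l * ψ s = ψ s * ψ l) : l * s = s * l := by
  refine mul_inv_eq_iff_eq_mul.1 (h.inj2 (n := n) ?_ ?_ hs)
  · rw [map_mul, map_mul, e, map_inv, mul_inv_cancel_right]
  · rw [conj_pow, hs, mul_one, mul_inv_cancel]

theorem exists_two {g : G} (hg : g ∈ ψ.range) (hp : IsPGroup 2 (zpowers g)) :
    ∃ s n, ψ s = g ∧ s ^ 2 ^ n = 1 := by
  obtain ⟨s, rfl⟩ := hg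
  obtain ⟨k, hk⟩ := hp ⟨_, mem_zpowers _⟩
  have hk' : ψ s ^ 2 ^ k = 1 := congrArg Subtype.val hk
  obtain ⟨a, b, hb, e⟩ := Nat.exists_eq_two_pow_mul_odd (orderOf_pos s).ne'
  obtain ⟨c, hc⟩ := exists_pow_eq_self_of_coprime (x := ψ s) (n := b)
    ((Nat.Coprime.pow_right k (Nat.coprime_two_right.2 hb)).coprime_dvd_right
      (orderOf_dvd_of_pow_eq_one hk'))
  refine ⟨(s ^ b) ^ c, a, by rw [map_pow, map_pow, hc], ?_⟩
  rw [← pow_mul, mul_comm c, pow_mul, ← pow_mul s, mul_comm b, ← e, pow_orderOf_eq_one, one_pow]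

theorem rat_t {l : Sg m δ} (hl : l ∈ Rat m δ) : ψ l * t = t * ψ l := by
  have := h.tc l
  rw [show sb l = l from hl] at this
  exact (mul_inv_eq_iff_eq_mul.1 this).symm

theorem act {g : G} (hg : g * t = t * g) :
    ∃ l ∈ Rat m δ, ∃ a, ∀ s, g * ψ s * g⁻¹ = ψ (l * mp a s * l⁻¹) := by
  obtain ⟨l, hl, a, ha⟩ := h.ct g hg
  refine ⟨l, hl, a, fun s => ?_⟩
  rw [map_mul, map_mul, ← ha s, map_inv]
  group

theorem cent_le : centralizer {t} ≤ normalizer (ψ.range : Set G) := by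
  intro g hg
  obtain ⟨l, -, a, ha⟩ := h.act (mem_centralizer_singleton_iff.1 hg)
  refine mem_normalizer_fintype ?_
  rintro _ ⟨s, rfl⟩
  exact ⟨_, (ha s).symm⟩

theorem ac_unique {g : G} {a b : Fa δ} (h1 : Ac ψ g a) (h2 : Ac ψ g b) : a = b := by
  refine Subtype.ext (RingEquiv.ext fun ξ => ?_)
  obtain ⟨i, j, -, k⟩ := bb2_elt (δ := δ) h.m6
  obtain ⟨s, hs, e⟩ := k ξ
  have p : ∀ c : Fa δ, mp c s ^ 2 ^ m = 1 := fun c => Mh_pow (mp_Mh c hs)
  have := congrArg (fun x => mat x i j) (h.inj2 ((h1 s).symm.trans (h2 s)) (p a) (p b))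
  simpa only [mat_mp, map_apply, e] using this

theorem t_not_mem : t ∉ Uh ψ := by
  rintro ⟨u, hu, rfl⟩
  obtain ⟨i, j, hij, k⟩ := bb2_elt (δ := δ) h.m6
  obtain ⟨s, hs, e⟩ := k (om δ)
  have e1 : u * s * u⁻¹ = sb s := h.inj2 (by rw [← h.tc, map_mul, map_mul, map_inv])
    (Mh_pow (mul_mem (mul_mem hu hs) (inv_mem hu))) (Mh_pow (mp_Mh _ hs))
  have e2 := Mh_comm hu hs
  rw [e1, Mh_iff hs] at e2
  have e3 := e2 i j (by omega)
  rw [Matrix.sub_apply, mat_sb, bar_apply, e, star_om, add_sub_cancel_left] at e3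
  exact one_ne_zero (rt_inj (δ := δ) (c := 1) (d := 0) (by rw [map_one, map_zero, e3]))

theorem bb2_conj (s : Sg m δ) : ψ s * t * (ψ s)⁻¹ = t * ψ (sb s * s⁻¹) := by
  rw [map_mul, ← h.tc, map_inv, ← mul_assoc, ← mul_assoc, ← mul_assoc, h.t2, one_mul,
    inv_eq_of_mul_eq_one_right h.t2]

/-- `û(d) t û(d)⁻¹ = t z_d` -/
theorem hat_u (hm : Odd m) {d : Vk m δ} (hd : RV d) :
    ψ (TS d (v0 m δ) (om δ)) * t * (ψ (TS d (v0 m δ) (om δ)))⁻¹ = t * ψ (TS d 0 1) := by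
  have k := Ok.u hm hd
  rw [h.bb2_conj, sb_TS k, TS_inv k, hd.rat, star_v0, TS_mul k.inv k.inv, hf_v0 hm, k_two, zero_add,
    show v0 m δ + v0 m δ = 0 from funext fun _ => k_two _]

theorem hat_w {e a : Vk m δ} (he : RV e) (ha : RV a) (k : hf e a = 0) :
    ψ (TS e (om δ • a) 0) * t * (ψ (TS e (om δ • a) 0))⁻¹ = t * ψ (TS e a 0) := by
  have k1 := Ok.w he ha k
  have k2 : Ok e (star (om δ) • a) 0 := by
    have := k1.map (bA δ)
    have e1 : (bA δ).1 ∘ e = e := he.rat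
    have e2 : (bA δ).1 ∘ (om δ • a) = star (om δ) • a := by
      change star (om δ • a) = _
      rw [star_smul, ha.rat]
    rwa [e1, e2, map_zero] at this
  rw [h.bb2_conj, sb_TS k1, TS_inv k1, he.rat, star_smul, ha.rat, star_zero, TS_mul k2 k1,
    hf_smul_left, hf_smul_right, ha.self, mul_zero, mul_zero, add_zero, add_zero, ← add_smul, star_om,
    add_right_comm, k_two, zero_add, one_smul]

end MM

end CfsgLib.SPC.BC
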