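import Cfsg.Agent.Lib.SPC.BBas2

/-! The chain and the involutions of `Û t` -/

set_option autoImplicit false
set_option linter.unusedSectionVars false

namespace CfsgLib.SPC.BC

open Subgroup Module Matrix CfsgLib.UFP
open scoped commutatorElement Pointwise

universe u

variable {F : Type} [Field F] [Finite F] [CharP F 2] {m : ℕ} {δ : F} {G : Type u} [Group G] [Finite G]

/-- `n` is the leading term of `s ∈ Mh h` -/
structure BchnLd (h : ℕ) (s : Sg m δ) (n : Mt m δ) : Prop where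
  mem : s ∈ Mh m δ h
  ld : mat s - 1 - n ∈ Nn m δ (h + 2)

theorem bchn_two (n : Mt m δ) : n + n = 0 := by
  ext1 i j
  exact k_two _

theorem BchnLd.self {h : ℕ} {s : Sg m δ} (hs : s ∈ Mh m δ h) : BchnLd h s (mat s - 1) :=
  ⟨hs, by rw [sub_self]; exact zero_mem _⟩

theorem BchnLd.mul {h : ℕ} {s s' : Sg m δ} {n n' : Mt m δ} (k : BchnLd h s n) (k' : BchnLd h s' n') :
    BchnLd h (s * s') (n + n') := by
  refine ⟨mul_mem k.mem k'.mem, ?_⟩
  rw [mat_mul, show mat s * mat s' - 1 - (n + n') =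
    (mat s - 1) * (mat s' - 1) + (mat s - 1 - n) + (mat s' - 1 - n') by noncomm_ring]
  exact add_mem (add_mem (Nn_anti (by omega) (Nn_mul k.mem k'.mem)) k.ld) k'.ld

theorem BchnLd.inv {h : ℕ} {s : Sg m δ} {n : Mt m δ} (k : BchnLd h s n) : BchnLd h s⁻¹ n := by
  refine ⟨inv_mem k.mem, ?_⟩
  have := (k.mul (BchnLd.self (inv_mem k.mem))).ld
  rw [mul_inv_cancel, mat_one, sub_self, zero_sub, neg_mem_iff] at this
  rwa [show mat s⁻¹ - 1 - n = n + (mat s⁻¹ - 1) - (n + n) by abel, bchn_two, sub_zero]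

theorem BchnLd.map {h : ℕ} {s : Sg m δ} {n : Mt m δ} (k : BchnLd h s n) (a : Fa δ) :
    BchnLd h (mp a s) (n.map a.1) := by
  refine ⟨mp_Mh a k.mem, fun i j e => ?_⟩
  have := congrArg a.1 (k.ld i j e)
  simpa only [Matrix.sub_apply, map_sub, map_zero, one_apply, apply_ite a.1, map_one, mat_mp,
    map_apply] using this

theorem BchnLd.sb {h : ℕ} {s : Sg m δ} {n : Mt m δ} (k : BchnLd h s n) : BchnLd h (sb s) (bar n) :=
  k.map (bA δ)

theorem BchnLd.iff {h : ℕ} {s : Sg m δ} {n : Mt m δ} (k : BchnLd h s n) :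
    s ∈ Mh m δ (h + 1) ↔ n ∈ Nn m δ (h + 2) := by
  change mat s - 1 ∈ Nn m δ (h + 2) ↔ _
  refine ⟨fun e => ?_, fun e => ?_⟩
  · simpa using sub_mem e k.ld
  · simpa using add_mem k.ld e

theorem BchnLd.zero {h : ℕ} {s : Sg m δ} {n : Mt m δ} (k : BchnLd h s n) (e : n = 0) :
    s ∈ Mh m δ (h + 1) := k.iff.2 (e ▸ zero_mem _)

/-- matrices of height exactly `h + 1` -/
def BchnPure (h : ℕ) (n : Mt m δ) : Prop := ∀ i j : Fin m, (j : ℕ) ≠ i + (h + 1) → n i j = 0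

theorem BchnPure.mem {h : ℕ} {n : Mt m δ} (p : BchnPure h n) : n ∈ Nn m δ (h + 1) :=
  fun i j e => p i j e.ne

theorem BchnPure.fix {h : ℕ} {n : Mt m δ} (p : BchnPure h n) (a : Fa δ)
    (e : n.map a.1 + n ∈ Nn m δ (h + 2)) : n.map a.1 = n := by
  ext1 i j
  by_cases k : (j : ℕ) = i + (h + 1)
  · have := e i j (by omega)
    rw [Matrix.add_apply] at this
    linear_combination this - k_two (n i j)
  · rw [map_apply, p i j k, map_zero]

theorem bchn_n0 {h : ℕ} {s : Sg m δ} (hs : s ∈ Mh m δ h) :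
    ∃ n, BchnLd h s n ∧ BchnPure h n ∧ adj n = bar n := by
  refine ⟨of fun i j => if (j : ℕ) = i + (h + 1) then (mat s - 1) i j else 0, ⟨hs, fun i j e => ?_⟩,
    fun i j e => if_neg e, ?_⟩
  · rw [Matrix.sub_apply, of_apply]
    split_ifs with k
    · exact sub_self _
    · rw [hs i j (by omega), sub_zero]
  · ext1 i j
    have := i.2
    have := j.2
    rw [adj_apply, bar_apply, of_apply, of_apply]
    by_cases k : (j : ℕ) = i + (h + 1)
    · rw [if_pos k, if_pos (by simp only [Fin.val_rev]; omega)]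
      exact sub_eq_zero.1 (lead_herm hs i j (by omega))
    · rw [if_neg k, if_neg (by simp only [Fin.val_rev]; omega), star_zero]

theorem bchn_lead {h : ℕ} {n : Mt m δ} (hn : n ∈ Nn m δ (h + 1)) (e : adj n = bar n) :
    ∃ s, BchnLd h s n := by
  obtain ⟨s, h1, h2⟩ := exists_lead hn e
  exact ⟨s, h1, h2⟩

theorem bchn_free {h : ℕ} {s : Sg m δ} {a : Fa δ} {c : F} (hc : rt δ c + a.1 (rt δ c) = 1)
    (hs : s ∈ Mh m δ h) (e : mp a s * s⁻¹ ∈ Mh m δ (h + 1)) :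
    ∃ y ∈ Mh m δ h, s * (mp a y * y⁻¹) ∈ Mh m δ (h + 1) := by
  obtain ⟨n, k, p, hn⟩ := bchn_n0 hs
  have f := p.fix a (((k.map a).mul k.inv).iff.1 e)
  obtain ⟨y, ky⟩ := bchn_lead (Submodule.smul_mem _ (rt δ c) p.mem) (by
    ext1 i j
    have := congrFun (congrFun hn i) j
    rw [adj_apply, bar_apply] at this ⊢
    rw [Matrix.smul_apply, Matrix.smul_apply, this, smul_eq_mul, smul_eq_mul, star_mul', star_rt])
  refine ⟨y, ky.mem, (k.mul ((ky.map a).mul ky.inv)).zero ?_⟩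
  ext1 i j
  have := congrFun (congrFun f i) j
  simp only [map_apply, Matrix.add_apply, Matrix.smul_apply, smul_eq_mul, map_mul, Matrix.zero_apply]
    at this ⊢
  rw [this]
  linear_combination n i j * hc + k_two (n i j)

/-- a hermitian matrix whose trace is the part of `A` off the antidiagonal -/
def bchnY (A : Mt m δ) : Mt m δ :=
  of fun i j => if i < j.rev then om δ * A i j else if j.rev < i then star (om δ) * A i j else 0

theorem bchnY_zero {A : Mt m δ} {i j : Fin m} (e : A i j = 0) : bchnY A i j = 0 := by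
  simp only [bchnY, of_apply, e, mul_zero, ite_self]

theorem bchnY_herm {A : Mt m δ} (h1 : bar A = A) (h2 : adj A = A) : adj (bchnY A) = bar (bchnY A) := by
  ext1 i j
  have e1 : star (A i j) = A i j := congrFun (congrFun h1 i) j
  have e2 : A j.rev i.rev = A i j := congrFun (congrFun h2 i) j
  simp only [adj_apply, bar_apply, bchnY, of_apply, Fin.rev_rev, e2]
  rcases lt_trichotomy i j.rev with k | k | k
  · rw [if_pos k, if_neg k.not_gt, if_pos k, star_mul', e1]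
  · rw [if_neg k.not_gt, if_neg k.not_lt, if_neg k.not_lt, if_neg k.not_gt, star_zero]
  · rw [if_pos k, if_neg k.not_gt, if_pos k, star_mul', e1, star_star]

theorem bchnY_tr {A : Mt m δ} (h1 : bar A = A) (i j : Fin m) :
    A i j + bchnY A i j + star (bchnY A i j) = if j = i.rev then A i j else 0 := by
  have e1 : star (A i j) = A i j := congrFun (congrFun h1 i) j
  have e2 : j = i.rev ↔ i = j.rev := ⟨fun e => by rw [e, Fin.rev_rev], fun e => by rw [e, Fin.rev_rev]⟩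
  simp only [bchnY, of_apply, e2]
  rcases lt_trichotomy i j.rev with k | k | k
  · rw [if_pos k, if_neg k.ne, star_mul', e1, star_om]
    linear_combination k_two (A i j) + k_two (om δ * A i j)
  · rw [if_neg k.not_lt, if_neg k.not_gt, if_pos k, star_zero, add_zero, add_zero]
  · rw [if_neg k.not_gt, if_pos k, if_neg k.ne', star_mul', e1, star_star, star_om]
    linear_combination k_two (A i j) + k_two (om δ * A i j)

theorem bchn_sqrt {n : Mt m δ} (hn : bar n = n) :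
    ∃ d : Vk m δ, star d = d ∧ (∀ i, d i * d i = n i i.rev) ∧ ∀ i, n i i.rev = 0 → d i = 0 := by
  have : ∀ i : Fin m, ∃ y : KK δ, star y = y ∧ y * y = n i i.rev := fun i => by
    obtain ⟨c, hc⟩ := rat_iff.1 (congrFun (congrFun hn i) i.rev)
    obtain ⟨r, rfl⟩ := FiniteField.isSquare_of_char_two (ringChar.eq F 2) c
    exact ⟨rt δ r, star_rt r, by rw [hc, map_mul]⟩
  choose d h1 h2 using this
  exact ⟨d, funext h1, h2, fun i e => k_sq_zero ((h2 i).trans e)⟩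

theorem bchn_matz {d : Vk m δ} (hd : RV d) : mat (TS d 0 1) = 1 + ou d d := by
  rw [mat_TS (Ok.z hd), TM, bk2_ou_zero_left, bk2_ou_zero_right, add_zero, add_zero, one_smul]

theorem bchn_ou {d : Vk m δ} (hd : RV d) (i j : Fin m) : ou d d i j = d i * d j.rev := by
  rw [ou, of_apply, hd.bk2_at]

theorem bchn_zrat {d : Vk m δ} (hd : RV d) : TS d 0 1 ∈ Rat m δ :=
  TS_rat (Ok.z hd) hd.rat (star_zero _) (star_one _)

/-- matrices supported on the upper right block -/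
def BchnT (n : Mt m δ) : Prop := ∀ i j : Fin m, i.rev ≤ i ∨ j ≤ j.rev → n i j = 0

theorem BchnT.mul {a b : Mt m δ} (ha : BchnT a) (hb : BchnT b) : a * b = 0 := by
  ext1 i j
  rw [mul_apply]
  refine Finset.sum_eq_zero fun l _ => ?_
  rcases le_total l l.rev with e | e
  · rw [ha i l (.inr e), zero_mul]
  · rw [hb l j (.inl e), mul_zero]

theorem BchnT.mem {a : Mt m δ} (ha : BchnT a) : a ∈ Nn m δ (0 + 1) := fun i j e => ha i j (by
  have := i.2
  have := j.2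
  simp only [Fin.le_def, Fin.val_rev]
  omega)

theorem bchn_T {n : Mt m δ} (h1 : n ∈ Nn m δ (0 + 1)) (h2 : ∀ i j, j ≠ i.rev → n i j = 0) : BchnT n := by
  intro i j e
  by_cases k : j = i.rev
  · refine h1 i j ?_
    subst k
    simp only [Fin.le_def, Fin.rev_rev] at e
    omega
  · exact h2 i j k

theorem bchn_mul1 {a b : Mt m δ} (ha : BchnT a) (hb : BchnT b) : (1 + a) * (1 + b) = 1 + (a + b) := by
  rw [mul_add, add_mul, add_mul, ha.mul hb, mul_one, mul_one, one_mul, add_zero, add_assoc]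

variable (m δ) in
/-- the group generated by the `z_i(c)`, `i < i*` -/
def bchnV : Subgroup (Sg m δ) where
  carrier := {s | s ∈ Mh m δ 0 ∧ s ∈ Rat m δ ∧ ∀ i j, j ≠ i.rev → (mat s - 1) i j = 0}
  one_mem' := ⟨one_mem _, one_mem _, fun i j _ => by rw [mat_one, sub_self]; rfl⟩
  mul_mem' {a b} ha hb := by
    refine ⟨mul_mem ha.1 hb.1, mul_mem ha.2.1 hb.2.1, fun i j e => ?_⟩
    have := bchn_mul1 (bchn_T ha.1 ha.2.2) (bchn_T hb.1 hb.2.2)
    rw [add_sub_cancel, add_sub_cancel] at this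
    rw [mat_mul, this, add_sub_cancel_left, Matrix.add_apply, ha.2.2 i j e, hb.2.2 i j e, add_zero]
  inv_mem' {a} ha := by
    have := bchn_mul1 (bchn_T ha.1 ha.2.2) (bchn_T ha.1 ha.2.2)
    rw [add_sub_cancel, bchn_two, add_zero, ← mat_mul, ← mat_one] at this
    rw [inv_eq_of_mul_eq_one_right (mat_inj this)]
    exact ha

theorem bchnV_sq {a : Sg m δ} (ha : a ∈ bchnV m δ) : a * a = 1 := by
  have := bchn_mul1 (bchn_T ha.1 ha.2.2) (bchn_T ha.1 ha.2.2)
  rw [add_sub_cancel, bchn_two, add_zero, ← mat_mul, ← mat_one] at this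
  exact mat_inj this

theorem bchn_lay {h : ℕ} {s : Sg m δ} (hs : s ∈ Mh m δ h) (e : sb s * s⁻¹ ∈ Mh m δ (h + 1)) :
    ∃ y ∈ Mh m δ h, ∃ d, RV d ∧ TS d 0 1 ∈ bchnV m δ ∧
      (TS d 0 1)⁻¹ * (s * (sb y * y⁻¹)) ∈ Mh m δ (h + 1) ∧
      s⁻¹ * (y * TS d 0 1 * (sb y)⁻¹) ∈ Mh m δ (h + 1) := by
  obtain ⟨n, k, p, hn⟩ := bchn_n0 hs
  have f : bar n = n := p.fix (bA δ) ((k.sb.mul k.inv).iff.1 e)
  obtain ⟨y, ky⟩ := bchn_lead (n := bchnY n) (fun i j e => bchnY_zero (p.mem i j e))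
    (bchnY_herm f (hn.trans f))
  obtain ⟨d, d1, d2, d3⟩ := bchn_sqrt f
  have hd : RV d := ⟨d1, fun i hi => d3 i (p _ _ (by rw [← hi]; omega))⟩
  have hD : ∀ i j, ou d d i j = if j = i.rev then n i j else 0 := fun i j => by
    rw [bchn_ou hd]
    split_ifs with q
    · rw [q, Fin.rev_rev, d2]
    · by_cases q1 : (i.rev : ℕ) = i + (h + 1)
      · rw [d3 j.rev (p _ _ ?_), mul_zero]
        have := i.2
        have := j.2
        simp only [Fin.ext_iff, Fin.val_rev] at q q1 ⊢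
        omega
      · rw [d3 i (p _ _ q1), zero_mul]
  have hz : mat (TS d 0 1) - 1 = ou d d := by rw [bchn_matz hd, add_sub_cancel_left]
  have z1 : TS d 0 1 ∈ Mh m δ h := fun i j q => by
    rw [hz, hD, p.mem i j q, ite_self]
  have kz := BchnLd.self z1
  rw [hz] at kz
  refine ⟨y, ky.mem, d, hd, ⟨Mh_anti h.zero_le z1, bchn_zrat hd, fun i j q => by rw [hz, hD, if_neg q]⟩,
    (kz.inv.mul (k.mul (ky.sb.mul ky.inv))).zero ?_, (k.inv.mul ((ky.mul kz).mul ky.sb.inv)).zero ?_⟩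
  all_goals
    ext1 i j
    have := bchnY_tr f i j
    simp only [Matrix.add_apply, bar_apply, hD, Matrix.zero_apply]
    linear_combination this + k_two (if j = i.rev then n i j else 0)

theorem bchn_V {v : Sg m δ} (hv : v ∈ bchnV m δ) : ∃ y ∈ Mh m δ 0, ∃ d, RV d ∧
    (∀ i : Fin m, i.rev ≤ i → d i = 0) ∧ y * TS d 0 1 = v * sb y := by
  have f : bar (mat v - 1) = mat v - 1 := by
    ext1 i j
    have := congrFun (congrFun (mem_Rat.1 hv.2.1) i) j
    rw [bar_apply] at this ⊢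
    simp only [Matrix.sub_apply, star_sub, this, one_apply, apply_ite star, star_one, star_zero]
  have tn := bchn_T hv.1 hv.2.2
  obtain ⟨d, d1, d2, d3⟩ := bchn_sqrt f
  have d4 : ∀ i : Fin m, i.rev ≤ i → d i = 0 := fun i hi => d3 i (tn _ _ (.inl hi))
  have hd : RV d := ⟨d1, fun i hi => d4 i hi.ge⟩
  have tA : BchnT (ou d d) := fun i j q => by
    rw [bchn_ou hd]
    rcases q with q | q
    · rw [d4 i q, zero_mul]
    · rw [d4 j.rev (by rwa [Fin.rev_rev]), mul_zero]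
  have a1 : bar (ou d d) = ou d d := by
    ext1 i j
    rw [bar_apply, bchn_ou hd, star_mul', hd.bk2_at, hd.bk2_at]
  have a2 : adj (ou d d) = ou d d := by
    ext1 i j
    rw [adj_apply, bchn_ou hd, bchn_ou hd, Fin.rev_rev, mul_comm]
  have tY : BchnT (bchnY (ou d d)) := fun i j q => bchnY_zero (tA i j q)
  have tY' : BchnT (bar (bchnY (ou d d))) := fun i j q => by rw [bar_apply, tY i j q, star_zero]
  have b1 : bar (1 + bchnY (ou d d)) = 1 + bar (bchnY (ou d d)) := by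
    ext1 i j
    simp only [bar_apply, Matrix.add_apply, star_add, one_apply, apply_ite star, star_one, star_zero]
  have b2 : adj (1 + bchnY (ou d d)) = 1 + bar (bchnY (ou d d)) := by
    rw [← bchnY_herm a1 a2]
    exact congrArg (· + adj (bchnY (ou d d))) adj_one
  have hy : mat (toS (1 + bchnY (ou d d))) = 1 + bchnY (ou d d) := by
    refine mat_toS (k_sq_one ?_) ?_
    · rw [← det_mul, bchn_mul1 tY tY, bchn_two, add_zero, det_one]
    · rw [b1, b2, bchn_mul1 tY' tY', bchn_two, add_zero]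
  refine ⟨toS (1 + bchnY (ou d d)), ?_, d, hd, d4, mat_inj ?_⟩
  · change mat _ - 1 ∈ Nn m δ (0 + 1)
    rw [hy, add_sub_cancel_left]
    exact tY.mem
  · have := bchn_mul1 tn tY'
    rw [add_sub_cancel] at this
    rw [mat_mul, mat_mul, mat_sb, hy, bchn_matz hd, b1, bchn_mul1 tY tA, this, add_right_inj]
    ext1 i j
    have e := bchnY_tr a1 i j
    have e' : (if j = i.rev then ou d d i j else 0) = (mat v - 1) i j := by
      split_ifs with q
      · rw [bchn_ou hd, q, Fin.rev_rev, d2]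
      · rw [hv.2.2 i j q]
    rw [Matrix.add_apply, Matrix.add_apply, bar_apply, ← e']
    linear_combination e - k_two (star (bchnY (ou d d) i j))

theorem bchn_u (hm : Odd m) {d : Vk m δ} (hd : RV d) (d4 : ∀ i : Fin m, i.rev ≤ i → d i = 0) :
    TS d (v0 m δ) (om δ) ∈ Mh m δ 0 := by
  change mat _ - 1 ∈ Nn m δ (0 + 1)
  rw [mat_TS (Ok.u hm hd)]
  intro i j q
  have := i.2
  have := j.2
  have t1 : d i * star (v0 m δ j.rev) = 0 := by
    by_cases e : j.rev = j.rev.rev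
    · rw [d4 i (by simp only [Fin.ext_iff, Fin.le_def, Fin.val_rev] at e ⊢; omega), zero_mul]
    · rw [v0, if_neg e, star_zero, mul_zero]
  have t2 : v0 m δ i * star (d j.rev) = 0 := by
    by_cases e : i = i.rev
    · rw [d4 j.rev (by simp only [Fin.ext_iff, Fin.le_def, Fin.val_rev] at e ⊢; omega), star_zero,
        mul_zero]
    · rw [v0, if_neg e, zero_mul]
  have t3 : d i * star (d j.rev) = 0 := by
    by_cases e : i.rev ≤ i
    · rw [d4 i e, zero_mul]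
    · rw [d4 j.rev (by simp only [Fin.le_def, Fin.val_rev] at e ⊢; omega), star_zero, mul_zero]
  simp only [TM, Matrix.sub_apply, Matrix.add_apply, Matrix.smul_apply, ou, of_apply, t1, t2, t3,
    smul_zero, add_zero, sub_self]

theorem bchn_tn {ψ : Sg m δ →* G} {g : G} {a : Fa δ} (hg : Ac ψ g a) (i : ℕ) :
    g ∈ normalizer (Mc ψ i : Set G) := mem_normalizer_fintype (by
  rintro _ ⟨s, hs, rfl⟩
  exact ⟨_, mp_Mh a hs, (hg s).symm⟩)

theorem bchn_idx {i : ℕ} (hi : i < m - 1) : m - 1 - i = m - 1 - (i + 1) + 1 := by omega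

namespace MM

variable {ψ : Sg m δ →* G} {t : G} (h : MM ψ t)
include h

theorem ser : Ser t (Uh ψ) (m - 1) (Mc ψ) := by
  refine ⟨h.t2, ?_, ?_, fun i _ => map_mono (Mh_anti (by omega)),
    fun i _ => bchn_tn (a := bA δ) h.tc i, ?_, ?_⟩
  · rw [Mc, Nat.sub_zero, Mh_top, Subgroup.map_bot]
  · rw [Mc, Nat.sub_self, Uh]
  · rintro i hi _ ⟨u, hu, rfl⟩ _ ⟨s, hs, rfl⟩
    refine ⟨u * s * u⁻¹ * s⁻¹, Mh_anti (by omega) (Mh_comm hu hs), ?_⟩
    simp only [map_mul, map_inv]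
  · rintro i hi _ ⟨s, hs, rfl⟩
    exact ⟨s * s, Mh_anti (by omega) (Mh_sq hs), map_mul _ _ _⟩

theorem bchn_lift {g : G} {a : Fa δ} (hg : Ac ψ g a) {i : ℕ} (hi : i < m - 1) {s : Sg m δ}
    (hs : s ∈ Mh m δ (m - 1 - (i + 1))) (e : g * ψ s * g⁻¹ * (ψ s)⁻¹ ∈ Mc ψ i) :
    mp a s * s⁻¹ ∈ Mh m δ (m - 1 - (i + 1) + 1) := by
  rw [hg, ← map_inv, ← map_mul, Mc, bchn_idx hi] at e
  exact (h.mem_Mh (Mh_pow (Mh_anti (Nat.zero_le _) (mul_mem (mp_Mh a hs) (inv_mem hs))))).1 e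

theorem cj0 {x : G} (hx : x ∈ Uh ψ) (h2 : x * t * (x * t) = 1) : ∃ u ∈ Uh ψ, ∃ d, RV d ∧
    (∀ i : Fin m, i.rev ≤ i → d i = 0) ∧ u * (x * t) * u⁻¹ = ψ (TS d 0 1) * t := by
  obtain ⟨u, hu, _, ⟨v, hv, rfl⟩, e⟩ := h.ser.conj_V (V := (bchnV m δ).map ψ)
    (map_mono fun _ hs => hs.1) (by
      rintro _ ⟨s, hs, rfl⟩
      exact mem_centralizer_singleton_iff.2 (h.rat_t hs.2.1))
    (fun i hi => .inr ⟨by
      rintro _ ⟨s, hs, rfl⟩ -
      rw [← map_mul, bchnV_sq hs, map_one]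
      exact one_mem _, by
      rintro _ ⟨s, hs, rfl⟩ e
      obtain ⟨y, hy, d, -, h1, h2, -⟩ := bchn_lay hs (h.bchn_lift (a := bA δ) h.tc hi hs e)
      refine ⟨ψ y, ⟨y, hy, rfl⟩, ?_⟩
      rw [h.tc, ← map_inv, ← map_mul, ← map_mul, ← mul_inv_cancel_left (TS d 0 1) (s * _), map_mul]
      exact mul_mem (mem_sup_left ⟨_, h1, rfl⟩) (mem_sup_right ⟨_, bchn_idx hi ▸ h2, rfl⟩)⟩) hx h2
  obtain ⟨y, hy, d, hd, d4, e'⟩ := bchn_V hv
  refine ⟨(ψ y)⁻¹ * u, mul_mem (inv_mem ⟨y, hy, rfl⟩) hu, d, hd, d4, ?_⟩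
  have e1 := congrArg ψ e'
  rw [map_mul, map_mul, ← h.tc] at e1
  calc _ = (ψ y)⁻¹ * (u * (x * t) * u⁻¹) * ψ y := by group
    _ = (ψ y)⁻¹ * (ψ v * (t * ψ y * t⁻¹)) * t := by rw [e]; group
    _ = _ := by rw [← e1]; group

theorem cjt {x : G} (hx : x ∈ Uh ψ) (hc : IsConj t (x * t)) : ∃ u ∈ Uh ψ, x * t = u * t * u⁻¹ := by
  obtain ⟨g, hg⟩ := isConj_iff.1 hc
  obtain ⟨u, hu, d, hd, d4, e⟩ := h.cj0 hx (by
    rw [← hg, show g * t * g⁻¹ * (g * t * g⁻¹) = g * (t * t) * g⁻¹ by group, h.t2]; group)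
  rw [h.rat_t (bchn_zrat hd)] at e
  rcases Nat.even_or_odd m with hm | hm
  · have d0 : d = 0 := by
      by_contra d0
      exact h.nz hm d hd d0 (hc.trans (isConj_iff.2 ⟨u, e⟩))
    rw [d0, TS_zero_left, map_one, mul_one] at e
    refine ⟨u⁻¹, inv_mem hu, ?_⟩
    calc _ = u⁻¹ * (u * (x * t) * u⁻¹) * u := by group
      _ = _ := by rw [e, inv_inv]
  · rw [← h.hat_u hm hd] at e
    refine ⟨u⁻¹ * ψ (TS d (v0 m δ) (om δ)), mul_mem (inv_mem hu) ⟨_, bchn_u hm hd d4, rfl⟩, ?_⟩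
    calc _ = u⁻¹ * (u * (x * t) * u⁻¹) * u := by group
      _ = _ := by rw [e]; group

theorem fix0 {i : ℕ} (hi : i < m - 1) {x : G} (hx : x ∈ Mc ψ (i + 1)) (h1 : t * x * t⁻¹ * x⁻¹ ∈ Mc ψ i) :
    ∃ y ∈ Mc ψ i, ∃ u ∈ Uh ψ, ∃ d, RV d ∧ x * y * t = u * (ψ (TS d 0 1) * t) * u⁻¹ := by
  obtain ⟨s, hs, rfl⟩ := hx
  obtain ⟨y, hy, d, hd, -, -, h2⟩ := bchn_lay hs (h.bchn_lift (a := bA δ) h.tc hi hs h1)
  refine ⟨_, ⟨_, bchn_idx hi ▸ h2, rfl⟩, ψ y, ⟨y, Mh_anti (Nat.zero_le _) hy, rfl⟩, d, hd, ?_⟩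
  simp only [map_mul, map_inv, ← h.tc]
  group

/-- a field automorphism acts freely -/
theorem chain {s : G} {a : Fa δ} (hs : Ac ψ s a) (s2 : s * s = 1) (ha : ¬ ∀ c : F, a.1 (rt δ c) = rt δ c) :
    Chain s (Uh ψ) (m - 1) (Mc ψ) := by
  have a2 : a * a = 1 := h.ac_unique (g := 1)
    (fun x => by rw [mp_mul, ← hs, ← hs, ← s2]; group) fun x => by rw [mp_one]; group
  obtain ⟨c, hc⟩ := Fa_free a2 ha
  refine ⟨h.ser.zero, h.ser.top, h.ser.mono, fun i _ => bchn_tn hs i, h.ser.cen, h.ser.sq, ?_⟩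
  rintro i hi _ ⟨x, hx, rfl⟩ e
  obtain ⟨y, hy, h2⟩ := bchn_free hc hx (h.bchn_lift hs hi hx e)
  refine ⟨ψ y, ⟨y, hy, rfl⟩, _, bchn_idx hi ▸ h2, ?_⟩
  rw [hs, map_mul, map_mul, map_inv]

end MM

end CfsgLib.SPC.BC
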