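import Cfsg.Agent.Lib.SPC.BFld

/-! The field case: the presentation -/

set_option autoImplicit false
set_option linter.unusedSectionVars false

namespace CfsgLib.SPC.BC

open Subgroup Module Matrix CfsgLib.UFP
open scoped commutatorElement Pointwise

universe u

variable {F : Type} [Field F] [Finite F] [CharP F 2] {m : ℕ} {δ : F} {G : Type u} [Group G] [Finite G]

open CfsgLib.Forms CfsgLib.LieMult
open CfsgLib.ClSys (II)

theorem bf2_neg (x : KK δ) : -x = x := neg_eq_of_add_eq_zero_left (k_two x)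

theorem bf2_vneg (x : Vk m δ) : -x = x := funext fun i => bf2_neg (x i)

theorem bf2_two : (2 : KK δ) = 0 := by rw [← one_add_one_eq_two, k_two]

theorem bf2_ee {i j : Fin m} (h : j ≠ i.rev) : hf (ee δ i) (ee δ j) = 0 := by
  rw [hf_ee_left, ee, Pi.single_eq_of_ne h.symm]

theorem bf2_ee1 (i : Fin m) : hf (ee δ i) (ee δ i.rev) = 1 := by rw [hf_ee_left, ee, Pi.single_eq_same]

theorem bf2_zero {x y : Vk m δ} (h : hf x y = 0) : hf y x = 0 := by rw [← star_hf, h, star_zero]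

theorem bf2_ok {i j : Fin m} (hi : i ≠ i.rev) (hj : j ≠ j.rev) (h : j ≠ i.rev) (l : KK δ) :
    Ok (ee δ i) (l • ee δ j) 0 :=
  ⟨bf2_ee hi, by rw [hf_smul_right, bf2_ee h, mul_zero],
    by rw [hf_smul_right, hf_smul_left, bf2_ee hj]; simp⟩

theorem bf2_ind {i : Fin m} (hi : i ≠ i.rev) {p : Vk m δ → KK δ → Prop}
    (mul : ∀ a c b d, Ok (ee δ i) a c → Ok (ee δ i) b d → p a c → p b d → p (a + b) (c + d + hf a b))
    (h0 : ∀ w c, (∀ j : Fin m, j ≠ j.rev → w j = 0) → Ok (ee δ i) w c → p w c)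
    (h1 : ∀ l : KK δ, p (l • ee δ i) (l + star l))
    (h2 : ∀ (j : Fin m) (l : KK δ), j ≠ j.rev → j ≠ i → j ≠ i.rev → p (l • ee δ j) 0)
    {a : Vk m δ} {c : KK δ} (k : Ok (ee δ i) a c) : p a c := by
  have add : ∀ a b d, Ok (ee δ i) a d → p a d → hf (ee δ i) b = 0 → (∀ c, Ok (ee δ i) b c → p b c) →
      ∀ c, Ok (ee δ i) (a + b) c → p (a + b) c := fun a b d kd pd hb pb c kc => by
    have k1 : Ok (ee δ i) b (c + d + hf a b) := ⟨kc.ee, hb, by
      have e1 := kc.cc
      rw [hf_add_left, hf_add_right, hf_add_right] at e1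
      rw [star_add, star_add, star_hf]
      linear_combination e1 + kd.cc + (hf a a + hf a b + hf b a) * bf2_two (δ := δ)⟩
    have := mul a d b _ kd k1 pd (pb _ k1)
    rwa [show d + (c + d + hf a b) + hf a b = c by
      linear_combination (d + hf a b) * bf2_two (δ := δ)] at this
  have one : ∀ a d, Ok (ee δ i) a d → p a d → ∀ c, Ok (ee δ i) a c → p a c := fun a d kd pd c kc => by
    have := add a 0 d kd pd (hf_zero_right _) (fun c k => h0 0 c (fun _ _ => rfl) k) c (by rwa [add_zero])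
    rwa [add_zero] at this
  have key : ∀ s : Finset (Fin m), hf (ee δ i) (∑ j ∈ s, a j • ee δ j) = 0 ∧
      ∀ c, Ok (ee δ i) (∑ j ∈ s, a j • ee δ j) c → p (∑ j ∈ s, a j • ee δ j) c := fun s => by
    refine Finset.sum_induction _ (fun b => hf (ee δ i) b = 0 ∧ ∀ c, Ok (ee δ i) b c → p b c) ?_ ?_ ?_
    · rintro x y ⟨x0, hx⟩ ⟨y0, hy⟩
      obtain ⟨d, kd⟩ := exists_ok k.ee x0
      exact ⟨by rw [hf_add_right, x0, y0, add_zero], add x y d kd (hx d kd) y0 hy⟩
    · exact ⟨hf_zero_right _, fun c k => h0 0 c (fun _ _ => rfl) k⟩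
    · intro j _
      by_cases e1 : j = i.rev
      · have : a j = 0 := by rw [e1, ← hf_ee_left i a, k.ea]
        rw [this, zero_smul]
        exact ⟨hf_zero_right _, fun c k => h0 0 c (fun _ _ => rfl) k⟩
      refine ⟨by rw [hf_smul_right, bf2_ee e1, mul_zero], ?_⟩
      by_cases e2 : j = j.rev
      · refine fun c k => h0 _ c (fun l hl => ?_) k
        rw [Pi.smul_apply, ee, Pi.single_eq_of_ne (fun e : l = j => hl (by rw [e]; exact e2)), smul_zero]
      by_cases e3 : j = i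
      · subst e3
        refine one _ _ ⟨k.ee, by rw [hf_smul_right, k.ee, mul_zero], ?_⟩ (h1 _)
        rw [hf_smul_right, hf_smul_left, k.ee, star_add, star_star]
        linear_combination (a j + star (a j)) * bf2_two (δ := δ)
      · exact one _ _ (bf2_ok hi e2 e1 _) (h2 j _ e2 e3 e1)
  have e : ∑ j, a j • ee δ j = a := by
    ext1 l
    simp [ee, Pi.single_apply]
  exact e ▸ (key Finset.univ).2 c (e.symm ▸ k)

namespace YRel

variable {t : G} {X : Fin m → Vk m δ → KK δ → G} (h : YRel t X)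
include h

theorem bf2_one {i : Fin m} (hi : i ≠ i.rev) : X i 0 0 = 1 := by simpa using h.self i 0 hi

theorem bf2_same {i : Fin m} (hi : i ≠ i.rev) {a b : Vk m δ} {c d : KK δ} (k : Ok (ee δ i) a c)
    (k' : Ok (ee δ i) b d) : ⁅X i a c, X i b d⁆ = X i 0 (hf a b + hf b a) := by
  have k0 : Ok (ee δ i) 0 (hf a b + hf b a) := ⟨k.ee, hf_zero_right _, by
    rw [star_add, star_hf, star_hf, hf_zero_left]
    linear_combination (hf a b + hf b a) * bf2_two (δ := δ)⟩
  rw [commutatorElement_def, mul_inv_eq_iff_eq_mul, mul_inv_eq_iff_eq_mul, mul_assoc, h.mul i _ _ _ _ hi k k',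
    h.mul i _ _ _ _ hi k' k, h.mul i _ _ _ _ hi k0 (k'.add k), zero_add, add_comm a, hf_zero_left]
  congr 1
  linear_combination (-hf b a) * bf2_two (δ := δ)

theorem bf2_comm {i j : Fin m} (hi : i ≠ i.rev) (hj : j ≠ j.rev) (h1 : j ≠ i) (h2 : j ≠ i.rev) {a b : Vk m δ}
    {c d : KK δ} (k : Ok (ee δ i) a c) (k' : Ok (ee δ j) b d) (e : hf a (ee δ j) = 0) {b' : Vk m δ} {d' : KK δ}
    (hb : (hf a b + c * hf (ee δ i) b) • ee δ i + hf (ee δ i) b • a = b') (hd : hf b' b = d') :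
    ⁅X i a c, X j b d⁆ = X j b' d' := by
  have k1 := k'.conj (TS (ee δ i) a c)
  rw [mat_TS k, TM_mulVec, TM_mulVec, add_assoc b, hb, e, bf2_ee h2] at k1
  simp only [mul_zero, add_zero, zero_smul] at k1
  have k2 : Ok (ee δ j) b' d' := ⟨k'.ee, by simpa [hf_add_right, k'.ea] using k1.ea, by
    have e1 := k1.cc
    rw [hf_add_left, hf_add_right, hf_add_right, ← k'.cc] at e1
    rw [← hd, star_hf]
    linear_combination e1 + (hf b' b + hf b b') * bf2_two (δ := δ)⟩
  rw [commutatorElement_def, h.conj i j _ _ _ _ hi hj h1 h2 k k' e, mul_inv_eq_iff_eq_mul,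
    h.mul j _ _ _ _ hj k2 k', TM_mulVec, add_assoc b, hb, add_comm b, hd]
  congr 1
  linear_combination (-d') * bf2_two (δ := δ)

theorem bf2_commute {i j : Fin m} (hi : i ≠ i.rev) (hj : j ≠ j.rev) (h2 : j ≠ i.rev) {a b : Vk m δ}
    {c d : KK δ} (k : Ok (ee δ i) a c) (k' : Ok (ee δ j) b d) (e : hf a (ee δ j) = 0) (e1 : hf a b = 0)
    (e2 : hf (ee δ i) b = 0) : Commute (X i a c) (X j b d) := by
  rw [← commutatorElement_eq_one_iff_commute]
  by_cases h1 : j = i
  · subst h1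
    rw [h.bf2_same hi k k', e1, bf2_zero e1, add_zero, h.bf2_one hi]
  · rw [h.bf2_comm hi hj h1 h2 k k' e (b' := 0) (d' := 0) (by simp [e1, e2]) (hf_zero_left _), h.bf2_one hj]

end YRel

/-- the index of a frame vector -/
def bf2_ix : II (m / 2) → Fin m :=
  Sum.elim (fun i => ⟨i, by have := i.2; omega⟩) fun i => Fin.rev ⟨i, by have := i.2; omega⟩

theorem bf2_swap (a : II (m / 2)) : bf2_ix a.swap = (bf2_ix a).rev := by
  rcases a with a | a <;> simp [bf2_ix]

theorem bf2_inj : Function.Injective (bf2_ix (m := m)) := by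
  rintro (a | a) (b | b) e <;> have := a.2 <;> have := b.2 <;> have e := congrArg Fin.val e <;>
    simp only [bf2_ix, Sum.elim_inl, Sum.elim_inr, Fin.val_rev] at e
  · exact congrArg _ (Fin.ext e)
  · omega
  · omega
  · exact congrArg _ (Fin.ext (by omega))

theorem bf2_nm (a : II (m / 2)) : bf2_ix a ≠ (bf2_ix a).rev := by
  rw [← bf2_swap]
  exact bf2_inj.ne (ClSys.swap_ne a).symm

theorem bf2_surj {i : Fin m} (hi : i ≠ i.rev) : ∃ a, bf2_ix a = i := by
  have h1 : (i : ℕ) ≠ m - (i + 1) := fun e => hi (Fin.ext (by rw [Fin.val_rev]; exact e))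
  have h2 := i.2
  by_cases h : (i : ℕ) < m / 2
  · exact ⟨.inl ⟨i, h⟩, rfl⟩
  · exact ⟨.inr ⟨m - (i + 1), by omega⟩, Fin.ext (by simp only [bf2_ix, Sum.elim_inr, Fin.val_rev]; omega)⟩

theorem bf2_ne {a b : II (m / 2)} (h : a ≠ b.swap) : bf2_ix b ≠ (bf2_ix a).rev := by
  rw [← bf2_swap]
  exact bf2_inj.ne fun e => h (by rw [e, Sum.swap_swap])

theorem bf2_ne' {a b : II (m / 2)} (h : a ≠ b.swap) : bf2_ix a ≠ (bf2_ix b).rev := by
  rw [← bf2_swap]
  exact bf2_inj.ne h

section fld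

variable [Fact (∀ r : F, r ^ 2 ≠ δ + 1 * r)]

theorem bf2_tok {e a : Vk m δ} {c : KK δ} : TOk (bfP m δ) e a c ↔ Ok e a (star c) := by
  have e1 := (bfP_herm (m := m) (δ := δ)).N_add_conj a
  rw [bfP_B, starRingEnd_apply] at e1
  refine ⟨fun k => ⟨(bfP_herm.sing_iff e).1 k.sing, k.perp, ?_⟩,
    fun k => ⟨(bfP_herm.sing_iff e).2 k.ee, k.ea, (bfP_herm.mem_Λ _).2 ?_⟩⟩
  · have := (bfP_herm.mem_Λ _).1 k.mem
    rw [map_sub, starRingEnd_apply, starRingEnd_apply] at this
    rw [star_star]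
    linear_combination this + e1
  · have := k.cc
    rw [star_star] at this
    rw [map_sub, starRingEnd_apply, starRingEnd_apply]
    linear_combination this - e1

variable (m δ) in
/-- `Σ` as a classical group -/
noncomputable def bf2_cg : CG (bfP m δ) (Sg m δ) where
  act := SpecialLinearGroup.toLin'.comp (Sg m δ).subtype
  inj _ _ e := bf_ext fun v => DFunLike.congr_fun e v
  iso s := (bfP_herm.isIso_iff _).2 (hf_mulVec s)
  ε1 := rfl
  nondeg := bfP_nd
  T e a c := TS e a (star c)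
  T_apply {e a c} k x := by
    change mat (TS e a (star c)) *ᵥ x = _
    rw [mat_TS (bf2_tok.1 k), TM_mulVec, tfun, sub_eq_add_neg, sub_eq_add_neg, bf2_neg, bf2_vneg]
    rfl

variable (m δ) in
/-- the standard frame -/
noncomputable def bf2_fr : Frame (bfP m δ) (m / 2) where
  v a := ee δ (bf2_ix a)
  sing a := (bfP_herm.sing_iff _).2 (bf2_ee (bf2_nm a))
  B_v a b := by
    rw [bfP_B]
    split_ifs with e
    · rw [e, bf2_swap, ← bf2_ee1 (δ := δ) (bf2_ix b).rev, Fin.rev_rev]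
    · exact bf2_ee (bf2_ne e)
  aniso w hw hs := funext fun j => by
    have a2 : ∀ i : Fin m, i ≠ i.rev → w i = 0 := fun i hi => by
      obtain ⟨a, rfl⟩ := bf2_surj hi
      have := hw a.swap
      rwa [bfP_B, hf_ee_left, bf2_swap, Fin.rev_rev] at this
    by_contra H'
    have hj : j = j.rev := by by_contra H''; exact H' (a2 j H'')
    have pp := (bfP_herm.sing_iff _).1 hs
    rw [bfP_B, hf, Finset.sum_eq_single j, ← hj] at pp
    · exact H' (by simpa using pp)
    · intro i _ hi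
      rw [a2 i fun e => hi ?_, mul_zero]
      have e2 := congrArg Fin.val e
      have e3 := congrArg Fin.val hj
      simp only [Fin.val_rev] at e2 e3
      exact Fin.ext (by omega)
    · simp

theorem bf2_V0 {w : Vk m δ} (hw : w ∈ (bf2_fr m δ).V0) (a : II (m / 2)) : hf (ee δ (bf2_ix a)) w = 0 :=
  Frame.B_V0 hw a

theorem bf2_V0' {w : Vk m δ} (hw : w ∈ (bf2_fr m δ).V0) (a : II (m / 2)) : hf w (ee δ (bf2_ix a)) = 0 :=
  Frame.B_V0' hw a

theorem bf2_mem_V0 {w : Vk m δ} (hw : ∀ j : Fin m, j ≠ j.rev → w j = 0) : w ∈ (bf2_fr m δ).V0 :=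
  (Frame.mem_V0 _).2 fun a => (hf_ee_left _ _).trans (hw _ (by rw [Fin.rev_rev]; exact (bf2_nm a).symm))

theorem YRel.bf2_xrel {t : G} {X : Fin m → Vk m δ → KK δ → G} (h : YRel t X) :
    XRel (bf2_fr m δ) (fun a b l => X (bf2_ix a) (l • ee δ (bf2_ix b)) 0)
      fun a w c => X (bf2_ix a) w (star c) := by
  have ok : ∀ {a b : II (m / 2)}, Ap a b → ∀ l : KK δ, Ok (ee δ (bf2_ix a)) (l • ee δ (bf2_ix b)) 0 :=
    fun k l => bf2_ok (bf2_nm _) (bf2_nm _) (bf2_ne k.ne_swap) l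
  have sw : ∀ {a b : II (m / 2)}, a ≠ b → a ≠ b.swap.swap := fun e => by rwa [Sum.swap_swap]
  have one : ∀ b : II (m / 2), hf (ee δ (bf2_ix b)) (ee δ (bf2_ix b.swap)) = 1 := fun b => by
    rw [bf2_swap, bf2_ee1]
  have one' : ∀ b : II (m / 2), hf (ee δ (bf2_ix b.swap)) (ee δ (bf2_ix b)) = 1 := fun b => by
    rw [← star_hf, one, star_one]
  refine ⟨fun a b k s u => ?_, fun a b k s => ?_, fun a w w' c c' _ _ k k' => ?_, fun a b c k k1 k2 s u => ?_,
    fun a b k s u => ?_, fun a b w c k hw hc s => ?_, fun a b w w' c c' k hw hw' hc hc' => ?_,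
    fun a b c d k k' e1 e2 e3 e4 s u => ?_, fun a b c w d k e1 e2 hw hd s => ?_⟩
  · rw [h.mul _ _ _ _ _ (bf2_nm a) (ok k s) (ok k u), hf_smul_left, hf_smul_right, bf2_ee (bf2_nm b), add_smul]
    simp
  · rw [bf2_neg]
    exact h.sym _ _ _ (bf2_nm a) (bf2_nm b) (bf2_inj.ne k.ne.symm) (bf2_ne k.ne_swap)
  · rw [h.mul _ _ _ _ _ (bf2_nm a) (bf2_tok.1 k) (bf2_tok.1 k'), star_add, star_add, bfP_B, star_hf]
  · have z := bf2_ee (δ := δ) (bf2_ne (sw k.ne))
    exact h.bf2_comm (bf2_nm a) (bf2_nm c) (bf2_inj.ne k1.ne) (bf2_ne' k1.ne_swap) (ok k s) (ok k2.sr u)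
      (by rw [hf_smul_left, bf2_ee (bf2_ne' k2.ne_swap), mul_zero])
      (by simp [hf_smul_left, hf_smul_right, one, z, mul_comm, starRingEnd_apply]) (by simp [hf_smul_left, hf_smul_right, z])
  · rw [h.bf2_same (bf2_nm a) (ok k s) (ok k.sr u)]
    simp only [hf_smul_left, hf_smul_right, one, one', sub_eq_add_neg, bf2_neg, starRingEnd_apply, star_add,
      star_mul, star_star]
    congr 1
    ring
  · have hc' := bf2_tok.1 hc
    have k1 : Ok (ee δ (bf2_ix a)) (s • w) (s * star s * c) := ⟨bf2_ee (bf2_nm a),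
      by rw [hf_smul_right, bf2_V0 hw, mul_zero], by
        have := hc'.cc
        rw [star_star] at this
        rw [hf_smul_left, hf_smul_right, star_mul, star_mul, star_star]
        linear_combination (s * star s) * this⟩
    rw [bf2_vneg, bf2_neg, starRingEnd_apply, starRingEnd_apply, star_mul, star_mul, star_star, star_star,
      show c * (star s * s) = s * star s * c by ring, h.mul _ _ _ _ _ (bf2_nm a) k1 (ok k.sr _)]
    exact h.bf2_comm (bf2_nm b.swap) (bf2_nm a) (bf2_inj.ne k.ne_swap) (bf2_ne' (sw k.ne)) hc' (ok k s)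
      (bf2_V0' hw a) (by simp [hf_smul_right, one', bf2_V0' hw, mul_comm, add_comm])
      (by simp [hf_add_left, hf_smul_left, hf_smul_right, one', bf2_V0' hw]; ring)
  · exact h.bf2_comm (bf2_nm b) (bf2_nm a) (bf2_inj.ne k.ne) (bf2_ne' k.ne_swap) (bf2_tok.1 hc') (bf2_tok.1 hc)
      (bf2_V0' hw' a) (by simp [bf2_V0 hw, bfP_B]) (by simp [hf_smul_left, bf2_V0 hw])
  · exact h.bf2_commute (bf2_nm a) (bf2_nm c) (bf2_ne e1) (ok k s) (ok k' u)
      (by rw [hf_smul_left, bf2_ee (bf2_ne e3), mul_zero])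
      (by rw [hf_smul_left, hf_smul_right, bf2_ee (bf2_ne e4), mul_zero, mul_zero])
      (by rw [hf_smul_right, bf2_ee (bf2_ne e2), mul_zero])
  · exact h.bf2_commute (bf2_nm a) (bf2_nm c) (bf2_ne' e1) (ok k s) (bf2_tok.1 hd)
      (by rw [hf_smul_left, bf2_ee (bf2_ne' e2), mul_zero]) (by rw [hf_smul_left, bf2_V0 hw, mul_zero])
      (bf2_V0 hw a)

end fld

theorem YRel.hom_field (hm : 6 ≤ m) (hδ : ∀ ρ : F, ρ * ρ + ρ ≠ δ) {t : G} {X : Fin m → Vk m δ → KK δ → G}
    (h : YRel t X) (ho : Odd (Nat.card (centralizer (YG X : Set G)))) :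
    ∃ ψ : Sg m δ →* G, ∀ i a c, i ≠ i.rev → Ok (ee δ i) a c → ψ (TS (ee δ i) a c) = X i a c := by
  have := bf_fact hδ
  have ap : ∀ {a b : II (m / 2)}, bf2_ix b ≠ bf2_ix a → bf2_ix b ≠ (bf2_ix a).rev → Ap a b := fun h1 h2 =>
    ap_of_ne (fun e => h1 (by rw [e])) fun e => h2 (by rw [e, bf2_swap, Fin.rev_rev])
  obtain ⟨ψ, h1, h2, -⟩ := pres_su (bf2_cg m δ) (bf2_fr m δ) bfP_herm bf2_two (by omega)
    (fun K hK => gen_field hm hδ fun i a c _ k => by
      simpa [bf2_cg] using hK _ a (star c) (bf2_tok.2 (by rwa [star_star])))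
    (bf_perf hm) (bf_m2 hm) h.bf2_xrel (fun g _ hg g2 => by
      have hle : YG X ≤ XG (bf2_fr m δ) (fun a b l => X (bf2_ix a) (l • ee δ (bf2_ix b)) 0)
          fun a w c => X (bf2_ix a) w (star c) := (closure_le _).2 (by
        rintro _ ⟨i, a, c, hi, k, rfl⟩
        obtain ⟨b, rfl⟩ := bf2_surj hi
        refine bf2_ind (p := fun a c => X (bf2_ix b) a c ∈ XG _ _ _) hi (fun a c a' c' k k' p p' => ?_)
          (fun w c hw k => ?_) (fun l => ?_) (fun j l hj e1 e2 => ?_) k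
        · rw [← h.mul _ _ _ _ _ hi k k']
          exact mul_mem p p'
        · exact subset_closure (.inr ⟨b, w, star c, bf2_mem_V0 hw, bf2_tok.2 (by rwa [star_star]), by
            simp only [star_star]⟩)
        · rw [h.self _ _ hi]
          exact one_mem _
        · obtain ⟨b', rfl⟩ := bf2_surj hj
          exact subset_closure (.inl ⟨b, b', l, ap e1 e2, rfl⟩))
      have h3 : orderOf g ∣ Nat.card (centralizer (YG X : Set G)) :=
        orderOf_dvd_natCard _ (centralizer_le hle hg)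
      have h4 : orderOf g ∣ 2 := orderOf_dvd_of_pow_eq_one (by rw [pow_two, g2])
      exact orderOf_eq_one_iff.1 (Nat.eq_one_of_dvd_coprimes (Nat.coprime_two_right.2 ho) h3 h4))
  refine ⟨ψ, fun i a c hi k => ?_⟩
  obtain ⟨b, rfl⟩ := bf2_surj hi
  refine bf2_ind (p := fun a c => ψ (TS (ee δ (bf2_ix b)) a c) = X (bf2_ix b) a c) hi
    (fun a c a' c' k k' p p' => ?_) (fun w c hw k => ?_) (fun l => ?_) (fun j l hj e1 e2 => ?_) k
  · rw [← h.mul _ _ _ _ _ hi k k', ← TS_mul k k', map_mul, p, p']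
  · have := h2 b w (star c) (bf2_mem_V0 hw) (bf2_tok.2 (by rwa [star_star]))
    simpa [bf2_cg, bf2_fr] using this
  · rw [h.self _ _ hi, ← zero_add (l • _), TS_shift, add_assoc, k_two, TS_zero, map_one]
  · obtain ⟨b', rfl⟩ := bf2_surj hj
    have := h1 b b' (ap e1 e2) l
    simpa [Frame.xm, bf2_cg, bf2_fr] using this

end CfsgLib.SPC.BC
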