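import Cfsg.Agent.Lib.SPC.BNo

/-! Type C: `t` is not conjugate to a field involution -/

set_option autoImplicit false
set_option linter.unusedSectionVars false

namespace CfsgLib.SPC

open Subgroup Module CfsgLib.Forms CfsgLib.LieMult
open CfsgLib.HX (Std CO Two Mv M2)
open CfsgLib.UN (AV SI TI HH Rad Stb Yg Rg Eg Act nu)
open CfsgLib.ClSys (II)
open Submodule (span)
open scoped commutatorElement Pointwise

universe u

variable {F : Type} [Field F] [Finite F] {V : Type} [AddCommGroup V] [Module F V]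
  [FiniteDimensional F V] {P : PQ (RingHom.id F) V} {S : Type} [Group S] [Finite S] {G : Type u}
  [Group G] [Finite G] {C : CG P S} {φ : S →* G} {t : G}

namespace Mod

variable (h : Mod C) {α : RingAut F} {γ : AV V} (k : SI P α γ) (h1 : α ≠ 1) (h2 : α * α = 1)
  (h3 : ∀ v, γ (γ v) = v)
include h k h1 h2 h3

/-- fixed vectors span -/
theorem n2_ind {Q : V → Prop} (add : ∀ a b, Q a → Q b → Q (a + b)) (smul : ∀ (c : F) a, Q a → Q (c • a))
    {U : V → Prop} (uadd : ∀ a b, U a → U b → U (a + b)) (usmul : ∀ (c : F) a, U a → U (c • a))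
    (uγ : ∀ a, U a → U (γ a)) (H : ∀ p, γ p = p → U p → Q p) {v : V} (hv : U v) : Q v := by
  obtain ⟨θ, hθ⟩ := (h.aut_two h1 h2).1
  have fx : ∀ a, γ (a + γ a) = a + γ a := fun a => by rw [map_add, h3, add_comm]
  have e : v = (θ • v + γ (θ • v)) + α θ • (v + γ v) := by
    rw [k.semi, smul_add, add_comm (α θ • v), add_assoc, ← add_assoc (α θ • γ v), h.vadd_self, zero_add,
      ← add_smul, hθ, one_smul]
  rw [e]
  exact add _ _ (H _ (fx _) (uadd _ _ (usmul _ _ hv) (uγ _ (usmul _ _ hv))))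
    (smul _ _ (H _ (fx _) (uadd _ _ hv (uγ _ hv))))

theorem n2_ex {W : Submodule F V} {e a v : V} (he : γ e = e) (ha : γ a = a) (e1 : P.B e v = 0)
    (e2 : P.B a v = 0) (hv : v ∉ W) : ∃ b, γ b = b ∧ P.B e b = 0 ∧ P.B a b = 0 ∧ b ∉ W := by
  by_contra! H
  have g : ∀ {p x : V}, γ p = p → P.B p x = 0 → P.B p (γ x) = 0 := fun {p x} hp hx => by
    rw [← hp, k.B_eq, hx, map_zero]
  exact hv (h.n2_ind k h1 h2 h3 (Q := (· ∈ W)) (fun _ _ => W.add_mem) (fun c _ => W.smul_mem c)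
    (U := fun x => P.B e x = 0 ∧ P.B a x = 0)
    (fun x y hx hy => ⟨by rw [map_add, hx.1, hy.1, add_zero], by rw [map_add, hx.2, hy.2, add_zero]⟩)
    (fun c x hx => ⟨by rw [map_smul, hx.1, smul_zero], by rw [map_smul, hx.2, smul_zero]⟩)
    (fun x hx => ⟨g he hx.1, g ha hx.2⟩) (fun p hp hu => H p hp hu.1 hu.2) ⟨e1, e2⟩)

theorem n2_ne : ∃ e, γ e = e ∧ e ≠ 0 := by
  obtain ⟨v, hv⟩ := h.exists_ne0
  obtain ⟨b, hb, -, -, b0⟩ := h.n2_ex k h1 h2 h3 (W := ⊥) (map_zero γ) (map_zero γ) (v := v) (by simp) (by simp)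
    (by simpa using hv)
  exact ⟨b, hb, by simpa using b0⟩

theorem n2_dual {e a : V} (he : γ e = e) (ha : γ a = a) (l : Ln P e a) :
    ∃ c, γ c = c ∧ P.B e c = 0 ∧ P.B a c = 1 := by
  obtain ⟨θ, hθ⟩ := (h.aut_two h1 h2).1
  obtain ⟨f, f', hh⟩ := h.hh_of_ln l
  have g : ∀ {p : V}, γ p = p → P.B p (θ • f' + γ (θ • f')) = θ * P.B p f' + α (θ * P.B p f') :=
    fun {p} hp => by
      rw [map_add, map_smul, smul_eq_mul]
      congr 1
      conv_lhs => rw [← hp]
      rw [k.B_eq, map_smul, smul_eq_mul]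
  refine ⟨θ • f' + γ (θ • f'), by rw [map_add, h3, add_comm], ?_, ?_⟩
  · rw [g he, hh.ef, mul_zero, map_zero, add_zero]
  · rw [g ha, hh.h₂.ef, mul_one, hθ]

theorem n2_pl {e : V} (he : γ e = e) (e0 : e ≠ 0) : ∃ a b, γ a = a ∧ γ b = b ∧ P.B a b = 0 ∧
    Ln P e a ∧ Ln P e b ∧ Ln P e (a + b) := by
  obtain ⟨v, hv⟩ := h.exists_ln e0
  obtain ⟨a, ha, e1, -, a0⟩ := h.n2_ex k h1 h2 h3 he he hv.perp hv.perp hv.nmem
  have l : Ln P e a := ⟨e0, a0, e1⟩
  obtain ⟨f, f', hh⟩ := h.hh_of_ln l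
  obtain ⟨e₃, f₃, h3'⟩ := h.exists_h3 hh
  obtain ⟨b, hb, e2, e3, b0⟩ := h.n2_ex k h1 h2 h3 (W := span F {e, a}) he ha h3'.h13.ee h3'.h23.ee fun hm => by
    obtain ⟨c, d, e4⟩ := Submodule.mem_span_pair.1 hm
    have := h3'.h13.h₂.ef
    rw [← e4, h.B_comm, map_add, map_smul, map_smul, h.B_comm f₃, h.B_comm f₃, h3'.h13.ef, h3'.h23.ef,
      smul_zero, smul_zero, add_zero] at this
    exact zero_ne_one this
  have le : span F {e} ≤ span F {e, a} := Submodule.span_mono (by simp)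
  have am : a ∈ span F {e, a} := Submodule.subset_span (by simp)
  exact ⟨a, b, ha, hb, e3, l, ⟨e0, fun hm => b0 (le hm), e2⟩, ⟨e0, fun hm => b0 ((Submodule.add_mem_iff_right _ am).1
    (le hm)), by rw [map_add, e1, e2, add_zero]⟩⟩

end Mod

namespace HC

variable {w : V → V → G} {u : V → G} {δ : F} (h : HC C φ t w u δ)
include h

theorem n2_uz {e a : V} (k : P.B a e = 0) (c : F) : Commute (u e) (z C φ a c) :=
  h.bu_τ (map_zero _) k (by simp) c

theorem n2_line {e a : V} (k : P.B e a = 0) (ε : F) : u (e + a) * z C φ (e + a) ε =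
    u e * z C φ e ε * (u a * z C φ a ε) * (w e a * x C φ e (ε • a)) := by
  have hM := h.toHW.toSit.toEmb.toMod
  have k' : P.B a e = 0 := by rw [hM.B_comm, k]
  have c1 : Commute (w e a) (z C φ e ε) :=
    h.toHW.bw_τ k (map_zero _) (hM.B_self e) k (by simp) (by simp) ε
  have c2 : Commute (w e a) (z C φ a ε) :=
    h.toHW.bw_τ k (map_zero _) k' (hM.B_self a) (by simp) (by simp) ε
  have c3 := h.n2_uz k ε
  rw [h.uline e a k, h.z_line k]
  calc _ = u e * u a * (w e a * z C φ e ε) * z C φ a ε * x C φ e (ε • a) := by group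
    _ = u e * (u a * z C φ e ε) * (w e a * z C φ a ε) * x C φ e (ε • a) := by rw [c1.eq]; group
    _ = _ := by rw [c2.eq, c3.eq]; group

theorem n2_add {e a b : V} (k1 : P.B e a = 0) (k2 : P.B e b = 0) (k3 : P.B a b = 0) (ε : F) :
    w e (a + b) * x C φ e (ε • (a + b)) = w e a * x C φ e (ε • a) * (w e b * x C φ e (ε • b)) := by
  have hM := h.toHW.toSit.toEmb.toMod
  have s0 : ∀ {p q : V}, P.B p q = 0 → P.B p (ε • q) = 0 := fun e => by rw [map_smul, e, smul_zero]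
  have s1 : ∀ {p q : V}, P.B p q = 0 → P.B (ε • p) q = 0 := fun e => by rw [hM.B_smul_left, e, mul_zero]
  have c1 : Commute (w e b) (x C φ e (ε • a)) :=
    h.toHW.bw_τ k2 (s0 k1) (hM.B_self e) k2 (s1 (by rw [hM.B_comm, k1])) (s1 k3) 0
  rw [h.add e a b k1 k2 k3, smul_add, h.x_add (s0 k1) (s0 k2) (s0 (s1 k3))]
  calc _ = w e a * (w e b * x C φ e (ε • a)) * x C φ e (ε • b) := by group
    _ = _ := by rw [c1.eq]; group

theorem n2_sq (e : V) (ε : F) : u e * z C φ e ε * (u e * z C φ e ε) = z C φ e 1 := by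
  have c := h.n2_uz (h.toHW.toSit.toEmb.toMod.B_self e) ε
  calc _ = u e * (z C φ e ε * u e) * z C φ e ε := by group
    _ = u e * u e * (z C φ e ε * z C φ e ε) := by rw [← c.eq]; group
    _ = _ := by rw [h.usq, h.z_sq, mul_one]

theorem n2_perf {α : RingAut F} {γ : AV V} (k : SI P α γ) (h1 : α ≠ 1) (h2 : α * α = 1)
    (h3 : ∀ v, γ (γ v) = v) (ε : F) {H : Subgroup G}
    (hH : H = closure {g | ∃ p, γ p = p ∧ g = u p * z C φ p ε}) : H ≤ ⁅H, H⁆ := by
  have hM := h.toHW.toSit.toEmb.toMod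
  have m1 : ∀ p, γ p = p → u p * z C φ p ε ∈ H := fun p hp => hH ▸ subset_closure ⟨p, hp, rfl⟩
  have m2 : ∀ p, γ p = p → z C φ p 1 ∈ H := fun p hp => h.n2_sq p ε ▸ H.mul_mem (m1 p hp) (m1 p hp)
  have fa : ∀ {a b : V}, γ a = a → γ b = b → γ (a + b) = a + b := fun ha hb => by rw [map_add, ha, hb]
  have m3 : ∀ p a, γ p = p → γ a = a → P.B p a = 0 → x C φ p a ∈ H := fun p a hp ha e => by
    have := m2 _ (fa hp ha)
    rwa [h.z_line e, one_smul, H.mul_mem_cancel_left (H.mul_mem (m2 p hp) (m2 a ha))] at this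
  have key : ∀ e v, γ e = e → γ v = v → Ln P e v →
      u e * z C φ e ε * (w e v * x C φ e (ε • v)) ∈ ⁅H, H⁆ := fun e v he hv l => by
    obtain ⟨c, hc, e1, e2⟩ := hM.n2_dual k h1 h2 h3 he hv l
    have a1 : C.act (C.T e c 0) v = e + v := by
      rw [hM.x_app e1, l.perp, zero_smul, add_zero, hM.B_comm, e2, one_smul, add_comm]
    have a2 : x C φ e c * (u v * z C φ v ε) * (x C φ e c)⁻¹ = u (e + v) * z C φ (e + v) ε := by
      rw [← conj_mul, ← a1]
      exact congrArg₂ (· * ·) (h.ueqv _ v) (h.z_conj _ v ε)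
    rw [h.n2_line l.perp] at a2
    have hX := m3 e c he hc e1
    have hU := m1 e he
    have hV := m1 v hv
    generalize x C φ e c = X, u e * z C φ e ε = U, u v * z C φ v ε = Y, w e v * x C φ e (ε • v) = W at *
    have e3 : U * W = ⁅U, Y⁻¹⁆ * ⁅Y⁻¹, X⁆ := by
      have : W = Y⁻¹ * U⁻¹ * (X * Y * X⁻¹) := by rw [a2]; group
      rw [this]
      simp only [commutatorElement_def]
      group
    rw [e3]
    exact mul_mem (commutator_mem_commutator hU (H.inv_mem hV)) (commutator_mem_commutator (H.inv_mem hV) hX)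
  conv_lhs => rw [hH]
  refine (closure_le _).2 ?_
  rintro _ ⟨e, he, rfl⟩
  by_cases e0 : e = 0
  · rw [e0, h.bu_zero, h.z_zero', mul_one]
    exact one_mem _
  obtain ⟨a, b, ha, hb, e1, l1, l2, l3⟩ := hM.n2_pl k h1 h2 h3 he e0
  have k3 := key _ _ he (fa ha hb) l3
  rw [h.n2_add l1.perp l2.perp e1, ← mul_assoc, Subgroup.mul_mem_cancel_left _ (key _ _ he ha l1)] at k3
  exact (Subgroup.mul_mem_cancel_right _ k3).1 (key _ _ he hb l2)

end HC

theorem HC.no_C {w : V → V → G} {u : V → G} {δ : F} (h : HC C φ t w u δ) {s : G} (hc : IsConj t s)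
    (hs : s * t = t * s) {α : RingAut F} {γ : AV V} (k : Act C φ s α γ) : α = 1 := by
  by_contra h1
  have hS := h.toHW.toSit
  have hM := hS.toEmb.toMod
  obtain ⟨g, rfl⟩ := isConj_iff.1 hc
  have hS' := hS.cj g
  obtain ⟨α', γ', k', h1', h2', h3'⟩ := hS.out_symm hs k h1
  set φ' := (MulAut.conj g).toMonoidHom.comp φ
  generalize g * t * g⁻¹ = s at *
  have kk := hS.act_mul k k
  rw [hS'.t2] at kk
  obtain ⟨h2, h3⟩ := hS.act_unique kk (hS.act_cent (one_mem _))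
  replace h3 : ∀ v, γ (γ v) = v := fun v => congrArg (· v) h3
  obtain ⟨μ, hμ⟩ := h.uct s α γ hs k
  obtain ⟨e, he, e0⟩ := hM.n2_ne k.toSI h1 h2 h3
  have fμ : α μ = μ := by
    have e1 := congrArg (fun y => s * y * s⁻¹) (hμ e)
    simp only [he] at e1
    rw [show s * (s * u e * s⁻¹) * s⁻¹ = s * s * u e * (s * s)⁻¹ by group, hS'.t2, one_mul, inv_one, mul_one,
      ← conj_mul, hμ, hS.act_z k, he, mul_assoc (u e), ← hS.z_add, left_eq_mul, hS.z_eq_one] at e1
    exact (hM.eq_of_add (e1.resolve_left e0)).symm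
  obtain ⟨ε, hε⟩ := (hM.aut_two h1 h2).2.1 μ fμ
  have cH : closure {y | ∃ p, γ p = p ∧ y = u p * z C φ p ε} ≤ centralizer {s} := by
    refine (closure_le _).2 ?_
    rintro _ ⟨p, hp, rfl⟩ _ rfl
    rw [← mul_inv_eq_iff_eq_mul, ← conj_mul, hμ, hS.act_z k, hp, mul_assoc, ← hS.z_add, ← hε, add_assoc,
      hM.add_self, add_zero]
  obtain ⟨s', hs'⟩ := hS'.mem_of_perf cH (h.n2_perf k.toSI h1 h2 h3 ε rfl) (subset_closure ⟨e, he, rfl⟩)
    (by rw [show (4 : ℕ) = 2 * 2 from rfl, pow_mul, sq, sq, h.n2_sq, hS.z_sq])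
  have hj : φ' (s' * s') = z C φ e 1 := by rw [map_mul, hs', h.n2_sq]
  have j2 : s' * s' * (s' * s') = 1 := hS'.inj (by rw [map_mul, hj, hS.z_sq, map_one])
  have cH' : Hg C φ' γ' ≤ centralizer {t} := by
    refine (closure_le _).2 ?_
    rintro _ ⟨p, hp, rfl⟩ _ rfl
    rw [← mul_inv_eq_iff_eq_mul, hS'.act_z k', hp, map_one]
  have fx : ∀ p, γ' p = p → C.act (s' * s') p = p → C.act s' p = p := fun p hp hp' => by
    obtain ⟨l, hl⟩ := hS.mem_of_perf cH' (hS'.hg_perf k'.toSI h1' h2' h3') (subset_closure ⟨p, hp, rfl⟩)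
      (by rw [show (4 : ℕ) = 2 * 2 from rfl, pow_mul, sq, sq, hS'.z_sq, mul_one])
    have e1 := hS'.z_conj (s' * s') p 1
    rw [hp', hj, ← hl, mul_inv_eq_iff_eq_mul] at e1
    have e2 : C.act l e = e := hS.z_one_inj (by rw [← hS.z_conj, ← e1, mul_inv_cancel_right])
    have e3 := hS.z_conj l e ε
    rw [e2, mul_inv_eq_iff_eq_mul] at e3
    have e4 : Commute (u e * z C φ e ε) (φ l) := (h.bu_fix e2).mul_left e3.symm
    rw [← hs', hl] at e4
    exact hM.fix_of_comm one_ne_zero (hS'.inj (by rw [map_mul, map_mul]; exact e4.eq))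
  obtain ⟨M, lM, hM'⟩ := hM.invol_mem_E j2
  have ct : t * φ' (s' * s') = φ' (s' * s') * t := by rw [hj]; exact (hS.tL ⟨_, rfl⟩).symm
  have : s' ∈ C.fixG (P.perp M) := fun v hv =>
    hM.n2_ind k'.toSI h1' h2' h3' (Q := fun v => C.act s' v = v) (U := fun v => C.act (s' * s') v = v)
      (fun a b ha hb => by rw [map_add, ha, hb]) (fun c a ha => by rw [map_smul, ha])
      (fun a b ha hb => by rw [map_add, ha, hb]) (fun c a ha => by rw [map_smul, ha])
      (fun a ha => by rw [hS'.mx_comm k' ct, ha]) fx (hM' v hv)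
  rw [hM.E_sq (hM.lag_ti lM) this, map_one, eq_comm, hS.z_eq_one] at hj
  exact hj.elim e0 one_ne_zero

end CfsgLib.SPC
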