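import Cfsg.Agent.Lib.SPC.BDic
import Cfsg.Agent.Lib.SPC.BNo2

/-! `MM` from the dictionary -/

set_option autoImplicit false
set_option linter.unusedSectionVars false

namespace CfsgLib.SPC.BC

open Subgroup Module CfsgLib.Forms CfsgLib.LieMult Matrix
open CfsgLib.HX (Std CO Two Mv M2)
open CfsgLib.UN (AV SI TI HH Rad Stb Yg Rg Eg Act nu)
open CfsgLib.ClSys (II)
open Submodule (span)
open scoped commutatorElement Pointwise

universe u

variable {F : Type} [Field F] [Finite F] [CharP F 2] {V : Type} [AddCommGroup V] [Module F V]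
  [FiniteDimensional F V] {P : PQ (RingHom.id F) V} {S : Type} [Group S] [Finite S] {G : Type u}
  [Group G] [Finite G] {C : CG P S} {φ : S →* G} {t : G} {m : ℕ} {δ : F}
  {cv : V →ₗ[F] Vk m δ} {ι : S →* Sg m δ} {ψ : Sg m δ →* G} {w : V → V → G} {u v : V → G}

theorem bdic2_wτ (h : HW C φ t w 1 δ) {e a b : V} (k : P.B e a = 0) (k' : P.B e b = 0) (c : F) :
    w e a * τ C φ e b c = τ C φ e b (c + P.B a b) * w e a := by
  have := h.wQ e a b c k k'
  rw [one_mul] at this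
  rw [← this, mul_assoc, h.sq e a k, mul_one]

theorem bdic2_wx (h : HW C φ t w 1 δ) {e a : V} (k : P.B e a = 0) (μ : F) :
    w e a * x C φ e (μ • a) = τ C φ e (μ • a) 0 * w e a := by
  have := bdic2_wτ h k (b := μ • a) (by rw [map_smul, k, smul_zero]) 0
  rwa [map_smul, h.B_self, smul_zero, add_zero] at this

theorem bdic2_del (h : HW C φ t w 1 δ) {g : G} {α : RingAut F} {γ : AV V} (k : Act C φ g α γ) {μ : F}
    (hμ : ∀ e a, P.B e a = 0 → g * w e a * g⁻¹ = w (γ e) (γ a) * x C φ (γ e) (μ • γ a)) :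
    α δ = δ + μ * μ + μ := by
  obtain ⟨e, e0⟩ := h.toMod.exists_ne0
  obtain ⟨f, hf⟩ := h.exists_hp e0
  obtain ⟨a, b, hh⟩ := h.exists_hh hf
  have ab : P.B a b = 1 := h.hp_iff.1 hh.h₂
  have k0 : γ e ≠ 0 := fun q => e0 (γ.map_eq_zero_iff.1 q)
  have k1 : P.B (γ e) (γ a) = 0 := by rw [k.B_eq, hh.ee, map_zero]
  have k2 : P.B (γ e) (γ b) = 0 := by rw [k.B_eq, hh.ef, map_zero]
  have k3 : P.B (γ a) (γ b) = 1 := by rw [k.B_eq, ab, map_one]
  have k4 : P.B (γ e) (γ a + γ b) = 0 := by rw [map_add, k1, k2, add_zero]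
  have s : ∀ {p : V}, P.B (γ e) p = 0 → P.B (γ e) (μ • p) = 0 := fun q => by rw [map_smul, q, smul_zero]
  have e1 : g * _ * g⁻¹ = g * _ * g⁻¹ := congrArg (fun y => g * y * g⁻¹) (h.del rfl e a b hh.ee hh.ef)
  rw [← conj_mul, ← conj_mul, hμ e a hh.ee, hμ e b hh.ef, hμ e (a + b) (by rw [map_add, hh.ee, hh.ef, add_zero]), h.act_z k,
    map_add, bdic2_wx h k1, bdic2_wx h k2, bdic2_wx h k4, h.bw_mul (s k1) k1 (s k2) k2, mul_assoc,
    show z C φ (γ e) (α (δ * P.B a b)) = τ C φ (γ e) 0 (α (δ * P.B a b)) from rfl,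
    bdic2_wτ h k4 (map_zero _), ← mul_assoc, mul_left_inj, h.τ_mul (s k4) (map_zero _),
    h.τ_eq_iff k0 (by rw [map_add, s k1, s k2, add_zero]) (by rw [add_zero, s k4])] at e1
  have e2 := e1.2
  simp only [map_smul, LinearMap.smul_apply, k3, ab, map_zero, smul_eq_mul, mul_one, zero_add, add_zero] at e2
  linear_combination -e2

theorem bdic2_mu (h : HC C φ t w u δ) {g : G} {α : RingAut F} {γ : AV V} (k : Act C φ g α γ) {μ ν : F}
    (hμ : ∀ e a, P.B e a = 0 → g * w e a * g⁻¹ = w (γ e) (γ a) * x C φ (γ e) (μ • γ a))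
    (hν : ∀ e, g * u e * g⁻¹ = u (γ e) * z C φ (γ e) ν) : ν = μ := by
  obtain ⟨e, e0⟩ := h.toMod.exists_ne0
  obtain ⟨a, l⟩ := h.exists_ln e0
  have l' := SI_ln k.toSI l
  have k1 := l'.perp
  have k2 : P.B (γ a) (γ e) = 0 := by rw [h.B_comm, k1]
  have s : ∀ c : F, P.B (γ e) (c • γ a) = 0 := fun c => by rw [map_smul, k1, smul_zero]
  have e1 : g * _ * g⁻¹ = g * _ * g⁻¹ := congrArg (fun y => g * y * g⁻¹) (h.uline e a l.perp)
  have c1 : Commute (u (γ a)) (z C φ (γ e) ν) := h.bu_τ (map_zero _) k1 (by simp) ν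
  have c2 : Commute (w (γ e) (γ a)) (z C φ (γ e) ν) :=
    h.toHW.bw_τ k1 (map_zero _) (h.B_self _) k1 (by simp) (by simp) ν
  have c3 : Commute (w (γ e) (γ a)) (z C φ (γ a) ν) :=
    h.toHW.bw_τ k1 (map_zero _) k2 (h.B_self _) (by simp) (by simp) ν
  rw [← conj_mul, ← conj_mul, hν, hν, hν, hμ e a l.perp, map_add, h.uline _ _ k1, h.z_line k1] at e1
  simp only [mul_assoc] at e1
  rw [c1.symm.left_comm, c3.symm.left_comm, c2.symm.left_comm] at e1
  simp only [mul_right_inj] at e1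
  have e2 := h.x_add (s ν) (s μ) (by rw [map_smul, h.B_smul_left, h.B_self, mul_zero, smul_zero])
  rw [← add_smul, e1, h.x_sq (s μ), h.x_eq_one l'] at e2
  exact h.eq_of_add e2

theorem bdic2_rv {A : Vk m δ} (hA : star A = A) :
    star (hf (v0 m δ) A) = hf (v0 m δ) A ∧ RV (A + hf (v0 m δ) A • v0 m δ) := by
  have e : star (hf (v0 m δ) A) = hf (v0 m δ) A := by rw [← hf_star, star_v0, hA]
  refine ⟨e, by rw [star_add, star_smul, e, hA, star_v0], fun i hi => ?_⟩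
  rw [v0_eq hi, hf_ee_left, ← hi, Pi.add_apply, Pi.smul_apply, ee, Pi.single_eq_same, smul_eq_mul, mul_one,
    k_two]

namespace Dic

variable (h : HW C φ t w 1 δ) (hC : Odd m → HC C φ t w u δ) (d : Dic C φ t w u cv ι ψ) (h6 : 6 ≤ m)
include h d h6

omit h6 in
theorem bdic2_τ {e a : V} (k : P.B e a = 0) (c : F) : ψ (TS (cv e) (cv a) (rt δ c)) = τ C φ e a c := by
  rw [← d.toIo.T h.toMod k, d.ext, τ]

include hC in
theorem bdic2_ac {g : G} (hg : g * t = t * g) {α : RingAut F} {γ : AV V} (k : Act C φ g α γ)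
    (hγ : ∀ a : Fa δ, (∀ c, a.1 (rt δ c) = rt δ (α c)) → ∀ y, cv (γ y) = a.1 ∘ cv y) : ∃ a, Ac ψ g a := by
  obtain ⟨μ, hμ⟩ := h.ct g α γ hg k
  obtain ⟨a, ha, hω⟩ := exists_Fa (bdic2_del h k hμ)
  have e := hγ a ha
  let H : Subgroup (Sg m δ) := ((MulAut.conj g).toMonoidHom.comp ψ).eqLocus (ψ.comp (mp a))
  have mem : ∀ s, s ∈ H ↔ g * ψ s * g⁻¹ = ψ (mp a s) := fun _ => Iff.rfl
  have hR : Rat m δ ≤ H := by
    rw [← d.rng]
    rintro _ ⟨s, rfl⟩
    obtain ⟨s', hs⟩ := h.toMod.exists_conj k.toSI s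
    rw [mem, d.toIo.mp h.toMod e hs, d.ext, d.ext, k.conj s s' hs]
  have hw : ∀ p r, P.B p r = 0 → TS (cv p) (om δ • cv r) 0 ∈ H := fun p r q => by
    have q' : P.B (γ p) (γ r) = 0 := by rw [k.B_eq, q, map_zero]
    have q'' : P.B (γ p) (μ • γ r) = 0 := by rw [map_smul, q', smul_zero]
    have o1 := Ok.w (d.rv _) (d.rv _) ((d.toCrd.perp h.toMod).2 q')
    have o2 := Ok.rv (d.rv _) (d.rv _) ((d.toCrd.perp h.toMod).2 q'') 0
    have := d.bdic2_τ h q'' 0
    rw [mem, d.hw p r q, hμ p r q, mp_TS (Ok.w (d.rv p) (d.rv r) ((d.toCrd.perp h.toMod).2 q)),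
      ← d.hw _ _ q', show x C φ (γ p) (μ • γ r) = τ C φ (γ p) (μ • γ r) 0 from rfl, ← this, ← map_mul,
      TS_mul o1 o2, ← e, d.toCrd.smul h.toMod, hf_smul_left, hf_smul_right, (d.rv _).self, e r]
    congr 2
    · funext i
      simp only [Pi.add_apply, Pi.smul_apply, Function.comp, smul_eq_mul, map_mul, hω, add_mul]
    · simp
  have hu : Odd m → ∀ p, TS (cv p) (v0 m δ) (om δ) ∈ H := fun hm p => by
    obtain ⟨ν, hν⟩ := (hC hm).uct g α γ hg k
    have := d.bdic2_τ h (e := γ p) (a := 0) (map_zero _) μ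
    have o2 := Ok.rv (d.rv (γ p)) (d.rv 0) ((d.toCrd.perp h.toMod).2 (map_zero _)) μ
    rw [mem, d.hu hm, hν, bdic2_mu (hC hm) k hμ hν, mp_TS (Ok.u hm (d.rv p)), ← d.hu hm,
      show z C φ (γ p) μ = τ C φ (γ p) 0 μ from rfl, ← this, ← map_mul, TS_mul (Ok.u hm (d.rv _)) o2, ← e,
      hω, map_zero, add_zero, hf_zero_right, add_zero]
    congr 2
    funext i
    simp only [Function.comp, v0, apply_ite a.1, map_one, map_zero]
  have top : H = ⊤ := by
    refine gen' h6 (fun i A c hi hA o => ?_) fun i j hi hj h1 h2 => ?_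
    · obtain ⟨r1, r2⟩ := bdic2_rv hA
      rcases Nat.even_or_odd m with hm | hm
      · rw [v0_even hm, smul_zero, add_zero] at r2
        have := o.cc
        rw [r2.self] at this
        exact hR (TS_rat o (star_ee i) hA (by linear_combination this - k_two c))
      · obtain ⟨p, -, hp⟩ := d.toCrd.exists_ee h.toMod hi
        obtain ⟨l, hl⟩ := rat_iff.1 r1
        rw [hl] at r2
        have m1 := hu hm (l • p)
        rw [d.toCrd.smul h.toMod, hp, TS_smul, star_rt] at m1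
        have o1 : Ok (ee δ i) (rt δ l • v0 m δ) (rt δ l * rt δ l * om δ) :=
          ⟨o.ee, by rw [hf_smul_right, (RV.ee hi).v0_right, mul_zero], by
            rw [hf_smul_left, hf_smul_right, hf_v0 hm, star_mul', star_mul', star_rt, star_om]
            linear_combination k_two (rt δ l * rt δ l * om δ)⟩
        have o2 := o.add o1
        have m2 := hR (TS_rat o2 (star_ee i) r2.rat (by
          have := o2.cc
          rw [r2.self] at this
          linear_combination this - k_two (c + rt δ l * rt δ l * om δ + hf A (rt δ l • v0 m δ))))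
        rw [← TS_mul o o1] at m2
        exact (H.mul_mem_cancel_right m1).1 m2
    · obtain ⟨p, -, hp⟩ := d.toCrd.exists_ee h.toMod hi
      obtain ⟨r, -, hr⟩ := d.toCrd.exists_ee h.toMod hj
      rw [← hp, ← hr]
      refine hw p r ((d.toCrd.perp h.toMod).1 ?_)
      rw [hp, hr, hf_ee_left, ee, Pi.single_eq_of_ne h2.symm]
  exact ⟨a, fun s => (mem s).1 (top ▸ mem_top s)⟩

include hC in
theorem ct_of {g : G} (hg : g * t = t * g) : ∃ l ∈ Rat m δ, ∃ a, Ac ψ ((ψ l)⁻¹ * g) a := by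
  obtain ⟨α, γ, k⟩ := h.exists_act (h.norm_of hg)
  obtain ⟨μ, hμ⟩ := h.ct g α γ hg k
  obtain ⟨a, ha, -⟩ := exists_Fa (bdic2_del h k hμ)
  obtain ⟨γ₀, k₀, e₀⟩ := d.toCrd.exists_semi h.toMod a ha
  have k1 := SI_mul k.toSI (SI_inv k₀)
  rw [mul_inv_cancel] at k1
  obtain ⟨l, hl⟩ := h.full
    { toFun := fun v => (γ * γ₀⁻¹) v, map_add' := map_add _, map_smul' := k1.semi } k1.B_eq
  have k2 := h.act_mul (h.act_inv (h.act_self l)) k
  rw [show (C.act l).restrictScalars ℤ = γ * γ₀⁻¹ from LinearEquiv.ext hl, inv_one, one_mul,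
    _root_.mul_inv_rev, inv_inv, inv_mul_cancel_right] at k2
  refine ⟨ι l, d.rng ▸ ⟨l, rfl⟩, ?_⟩
  rw [d.ext]
  refine d.bdic2_ac h hC h6 ?_ k2 fun b hb y => ?_
  · rw [mul_assoc, hg, ← map_inv, ← mul_assoc, h.tl, mul_assoc]
  · rw [e₀]
    funext i
    obtain ⟨c, hc⟩ := rat_iff.1 ((d.rv y).bk2_at i)
    rw [Function.comp, Function.comp, hc, ha, hb]

include hC in
theorem mm (hB : Even m → ¬ Tz C φ t) (ho : Odd (Nat.card (centralizer (ψ.range : Set G)))) : MM ψ t := by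
  refine ⟨h6, h.t2, d.ker_le h h6, d.tc, fun g hg => d.ct_of h hC h6 hg, ho, fun s a h1 h2 h3 c => ?_,
    fun hm y hy y0 hc => hB hm ?_⟩
  · obtain ⟨α, hα⟩ := Fa_rt a
    obtain ⟨γ, k⟩ := d.act_of h h6 h3 hα
    have : α = 1 := by
      rcases Nat.even_or_odd m with hm | hm
      exacts [h.toSit.no_B (hB hm) h1 h2 k, (hC hm).no_C h1 h2 k]
    rw [hα, this]
    rfl
  · obtain ⟨e, rfl⟩ := d.surj y hy
    have := d.bdic2_τ h (e := e) (a := 0) (map_zero _) 1
    rw [map_zero, map_one] at this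
    rw [this] at hc
    exact ⟨e, fun q => y0 (by rw [q, map_zero]), isConj_iff.1 hc⟩

end Dic

end CfsgLib.SPC.BC
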