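import Cfsg.Agent.Lib.SPC.BDefs

/-! The ring `K` -/

set_option autoImplicit false
set_option linter.unusedSectionVars false

namespace CfsgLib.SPC.BC

open Subgroup Module Matrix CfsgLib.UFP
open scoped commutatorElement Pointwise

universe u

variable {F : Type} [Field F] [Finite F] [CharP F 2] {m : ℕ} {δ : F} {G : Type u} [Group G] [Finite G]

instance kchar : CharP (KK δ) 2 :=
  charP_of_injective_algebraMap (QuadraticAlgebra.algebraMap_injective (R := F)) 2

theorem k_two (x : KK δ) : x + x = 0 := CharTwo.add_self_eq_zero x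

theorem k_sq_zero {x : KK δ} (e : x * x = 0) : x = 0 := by
  have h1 := congrArg QuadraticAlgebra.re e
  have h2 := congrArg QuadraticAlgebra.im e
  simp only [QuadraticAlgebra.re_mul, QuadraticAlgebra.im_mul, QuadraticAlgebra.re_zero,
    QuadraticAlgebra.im_zero] at h1 h2
  have h3 : x.im = 0 := mul_self_eq_zero.1 (by
    linear_combination h2 - x.re * x.im * (CharTwo.two_eq_zero : (2 : F) = 0))
  rw [h3] at h1
  exact QuadraticAlgebra.ext (mul_self_eq_zero.1 (by simpa using h1)) h3

theorem k_sq_one {x : KK δ} (e : x * x = 1) : x = 1 := by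
  have : x + 1 = 0 := k_sq_zero (by linear_combination e + k_two x + k_two (1 : KK δ))
  linear_combination this - k_two (1 : KK δ)

theorem k_pow_one {x : KK δ} {n : ℕ} (e : x ^ 2 ^ n = 1) : x = 1 := by
  induction n with
  | zero => simpa using e
  | succ n ih => exact ih (k_sq_one (by rw [← e, pow_succ, pow_mul, pow_two]))

theorem rt_inj {c d : F} (e : rt δ c = rt δ d) : c = d := QuadraticAlgebra.algebraMap_injective e

theorem star_rt (c : F) : star (rt δ c) = rt δ c := QuadraticAlgebra.ext (by simp) (by simp)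

theorem rat_iff {x : KK δ} : star x = x ↔ ∃ c, x = rt δ c := by
  refine ⟨fun e => ⟨x.re, QuadraticAlgebra.ext rfl ?_⟩, ?_⟩
  · simpa using congrArg QuadraticAlgebra.re e
  · rintro ⟨c, rfl⟩
    exact star_rt c

theorem star_om : star (om δ) = om δ + 1 := 
  QuadraticAlgebra.ext (by simp [om, QuadraticAlgebra.re_one])
    (by simp [om, CharTwo.neg_eq, QuadraticAlgebra.im_one])

theorem om_sq : om δ * om δ = om δ + rt δ δ := QuadraticAlgebra.ext (by simp [om]) (by simp [om])

theorem k_dec (x : KK δ) : x = rt δ x.re + om δ * rt δ x.im := QuadraticAlgebra.ext (by simp [om]) (by simp [om])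

theorem add_star (x : KK δ) : x + star x = rt δ x.im := 
  QuadraticAlgebra.ext (by simp [← add_assoc, CharTwo.add_self_eq_zero]) (by simp)

theorem bk_rt (a : Fa δ) : ∃ α : RingAut F, ∀ c, a.1 (rt δ c) = rt δ (α c) := by
  have h : ∀ c, ∃ d, a.1 (rt δ c) = rt δ d := fun c => rat_iff.1 (by rw [← a.2, star_rt])
  choose f hf using h
  let g : F →+* F :=
    { toFun := f
      map_one' := rt_inj (δ := δ) (by rw [← hf, map_one, map_one])
      map_zero' := rt_inj (δ := δ) (by rw [← hf, map_zero, map_zero])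
      map_add' c d := rt_inj (δ := δ) (by simp only [map_add, ← hf])
      map_mul' c d := rt_inj (δ := δ) (by simp only [map_mul, ← hf]) }
  exact ⟨RingEquiv.ofBijective g (Finite.injective_iff_bijective.1 g.injective), hf⟩

theorem bk_fix {a : Fa δ} (e : ∀ c : F, a.1 (rt δ c) = rt δ c) : a = 1 ∨ a = bA δ := by
  have h1 : a.1 (om δ) + star (a.1 (om δ)) = 1 := by
    rw [← a.2, ← map_add, star_om, ← add_assoc, k_two, zero_add, map_one]
  have h2 : a.1 (om δ) * a.1 (om δ) = a.1 (om δ) + rt δ δ := by rw [← map_mul, om_sq, map_add, e]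
  obtain ⟨μ, hμ⟩ : ∃ μ, a.1 (om δ) + om δ = rt δ μ := rat_iff.1 (by
    rw [star_add, star_om]
    linear_combination h1 - k_two (a.1 (om δ)) + k_two (1 : KK δ))
  have h3 : μ * (μ + 1) = 0 := rt_inj (δ := δ) (by
    rw [map_mul, map_add, map_one, map_zero, ← hμ]
    linear_combination h2 + om_sq (δ := δ) + k_two (a.1 (om δ) * om δ) + k_two (a.1 (om δ)) +
      k_two (om δ) + k_two (rt δ δ))
  have key : ∀ b : Fa δ, (∀ c : F, b.1 (rt δ c) = rt δ c) → a.1 (om δ) = b.1 (om δ) → a = b :=
    fun b e' k => Subtype.ext (RingEquiv.ext fun x => by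
      rw [k_dec x, map_add, map_add, map_mul, map_mul, e, e, e', e', k])
  rcases mul_eq_zero.1 h3 with h | h
  · refine Or.inl (key 1 (fun _ => rfl) ?_)
    rw [h, map_zero] at hμ
    exact CharTwo.add_eq_zero.1 hμ
  · refine Or.inr (key _ star_rt ?_)
    rw [CharTwo.add_eq_zero.1 h, map_one] at hμ
    change _ = star (om δ)
    rw [star_om]
    linear_combination hμ - k_two (om δ)

theorem Fa_comm (a b : Fa δ) : a * b = b * a := by
  obtain ⟨α, hα⟩ := bk_rt a
  obtain ⟨i, hi⟩ : ∃ i, ∀ c, α c = c ^ 2 ^ i := by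
    let _ := ZMod.algebra F 2
    obtain ⟨i, hi⟩ := FiniteField.exists_forall_apply_eq_pow (ZMod 2) 2 F
      (AlgEquiv.ofRingEquiv (f := α) fun x =>
        RingHom.congr_fun (Subsingleton.elim ((α : F →+* F).comp (algebraMap _ F)) (algebraMap _ F)) x)
    exact ⟨i, fun c => (hi c).trans (by rw [Nat.card_zmod])⟩
  let f : Fa δ := ⟨RingEquiv.ofBijective (iterateFrobenius (KK δ) 2 i)
    (Finite.injective_iff_bijective.1 ((injective_iff_map_eq_zero _).2 fun x hx => by
      rw [iterateFrobenius_def] at hx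
      clear hi
      induction i with
      | zero => simpa using hx
      | succ n ih => exact ih (k_sq_zero (by rw [← hx, pow_succ, pow_mul, pow_two])))),
    fun x => (star_pow x _).symm⟩
  have hf : ∀ x, f.1 x = x ^ 2 ^ i := fun _ => rfl
  have c1 : f * b = b * f := Subtype.ext (RingEquiv.ext fun x => (map_pow b.1 x _).symm)
  have c2 : bA δ * b = b * bA δ := Subtype.ext (RingEquiv.ext fun x => (b.2 x).symm)
  have h1 := bk_fix (a := f⁻¹ * a) fun c => f.1.injective (by
    change f.1 (f.1.symm (a.1 _)) = _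
    rw [RingEquiv.apply_symm_apply, hα, hi, hf, map_pow])
  rw [inv_mul_eq_iff_eq_mul, inv_mul_eq_iff_eq_mul] at h1
  rcases h1 with h1 | h1
  · rw [h1, mul_one, c1]
  · rw [h1, mul_assoc, c2, ← mul_assoc, c1, mul_assoc]

theorem Fa_fix {a : Fa δ} (e : ∀ c : F, a.1 (rt δ c) = rt δ c) : a = 1 ∨ a = bA δ := bk_fix e

theorem Fa_rt (a : Fa δ) : ∃ α : RingAut F, ∀ c, a.1 (rt δ c) = rt δ (α c) := bk_rt a

theorem Fa_free {a : Fa δ} (a2 : a * a = 1) (e : ¬ ∀ c : F, a.1 (rt δ c) = rt δ c) :
    ∃ c : F, rt δ c + a.1 (rt δ c) = 1 := by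
  obtain ⟨α, hα⟩ := Fa_rt a
  obtain ⟨c, hc⟩ := not_forall.1 e
  have h2 : α (α c) = c := rt_inj (δ := δ) (by
    rw [← hα, ← hα]
    exact RingEquiv.congr_fun (congrArg Subtype.val a2) _)
  have h0 : c + α c ≠ 0 := fun k => hc (by rw [hα, ← CharTwo.add_eq_zero.1 k])
  refine ⟨c / (c + α c), ?_⟩
  rw [hα, ← map_add, map_div₀ α, map_add α, h2, add_comm (α c), ← add_div, div_self h0, map_one]

theorem exists_Fa {α : RingAut F} {μ : F} (e : α δ = δ + μ * μ + μ) :
    ∃ a : Fa δ, (∀ c, a.1 (rt δ c) = rt δ (α c)) ∧ a.1 (om δ) = om δ + rt δ μ := by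
  have t2 : (2 : F) = 0 := CharTwo.two_eq_zero
  let f : KK δ →+* KK δ :=
    { toFun x := ⟨α x.re + μ * α x.im, α x.im⟩
      map_one' := QuadraticAlgebra.ext (by simp [QuadraticAlgebra.re_one, QuadraticAlgebra.im_one])
        (by simp [QuadraticAlgebra.im_one])
      map_zero' := QuadraticAlgebra.ext (by simp) (by simp)
      map_add' x y := QuadraticAlgebra.ext (by simp; ring) (by simp)
      map_mul' x y := QuadraticAlgebra.ext (by
        simp only [QuadraticAlgebra.re_mul, QuadraticAlgebra.im_mul, map_add, map_mul, e, map_one]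
        linear_combination (μ * α x.im * α y.im) * t2) (by
        simp only [QuadraticAlgebra.im_mul, map_add, map_mul, map_one]
        linear_combination (-μ * α x.im * α y.im) * t2) }
  have hi : Function.Injective f := (injective_iff_map_eq_zero _).2 fun x hx => by
    have h1 : α x.re + μ * α x.im = 0 := congrArg QuadraticAlgebra.re hx
    have h2 : α x.im = 0 := congrArg QuadraticAlgebra.im hx
    rw [h2, mul_zero, add_zero] at h1
    exact QuadraticAlgebra.ext (by simpa using h1) (by simpa using h2)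
  refine ⟨⟨RingEquiv.ofBijective f (Finite.injective_iff_bijective.1 hi), fun x => ?_⟩, fun c => ?_, ?_⟩
  · refine QuadraticAlgebra.ext ?_ ?_
    · change α (star x).re + μ * α (star x).im = (star (f x)).re
      simp only [QuadraticAlgebra.re_star, QuadraticAlgebra.im_star, f, RingHom.coe_mk,
        MonoidHom.coe_mk, OneHom.coe_mk, map_add, one_mul, CharTwo.neg_eq]
      ring
    · change α (star x).im = (star (f x)).im
      simp [f]
  · exact QuadraticAlgebra.ext (by simp [f]) (by simp [f])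
  · exact QuadraticAlgebra.ext (by simp [f, om]) (by simp [f, om])

theorem bA_sq : bA δ * bA δ = 1 := Subtype.ext (RingEquiv.ext fun x => star_star x)

theorem mp_one (s : Sg m δ) : mp 1 s = s := mat_inj rfl

theorem mp_mul (a b : Fa δ) (s : Sg m δ) : mp (a * b) s = mp a (mp b s) := mat_inj rfl

theorem sb_sb (s : Sg m δ) : sb (sb s) = s := mat_inj (bar_bar _)

theorem mem_Rat {s : Sg m δ} : s ∈ Rat m δ ↔ bar (mat s) = mat s := ⟨fun h => congrArg mat h, fun h => mat_inj h⟩

theorem mp_Rat (a : Fa δ) {s : Sg m δ} (h : s ∈ Rat m δ) : mp a s ∈ Rat m δ := 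
  mem_Rat.2 (Matrix.ext fun i j => by
    change star (a.1 (mat s i j)) = a.1 (mat s i j)
    rw [← a.2, ← bar_apply, mem_Rat.1 h])

theorem mp_Mh (a : Fa δ) {h : ℕ} {s : Sg m δ} (hs : s ∈ Mh m δ h) : mp a s ∈ Mh m δ h := by
  intro i j k
  have := congrArg a.1 (hs i j k)
  rw [Matrix.sub_apply, map_sub, map_zero] at this
  rw [← this, Matrix.sub_apply, one_apply]
  congr 1
  split_ifs <;> simp

end CfsgLib.SPC.BC
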