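import Cfsg.Agent.Lib.SPC.BW
import Cfsg.Agent.Lib.SPC.Max

/-! Types B and C: `t` is not conjugate to a field involution -/

set_option autoImplicit false
set_option linter.unusedSectionVars false

namespace CfsgLib.SPC

open Subgroup Module CfsgLib.Forms CfsgLib.LieMult
open CfsgLib.HX (Std CO Two Mv M2)
open CfsgLib.UN (AV SI TI HH Rad Stb Yg Rg Eg Act nu)
open CfsgLib.ClSys (II)
open Submodule (span)
open scoped commutatorElement Pointwise

universe u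

variable {F : Type} [Field F] [Finite F] {V : Type} [AddCommGroup V] [Module F V]
  [FiniteDimensional F V] {P : PQ (RingHom.id F) V} {S : Type} [Group S] [Finite S] {G : Type u}
  [Group G] [Finite G] {C : CG P S} {φ : S →* G} {t : G}

/-- the transvections with `γ`-fixed centre -/
def Hg (C : CG P S) (φ : S →* G) (γ : AV V) : Subgroup G := closure {g | ∃ p, γ p = p ∧ g = z C φ p 1}

/-- fixed vectors span every `γ`-invariant subspace -/
theorem Mod.bno_ex (h : Mod C) {α : RingAut F} {γ : AV V} (k : SI P α γ) (h1 : α ≠ 1) (h2 : α * α = 1)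
    (h3 : ∀ v, γ (γ v) = v) {W U : Submodule F V} (hW : ∀ v ∈ W, γ v ∈ W) (hU : ¬ W ≤ U) :
    ∃ p ∈ W, γ p = p ∧ p ∉ U := by
  obtain ⟨θ, hθ⟩ := (h.aut_two h1 h2).1
  by_contra hn
  push Not at hn
  refine hU fun v hv => ?_
  have f : ∀ w ∈ W, w + γ w ∈ U := fun w hw =>
    hn _ (add_mem hw (hW w hw)) (by rw [map_add, h3, add_comm])
  have e : v = θ • v + γ (θ • v) + α θ • (v + γ v) := by
    rw [k.semi, smul_add, add_assoc, add_comm (α θ • v), ← add_assoc (α θ • γ v), h.vadd_self, zero_add,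
      ← add_smul, hθ, one_smul]
  rw [e]
  exact add_mem (f _ (W.smul_mem _ hv)) (U.smul_mem _ (f v hv))

theorem Mod.bno_orth (h : Mod C) {α : RingAut F} {γ : AV V} (k : SI P α γ) (h1 : α ≠ 1) (h2 : α * α = 1)
    (h3 : ∀ v, γ (γ v) = v) {p a : V} (hp : γ p = p) (ha : γ a = a) :
    ∃ b, γ b = b ∧ P.B p b = 0 ∧ P.B a b = 0 ∧ b ∉ span F {p, a} := by
  classical
  obtain ⟨b, b1, b2, b3⟩ := h.bno_ex k h1 h2 h3 (W := P.perp (span F {p, a})) (U := span F {p, a})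
    (fun v hv => by
      rw [h.mem_perp_span] at hv ⊢
      rintro x (rfl | rfl)
      · rw [← hp, k.B_eq, hv _ (by simp), map_zero]
      · rw [← ha, k.B_eq, hv _ (by simp), map_zero])
    (fun e => by
      have e1 := Submodule.finrank_mono e
      have e2 := h.rank_perp (span F {p, a})
      have e3 := finrank_span_finset_le_card (R := F) ({p, a} : Finset V)
      have e4 : ({p, a} : Finset V).card ≤ 2 := Finset.card_le_two
      have e5 := h.d6
      rw [Set.finrank, Finset.coe_pair] at e3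
      omega)
  rw [h.mem_perp_span] at b1
  exact ⟨b, b2, b1 _ (by simp), b1 _ (by simp), b3⟩

theorem Mod.bno_dual (h : Mod C) {α : RingAut F} {γ : AV V} (k : SI P α γ) (h1 : α ≠ 1) (h2 : α * α = 1)
    (h3 : ∀ v, γ (γ v) = v) {p p' : V} (p0 : p ≠ 0) (p0' : p' ≠ 0) :
    ∃ f, γ f = f ∧ P.B p f ≠ 0 ∧ P.B p' f ≠ 0 := by
  have e : ∀ {p : V}, p ≠ 0 → ∃ f, γ f = f ∧ P.B p f ≠ 0 := fun {p} p0 => by
    obtain ⟨f, -, f1, f2⟩ := h.bno_ex k h1 h2 h3 (W := ⊤) (U := P.perp (span F {p})) (fun _ _ => trivial)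
      fun e => p0 (h.nd fun w => P.mem_perp_span_singleton.1 (e trivial))
    exact ⟨f, f1, fun e => f2 (P.mem_perp_span_singleton.2 e)⟩
  obtain ⟨f, f1, f2⟩ := e p0
  obtain ⟨f', f1', f2'⟩ := e p0'
  by_cases e1 : P.B p' f = 0
  · by_cases e2 : P.B p f' = 0
    · exact ⟨f + f', by rw [map_add, f1, f1'], by rwa [map_add, e2, add_zero], by rwa [map_add, e1, zero_add]⟩
    · exact ⟨f', f1', e2, f2'⟩
  · exact ⟨f, f1, f2, e1⟩

theorem bno_mem {γ : AV V} {p : V} (hp : γ p = p) : z C φ p 1 ∈ Hg C φ γ := subset_closure ⟨p, hp, rfl⟩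

theorem Emb.bno_cj (h : Emb C φ) {α : RingAut F} {γ : AV V} (k : SI P α γ) {p p' : V} (hp : γ p = p)
    (hp' : γ p' = p') (b : P.B p p' ≠ 0) : ∃ g ∈ Hg C φ γ, g * z C φ p 1 * g⁻¹ = z C φ p' 1 := by
  obtain ⟨d, hd⟩ := h.toMod.exists_sqrt (P.B p p')⁻¹
  have e1 : α (P.B p p') = P.B p p' := by rw [← k.B_eq, hp, hp']
  have e2 : α d = d := h.toMod.sq_inj (by rw [← map_mul, hd, map_inv₀, e1])
  refine ⟨_, bno_mem (p := d • (p + p')) (by rw [k.semi, e2, map_add, hp, hp']), ?_⟩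
  rw [h.z_smul, mul_one, hd, z, h.z_conj, h.toMod.z_app, map_add, LinearMap.add_apply, h.toMod.B_self,
    zero_add, h.toMod.B_comm p' p, inv_mul_cancel₀ b, one_smul, ← add_assoc, h.toMod.vadd_self, zero_add]

theorem Sit.bno_lin (h : Sit C φ t) {s : G} {l : S} (e : s = φ l ∨ s = t * φ l) {α : RingAut F} {γ : AV V}
    (k : Act C φ s α γ) : α = 1 := by
  rcases e with rfl | rfl
  · exact (h.toEmb.act_unique k (h.toEmb.act_self l)).1
  · simpa using (h.toEmb.act_unique k (h.toEmb.act_mul (h.toEmb.act_cent h.tC) (h.toEmb.act_self l))).1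

theorem Emb.hg_perf (h : Emb C φ) {α : RingAut F} {γ : AV V} (k : SI P α γ) (h1 : α ≠ 1) (h2 : α * α = 1)
    (h3 : ∀ v, γ (γ v) = v) : Hg C φ γ ≤ ⁅Hg C φ γ, Hg C φ γ⁆ := by
  let f : ∀ p, γ p = p → Abelianization (Hg C φ γ) := fun p hp => Abelianization.of ⟨_, bno_mem hp⟩
  have e1 : ∀ p p' hp hp', P.B p p' ≠ 0 → f p hp = f p' hp' := fun p p' hp hp' b => by
    obtain ⟨g, hg, e⟩ := h.bno_cj k hp hp' b
    have : (⟨_, bno_mem hp'⟩ : Hg C φ γ) = ⟨g, hg⟩ * ⟨_, bno_mem hp⟩ * (⟨g, hg⟩)⁻¹ := Subtype.ext e.symm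
    simp only [f]
    rw [this, map_mul, map_mul, map_inv, mul_inv_cancel_comm]
  have e2 : ∀ p p' hp hp', p ≠ 0 → p' ≠ 0 → f p hp = f p' hp' := fun p p' hp hp' p0 p0' => by
    obtain ⟨v, v1, v2, v3⟩ := h.toMod.bno_dual k h1 h2 h3 p0 p0'
    exact (e1 p v hp v1 v2).trans (e1 p' v hp' v1 v3).symm
  obtain ⟨p, p1, -, -, p2⟩ := h.toMod.bno_orth k h1 h2 h3 (map_zero γ) (map_zero γ)
  obtain ⟨a, a1, a2, -, a3⟩ := h.toMod.bno_orth k h1 h2 h3 p1 p1
  obtain ⟨b, b1, b2, b3, b4⟩ := h.toMod.bno_orth k h1 h2 h3 p1 a1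
  have m1 : p ∈ span F {p, a} := Submodule.subset_span (by simp)
  have m2 : a ∈ span F {p, a} := Submodule.subset_span (by simp)
  have m3 : p ∈ span F {p, p} := Submodule.subset_span (by simp)
  have p0 : p ≠ 0 := fun e => p2 (by rw [e]; exact zero_mem _)
  have n1 : a ≠ 0 := fun e => a3 (e ▸ zero_mem _)
  have n2 : b ≠ 0 := fun e => b4 (e ▸ zero_mem _)
  have n3 : p + a ≠ 0 := fun e => a3 (h.toMod.veq_of_add e ▸ m3)
  have n4 : p + b ≠ 0 := fun e => b4 (h.toMod.veq_of_add e ▸ m1)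
  have n5 : a + b ≠ 0 := fun e => b4 (h.toMod.veq_of_add e ▸ m2)
  have n6 : p + (a + b) ≠ 0 := fun e =>
    b4 (h.toMod.veq_of_add ((add_assoc p a b).trans e) ▸ add_mem m1 m2)
  have f3 : γ (p + a) = p + a := by rw [map_add, p1, a1]
  have f4 : γ (p + b) = p + b := by rw [map_add, p1, b1]
  have f5 : γ (a + b) = a + b := by rw [map_add, a1, b1]
  have f6 : γ (p + (a + b)) = p + (a + b) := by rw [map_add, p1, f5]
  have e3 : f p p1 = 1 := by
    have e4 : (⟨_, bno_mem f6⟩ : Hg C φ γ) = ⟨_, bno_mem p1⟩ * ⟨_, bno_mem f5⟩ *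
        ((⟨_, bno_mem p1⟩ * ⟨_, bno_mem a1⟩)⁻¹ * ⟨_, bno_mem f3⟩ *
        ((⟨_, bno_mem p1⟩ * ⟨_, bno_mem b1⟩)⁻¹ * ⟨_, bno_mem f4⟩)) := Subtype.ext (by
      change z C φ (p + (a + b)) 1 = z C φ p 1 * z C φ (a + b) 1 * ((z C φ p 1 * z C φ a 1)⁻¹ *
        z C φ (p + a) 1 * ((z C φ p 1 * z C φ b 1)⁻¹ * z C φ (p + b) 1))
      rw [h.z_line (e := p) (a := a + b) (by rw [map_add, a2, b2, add_zero]), h.z_line a2, h.z_line b2,
        one_smul, one_smul, one_smul, inv_mul_cancel_left, inv_mul_cancel_left, h.x_add a2 b2 b3])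
    have e5 := congrArg Abelianization.of e4
    simp only [map_mul, map_inv] at e5
    change f _ f6 = f p p1 * f _ f5 * ((f p p1 * f a a1)⁻¹ * f _ f3 * ((f p p1 * f b b1)⁻¹ * f _ f4)) at e5
    rw [e2 _ p f6 p1 n6 p0, e2 _ p f5 p1 n5 p0, e2 _ p a1 p1 n1 p0, e2 _ p f3 p1 n3 p0, e2 _ p b1 p1 n2 p0,
      e2 _ p f4 p1 n4 p0] at e5
    rw [e5]; group
  refine (closure_le _).2 ?_
  rintro _ ⟨q, hq, rfl⟩
  by_cases q0 : q = 0
  · rw [q0, h.z_zero']; exact one_mem _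
  have e6 : (⟨_, bno_mem hq⟩ : Hg C φ γ) ∈ _root_.commutator (Hg C φ γ) := by
    rw [← Abelianization.ker_of]
    exact (e2 q p hq p1 q0 p0).trans e3
  rw [← map_subtype_commutator]
  exact ⟨_, e6, rfl⟩

/-- 2-elements of a perfect subgroup of `C(t)` lie in `L` -/
theorem Sit.mem_of_perf (h : Sit C φ t) {H : Subgroup G} (h1 : H ≤ centralizer {t}) (h2 : H ≤ ⁅H, H⁆) {g : G}
    (hg : g ∈ H) (g4 : g ^ 4 = 1) : g ∈ φ.range := by
  have hH : H ≤ normalizer (φ.range : Set G) := h1.trans h.CN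
  replace hg : g ∈ ⁅⁅H, H⁆, ⁅H, H⁆⁆ := commutator_mono h2 h2 (h2 hg)
  obtain ⟨O, hO, k1, k2⟩ := exists_odd_comm _ h.cyc
  have hn : centralizer (φ.range : Set G) ≤ normalizer (φ.range : Set G) :=
    centralizer_le_normalizer _
  have h3 : ∀ K ≤ φ.range ⊔ centralizer (φ.range : Set G), ⁅K, K⁆ ≤ φ.range ⊔ O := fun K hK =>
    commutator_le.2 fun a ha b hb => by
      obtain ⟨l, hl, c, hc, rfl⟩ := (Core.mem_sup_of_le_normalizer_left hn).1 (hK ha)
      obtain ⟨l', hl', c', hc', rfl⟩ := (Core.mem_sup_of_le_normalizer_left hn).1 (hK hb)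
      rw [comm_mul_split (hc l hl) (hc l' hl') (hc' l hl) (hc' l' hl')]
      exact mul_mem_sup (mul_mem (mul_mem (mul_mem hl hl') (inv_mem hl)) (inv_mem hl'))
        (k2 c hc c' hc')
  have h4 : g ∈ φ.range ⊔ O := by
    refine h3 _ (commutator_le.2 fun a ha b hb => ?_) hg
    obtain ⟨α, γ, k⟩ := h.toEmb.exists_act (hH ha)
    obtain ⟨β, δ, k'⟩ := h.toEmb.exists_act (hH hb)
    have k2 := h.toEmb.act_mul (h.toEmb.act_mul (h.toEmb.act_mul k k') (h.toEmb.act_inv k))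
      (h.toEmb.act_inv k')
    have := h.toMod.aut_cyc
    rw [(IsCyclic.isMulCommutative (α := RingAut F)).is_comm.comm α β, mul_inv_cancel_right,
      mul_inv_cancel] at k2
    obtain ⟨l, -, c, hc, e⟩ := h.toEmb.act_one k2
    rw [commutatorElement_def, e]
    exact mul_mem_sup ⟨l, rfl⟩ hc
  obtain ⟨l, hl, o, ho, rfl⟩ := (Core.mem_sup_of_le_normalizer_left (hO.trans hn)).1 h4
  rw [(show Commute l o from hO ho l hl).mul_pow] at g4
  have h5 := (h.toEmb.dec_inj (pow_mem hl 4) (one_mem _) (pow_mem (hO ho) 4) (one_mem _)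
    (g4.trans (mul_one 1).symm)).2
  have h6 : o = 1 := orderOf_eq_one_iff.1 (Nat.Coprime.eq_one_of_dvd
    (Nat.Coprime.pow_right 2 (Nat.coprime_two_right.2 (k1 o ho))) (orderOf_dvd_of_pow_eq_one h5))
  rw [h6, mul_one]
  exact hl

/-- if a conjugate `s` of `t` in `C(t)` is outer on `L` then `t` is outer on `L_s` -/
theorem Sit.out_symm (h : Sit C φ t) {g : G} (hs : g * t * g⁻¹ * t = t * (g * t * g⁻¹)) {α : RingAut F}
    {γ : AV V} (k : Act C φ (g * t * g⁻¹) α γ) (h1 : α ≠ 1) : ∃ α' γ',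
      Act C ((MulAut.conj g).toMonoidHom.comp φ) t α' γ' ∧ α' ≠ 1 ∧ α' * α' = 1 ∧ ∀ v, γ' (γ' v) = v := by
  have h' := h.cj g
  set φ' := (MulAut.conj g).toMonoidHom.comp φ with hφ
  set s := g * t * g⁻¹ with hs'
  refine (h'.invol' hs.symm h.t2).resolve_left ?_
  rintro ⟨l, l2, e⟩
  obtain ⟨M', hM', hl⟩ := h.toMod.invol_mem_E l2
  obtain ⟨n, -, hn⟩ := h.toMod.even_rank
  have EL : Eg C φ' M' ≤ φ'.range := map_le_range _ _
  have sq : ∀ b ∈ Eg C φ' M' ⊔ zpowers s, b * b = 1 := fun b hb => by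
    rcases (h'.mem_sup_t EL).1 hb with hb | hb
    · exact h'.toEmb.E_sq (h.toMod.lag_ti hM') hb
    · have e1 := h'.toEmb.E_sq (h.toMod.lag_ti hM') hb
      have e2 := h'.tL (EL hb)
      rw [mul_assoc s b s, mul_left_cancel_iff] at e2
      rwa [mul_assoc, ← mul_assoc b, e2, ← mul_assoc, ← mul_assoc, h'.t2, one_mul] at e1
  have tA : t ∈ Eg C φ' M' ⊔ zpowers s := by
    rcases e with e | e
    · exact mem_sup_left ⟨l, hl, e.symm⟩
    · rw [e]; exact mul_mem (mem_sup_right (mem_zpowers s)) (mem_sup_left ⟨l, hl, rfl⟩)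
  obtain ⟨M, hM, eA⟩ := h.bigA hn (B := Eg C φ' M' ⊔ zpowers s) (fun b hb => by
    rw [mem_centralizer_singleton_iff, ← inv_eq_of_mul_eq_one_right (sq _ (mul_mem hb tA)), mul_inv_rev,
      inv_eq_of_mul_eq_one_right (sq b hb), inv_eq_of_mul_eq_one_right h.t2]) sq
    (by rw [h'.card_sup_t EL, h'.toEmb.card_EM hn hM'])
  have sA : s ∈ Eg C φ M ⊔ zpowers t := eA ▸ mem_sup_right (mem_zpowers s)
  rcases (h.mem_sup_t (map_le_range _ _)).1 sA with ⟨l', -, e'⟩ | ⟨l', -, e'⟩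
  · exact h1 (h.bno_lin (.inl e'.symm) k)
  · exact h1 (h.bno_lin (.inr (by rw [e', ← mul_assoc, h.t2, one_mul])) k)

theorem Sit.no_B (h : Sit C φ t) (hz : ¬ Tz C φ t) {s : G} (hc : IsConj t s) (hs : s * t = t * s)
    {α : RingAut F} {γ : AV V} (k : Act C φ s α γ) : α = 1 := by
  by_contra h1
  obtain ⟨g, rfl⟩ := isConj_iff.1 hc
  have h' := h.cj g
  obtain ⟨α', γ', k', a1, a2, a3⟩ := h.out_symm hs k h1
  set φ' := (MulAut.conj g).toMonoidHom.comp φ with hφ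
  set s := g * t * g⁻¹ with hs'
  obtain ⟨h2, h3⟩ : α * α = 1 ∧ ∀ v, γ (γ v) = v := by
    rcases h.invol' hs h'.t2 with ⟨l, -, e⟩ | ⟨β, γ₁, k1, -, b⟩
    · exact absurd (h.bno_lin e k) h1
    · obtain ⟨rfl, rfl⟩ := h.toEmb.act_unique k k1
      exact b
  obtain ⟨e, e1, -, -, e2⟩ := h.toMod.bno_orth k.toSI h1 h2 h3 (map_zero γ) (map_zero γ)
  have e0 : e ≠ 0 := fun e => e2 (by rw [e]; exact zero_mem _)
  obtain ⟨j, hj⟩ := h'.mem_of_perf (H := Hg C φ γ) ((closure_le _).2 (by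
    rintro _ ⟨p, hp, rfl⟩
    have := h.toEmb.act_z k p 1
    rw [hp, map_one, mul_inv_eq_iff_eq_mul] at this
    exact mem_centralizer_singleton_iff.2 this.symm)) (h.toEmb.hg_perf k.toSI h1 h2 h3) (bno_mem e1)
    (by rw [show 4 = 2 * 2 from rfl, pow_mul, pow_two (z C φ e 1), h.toEmb.z_sq, one_pow])
  have j2 : j * j = 1 := h'.inj (by rw [map_mul, hj, h.toEmb.z_sq, map_one])
  have zt : z C φ e 1 * t = t * z C φ e 1 := h.tl _
  have jc := h'.toEmb.mx_comm k' (s := j) (by rw [hj, zt])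
  obtain ⟨M, hM, jM⟩ := h.toMod.invol_mem_E j2
  have ti := h.toMod.lag_ti hM
  obtain ⟨θ, hθ⟩ := (h.toMod.aut_two a1 a2).1
  have nM : ∀ v, UN.nu C j v ∈ M := fun v => h.toMod.E_range jM v
  obtain ⟨y, yM, hy⟩ := h.toMod.exists_E ti (n := θ • UN.nu C j) (fun v => M.smul_mem _ (nM v)) fun v w => by
    rw [LinearMap.smul_apply, LinearMap.smul_apply, h.toMod.B_smul_left, map_smul, h.toMod.E_adj ti jM,
      smul_eq_mul]
  have e3 := k'.conj y (y * j) fun v => by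
    rw [h.toMod.loc_nu (y * j), h.toMod.E_nu_mul ti yM jM, h.toMod.loc_nu y v, hy, map_add,
      LinearMap.add_apply, LinearMap.smul_apply, LinearMap.smul_apply, k'.semi, mx_nu j v, map_sub, ← jc,
      ← mx_nu, h.toMod.eq_of_add (c := α' θ) (d := θ + 1) (by
        rw [← add_assoc, add_comm (α' θ), hθ, h.toMod.add_self]), add_smul, one_smul]
  refine hz ⟨e, e0, (φ' y)⁻¹, ?_⟩
  rw [map_mul, hj, mul_inv_eq_iff_eq_mul] at e3
  rw [inv_inv, mul_assoc, e3, ← zt]; group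

end CfsgLib.SPC
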