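import Cfsg.Agent.Lib.SPC.BChn
import Cfsg.Agent.Lib.UFP.Gr1

/-! The Sylow subgroup -/

set_option autoImplicit false
set_option linter.unusedSectionVars false

namespace CfsgLib.SPC.BC

open Subgroup Module Matrix CfsgLib.UFP
open scoped commutatorElement Pointwise

universe u

variable {F : Type} [Field F] [Finite F] [CharP F 2] {m : ℕ} {δ : F} {G : Type u} [Group G] [Finite G]

theorem bsyl_inv {l : Sg m δ} (hl : mat l ∈ Nn m δ 0) : mat l⁻¹ ∈ Nn m δ 0 := by
  rw [mat_inv]; exact Nn_adj (Nn_bar hl)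

theorem bsyl_conj (l u : Sg m δ) : mat (l * u * l⁻¹) - 1 = mat l * (mat u - 1) * mat l⁻¹ := by
  rw [mul_sub, sub_mul, mul_one, ← mat_mul l l⁻¹, mul_inv_cancel, mat_one, mat_mul, mat_mul]

/-- an upper triangular element normalises `Û` -/
theorem norm_of_tri {l : Sg m δ} (hl : mat l ∈ Nn m δ 0) : l ∈ normalizer (Mh m δ 0 : Set (Sg m δ)) := by
  refine Core.mem_normalizer_of_forall_conj_mem fun u hu => ?_
  change mat (l * u * l⁻¹) - 1 ∈ Nn m δ (0 + 1)
  rw [bsyl_conj]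
  exact Nn_mul (h' := 0) (Nn_mul (h := 0) hl hu) (bsyl_inv hl)

theorem bsyl_step {l u : Sg m δ} {j : Fin m} (ih : ∀ r < j, ∀ i, r < i → mat l⁻¹ i r = 0)
    (hu : l * u * l⁻¹ ∈ Mh m δ 0) : (mat u *ᵥ fun i => mat l⁻¹ i j) j = mat l⁻¹ j j := by
  have e : (mat u - 1) * mat l⁻¹ = mat l⁻¹ * (mat (l * u * l⁻¹) - 1) := by
    rw [bsyl_conj, ← mul_assoc, ← mul_assoc, ← mat_mul l⁻¹ l, inv_mul_cancel, mat_one, one_mul]
  have e2 : (mat l⁻¹ * (mat (l * u * l⁻¹) - 1)) j j = 0 := by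
    rw [mul_apply]
    refine Finset.sum_eq_zero fun r _ => ?_
    by_cases k : r < j
    · rw [ih r k j k, zero_mul]
    · rw [hu r j (by have : (j : ℕ) ≤ r := not_lt.1 k; omega), mul_zero]
  rw [← e, sub_mul, one_mul, Matrix.sub_apply, sub_eq_zero] at e2
  exact e2

theorem bsyl_TS {l : Sg m δ} {j : Fin m} (ih : ∀ r < j, ∀ i, r < i → mat l⁻¹ i r = 0) {e a : Vk m δ} {c : KK δ}
    (k : Ok e a c) (hu : l * TS e a c * l⁻¹ ∈ Mh m δ 0) :
    (hf a (fun i => mat l⁻¹ i j) + c * hf e (fun i => mat l⁻¹ i j)) * e j +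
      hf e (fun i => mat l⁻¹ i j) * a j = 0 := by
  have := bsyl_step ih hu
  rw [mat_TS k, TM_mulVec] at this
  simp only [Pi.add_apply, Pi.smul_apply, smul_eq_mul] at this
  linear_combination this

theorem bsyl_ee {i j : Fin m} (h : i ≠ j) : ee δ i j = 0 := Pi.single_eq_of_ne h.symm _

theorem bsyl_ee' (i : Fin m) : ee δ i i = 1 := Pi.single_eq_same _ _

theorem bsyl_tri {l : Sg m δ} (hl : ∀ u ∈ Mh m δ 0 ⊓ Rat m δ, l * u * l⁻¹ ∈ Mh m δ 0)
    (hm : (∀ u ∈ Mh m δ 0, l * u * l⁻¹ ∈ Mh m δ 0) ∨ l ∈ Rat m δ) : mat l⁻¹ ∈ Nn m δ 0 := by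
  have key : ∀ j : Fin m, ∀ i, j < i → mat l⁻¹ i j = 0 := by
    intro j
    induction j using WellFoundedLT.induction with
    | ind j ih =>
    have hz : j < j.rev → mat l⁻¹ j.rev j = 0 := fun hj => by
      have k : Ok (ee δ j) 0 (1 : KK δ) := Ok.z (RV.ee hj.ne)
      have := bsyl_TS ih k (hl _ ⟨TS_mem k (fun _ _ => rfl) fun h => absurd hj (by
        rw [Fin.lt_def]; omega), TS_rat k (star_ee j) (star_zero _) (star_one _)⟩)
      simpa [hf_zero_left, hf_ee_left, bsyl_ee'] using this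
    intro i hi
    have hi' : (j : ℕ) < i := hi
    by_cases e1 : i = j.rev
    · subst e1; exact hz hi
    have e1' : i.rev ≠ j := fun e => e1 (by rw [← e, Fin.rev_rev])
    by_cases e2 : j = j.rev ∨ i = i.rev
    · rcases hm with hm | hm
      · rcases e2 with e2 | e2
        · have v2 : (j : ℕ) = j.rev := congrArg Fin.val e2
          have n1 : i.rev ≠ i.rev.rev := fun e => by
            have := congrArg Fin.val e
            simp only [Fin.val_rev] at this v2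
            omega
          have k : Ok (ee δ i.rev) (ee δ j) (om δ) := ⟨(RV.ee n1).self, by
            rw [hf_ee_left, Fin.rev_rev, bsyl_ee hi.ne], by
            rw [hf_ee_left, ← e2, bsyl_ee', star_om, ← add_assoc, k_two, zero_add]⟩
          have := bsyl_TS ih k (hm _ (TS_mem k (fun r hr => bsyl_ee fun e => by
            subst e
            simp only [Fin.val_rev] at hr v2
            omega) fun h => by
            simp only [Fin.val_rev] at h v2
            omega))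
          simpa [hf_ee_left, bsyl_ee', bsyl_ee e1'] using this
        · have v2 : (i : ℕ) = i.rev := congrArg Fin.val e2
          have n1 : j < j.rev := by
            rw [Fin.lt_def]
            simp only [Fin.val_rev] at v2 ⊢
            omega
          have k : Ok (ee δ j) (ee δ i) (om δ) := ⟨(RV.ee n1.ne).self, by
            rw [hf_ee_left, bsyl_ee e1], by
            rw [hf_ee_left, ← e2, bsyl_ee', star_om, ← add_assoc, k_two, zero_add]⟩
          have := bsyl_TS ih k (hm _ (TS_mem k (fun r hr => bsyl_ee fun e => by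
            subst e
            simp only [Fin.val_rev] at hr v2
            omega) fun h => absurd n1 (by rw [Fin.lt_def]; omega)))
          rw [hf_ee_left, hf_ee_left, hz n1, ← e2] at this
          simpa [bsyl_ee'] using this
      · rw [rat_mid (inv_mem hm) e2.symm, if_neg hi.ne']
    · obtain ⟨n1, n2⟩ := not_or.1 e2
      have n3 : i.rev ≠ i.rev.rev := fun e => n2 (Fin.rev_injective e)
      have k : Ok (ee δ i.rev) (ee δ j) (0 : KK δ) := by
        have := Ok.rv (RV.ee n3) (RV.ee n1) (by rw [hf_ee_left, Fin.rev_rev, bsyl_ee hi.ne]) (0 : F) (δ := δ)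
        rwa [map_zero] at this
      have := bsyl_TS ih k (hl _ ⟨TS_mem k (fun r hr => bsyl_ee fun e => by
        subst e
        simp only [Fin.val_rev] at hr
        omega) fun _ => rfl, TS_rat k (star_ee _) (star_ee _) (star_zero _)⟩)
      simpa [hf_ee_left, bsyl_ee', bsyl_ee e1'] using this
  exact fun i j k => key j i k

theorem tri_of_norm {l : Sg m δ} (hl : ∀ u ∈ Mh m δ 0, l * u * l⁻¹ ∈ Mh m δ 0) : mat l⁻¹ ∈ Nn m δ 0 :=
  bsyl_tri (fun u hu => hl u hu.1) (Or.inl hl)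

theorem tri_of_rat {l : Sg m δ} (h0 : l ∈ Rat m δ)
    (hl : ∀ u ∈ Mh m δ 0 ⊓ Rat m δ, l * u * l⁻¹ ∈ Mh m δ 0) : mat l⁻¹ ∈ Nn m δ 0 :=
  bsyl_tri hl (Or.inr h0)

theorem bsyl_diag {a b : Mt m δ} (ha : a ∈ Nn m δ 0) (hb : b ∈ Nn m δ 0) (i : Fin m) :
    (a * b) i i = a i i * b i i := by
  rw [mul_apply]
  refine Finset.sum_eq_single i (fun r _ e => ?_) fun e => absurd (Finset.mem_univ i) e
  rcases lt_or_gt_of_ne e with k | k
  · rw [ha i r k, zero_mul]
  · rw [hb r i k, mul_zero]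

theorem mem_of_tri {l : Sg m δ} (hl : mat l ∈ Nn m δ 0) {n : ℕ} (e : l ^ 2 ^ n = 1) : l ∈ Mh m δ 0 := by
  have key : ∀ N : ℕ, mat (l ^ N) ∈ Nn m δ 0 ∧ ∀ i, mat (l ^ N) i i = mat l i i ^ N := fun N => by
    induction N with
    | zero =>
      rw [pow_zero, mat_one]
      exact ⟨fun i j k => one_apply_ne (fun e => by subst e; omega), fun i => by simp⟩
    | succ N ih =>
      rw [pow_succ, mat_mul]
      exact ⟨Nn_mul (h := 0) (h' := 0) ih.1 hl, fun i => by rw [bsyl_diag ih.1 hl, ih.2, pow_succ]⟩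
  intro i j k
  rw [Matrix.sub_apply]
  by_cases e' : i = j
  · subst e'
    have := (key (2 ^ n)).2 i
    rw [e, mat_one, one_apply_eq] at this
    rw [k_pow_one this.symm, one_apply_eq, sub_self]
  · rw [one_apply_ne e', hl i j (by have : (i : ℕ) ≠ j := fun e => e' (Fin.ext e); omega), sub_zero]

omit [Finite G] in
theorem bsyl_mul {ψ : Sg m δ →* G} {g g' : G} {a b : Fa δ} (h1 : Ac ψ g a) (h2 : Ac ψ g' b) :
    Ac ψ (g * g') (a * b) := fun s => by
  rw [mp_mul, ← h1, ← h2]; group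

omit [Finite G] in
theorem bsyl_ainv {ψ : Sg m δ →* G} {g : G} {a : Fa δ} (h1 : Ac ψ g a) : Ac ψ g⁻¹ a⁻¹ := fun s => by
  have := h1 (mp a⁻¹ s)
  rw [← mp_mul, mul_inv_cancel, mp_one] at this
  rw [← this]; group

omit [Finite G] in
theorem bsyl_cent {ψ : Sg m δ →* G} {g : G} (h1 : Ac ψ g 1) : g ∈ centralizer (ψ.range : Set G) := by
  rintro _ ⟨s, rfl⟩
  have := h1 s
  rw [mp_one, mul_inv_eq_iff_eq_mul] at this
  exact this.symm

namespace MM

variable {ψ : Sg m δ →* G} {t : G} (h : MM ψ t)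
include h

theorem mem_St {g : G} : g ∈ St ψ t ↔ g * t = t * g ∧ ∃ a, Ac ψ g a := by
  have _ := h
  refine ⟨fun hg => ?_, fun hg => subset_closure hg⟩
  induction hg using closure_induction with
  | mem x hx => exact hx
  | one => exact ⟨by simp, 1, fun s => by simp [mp_one]⟩
  | mul x y _ _ hx hy =>
    obtain ⟨a, ha⟩ := hx.2
    obtain ⟨b, hb⟩ := hy.2
    exact ⟨by rw [mul_assoc, hy.1, ← mul_assoc, hx.1, mul_assoc], _, bsyl_mul ha hb⟩
  | inv x _ hx =>
    obtain ⟨a, ha⟩ := hx.2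
    exact ⟨(Commute.inv_left hx.1).eq, _, bsyl_ainv ha⟩

theorem bsyl_one {g : G} (h1 : Ac ψ g 1) {n : ℕ} (e : g ^ 2 ^ n = 1) : g = 1 := by
  have h2 := Odd.of_dvd_nat h.odd (Subgroup.orderOf_dvd_natCard _ (bsyl_cent h1))
  exact orderOf_eq_one_iff.1 (Nat.eq_one_of_dvd_coprimes (Nat.Coprime.pow_right n h2.coprime_two_right)
    dvd_rfl (orderOf_dvd_of_pow_eq_one e))

theorem bsyl_fix {s : G} {a : Fa δ} (hs : s * t = t * s) (h1 : Ac ψ s a) (ha : ∀ c : F, a.1 (rt δ c) = rt δ c)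
    {n : ℕ} (e : s ^ 2 ^ n = 1) : s = 1 ∨ s = t := by
  rcases Fa_fix ha with rfl | rfl
  · exact Or.inl (h.bsyl_one h1 e)
  · have h2 := bsyl_mul h1 (g' := t) (b := bA δ) h.tc
    rw [bA_sq] at h2
    have h3 := h.bsyl_one h2 (n := n + 1) (by
      rw [Commute.mul_pow hs, pow_succ, pow_mul, e, one_pow, one_mul, mul_comm, pow_mul, sq, h.t2, one_pow])
    exact Or.inr (mul_right_cancel (h3.trans h.t2.symm))

theorem bsyl_inf {s : G} (hs : s ∈ St ψ t) (hu : s ∈ Uh ψ) : s = 1 := by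
  obtain ⟨h1, a, ha⟩ := h.mem_St.1 hs
  obtain ⟨u, hu', e⟩ := hu
  have m6 := h.m6
  let i : Fin m := ⟨0, by omega⟩
  have hi : i ≠ i.rev := fun e => by
    have := congrArg Fin.val e
    simp only [Fin.val_rev, i] at this
    omega
  have h2 : ∀ c : F, a.1 (rt δ c) = rt δ c := fun c => by
    have k : Ok (ee δ i) 0 (rt δ c) := Ok.rv (RV.ee hi) RV.zero (hf_zero_right _) c
    have e1 : mat u *ᵥ ee δ i = ee δ i := by
      ext1 r
      have := hu' r i (by simp [i])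
      rw [Matrix.sub_apply, sub_eq_zero] at this
      rw [bb_col, this, ee, one_apply, Pi.single_apply]
    have e2 : a.1 ∘ ee δ i = ee δ i := by
      ext1 r
      simp only [Function.comp, ee, Pi.single_apply]
      split_ifs <;> simp
    have e3 : a.1 ∘ (0 : Vk m δ) = 0 := by ext1 r; simp
    have k' := k.map a
    have h3 := ha (TS (ee δ i) 0 (rt δ c))
    rw [← e, ← map_inv, ← map_mul, ← map_mul, TS_conj k, e1, mulVec_zero, mp_TS k] at h3
    rw [e2, e3] at h3 k'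
    have h4 := congrArg (fun s => (mat s *ᵥ ee δ i.rev) i) (h.inj2 h3 (TS_pow k) (TS_pow k'))
    simp only [mat_TS k, mat_TS k', TM_mulVec, hf_zero_left, hf_ee_left, bsyl_ee', Pi.add_apply, Pi.smul_apply,
      smul_eq_mul, Pi.zero_apply] at h4
    linear_combination -h4
  rcases h.bsyl_fix h1 ha h2 (n := m) (by rw [← e, ← map_pow, Mh_pow hu', map_one]) with e' | e'
  · exact e'
  · exact absurd ⟨u, hu', e.trans e'⟩ h.t_not_mem

theorem bsyl_lift {l u : Sg m δ} (hu : u ∈ Mh m δ 0) (e : ψ (l * u * l⁻¹) ∈ Uh ψ) : l * u * l⁻¹ ∈ Mh m δ 0 :=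
  (h.mem_Mh (n := m) (by rw [conj_pow, Mh_pow hu, mul_one, mul_inv_cancel])).1 e

theorem sylA : SylA ψ.range (St ψ t) (Uh ψ) (U0 ψ) t := by
  have : Fact (Nat.Prime 2) := ⟨Nat.prime_two⟩
  have SC : St ψ t ≤ centralizer {t} := fun s hs => mem_centralizer_singleton_iff.2 (h.mem_St.1 hs).1
  refine ⟨h.t2, fun e => h.t_not_mem (e ▸ one_mem _), h.mem_St.2 ⟨rfl, bA δ, h.tc⟩, SC, SC.trans h.cent_le,
    fun s hs => ?_, map_le_range _ _, Mh_pg.map ψ, fun a ha b hb => ?_, fun s => h.bsyl_inf, fun P hP h1 h2 => ?_,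
    h.odd, fun g hg => ?_, fun x hx s hs s2 s1 hc => ?_, map_mono inf_le_left, ?_, fun g hg hu => ?_⟩
  · obtain ⟨-, a, ha⟩ := h.mem_St.1 hs
    refine Core.mem_normalizer_of_forall_conj_mem ?_
    rintro _ ⟨u, hu, rfl⟩
    exact ⟨_, mp_Mh a hu, (ha u).symm⟩
  · obtain ⟨-, α, hα⟩ := h.mem_St.1 ha
    obtain ⟨-, β, hβ⟩ := h.mem_St.1 hb
    have := bsyl_mul (bsyl_mul (bsyl_mul hα hβ) (bsyl_ainv hα)) (bsyl_ainv hβ)
    rw [Fa_comm α β, mul_inv_cancel_right, mul_inv_cancel] at this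
    exact bsyl_cent this
  · by_contra hn
    obtain ⟨p, hp, hp'⟩ := SetLike.exists_of_lt (Core.lt_inf_normalizer_of_isPGroup hP (lt_of_le_not_ge h2 hn))
    obtain ⟨s, n, rfl, e⟩ := h.exists_two (h1 hp.1) (hP.to_le (zpowers_le.2 hp.1))
    have h3 := tri_of_norm (l := s) fun u hu => h.bsyl_lift hu (by
      rw [map_mul, map_mul, map_inv]
      exact (mem_normalizer_iff.1 hp.2 _).1 ⟨u, hu, rfl⟩)
    exact hp' ⟨s, inv_mem_iff.1 (mem_of_tri h3 (n := n) (by rw [inv_pow, e, inv_one])), rfl⟩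
  · obtain ⟨l, hl, a, ha⟩ := h.ct g hg
    refine ⟨ψ l, ⟨l, rfl⟩, _, h.mem_St.2 ⟨?_, a, ha⟩, by group⟩
    exact ((Commute.inv_left (h.rat_t hl)).mul_left hg).eq
  · obtain ⟨h1, a, ha⟩ := h.mem_St.1 hs
    by_cases e : ∀ c : F, a.1 (rt δ c) = rt δ c
    · rcases h.bsyl_fix h1 ha e (n := 1) (by rw [pow_one, sq, s2]) with e' | e'
      · exact absurd e' s1
      · subst e'
        exact h.cjt hx hc
    · obtain ⟨c, hc'⟩ := isConj_iff.1 hc
      obtain ⟨u, -, hu⟩ := (h.chain ha s2 e).conj s2 hx (by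
        rw [← hc', show c * t * c⁻¹ * (c * t * c⁻¹) = c * (t * t) * c⁻¹ by group, h.t2]; group)
      refine absurd (h.no s a (hc.trans ?_) h1 ha) e
      rw [hu]
      exact (isConj_iff.2 ⟨u, rfl⟩).symm
  · rintro _ ⟨u, hu, rfl⟩
    exact mem_centralizer_singleton_iff.2 (h.rat_t hu.2)
  · obtain ⟨l, hl, a, ha⟩ := h.act hg
    have h3 := tri_of_rat hl fun u hu' => h.bsyl_lift hu'.1 (by
      have := hu _ ⟨mp a⁻¹ u, ⟨mp_Mh _ hu'.1, mp_Rat _ hu'.2⟩, rfl⟩
      rwa [ha, ← mp_mul, mul_inv_cancel, mp_one] at this)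
    have h4 := inv_mem_iff.1 (norm_of_tri h3)
    refine Core.mem_normalizer_of_forall_conj_mem ?_
    rintro _ ⟨u, hu', rfl⟩
    exact ⟨_, (mem_normalizer_iff.1 h4 _).1 (mp_Mh a hu'), (ha u).symm⟩

end MM

end CfsgLib.SPC.BC
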