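import Cfsg.Agent.Lib.SPC.BUw
import Cfsg.Agent.Lib.SPC.BGen
import Cfsg.Agent.Lib.SPC.BUwS

/-! `UW`, `m` even -/

set_option autoImplicit false
set_option linter.unusedSectionVars false

namespace CfsgLib.SPC.BC

open Subgroup Module Matrix CfsgLib.UFP
open scoped commutatorElement Pointwise

universe u

variable {F : Type} [Field F] [Finite F] [CharP F 2] {m : ℕ} {δ : F} {G : Type u} [Group G] [Finite G]

theorem ub_mid (hm : Even m) (i : Fin m) : i ≠ i.rev := Fin.ne_of_val_ne (by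
  obtain ⟨k, hk⟩ := hm
  have := i.2
  rw [Fin.val_rev]
  omega)

theorem ub_rv (hm : Even m) {a : Vk m δ} (ha : star a = a) : RV a :=
  ⟨ha, fun i hi => absurd hi (ub_mid hm i)⟩

theorem ub_rat {e a : Vk m δ} {c : KK δ} (k : Ok e a c) (ha : RV a) : ∃ x, c = rt δ x :=
  rat_iff.1 (bi_eq (k.cc.trans ha.self)).symm

variable (δ) in
/-- the rational points of the radical of `e_o` -/
def QG (o : Fin m) : Subgroup (Sg m δ) :=
  closure {s | ∃ a, ∃ c : F, RV a ∧ hf (ee δ o) a = 0 ∧ s = TS (ee δ o) a (rt δ c)}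

theorem ub_mem {o : Fin m} {a : Vk m δ} {c : KK δ} (k : Ok (ee δ o) a c) (ha : RV a) :
    TS (ee δ o) a c ∈ QG δ o := by
  obtain ⟨x, rfl⟩ := ub_rat k ha
  exact subset_closure ⟨a, x, ha, k.ea, rfl⟩

theorem ub_norm {o : Fin m} (n1 : o ≠ o.rev) {l : Sg m δ} (hl : l ∈ Rat m δ)
    (e : mat l *ᵥ ee δ o = ee δ o) : l ∈ normalizer (QG δ o : Set (Sg m δ)) := us_norm (by
  rintro _ ⟨a, c, ha, h1, rfl⟩
  have k := Ok.rv (RV.ee n1) ha h1 c
  have k' := k.conj l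
  rw [TS_conj k]
  rw [e] at k' ⊢
  exact ub_mem k' (ha.mulVec hl))

theorem ub_le (hm : 6 ≤ m) {o : Fin m} (ho : (o : ℕ) = 0) : QG δ o ≤ Mh m δ 0 ⊓ Rat m δ :=
  (closure_le _).2 (by
    rintro _ ⟨a, c, ha, h1, rfl⟩
    have e0 : RV (ee δ o) := RV.ee (Fin.ne_of_val_ne (by rw [Fin.val_rev]; omega))
    have k := Ok.rv e0 ha h1 c
    exact ⟨us_o_mem hm ho k, TS_rat k e0.rat ha.rat (star_rt c)⟩)

theorem MM.uw_even {ψ : Sg m δ →* G} {t : G} (h : MM ψ t) (hm : Even m)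
    (d : SylD (normalizer (ψ.range : Set G)) t (Uh ψ) (U0 ψ)) :
    UW (normalizer (ψ.range : Set G)) t (U0 ψ) := by
  have h6 := h.m6
  obtain ⟨o, ho⟩ : ∃ o : Fin m, (o : ℕ) = 0 := ⟨⟨0, by omega⟩, rfl⟩
  obtain ⟨p, hp⟩ : ∃ p : Fin m, (p : ℕ) = 1 := ⟨⟨1, by omega⟩, rfl⟩
  have n1 := ub_mid hm o
  have n2 := ub_mid hm p
  have n3 : o ≠ p := Fin.ne_of_val_ne (by omega)
  have n4 : o ≠ p.rev := Fin.ne_of_val_ne (by rw [Fin.val_rev]; omega)
  have q1 : hf (ee δ o) (ee δ p) = 0 := by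
    rw [hf_ee_left, bi_ee_ne fun e => n4 (by rw [← e, Fin.rev_rev])]
  let X : Bool → Subgroup (Sg m δ) := fun b => cond b (QG δ o) (RG δ o p)
  have XU : ∀ b, X b ≤ Mh m δ 0 ⊓ Rat m δ := fun b => by
    cases b
    exacts [us_RL_le h6 ho hp, ub_le h6 ho]
  have UX : ∀ b, U0 ψ ≤ normalizer ((X b).map ψ : Set G) := by
    rintro b _ ⟨l, hl, rfl⟩
    refine us_map_norm ψ ?_
    cases b
    exacts [us_U_RL h6 ho hp hl, ub_norm n1 hl.2 (bi_fix0 ho hl.1)]
  have R0 : ∀ b, (X b).map ψ ≤ U0 ψ := fun b => map_mono (XU b)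
  have tn : ∀ b, t ∈ normalizer ((X b).map ψ : Set G) := fun b =>
    centralizer_le_normalizer _ fun x hx => (mem_cent1.1 (d.U0t (R0 b hx))).symm
  have cW : ∀ b, ∀ W : Subgroup G, Odd (Nat.card W) → t ∈ normalizer (W : Set G) →
      U0 ψ ≤ normalizer (W : Set G) → (X b).map ψ ≤ centralizer (W : Set G) := fun b W w1 w2 w3 => by
    rw [map_le_iff_le_comap]
    cases b
    · exact (closure_le _).2 fun s hs => h.cenR ho hp w1 w2 w3 hs
    · refine (closure_le _).2 ?_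
      rintro _ ⟨a, c, ha, h1, rfl⟩
      exact h.cenQ ho w1 w2 w3 ha h1 c
  have cO : ∀ b b', (X b).map ψ ≤ centralizer (OC ((X b').map ψ) : Set G) := fun b b' =>
    cW b _ (OC_odd _) (norm_le_norm_OC _ (tn b')) ((UX b').trans (norm_le_norm_OC _))
  have rl : ∀ e, (e = ee δ o ∨ e = ee δ p) → ∀ a c, Ok e a c → RV a → hf (ee δ o) a = 0 →
      hf (ee δ p) a = 0 → TS e a c ∈ RG δ o p := fun e he a c k ha h1 h2 => by
    obtain ⟨x, rfl⟩ := ub_rat k ha
    exact subset_closure ⟨e, a, x, he, ha, h1, h2, rfl⟩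
  refine uw_of d.u (fun b => (X b).map ψ) true (fun b => d.pg.to_le ((R0 b).trans d.U0U)) tn
    (fun b hb => h.t_not_mem (d.U0U (R0 b hb))) (fun b => d.iso_of
      (((R0 b).trans d.U0U).trans le_sup_left) (UX b) (tn b) fun g hg u hu e => ?_)
    (fun b => cO b true) (cO true) (cW true) fun V hV hN => ?_
  · obtain ⟨x, x1, x2, x3, x4⟩ := h.iso_pre (tn b) hg hu e
    refine ⟨x, ?_, x3⟩
    cases b
    · obtain ⟨a, l, c', c, k, rfl⟩ := isoL h6 ho hp x1 x2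
        (fun j c hj k => x4 _ _ (TS_pow k) (mem_map_of_mem ψ (rl _ (.inl rfl) _ c k
          (RV.ee (ub_mid hm j)) k.ea (by rw [hf_ee_left, bi_ee_ne hj.symm]))))
        fun j h1 h2 h3 => x4 _ _ (TS_pow (bi_ok0 n2 h2 h3)) (mem_map_of_mem ψ (rl _ (.inr rfl) _ 0
          (bi_ok0 n2 h2 h3) (RV.ee h3) (by rw [hf_ee_left, bi_ee_ne h1.symm])
          (by rw [hf_ee_left, bi_ee_ne h2.symm])))
      rw [v0_even hm, smul_zero, add_zero] at k ⊢
      exact mul_mem (rl _ (.inl rfl) _ c k ((RV.ee n2).smul a) k.ea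
        (by rw [hf_smul_right, (RV.ee n2).self, mul_zero])) (subset_closure (bi_zRL (.inr rfl) c'))
    · obtain ⟨a, c, a1, k, rfl⟩ := isoQ h6 ho x1 x2 fun j c k =>
        x4 _ _ (TS_pow k) (mem_map_of_mem ψ (ub_mem k (RV.ee (ub_mid hm j))))
      exact ub_mem k (ub_rv hm a1)
  have r1 : ∀ b, ∀ l ∈ Rat m δ, l ∈ normalizer (X b : Set (Sg m δ)) →
      l ∈ (normalizer (V : Set G)).comap ψ := fun b l hl hn => hN b _ (us_map_norm ψ hn) (by
    rw [h.rat_t hl, mul_inv_cancel_right, inv_mul_cancel]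
    exact one_mem _)
  have r2 : ∀ l ∈ Rat m δ, ∀ i, mat l *ᵥ ee δ o = ee δ i → ψ l ∈ normalizer (V : Set G) :=
    fun l hl i e => us_all n1 n2 n3 n4 (fun l hl e => r1 true l hl (ub_norm n1 hl e))
      (fun l hl e1 e2 => r1 false l hl (us_swap_RL n1 n2 n4 hl e1 e2)) hl (ub_mid hm i) e
  have r3 : ψ (TS (ee δ o) (om δ • ee δ p) 0) ∈ normalizer (V : Set G) :=
    hN false _ (us_map_norm ψ (centralizer_le_normalizer _ (us_w_RL n1 n2 n4))) (by
      rw [h.hat_w (RV.ee n1) (RV.ee n2) q1, inv_mul_cancel_left]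
      exact mem_map_of_mem ψ (rl _ (.inl rfl) _ 0 (bi_ok0 n1 (fun e => n4 (by rw [e, Fin.rev_rev])) n2)
        (RV.ee n2) q1 (RV.ee n2).self))
  have hT : (normalizer (V : Set G)).comap ψ = ⊤ := by
    refine gen' h6 (fun i a c hi ha k => ?_) fun i j hi hj h1 h2 => ?_
    · obtain ⟨π, a1, a2, -, -⟩ := us_perm n1 hi
      obtain ⟨l, l1, l2⟩ := exists_perm (δ := δ) π a1
      have e : mat l *ᵥ ee δ o = ee δ i := by rw [l2, a2]
      have k' := k.conj l⁻¹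
      have e' := TS_conj k l⁻¹
      rw [us_inv e] at k' e'
      have m1 := centralizer_le_normalizer _
        (hV true (mem_map_of_mem ψ (ub_mem k' ((ub_rv hm ha).mulVec (inv_mem l1)))))
      have m2 := mul_mem (mul_mem (r2 l l1 i e) m1) (inv_mem (r2 l l1 i e))
      rw [← e', ← map_inv, ← map_mul, ← map_mul] at m2
      rwa [mem_comap, show TS (ee δ i) a c = l * (l⁻¹ * TS (ee δ i) a c * l⁻¹⁻¹) * l⁻¹ by group]
    · obtain ⟨π, a1, a2, a3⟩ := us_pair n1 n2 n3 n4 hi hj h1 h2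
      obtain ⟨l, l1, l2⟩ := exists_perm (δ := δ) π a1
      have e : mat l *ᵥ ee δ o = ee δ i := by rw [l2, a2]
      have m2 := mul_mem (mul_mem (r2 l l1 i e) r3) (inv_mem (r2 l l1 i e))
      rwa [← map_inv, ← map_mul, ← map_mul, TS_conj (Ok.w (RV.ee n1) (RV.ee n2) q1), e, mulVec_smul,
        l2, a3] at m2
  have hK : ((centralizer (V : Set G)).comap ψ).Normal := ⟨fun n hn g => by
    have hg : ψ g ∈ normalizer (V : Set G) := (hT ▸ mem_top g : g ∈ (normalizer (V : Set G)).comap ψ)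
    rw [mem_comap, map_mul, map_mul, map_inv]
    exact conj_mem (Core.normalizer_le_normalizer_centralizer _ hg) hn⟩
  rcases simp h6 _ hK with e | e
  · exact absurd (e (hV true (mem_map_of_mem ψ (ub_mem (Ok.z (RV.ee n1)) RV.zero))))
      (z_not_mem h6 (RV.ee n1) fun e => by simpa [bi_ee_self] using congrFun e o)
  · refine le_trans (fun v hv => ?_) (centralizer_le_normalizer _)
    rintro _ ⟨s, rfl⟩
    exact ((e ▸ mem_top s : s ∈ (centralizer (V : Set G)).comap ψ) v hv).symm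

end CfsgLib.SPC.BC
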