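import Cfsg.Agent.Lib.SPC.BUw
import Cfsg.Agent.Lib.SPC.BGen

/-! `UW`, `m` odd -/

set_option autoImplicit false
set_option linter.unusedSectionVars false

namespace CfsgLib.SPC.BC

open Subgroup Module Matrix CfsgLib.UFP
open scoped commutatorElement Pointwise

universe u

variable {F : Type} [Field F] [Finite F] [CharP F 2] {m : ℕ} {δ : F} {G : Type u} [Group G] [Finite G]

section
variable {o p : Fin m}

/-- rational vectors of `ℓ` -/
def BucL (o p : Fin m) (x : Vk m δ) : Prop := ∃ a b : F, x = rt δ a • ee δ o + rt δ b • ee δ p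

/-- `û(x)` -/
noncomputable abbrev bucU (x : Vk m δ) : Sg m δ := TS x (v0 m δ) (om δ)

variable (δ) in
def BucA (o p : Fin m) : Set (Sg m δ) := RL o p ∪ {s | ∃ a : F, s = bucU (rt δ a • ee δ o)}

variable (δ) in
def BucB (o p : Fin m) : Set (Sg m δ) := RL o p ∪ {s | ∃ x, BucL o p x ∧ s = bucU x}

variable (δ) in
def BucQ (o : Fin m) : Set (Sg m δ) := {s | ∃ a c, star a = a ∧ Ok (ee δ o) a c ∧ s = TS (ee δ o) a c}

theorem buc_perm {a b : Fin m} (ha : a ≠ a.rev) (hb : b ≠ b.rev) : ∃ l ∈ Rat m δ,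
    mat l *ᵥ ee δ a = ee δ b ∧ mat l *ᵥ ee δ b = ee δ a ∧ mat l *ᵥ ee δ b.rev = ee δ a.rev ∧
      ∀ i, i ≠ a → i ≠ b → i ≠ a.rev → i ≠ b.rev → mat l *ᵥ ee δ i = ee δ i := by
  let f : Fin m → Fin m := fun i =>
    if i = a then b else if i = b then a else if i = a.rev then b.rev else if i = b.rev then a.rev else i
  have f1 : f a = b := by simp [f]
  have f2 : f b = a := by
    simp only [f]
    split_ifs with h1 <;> simp_all
  have f3 : f a.rev = b.rev := by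
    simp only [f]
    rw [if_neg ha.symm]
    split_ifs with h1
    · rw [← h1, Fin.rev_rev]
    · rfl
  have f4 : f b.rev = a.rev := by
    simp only [f]
    rw [if_neg hb.symm]
    split_ifs with h1 h2
    · rw [← h1, Fin.rev_rev]
    · exact h2
    · rfl
  have f5 : ∀ i, i ≠ a → i ≠ b → i ≠ a.rev → i ≠ b.rev → f i = i := fun i h1 h2 h3 h4 => by
    simp [f, h1, h2, h3, h4]
  have cs : ∀ i, i = a ∨ i = b ∨ i = a.rev ∨ i = b.rev ∨ i ≠ a ∧ i ≠ b ∧ i ≠ a.rev ∧ i ≠ b.rev := by tauto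
  have hf : Function.Involutive f := fun i => by
    rcases cs i with e | e | e | e | ⟨h1, h2, h3, h4⟩
    · rw [e, f1, f2]
    · rw [e, f2, f1]
    · rw [e, f3, f4]
    · rw [e, f4, f3]
    · rw [f5 i h1 h2 h3 h4, f5 i h1 h2 h3 h4]
  obtain ⟨l, hl, e⟩ := exists_perm (δ := δ) hf.toPerm fun i => by
    simp only [Function.Involutive.coe_toPerm]
    rcases cs i with e | e | e | e | ⟨h1, h2, h3, h4⟩
    · rw [e, f1, f3]
    · rw [e, f2, f4]
    · rw [e, f3, Fin.rev_rev, Fin.rev_rev, f1]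
    · rw [e, f4, Fin.rev_rev, Fin.rev_rev, f2]
    · rw [f5 i h1 h2 h3 h4, f5 i.rev (fun e => h3 (by rw [← e, Fin.rev_rev]))
        (fun e => h4 (by rw [← e, Fin.rev_rev])) (fun e => h1 (Fin.rev_inj.1 e)) fun e => h2 (Fin.rev_inj.1 e)]
  simp only [Function.Involutive.coe_toPerm] at e
  exact ⟨l, hl, by rw [e, f1], by rw [e, f2], by rw [e, f4], fun i h1 h2 h3 h4 => by rw [e, f5 i h1 h2 h3 h4]⟩

theorem buc_ne (hm : 6 ≤ m) {i : Fin m} (hi : (i : ℕ) ≤ 1) : i ≠ i.rev := fun e => by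
  have := congrArg Fin.val e
  rw [Fin.val_rev] at this; omega

theorem buc_hf {i j : Fin m} (h : j ≠ i.rev) : hf (ee δ i) (ee δ j) = 0 := by
  rw [hf_ee_left, bi_ee_ne h.symm]

theorem buc_z0 (hm : 6 ≤ m) {i j : Fin m} (hi : (i : ℕ) ≤ 1) (hj : (j : ℕ) ≤ 1) : hf (ee δ i) (ee δ j) = 0 :=
  buc_hf fun e => by
    have := congrArg Fin.val e
    rw [Fin.val_rev] at this; omega

theorem buc_smul {e a : Vk m δ} {c : KK δ} (k : Ok e a c) (l : F) :
    Ok e (rt δ l • a) (rt δ l * rt δ l * c) :=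
  ⟨k.ee, by rw [hf_smul_right, k.ea, mul_zero], by
    rw [star_mul', star_mul', star_rt, ← mul_add, k.cc, hf_smul_left, hf_smul_right, star_rt, mul_assoc]⟩

theorem buc_TS (l : F) (e a : Vk m δ) (c : KK δ) :
    TS (rt δ l • e) a c = TS e (rt δ l • a) (rt δ l * rt δ l * c) := by rw [TS_smul, star_rt]

theorem buc_inv (l : Sg m δ) (x : Vk m δ) : mat l⁻¹ *ᵥ (mat l *ᵥ x) = x := by
  rw [mulVec_mulVec, ← mat_mul, inv_mul_cancel, mat_one, one_mulVec]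

theorem buc_inv' (l : Sg m δ) (x : Vk m δ) : mat l *ᵥ (mat l⁻¹ *ᵥ x) = x := by
  rw [mulVec_mulVec, ← mat_mul, mul_inv_cancel, mat_one, one_mulVec]

theorem buc_dec (hm : Odd m) {e b : Vk m δ} (he : RV e) (hb : RV b) (k0 : hf e b = 0) {l : F} {c : KK δ}
    (k : Ok e (b + rt δ l • v0 m δ) c) :
    ∃ c' : F, TS e (b + rt δ l • v0 m δ) c = TS e b (rt δ c') * bucU (rt δ l • e) := by
  have k1 := buc_smul (Ok.u hm he) l
  have e1 : hf b (rt δ l • v0 m δ) = 0 := by rw [hf_smul_right, hb.v0_right, mul_zero]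
  have e2 := k.cc
  rw [hf_add_left, hf_add_right, hf_add_right, hb.self, e1, hf_smul_left _ _ b, hb.v0_left, mul_zero,
    zero_add, zero_add, zero_add, ← k1.cc] at e2
  obtain ⟨c', hc⟩ := rat_iff.1 (show star (c + rt δ l * rt δ l * om δ) = c + rt δ l * rt δ l * om δ by
    rw [star_add]
    linear_combination e2 + k_two (star (rt δ l * rt δ l * om δ)) - k_two c)
  refine ⟨c', ?_⟩
  rw [bucU, buc_TS, TS_mul (Ok.rv he hb k0 c') k1, e1, ← hc, add_zero, add_assoc, k_two, add_zero]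

theorem buc_rat (hm : Odd m) {a : Vk m δ} (ha : star a = a) : ∃ b, ∃ l : F, RV b ∧ a = b + rt δ l • v0 m δ := by
  obtain ⟨b, b', l, h1, h2, e⟩ := exists_dec a
  have e1 : b + b' + om δ • b' + star l • v0 m δ = b + om δ • b' + l • v0 m δ := by
    rw [← e, ← ha, e, star_add, star_add, star_smul, star_smul, h1.rat, h2.rat, star_v0, star_om, add_smul,
      one_smul]
    abel
  obtain ⟨e2, -, e3⟩ := dec_unique (h1.add h2) h2 h1 h2 e1
  obtain ⟨l', rfl⟩ := rat_iff.1 (e3 hm)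
  exact ⟨b, l', h1, by rw [e, add_eq_left.1 e2, smul_zero, add_zero]⟩

theorem buc_clo {X : Set (Sg m δ)} (f : Sg m δ →* Sg m δ) (h : ∀ s ∈ X, f s ∈ Subgroup.closure X) :
    ∀ s ∈ Subgroup.closure X, f s ∈ Subgroup.closure X := fun _ hs => (Subgroup.closure_le ((Subgroup.closure X).comap f)).2 h hs

theorem buc_norm {ψ : Sg m δ →* G} {X : Set (Sg m δ)} {g : G} (f : Sg m δ →* Sg m δ)
    (e : ∀ s, g * ψ s * g⁻¹ = ψ (f s)) (h : ∀ s ∈ X, f s ∈ Subgroup.closure X) :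
    g ∈ normalizer (((Subgroup.closure X).map ψ : Subgroup G) : Set G) := mem_normalizer_fintype (by
  rintro _ ⟨s, hs, rfl⟩
  exact ⟨_, buc_clo f h s hs, (e s).symm⟩)

theorem buc_norm' {ψ : Sg m δ →* G} {X : Set (Sg m δ)} {l : Sg m δ}
    (h : ∀ s ∈ X, l * s * l⁻¹ ∈ Subgroup.closure X) : ψ l ∈ normalizer (((Subgroup.closure X).map ψ : Subgroup G) : Set G) :=
  buc_norm (MulAut.conj l).toMonoidHom (fun s => by simp) h

theorem buc_cent {ψ : Sg m δ →* G} {X : Set (Sg m δ)} {C : Subgroup G} (h : ∀ s ∈ X, ψ s ∈ C) :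
    (Subgroup.closure X).map ψ ≤ C := map_le_iff_le_comap.2 ((Subgroup.closure_le _).2 h)

theorem buc_Lo : BucL o p (ee δ o) := ⟨1, 0, by simp⟩
theorem buc_Lp : BucL o p (ee δ p) := ⟨0, 1, by simp⟩

theorem buc_Lhf {x a : Vk m δ} (hx : BucL o p x) (h1 : hf (ee δ o) a = 0) (h2 : hf (ee δ p) a = 0) :
    hf x a = 0 := by
  obtain ⟨α, β, rfl⟩ := hx
  rw [hf_add_left, hf_smul_left, hf_smul_left, h1, h2]; simp

theorem buc_Lmul {l : Sg m δ} (h1 : BucL o p (mat l *ᵥ ee δ o)) (h2 : BucL o p (mat l *ᵥ ee δ p))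
    {x : Vk m δ} (hx : BucL o p x) : BucL o p (mat l *ᵥ x) := by
  obtain ⟨α, β, rfl⟩ := hx
  obtain ⟨a, b, e⟩ := h1
  obtain ⟨a', b', e'⟩ := h2
  refine ⟨α * a + β * a', α * b + β * b', ?_⟩
  rw [mulVec_add, mulVec_smul, mulVec_smul, e, e']
  simp only [map_add, map_mul]
  module

variable (hm : 6 ≤ m) (ho : (o : ℕ) = 0) (hp : (p : ℕ) = 1)
include hm ho hp

theorem buc_ro : RV (ee δ o) := RV.ee (buc_ne hm (by omega))
theorem buc_rp : RV (ee δ p) := RV.ee (buc_ne hm (by omega))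

theorem buc_Lrv {x : Vk m δ} (hx : BucL o p x) : RV x ∧ hf (ee δ o) x = 0 ∧ hf (ee δ p) x = 0 := by
  obtain ⟨α, β, rfl⟩ := hx
  refine ⟨((buc_ro hm ho hp).smul α).add ((buc_rp hm ho hp).smul β), ?_, ?_⟩ <;>
    rw [hf_add_right, hf_smul_right, hf_smul_right, buc_z0 hm (by omega) (by omega),
      buc_z0 hm (by omega) (by omega)] <;> simp

theorem buc_mem {i : Fin m} (hi : i = o ∨ i = p) {a : Vk m δ} {c : KK δ} (k : Ok (ee δ i) a c)
    (h1 : hf (ee δ o) a = 0) : TS (ee δ i) a c ∈ Mh m δ 0 := by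
  refine TS_mem k (fun j hj => ?_) fun e => ?_
  · by_cases e : (j.rev : ℕ) = 0
    · have : j = o.rev := by rw [← Fin.rev_rev j]; congr 1; exact Fin.ext (by omega)
      rw [this, ← hf_ee_left o a, h1]
    · have : j = i.rev := by
        rw [← Fin.rev_rev j]; congr 1
        rcases hi with rfl | rfl <;> exact Fin.ext (by omega)
      rw [this, ← hf_ee_left i a, k.ea]
  · rw [Fin.val_rev] at e
    rcases hi with rfl | rfl <;> omega

theorem buc_RL {x a : Vk m δ} (hx : BucL o p x) (ha : RV a) (h1 : hf (ee δ o) a = 0)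
    (h2 : hf (ee δ p) a = 0) (c : F) : TS x a (rt δ c) ∈ Subgroup.closure (RL o p) := by
  obtain ⟨α, β, rfl⟩ := hx
  have ro := buc_ro (δ := δ) hm ho hp
  have rp := buc_rp (δ := δ) hm ho hp
  have op : hf (ee δ o) (ee δ p) = 0 := buc_z0 hm (by omega) (by omega)
  rw [TS_line (Ok.rv (ro.smul α) ha (by rw [hf_smul_left, h1, mul_zero]) c)
    (Ok.rv (rp.smul β) ha (by rw [hf_smul_left, h2, mul_zero]) c)
    (by rw [hf_smul_left, hf_smul_right, op]; simp), buc_TS, buc_TS, buc_TS]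
  refine mul_mem (mul_mem (Subgroup.subset_closure ⟨_, _, α * α * c, .inl rfl, ha.smul α, ?_, ?_, ?_⟩)
    (Subgroup.subset_closure ⟨_, _, β * β * c, .inr rfl, ha.smul β, ?_, ?_, ?_⟩))
    (Subgroup.subset_closure ⟨_, _, 0, .inl rfl, ((rp.smul β).smul c).smul α, ?_, ?_, ?_⟩)
  all_goals simp only [hf_smul_right, h1, h2, op, rp.self, mul_zero, map_mul, map_zero]

theorem buc_RLc {l : Sg m δ} (hl : l ∈ Rat m δ) (h1 : BucL o p (mat l *ᵥ ee δ o))
    (h2 : BucL o p (mat l *ᵥ ee δ p)) (h3 : BucL o p (mat l⁻¹ *ᵥ ee δ o)) (h4 : BucL o p (mat l⁻¹ *ᵥ ee δ p))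
    {s : Sg m δ} (hs : s ∈ RL o p) : l * s * l⁻¹ ∈ Subgroup.closure (RL o p) := by
  obtain ⟨e, a, c, he, ha, k1, k2, rfl⟩ := hs
  have hL : BucL o p e := by rcases he with rfl | rfl; exacts [buc_Lo, buc_Lp]
  have k : ∀ y, BucL o p (mat l⁻¹ *ᵥ y) → hf y (mat l *ᵥ a) = 0 := fun y hy => by
    rw [← buc_inv' l y, hf_mulVec, buc_Lhf hy k1 k2]
  rw [TS_conj (Ok.rv (buc_Lrv hm ho hp hL).1 ha (buc_Lhf hL k1 k2) c)]
  exact buc_RL hm ho hp (buc_Lmul h1 h2 hL) (ha.mulVec hl) (k _ h3) (k _ h4) c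

theorem buc_tri {l : Sg m δ} (hl : l ∈ Mh m δ 0 ⊓ Rat m δ) :
    BucL o p (mat l *ᵥ ee δ o) ∧ BucL o p (mat l *ᵥ ee δ p) := by
  refine ⟨by rw [bi_fix0 ho hl.1]; exact buc_Lo, ?_⟩
  obtain ⟨μ, hμ⟩ := rat_iff.1 (show star (mat l o p) = mat l o p from
    congrFun (congrFun (mem_Rat.1 hl.2) o) p)
  refine ⟨μ, 1, funext fun r => ?_⟩
  have op : o ≠ p := fun e => by rw [e] at ho; omega
  rw [bi_mv, map_one, one_smul, Pi.add_apply, Pi.smul_apply, smul_eq_mul]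
  by_cases e : r = o
  · rw [e, bi_ee_self, bi_ee_ne op, hμ, mul_one, add_zero]
  · rw [bi_ee_ne e, mul_zero, zero_add, bi_ee,
      bi_low hl.1 (by have : (r : ℕ) ≠ o := fun e' => e (Fin.ext e'); omega)]

theorem buc_memA (hm' : Odd m) {b : Vk m δ} (hb : RV b) (h1 : hf (ee δ o) b = 0) (h2 : hf (ee δ p) b = 0)
    {l : F} {c : KK δ} (k : Ok (ee δ o) (b + rt δ l • v0 m δ) c) :
    TS (ee δ o) (b + rt δ l • v0 m δ) c ∈ Subgroup.closure (BucA δ o p) := by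
  obtain ⟨c', e⟩ := buc_dec hm' (buc_ro hm ho hp) hb h1 k
  rw [e]
  exact mul_mem (Subgroup.subset_closure (.inl ⟨_, b, c', .inl rfl, hb, h1, h2, rfl⟩)) (Subgroup.subset_closure (.inr ⟨l, rfl⟩))

omit hm ho hp in
theorem buc_AB : BucA δ o p ⊆ BucB δ o p := by
  rintro s (hs | ⟨a, rfl⟩)
  exacts [.inl hs, .inr ⟨_, ⟨a, 0, by simp⟩, rfl⟩]

theorem buc_B0 (hm' : Odd m) : Subgroup.closure (BucB δ o p) ≤ Mh m δ 0 := by
  have ro := buc_ro (δ := δ) hm ho hp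
  have rp := buc_rp (δ := δ) hm ho hp
  have op : hf (ee δ o) (ee δ p) = 0 := buc_z0 hm (by omega) (by omega)
  refine (Subgroup.closure_le _).2 ?_
  rintro _ (⟨e, a, c, rfl | rfl, ha, k1, k2, rfl⟩ | ⟨_, ⟨α, β, rfl⟩, rfl⟩)
  · exact buc_mem hm ho hp (.inl rfl) (Ok.rv ro ha k1 c) k1
  · exact buc_mem hm ho hp (.inr rfl) (Ok.rv rp ha k2 c) k1
  rw [bucU, TS_line (Ok.u hm' (ro.smul α)) (Ok.u hm' (rp.smul β))
    (by rw [hf_smul_left, hf_smul_right, op]; simp), buc_TS, buc_TS, buc_TS]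
  refine mul_mem (mul_mem (buc_mem hm ho hp (.inl rfl) (buc_smul (Ok.u hm' ro) α) ?_)
    (buc_mem hm ho hp (.inr rfl) (buc_smul (Ok.u hm' rp) β) ?_))
    (buc_mem hm ho hp (.inl rfl) (buc_smul (Ok.w ro (rp.smul β) ?_) α) ?_)
  all_goals simp only [hf_smul_right, op, ro.v0_right, mul_zero]

theorem buc_Q0 : Subgroup.closure (BucQ δ o) ≤ Mh m δ 0 := by
  refine (Subgroup.closure_le _).2 ?_
  rintro _ ⟨a, c, -, k, rfl⟩
  exact buc_mem hm ho hp (.inl rfl) k k.ea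

theorem buc_sbL {s : Sg m δ} (hs : s ∈ RL o p) : sb s = s := by
  obtain ⟨e, a, c, he, ha, k1, k2, rfl⟩ := hs
  have hL : BucL o p e := by rcases he with rfl | rfl; exacts [buc_Lo, buc_Lp]
  have re := (buc_Lrv hm ho hp hL).1
  exact TS_rat (Ok.rv re ha (buc_Lhf hL k1 k2) c) re.rat ha.rat (star_rt c)

omit hm ho hp in
theorem buc_sbU (hm' : Odd m) {x : Vk m δ} (hx : RV x) : sb (bucU x) = (bucU x)⁻¹ := by
  rw [bucU, sb_TS (Ok.u hm' hx), TS_inv (Ok.u hm' hx), hx.rat, star_v0]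

omit hm ho hp in
theorem buc_cjU (hm' : Odd m) {l : Sg m δ} (hl : l ∈ Rat m δ) {x : Vk m δ} (hx : RV x) :
    l * bucU x * l⁻¹ = bucU (mat l *ᵥ x) := by rw [bucU, TS_conj (Ok.u hm' hx), rat_v0 hl]

theorem buc_nB (hm' : Odd m) {l : Sg m δ} (hl : l ∈ Rat m δ) (h1 : BucL o p (mat l *ᵥ ee δ o))
    (h2 : BucL o p (mat l *ᵥ ee δ p)) (h3 : BucL o p (mat l⁻¹ *ᵥ ee δ o)) (h4 : BucL o p (mat l⁻¹ *ᵥ ee δ p)) :
    ∀ s ∈ BucB δ o p, l * s * l⁻¹ ∈ Subgroup.closure (BucB δ o p) := by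
  rintro s (hs | ⟨x, hx, rfl⟩)
  · exact Subgroup.closure_mono Set.subset_union_left (buc_RLc hm ho hp hl h1 h2 h3 h4 hs)
  · rw [buc_cjU hm' hl (buc_Lrv hm ho hp hx).1]
    exact Subgroup.subset_closure (.inr ⟨_, buc_Lmul h1 h2 hx, rfl⟩)

theorem buc_nA (hm' : Odd m) {l : Sg m δ} (hl : l ∈ Mh m δ 0 ⊓ Rat m δ) :
    ∀ s ∈ BucA δ o p, l * s * l⁻¹ ∈ Subgroup.closure (BucA δ o p) := by
  rintro s (hs | ⟨a, rfl⟩)
  · exact Subgroup.closure_mono Set.subset_union_left (buc_RLc hm ho hp hl.2 (buc_tri hm ho hp hl).1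
      (buc_tri hm ho hp hl).2 (buc_tri hm ho hp (inv_mem hl)).1 (buc_tri hm ho hp (inv_mem hl)).2 hs)
  · rw [buc_cjU hm' hl.2 ((buc_ro hm ho hp).smul a), mulVec_smul, bi_fix0 ho hl.1]
    exact Subgroup.subset_closure (.inr ⟨a, rfl⟩)

omit hm ho hp in
theorem buc_nQ {l : Sg m δ} (hl : l ∈ Rat m δ) (h1 : mat l *ᵥ ee δ o = ee δ o) :
    ∀ s ∈ BucQ δ o, l * s * l⁻¹ ∈ Subgroup.closure (BucQ δ o) := by
  rintro _ ⟨a, c, ha, k, rfl⟩
  have k' := k.conj l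
  rw [TS_conj k]
  rw [h1] at k' ⊢
  exact Subgroup.subset_closure ⟨_, c, by rw [star_mulVec hl, ha], k', rfl⟩

theorem buc_uA (hm' : Odd m) {x : Vk m δ} (hx : BucL o p x) :
    ∀ s ∈ BucA δ o p, bucU x * s * (bucU x)⁻¹ ∈ Subgroup.closure (BucA δ o p) := by
  obtain ⟨rx, x1, x2⟩ := buc_Lrv hm ho hp hx
  have ro := buc_ro (δ := δ) hm ho hp
  have ku := Ok.u hm' rx
  rintro s (hs | ⟨a, rfl⟩)
  · have hs' := hs
    obtain ⟨e, a, c, he, ha, k1, k2, rfl⟩ := hs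
    have hL : BucL o p e := by rcases he with rfl | rfl; exacts [buc_Lo, buc_Lp]
    obtain ⟨re, e1, e2⟩ := buc_Lrv hm ho hp hL
    rw [bucU, MM.buw_comm ku (Ok.rv re ha (buc_Lhf hL k1 k2) c) (buc_Lhf hx e1 e2) re.v0_left
      (buc_Lhf hx k1 k2) ha.v0_left, mul_inv_cancel_right]
    exact Subgroup.subset_closure (.inl hs')
  · have e1 : mat (bucU x) *ᵥ (rt δ a • ee δ o) = rt δ a • ee δ o := MM.buw_fix ku
      (by rw [hf_smul_right, rx.symm ro, x1, mul_zero]) (by rw [hf_smul_right, ro.v0_left, mul_zero])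
    have e2 : mat (bucU x) *ᵥ v0 m δ = x + rt δ 1 • v0 m δ := by
      rw [bucU, mat_TS ku, TM_mulVec, hf_v0 hm', rx.v0_right]; simp [add_comm]
    have k := (Ok.u hm' ro).conj (bucU x)
    have e3 : mat (bucU x) *ᵥ ee δ o = ee δ o := MM.buw_fix ku (by rw [rx.symm ro, x1]) ro.v0_left
    rw [e3, e2] at k
    have k' := buc_smul k a
    rw [TS_conj (Ok.u hm' (ro.smul a)), e1, e2, buc_TS]
    rw [smul_add, smul_smul, ← map_mul] at k' ⊢
    exact buc_memA hm ho hp hm' (rx.smul a) (by rw [hf_smul_right, x1, mul_zero])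
      (by rw [hf_smul_right, x2, mul_zero]) k'

theorem buc_uQ (hm' : Odd m) (a : F) : bucU (rt δ a • ee δ o) ∈ Subgroup.closure (BucQ δ o) :=
  Subgroup.subset_closure ⟨_, _, by rw [star_smul, star_rt, star_v0], buc_smul (Ok.u hm' (buc_ro hm ho hp)) a,
    buc_TS ..⟩

theorem buc_U1 (hm' : Odd m) (a : F) : bucU (rt δ a • ee δ o) ∈ U1 m δ := by
  have ro := buc_ro (δ := δ) hm ho hp
  have ku := Ok.u hm' (ro.smul a)
  refine Subgroup.subset_closure ⟨buc_Q0 hm ho hp (buc_uQ hm ho hp hm' a), ?_⟩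
  rw [buc_sbU hm' (ro.smul a), inv_inv, bucU, TS_mul ku ku, MM.buw_vv, k_two, hf_v0 hm', zero_add, buc_TS]
  exact TS_mem (buc_smul (Ok.z ro) a) (fun j _ => by simp) fun e => by rw [Fin.val_rev] at e; omega

end

namespace MM

variable {ψ : Sg m δ →* G} {t : G} (h : MM ψ t) {o p : Fin m} (hm : Odd m) (ho : (o : ℕ) = 0)
  (hp : (p : ℕ) = 1)
include h hm ho hp

theorem buc_cen {W : Subgroup G} (h1 : Odd (Nat.card W)) (h2 : t ∈ normalizer (W : Set G))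
    (h3 : U0 ψ ≤ normalizer (W : Set G)) (h4 : ∀ a : F, ψ (bucU (rt δ a • ee δ o)) ∈ normalizer (W : Set G)) :
    (Subgroup.closure (BucA δ o p)).map ψ ≤ centralizer (W : Set G) ∧
      (Subgroup.closure (BucQ δ o)).map ψ ≤ centralizer (W : Set G) := by
  have k : ∀ a : F, ψ (bucU (rt δ a • ee δ o)) ∈ centralizer (W : Set G) := fun a => by
    simpa using h.trick hm ho hp h1 h2 (fun s hs => h.cenR ho hp h1 h2 h3 hs) a 0 (by simpa using h4 a)
  refine ⟨buc_cent ?_, buc_cent ?_⟩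
  · rintro s (hs | ⟨a, rfl⟩)
    exacts [h.cenR ho hp h1 h2 h3 hs, k a]
  · rintro _ ⟨a, c, ha, k1, rfl⟩
    obtain ⟨b, l, hb, rfl⟩ := buc_rat hm ha
    have ro := buc_ro (δ := δ) h.m6 ho hp
    have k2 : hf (ee δ o) b = 0 := by
      have := k1.ea
      rwa [hf_add_right, hf_smul_right, ro.v0_right, mul_zero, add_zero] at this
    obtain ⟨c', e⟩ := buc_dec hm ro hb k2 k1
    rw [e, map_mul]
    exact mul_mem (h.cenQ ho h1 h2 h3 hb k2 c') (k l)

theorem buc_isoL {R : Subgroup (Sg m δ)} (hR : Subgroup.closure (BucA δ o p) ≤ R)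
    (ht : t ∈ normalizer ((R.map ψ : Subgroup G) : Set G)) {g : G}
    (hg : g ∈ centralizer ((R.map ψ : Subgroup G) : Set G)) {u : G} (hu : u ∈ Uh ψ)
    (e : g * t * g⁻¹ = u * t * u⁻¹) : t⁻¹ * (g * t * g⁻¹) ∈ R.map ψ := by
  obtain ⟨d, d1, d2, d3, d4⟩ := h.iso_pre ht hg hu e
  have ro := buc_ro (δ := δ) h.m6 ho hp
  have rp := buc_rp (δ := δ) h.m6 ho hp
  obtain ⟨a, l, c', c, k, e'⟩ := isoL h.m6 ho hp d1 d2 (fun j c hj k => d4 _ _ (TS_pow k) ⟨_, hR (by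
      by_cases hj' : j = j.rev
      · have e1 : ee δ j = 0 + rt δ 1 • v0 m δ := by rw [v0_eq hj']; simp
        rw [e1] at k ⊢
        exact buc_memA h.m6 ho hp hm RV.zero (hf_zero_right _) (hf_zero_right _) k
      · have e1 : ee δ j = ee δ j + rt δ 0 • v0 m δ := by simp
        have k0 := k.ea
        rw [e1] at k ⊢
        exact buc_memA h.m6 ho hp hm (RV.ee hj') k0 (buc_hf hj) k), rfl⟩)
    fun j j1 j2 j3 => d4 _ _ (TS_pow (bi_ok0 (buc_ne h.m6 (by omega)) j2 j3)) ⟨_, hR (Subgroup.subset_closure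
      (.inl ⟨_, _, 0, .inr rfl, RV.ee j3, buc_hf j1, buc_hf j2, by rw [map_zero]⟩)), rfl⟩
  refine ⟨d, hR ?_, d3⟩
  rw [e']
  exact mul_mem (buc_memA h.m6 ho hp hm (rp.smul a)
    (by rw [hf_smul_right, buc_z0 h.m6 (by omega) (by omega), mul_zero])
    (by rw [hf_smul_right, rp.self, mul_zero]) k) (Subgroup.subset_closure (.inl (bi_zRL (.inr rfl) c')))

omit hm hp in
theorem buc_isoQ (ht : t ∈ normalizer (((Subgroup.closure (BucQ δ o)).map ψ : Subgroup G) : Set G)) {g : G}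
    (hg : g ∈ centralizer (((Subgroup.closure (BucQ δ o)).map ψ : Subgroup G) : Set G)) {u : G} (hu : u ∈ Uh ψ)
    (e : g * t * g⁻¹ = u * t * u⁻¹) : t⁻¹ * (g * t * g⁻¹) ∈ (Subgroup.closure (BucQ δ o)).map ψ := by
  obtain ⟨d, d1, d2, d3, d4⟩ := h.iso_pre ht hg hu e
  obtain ⟨a, c, ha, k, e'⟩ := isoQ h.m6 ho d1 d2 fun j c k => d4 _ _ (TS_pow k)
    ⟨_, Subgroup.subset_closure ⟨_, c, star_ee j, k, rfl⟩, rfl⟩
  exact ⟨d, Subgroup.subset_closure ⟨a, c, ha, k, e'⟩, d3⟩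

theorem buc_fin {V : Subgroup G} (h1 : (Subgroup.closure (BucQ δ o)).map ψ ≤ centralizer (V : Set G))
    (h2 : ∀ l ∈ Rat m δ, (∀ s ∈ BucQ δ o, l * s * l⁻¹ ∈ Subgroup.closure (BucQ δ o)) → ψ l ∈ normalizer (V : Set G))
    (h3 : ∀ l ∈ Rat m δ, (∀ s ∈ BucB δ o p, l * s * l⁻¹ ∈ Subgroup.closure (BucB δ o p)) →
      ψ l ∈ normalizer (V : Set G)) : V ≤ normalizer (ψ.range : Set G) := by
  have m6 := h.m6
  let Gd : Vk m δ → Prop := fun e => ∀ a c, star a = a → Ok e a c → ψ (TS e a c) ∈ centralizer (V : Set G)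
  have tr : ∀ {l e e'}, l ∈ Rat m δ → ψ l ∈ normalizer (V : Set G) → mat l *ᵥ e = e' → Gd e → Gd e' := by
    rintro l e _ hl hn rfl he a c ha k
    have k' := k.conj l⁻¹
    rw [buc_inv] at k'
    have := conj_mem (Core.normalizer_le_normalizer_centralizer _ hn)
      (he _ c (by rw [star_mulVec (inv_mem hl), ha]) k')
    rwa [← map_inv, ← map_mul, ← map_mul, TS_conj k', buc_inv'] at this
  have g0 : Gd (ee δ o) := fun a c ha k => h1 ⟨_, Subgroup.subset_closure ⟨a, c, ha, k, rfl⟩, rfl⟩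
  have no : o ≠ o.rev := buc_ne m6 (by omega)
  have np : p ≠ p.rev := buc_ne m6 (by omega)
  obtain ⟨l, hl, l1, l2, l3, -⟩ := buc_perm (δ := δ) no np
  have nl : ψ l ∈ normalizer (V : Set G) := h3 l hl (buc_nB m6 ho hp hm hl (l1 ▸ buc_Lp) (l2 ▸ buc_Lo)
    (by rw [← l2, buc_inv]; exact buc_Lp) (by rw [← l1, buc_inv]; exact buc_Lo))
  have g1 : ∀ i, i ≠ i.rev → i ≠ o → i ≠ o.rev → Gd (ee δ i) := fun i i1 i2 i3 => by
    obtain ⟨l', hl', l1', -, -, l4⟩ := buc_perm (δ := δ) np i1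
    refine tr hl' (h2 l' hl' (buc_nQ hl' (l4 o ?_ i2.symm ?_ fun e => i3 (by rw [e, Fin.rev_rev])))) l1'
      (tr hl nl l1 g0)
    all_goals
      intro e
      have := congrArg Fin.val e
      try rw [Fin.val_rev] at this
      omega
  have g2 : ∀ i, i ≠ i.rev → Gd (ee δ i) := fun i i1 => by
    by_cases e : i = o
    · rwa [e]
    by_cases e' : i = o.rev
    · rw [e']
      refine tr hl nl l3 (g1 _ (by rw [Fin.rev_rev]; exact np.symm) (fun e => ?_) fun e => ?_)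
      all_goals
        have := congrArg Fin.val e
        simp only [Fin.val_rev] at this
        omega
    exact g1 i i1 e e'
  have top : (centralizer (V : Set G)).comap ψ = ⊤ := gen' m6 (fun i a c hi ha k => g2 i hi a c ha k)
    fun i j hi hj j1 j2 => by
      have ri := RV.ee (δ := δ) hi
      have rj := RV.ee (δ := δ) hj
      have hj' : j.rev ≠ j.rev.rev := by rw [Fin.rev_rev]; exact hj.symm
      have k := bi_ok0 (δ := δ) hi (j := j.rev) (fun e => j1 (Fin.rev_inj.1 e)) hj'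
      have g3 : Gd (ee δ i + ee δ j) := tr (TS_rat k ri.rat (star_ee _) (star_zero _))
        (centralizer_le_normalizer _ (g2 i hi _ _ (star_ee _) k)) (by
          rw [mat_TS k, TM_mulVec, buc_hf j2, hf_ee_left, Fin.rev_rev, bi_ee_self]; simp [add_comm]) (g2 j hj)
      have e := g3 _ _ star_v0 (Ok.u hm (ri.add rj))
      rw [TS_line (Ok.u hm ri) (Ok.u hm rj) (buc_hf j2), map_mul, map_mul] at e
      exact (mul_mem_cancel_left (mul_mem (g2 i hi _ _ star_v0 (Ok.u hm ri))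
        (g2 j hj _ _ star_v0 (Ok.u hm rj)))).1 e
  refine (le_centralizer_iff.1 ?_).trans (centralizer_le_normalizer _)
  rintro _ ⟨s, rfl⟩
  exact top.ge (mem_top s)

end MM

theorem MM.uw_odd {ψ : Sg m δ →* G} {t : G} (h : MM ψ t) (hm : Odd m)
    (d : SylD (normalizer (ψ.range : Set G)) t (Uh ψ) (U0 ψ)) :
    UW (normalizer (ψ.range : Set G)) t ((U1 m δ).map ψ) := by
  have m6 := h.m6
  obtain ⟨o, ho⟩ : ∃ o : Fin m, (o : ℕ) = 0 := ⟨⟨0, by omega⟩, rfl⟩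
  obtain ⟨p, hp⟩ : ∃ p : Fin m, (p : ℕ) = 1 := ⟨⟨1, by omega⟩, rfl⟩
  let R : {X : Set (Sg m δ) // X = BucA δ o p ∨ X = BucQ δ o ∨ X = BucB δ o p} → Subgroup G :=
    fun X => (Subgroup.closure X.1).map ψ
  have le : ∀ i, R i ≤ Uh ψ := by
    rintro ⟨_, rfl | rfl | rfl⟩
    exacts [map_mono ((Subgroup.closure_mono buc_AB).trans (buc_B0 m6 ho hp hm)), map_mono (buc_Q0 m6 ho hp),
      map_mono (buc_B0 m6 ho hp hm)]
  have tn : ∀ i, t ∈ normalizer (R i : Set G) := by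
    rintro ⟨_, rfl | rfl | rfl⟩ <;> refine buc_norm sb h.tc ?_
    · rintro s (hs | ⟨a, rfl⟩)
      · rw [buc_sbL m6 ho hp hs]; exact Subgroup.subset_closure (.inl hs)
      · rw [buc_sbU hm ((buc_ro m6 ho hp).smul a)]; exact inv_mem (Subgroup.subset_closure (.inr ⟨a, rfl⟩))
    · rintro _ ⟨a, c, ha, k, rfl⟩
      rw [sb_TS k, star_ee, ha]
      exact Subgroup.subset_closure ⟨a, _, ha, k.inv, rfl⟩
    · rintro s (hs | ⟨x, hx, rfl⟩)
      · rw [buc_sbL m6 ho hp hs]; exact Subgroup.subset_closure (.inl hs)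
      · rw [buc_sbU hm (buc_Lrv m6 ho hp hx).1]; exact inv_mem (Subgroup.subset_closure (.inr ⟨x, hx, rfl⟩))
  have un : ∀ i, U0 ψ ≤ normalizer (R i : Set G) := by
    rintro ⟨_, rfl | rfl | rfl⟩ _ ⟨l, hl, rfl⟩ <;> refine buc_norm' ?_
    · exact buc_nA m6 ho hp hm hl
    · exact buc_nQ hl.2 (bi_fix0 ho hl.1)
    · exact buc_nB m6 ho hp hm hl.2 (buc_tri m6 ho hp hl).1 (buc_tri m6 ho hp hl).2
        (buc_tri m6 ho hp (inv_mem hl)).1 (buc_tri m6 ho hp (inv_mem hl)).2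
  have uR : ∀ i (a : F), ψ (bucU (rt δ a • ee δ o)) ∈ R i := by
    rintro ⟨_, rfl | rfl | rfl⟩ a
    exacts [⟨_, Subgroup.subset_closure (.inr ⟨a, rfl⟩), rfl⟩, ⟨_, buc_uQ m6 ho hp hm a, rfl⟩,
      ⟨_, Subgroup.subset_closure (buc_AB (.inr ⟨a, rfl⟩)), rfl⟩]
  have cen : ∀ i, (Subgroup.closure (BucA δ o p)).map ψ ≤ centralizer (OC (R i) : Set G) ∧
      (Subgroup.closure (BucQ δ o)).map ψ ≤ centralizer (OC (R i) : Set G) := fun i =>
    h.buc_cen hm ho hp (OC_odd _) (norm_le_norm_OC _ (tn i)) ((un i).trans (norm_le_norm_OC _))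
      fun a => norm_le_norm_OC _ (le_normalizer (uR i a))
  refine uw_of d.u R ⟨_, .inl rfl⟩ (fun i => d.pg.to_le (le i)) tn (fun i e => h.t_not_mem (le i e))
    (fun i => d.iso_of ((le i).trans le_sup_left) (un i) (tn i) fun g hg u hu e => ?_) ?_
    (fun i => (cen i).1) (fun W h1 h2 h3 => (h.buc_cen hm ho hp h1 h2 (le_trans (map_mono fun s hs =>
      show s ∈ U1 m δ from Subgroup.subset_closure ⟨hs.1, by rw [show sb s = s from hs.2, mul_inv_cancel]; exact one_mem _⟩) h3)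
      fun a => h3 ⟨_, buc_U1 m6 ho hp hm a, rfl⟩).1) fun V h1 h2 => ?_
  · have := tn i
    obtain ⟨_, rfl | rfl | rfl⟩ := i
    exacts [h.buc_isoL hm ho hp le_rfl this hg hu e, h.buc_isoQ ho this hg hu e,
      h.buc_isoL hm ho hp (Subgroup.closure_mono buc_AB) this hg hu e]
  · rintro ⟨_, rfl | rfl | rfl⟩
    · exact (cen _).1
    · exact (cen _).2
    refine buc_cent ?_
    have k : ∀ s ∈ RL o p, ψ s ∈ centralizer (OC (R ⟨_, .inl rfl⟩) : Set G) :=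
      fun s hs => (cen _).1 ⟨s, Subgroup.subset_closure (.inl hs), rfl⟩
    rintro s (hs | ⟨_, ⟨a, b, rfl⟩, rfl⟩)
    · exact k s hs
    · exact h.trick hm ho hp (OC_odd _) (norm_le_norm_OC _ (tn _)) k a b
        (norm_le_norm_OC _ (buc_norm' (buc_uA m6 ho hp hm ⟨a, b, rfl⟩)))
  · have k : ∀ l ∈ Rat m δ, ∀ i, t⁻¹ * (ψ l * t * (ψ l)⁻¹) ∈ R i := fun l hl i => by
      rw [h.rat_t hl, mul_inv_cancel_right, inv_mul_cancel]; exact one_mem _
    exact h.buc_fin hm ho hp (h1 ⟨_, .inr (.inl rfl)⟩)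
      (fun l hl e => h2 ⟨_, .inr (.inl rfl)⟩ _ (buc_norm' e) (k l hl _))
      fun l hl e => h2 ⟨_, .inr (.inr rfl)⟩ _ (buc_norm' e) (k l hl _)

end CfsgLib.SPC.BC
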