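import Cfsg.Agent.Lib.SPC.BIso
import Cfsg.Agent.Lib.UFP.Gr1

/-! Odd subgroups normalised by `t` and `U₀` -/

set_option autoImplicit false
set_option linter.unusedSectionVars false

namespace CfsgLib.SPC.BC

open Subgroup Module Matrix CfsgLib.UFP
open scoped commutatorElement Pointwise

universe u

variable {F : Type} [Field F] [Finite F] [CharP F 2] {m : ℕ} {δ : F} {G : Type u} [Group G] [Finite G]

namespace MM

variable {ψ : Sg m δ →* G} {t : G} (h : MM ψ t) {o p : Fin m}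
include h

omit h in
theorem buw_ind {i : Fin m} {a : Vk m δ} (ha : RV a) (a0 : a ≠ 0) (ai : a i = 0) {α β : KK δ}
    (e : α • ee δ i + β • a = 0) : α = 0 ∧ β = 0 := by
  have e1 : α = 0 := by
    have := congrFun e i
    simpa [ee, ai] using this
  refine ⟨e1, ?_⟩
  obtain ⟨j, hj⟩ := Function.ne_iff.1 a0
  obtain ⟨c, hc⟩ := rat_iff.1 (show star (a j) = a j from congrFun ha.rat j)
  have c0 : c ≠ 0 := by
    rintro rfl
    exact hj (by rw [hc, map_zero]; rfl)
  have e2 : β * rt δ c = 0 := by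
    have := congrFun e j
    rw [e1, zero_smul, zero_add] at this
    rw [← hc]; exact this
  calc β = β * rt δ c * rt δ c⁻¹ := by rw [mul_assoc, ← map_mul, mul_inv_cancel₀ c0, map_one, mul_one]
    _ = 0 := by rw [e2, zero_mul]

omit h in
theorem buw_vv (a : Vk m δ) : a + a = 0 := funext fun i => k_two (a i)

omit h in
theorem buw_odd {V : Subgroup G} (hV : Odd (Nat.card V)) {g : G} (hg : g ∈ V) {n : ℕ} (e : g ^ 2 ^ n = 1) :
    g = 1 := by
  have := pow_gcd_eq_one.2 ⟨pow_orderOf_eq_one g, e⟩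
  rwa [(Nat.Coprime.pow_right n (Nat.coprime_two_right.2 (odd_orderOf hV hg))), pow_one] at this

omit h in
theorem buw_fix {e a u : Vk m δ} {c : KK δ} (k : Ok e a c) (h1 : hf e u = 0) (h2 : hf a u = 0) :
    mat (TS e a c) *ᵥ u = u := by
  rw [mat_TS k, TM_mulVec, h1, h2, mul_zero, add_zero, zero_smul, zero_smul, add_zero, add_zero]

omit h in
theorem buw_comm {e a e' a' : Vk m δ} {c c' : KK δ} (k : Ok e a c) (k' : Ok e' a' c') (h1 : hf e e' = 0)
    (h2 : hf a e' = 0) (h3 : hf e a' = 0) (h4 : hf a a' = 0) :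
    TS e a c * TS e' a' c' = TS e' a' c' * TS e a c := by
  have := TS_conj k' (TS e a c)
  rw [buw_fix k h1 h2, buw_fix k h3 h4] at this
  exact mul_inv_eq_iff_eq_mul.1 this

theorem buw_act {g : G} (hg : g * t = t * g) : ∃ γ : Vk m δ → Vk m δ, γ 0 = 0 ∧ (∀ x, RV x → RV (γ x)) ∧
    (∀ x y, hf x y = 0 → hf (γ x) (γ y) = 0) ∧
    ∀ e a, ∀ c : KK δ, Ok e a c → (c = 0 ∨ c = 1) → g * ψ (TS e a c) * g⁻¹ = ψ (TS (γ e) (γ a) c) := by
  obtain ⟨l, hl, b, hb⟩ := h.act hg
  refine ⟨fun x => mat l *ᵥ (b.1 ∘ x), ?_, fun x hx => RV.mulVec hl (hx.map b), fun x y e => ?_,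
    fun e a c k hc => ?_⟩
  · have : (b.1 ∘ (0 : Vk m δ)) = 0 := funext fun i => map_zero b.1
    simp only [this, mulVec_zero]
  · rw [hf_mulVec, hf_map, e, map_zero]
  · have : b.1 c = c := by rcases hc with rfl | rfl <;> simp
    rw [hb, mp_TS k, TS_conj (k.map b), this]

theorem buw_U0 : U0 ψ ≤ centralizer {t} := by
  rintro _ ⟨s, hs, rfl⟩
  exact mem_cent1.2 (h.rat_t hs.2).symm

theorem buw_hat {i : Fin m} (hi : i ≠ i.rev) {a : Vk m δ} (ha : RV a) (k : hf (ee δ i) a = 0) (ai : a i = 0)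
    (h1 : TS (ee δ i) a 0 ∈ Mh m δ 0) (h2 : TS (ee δ i) 0 1 ∈ Mh m δ 0) :
    Hat t (U0 ψ) (ψ (TS (ee δ i) a 0)) := by
  have he : RV (ee δ i) := RV.ee hi
  have ox : ∀ {e a : Vk m δ}, RV e → RV a → hf e a = 0 → Ok e a 0 := fun he ha k => by
    simpa using Ok.rv he ha k 0
  have o1 : ∀ {e a : Vk m δ}, RV e → RV a → hf e a = 0 → Ok e a 1 := fun he ha k => by
    simpa using Ok.rv he ha k 1
  have kx := ox he ha k
  have kz := Ok.z he
  have kw := Ok.w he ha k
  have xx : ∀ {e a : Vk m δ}, RV e → RV a → hf e a = 0 → TS e a 0 * TS e a 0 = 1 := fun he ha k => by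
    rw [TS_mul (ox he ha k) (ox he ha k), buw_vv, ha.self, add_zero, add_zero, TS_zero]
  have xz : TS (ee δ i) a 0 * TS (ee δ i) 0 1 = TS (ee δ i) a 1 := by
    rw [TS_mul kx kz, hf_zero_right, add_zero, add_zero, zero_add]
  refine ⟨ψ (TS (ee δ i) (om δ • a) 0), closure {ψ (TS (ee δ i) a 0), ψ (TS (ee δ i) 0 1)},
    (h.hat_w he ha k).symm, subset_closure (Or.inl rfl), ?_, ?_, fun V hV hVt hB => ?_⟩
  · rw [closure_le]
    rintro _ (rfl | rfl)
    · exact ⟨_, ⟨h1, TS_rat kx (star_ee i) ha.rat (star_zero _)⟩, rfl⟩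
    · exact ⟨_, ⟨h2, TS_rat kz (star_ee i) (star_zero _) (star_one _)⟩, rfl⟩
  · rw [closure_le]
    have ae : hf a (ee δ i) = 0 := by rw [ha.symm he, k]
    rintro _ (rfl | rfl)
    · refine mem_cent1.2 ?_
      rw [← map_mul, ← map_mul, buw_comm kw kx he.self (by rw [hf_smul_left, ae, mul_zero]) k
        (by rw [hf_smul_left, ha.self, mul_zero])]
    · refine mem_cent1.2 ?_
      rw [← map_mul, ← map_mul, buw_comm kw kz he.self (by rw [hf_smul_left, ae, mul_zero])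
        (hf_zero_right _) (hf_zero_right _)]
  by_cases a0 : a = 0
  · intro v _
    rw [mem_cent1, a0, TS_zero, map_one, one_mul, mul_one]
  have nx : ψ (TS (ee δ i) a 0) ∈ normalizer (V : Set G) := hB (subset_closure (Or.inl rfl))
  have nz : ψ (TS (ee δ i) 0 1) ∈ normalizer (V : Set G) := hB (subset_closure (Or.inr rfl))
  have fin : ∀ v ∈ V, ∀ s : Sg m δ, v * ψ (TS (ee δ i) a 0) * v⁻¹ = ψ s →
      (s * TS (ee δ i) a 0) ^ 2 ^ 2 = 1 → v ∈ centralizer {ψ (TS (ee δ i) a 0)} := by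
    intro v hv s e1 e2
    have x2 : ψ (TS (ee δ i) a 0) * ψ (TS (ee δ i) a 0) = 1 := by rw [← map_mul, xx he ha k, map_one]
    have xi := inv_eq_of_mul_eq_one_right x2
    have m1 : ψ (s * TS (ee δ i) a 0) ∈ V := by
      have := V.mul_mem hv (conj_mem nx (V.inv_mem hv))
      rw [map_mul, ← e1]
      rw [xi] at this
      simpa only [mul_assoc] using this
    have e3 := buw_odd hV m1 (n := 2) (by rw [← map_pow, e2, map_one])
    rw [map_mul, ← e1, mul_eq_one_iff_eq_inv, xi, mul_inv_eq_iff_eq_mul] at e3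
    exact mem_cent1.2 e3.symm
  refine le_of_four' hV (t := ψ (TS (ee δ i) a 0)) (x := ψ (TS (ee δ i) 0 1))
    (by rw [← map_mul, xx he ha k, map_one]) ?_ ?_ nx nz inf_le_right ?_ ?_
  · rw [← map_mul, ← map_mul, xz, TS_mul (o1 he ha k) (o1 he ha k), buw_vv, ha.self, add_zero, k_two, TS_zero,
      map_one]
  · rw [← map_mul, TS_mul kz kz, add_zero, hf_zero_left, add_zero, k_two, TS_zero, map_one]
    exact one_mem _
  · rintro v ⟨hv, hc⟩
    obtain ⟨γ, g0, g1, g2, g3⟩ := h.buw_act (mem_cent1.1 (hVt hv)).symm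
    have e1 := g3 _ _ _ kz (Or.inr rfl)
    rw [← mem_cent1.1 hc, mul_inv_cancel_right, g0] at e1
    have e2 := z_inj he (g1 _ he) (h.inj2 e1 (TS_pow kz) (TS_pow (Ok.z (g1 _ he))))
    have k' : hf (ee δ i) (γ a) = 0 := by
      have := g2 _ _ k
      rwa [← e2] at this
    refine fin v hv _ (g3 _ _ _ kx (Or.inl rfl)) ?_
    rw [← e2, TS_mul (ox he (g1 _ ha) k') kx]
    exact TS_pow ((ox he (g1 _ ha) k').add kx)
  · rintro v ⟨hv, hc⟩
    obtain ⟨γ, g0, g1, g2, g3⟩ := h.buw_act (mem_cent1.1 (hVt hv)).symm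
    have e1 := g3 _ _ _ (o1 he ha k) (Or.inr rfl)
    have hc' := mem_cent1.1 hc
    rw [← map_mul, xz] at hc'
    rw [← hc', mul_inv_cancel_right] at e1
    have k' := g2 _ _ k
    have kk := o1 (g1 _ he) (g1 _ ha) k'
    have e2 := h.inj2 e1 (TS_pow (o1 he ha k)) (TS_pow kk)
    have key : ∀ u, hf (γ (ee δ i)) u = 0 → hf (γ a) u = 0 → hf (ee δ i) u = 0 ∧ hf a u = 0 := by
      intro u u1 u2
      have e3 := buw_fix kk u1 u2
      rw [← e2, mat_TS (o1 he ha k), TM_mulVec, add_assoc, add_eq_left] at e3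
      obtain ⟨e4, e5⟩ := buw_ind ha a0 ai e3
      rw [e5, mul_zero, add_zero] at e4
      exact ⟨e5, e4⟩
    obtain ⟨p1, p2⟩ := key _ (g1 _ he).self (by rw [(g1 _ ha).symm (g1 _ he), k'])
    obtain ⟨p3, p4⟩ := key _ k' (g1 _ ha).self
    have kx' := ox (g1 _ he) (g1 _ ha) k'
    have cm : Commute (TS (ee δ i) a 0) (TS (γ (ee δ i)) (γ a) 0) := buw_comm kx kx' p1 p2 p3 p4
    refine fin v hv _ (g3 _ _ _ kx (Or.inl rfl)) ?_
    rw [cm.symm.mul_pow, TS_pow kx, TS_pow kx', mul_one]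

theorem hat_x {i : Fin m} (hi : i ≠ i.rev) {a : Vk m δ} (ha : RV a) (k : hf (ee δ i) a = 0)
    (h1 : TS (ee δ i) a 0 ∈ Mh m δ 0) (h2 : TS (ee δ i) 0 1 ∈ Mh m δ 0) :
    Hat t (U0 ψ) (ψ (TS (ee δ i) a 0)) := by
  have he : RV (ee δ i) := RV.ee hi
  obtain ⟨c, hc⟩ := rat_iff.1 (show star (a i) = a i from congrFun ha.rat i)
  have e : TS (ee δ i) (a + rt δ c • ee δ i) 0 = TS (ee δ i) a 0 := by
    rw [TS_shift, star_rt, zero_add, k_two]
  rw [← e] at h1 ⊢
  refine h.buw_hat hi (ha.add (he.smul c)) ?_ ?_ h1 h2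
  · rw [hf_add_right, hf_smul_right, k, he.self, mul_zero, add_zero]
  · rw [Pi.add_apply, Pi.smul_apply, hc, ee, Pi.single_eq_same, smul_eq_mul, mul_one, k_two]

theorem buw_cen {i : Fin m} (hi : (i : ℕ) ≤ 1) {W : Subgroup G} (h1 : Odd (Nat.card W))
    (h2 : t ∈ normalizer (W : Set G)) (h3 : U0 ψ ≤ normalizer (W : Set G)) {a : Vk m δ} (ha : RV a)
    (k : ∀ j : Fin m, (j.rev : ℕ) < i + 1 → a j = 0) (c : F) :
    ψ (TS (ee δ i) a (rt δ c)) ∈ centralizer (W : Set G) := by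
  have m6 := h.m6
  have hi' : i ≠ i.rev := fun e => by
    have := congrArg Fin.val e
    rw [Fin.val_rev] at this; omega
  have he : RV (ee δ i) := RV.ee hi'
  have ox : ∀ {b : Vk m δ}, RV b → (∀ j : Fin m, (j.rev : ℕ) < i + 1 → b j = 0) → Ok (ee δ i) b 0 :=
    fun hb kb => by simpa using Ok.rv he hb (by rw [hf_ee_left]; exact kb _ (by simp)) 0
  have cx : ∀ {b : Vk m δ}, RV b → (∀ j : Fin m, (j.rev : ℕ) < i + 1 → b j = 0) →
      ψ (TS (ee δ i) b 0) ∈ centralizer (W : Set G) := fun hb kb => by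
    have := (h.hat_x hi' hb (ox hb kb).ea (TS_mem (ox hb kb) kb fun _ => rfl)
      (TS_mem (Ok.z he) (fun _ _ => rfl) fun e => by rw [Fin.val_rev] at e; omega)).cent h.t2 h.buw_U0 h1 h2 h3
    exact mem_cent.2 fun w hw => (mem_cent1.1 (this hw)).symm
  let q : Fin m := ⟨2, by omega⟩
  have q2 : (q : ℕ) = 2 := rfl
  have hq : q ≠ q.rev := fun e => by
    have := congrArg Fin.val e
    rw [Fin.val_rev] at this; omega
  have r1 : RV (rt δ c • ee δ q) := (RV.ee hq).smul c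
  have r2 : RV (ee δ q.rev) := RV.ee (by rw [Fin.rev_rev]; exact hq.symm)
  have k1 : ∀ j : Fin m, (j.rev : ℕ) < i + 1 → (rt δ c • ee δ q) j = 0 := fun j hj => by
    have : j ≠ q := by rintro rfl; rw [Fin.val_rev] at hj; omega
    simp [ee, this]
  have k2 : ∀ j : Fin m, (j.rev : ℕ) < i + 1 → (ee δ q.rev) j = 0 := fun j hj => by
    have : j ≠ q.rev := by rintro rfl; rw [Fin.rev_rev] at hj; omega
    simp [ee, this]
  have k3 : ∀ j : Fin m, (j.rev : ℕ) < i + 1 → (rt δ c • ee δ q + ee δ q.rev) j = 0 := fun j hj => by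
    rw [Pi.add_apply, k1 j hj, k2 j hj, add_zero]
  have e1 : TS (ee δ i) (rt δ c • ee δ q) 0 * TS (ee δ i) (ee δ q.rev) 0 *
      TS (ee δ i) (rt δ c • ee δ q + ee δ q.rev) 0 = TS (ee δ i) 0 (rt δ c) := by
    rw [TS_mul (ox r1 k1) (ox r2 k2), TS_mul ((ox r1 k1).add (ox r2 k2)) (ox (r1.add r2) k3), buw_vv,
      (r1.add r2).self, hf_smul_left, star_rt, hf_ee_left]
    simp [ee]
  have e2 : TS (ee δ i) a 0 * TS (ee δ i) 0 (rt δ c) = TS (ee δ i) a (rt δ c) := by
    rw [TS_mul (ox ha k) (Ok.rv he RV.zero (hf_zero_right _) c), hf_zero_right, add_zero, add_zero, zero_add]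
  rw [← e2, ← e1, map_mul, map_mul, map_mul]
  exact mul_mem (cx ha k) (mul_mem (mul_mem (cx r1 k1) (cx r2 k2)) (cx (r1.add r2) k3))

theorem cenQ (ho : (o : ℕ) = 0) {W : Subgroup G} (h1 : Odd (Nat.card W)) (h2 : t ∈ normalizer (W : Set G))
    (h3 : U0 ψ ≤ normalizer (W : Set G)) {a : Vk m δ} (ha : RV a) (k : hf (ee δ o) a = 0) (c : F) :
    ψ (TS (ee δ o) a (rt δ c)) ∈ centralizer (W : Set G) := by
  refine h.buw_cen (by omega) h1 h2 h3 ha (fun j hj => ?_) c
  have : j = o.rev := by rw [← Fin.rev_rev j]; congr 1; exact Fin.ext (by omega)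
  rw [this, ← hf_ee_left o a, k]

theorem cenR (ho : (o : ℕ) = 0) (hp : (p : ℕ) = 1) {W : Subgroup G} (h1 : Odd (Nat.card W))
    (h2 : t ∈ normalizer (W : Set G)) (h3 : U0 ψ ≤ normalizer (W : Set G)) {s : Sg m δ} (hs : s ∈ RL o p) :
    ψ s ∈ centralizer (W : Set G) := by
  obtain ⟨e, a, c, he, ha, k1, k2, rfl⟩ := hs
  rcases he with rfl | rfl
  · exact h.cenQ ho h1 h2 h3 ha k1 c
  refine h.buw_cen (by omega) h1 h2 h3 ha (fun j hj => ?_) c
  by_cases e : (j.rev : ℕ) = 0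
  · have : j = o.rev := by rw [← Fin.rev_rev j]; congr 1; exact Fin.ext (by omega)
    rw [this, ← hf_ee_left o a, k1]
  · have : j = p.rev := by rw [← Fin.rev_rev j]; congr 1; exact Fin.ext (by omega)
    rw [this, ← hf_ee_left p a, k2]

/-- `m` odd: the hat `û(d)`, `d ∈ ℓ`, centralises `W` if it normalises it -/
theorem trick (hm : Odd m) (ho : (o : ℕ) = 0) (hp : (p : ℕ) = 1) {W : Subgroup G} (h1 : Odd (Nat.card W))
    (h2 : t ∈ normalizer (W : Set G)) (h3 : ∀ s ∈ RL o p, ψ s ∈ centralizer (W : Set G)) (a b : F)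
    (h4 : ψ (TS (rt δ a • ee δ o + rt δ b • ee δ p) (v0 m δ) (om δ)) ∈ normalizer (W : Set G)) :
    ψ (TS (rt δ a • ee δ o + rt δ b • ee δ p) (v0 m δ) (om δ)) ∈ centralizer (W : Set G) := by
  have m6 := h.m6
  have z0 : ∀ i j : Fin m, (i : ℕ) ≤ 1 → (j : ℕ) ≤ 1 → hf (ee δ i) (ee δ j) = 0 := fun i j hi hj => by
    have : i.rev ≠ j := fun e => by
      have := congrArg Fin.val e
      rw [Fin.val_rev] at this; omega
    rw [hf_ee_left]; simp [ee, this]
  have rv : ∀ i : Fin m, (i : ℕ) ≤ 1 → RV (ee δ i) := fun i hi => RV.ee fun e => by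
    have := congrArg Fin.val e
    rw [Fin.val_rev] at this; omega
  have ro := rv o (by omega)
  have rp := rv p (by omega)
  have oo := z0 o o (by omega) (by omega)
  have op := z0 o p (by omega) (by omega)
  have po := z0 p o (by omega) (by omega)
  have pp := z0 p p (by omega) (by omega)
  have zd : ψ (TS (rt δ a • ee δ o + rt δ b • ee δ p) 0 1) ∈ centralizer (W : Set G) := by
    rw [TS_line (Ok.z (ro.smul a)) (Ok.z (rp.smul b)) (by rw [hf_smul_left, hf_smul_right, op]; simp),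
      map_mul, map_mul, TS_smul, TS_smul, TS_smul]
    refine mul_mem (mul_mem (h3 _ ⟨_, 0, a * a, Or.inl rfl, ?_, ?_, ?_, ?_⟩)
      (h3 _ ⟨_, 0, b * b, Or.inr rfl, ?_, ?_, ?_, ?_⟩)) (h3 _ ⟨_, (rt δ (a * b)) • ee δ p, 0, Or.inl rfl, ?_, ?_, ?_, ?_⟩)
    exacts [RV.zero, hf_zero_right _, hf_zero_right _, by rw [smul_zero, star_rt, mul_one, map_mul],
      RV.zero, hf_zero_right _, hf_zero_right _, by rw [smul_zero, star_rt, mul_one, map_mul],
      rp.smul _, by rw [hf_smul_right, op, mul_zero], by rw [hf_smul_right, pp, mul_zero],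
      by rw [one_smul, smul_smul, star_rt, mul_zero, map_zero, map_mul]]
  have hd : RV (rt δ a • ee δ o + rt δ b • ee δ p) := (ro.smul a).add (rp.smul b)
  have dd : ∀ u, hf (ee δ o) u = 0 → hf (ee δ p) u = 0 → hf (rt δ a • ee δ o + rt δ b • ee δ p) u = 0 :=
    fun u u1 u2 => by rw [hf_add_left, hf_smul_left, hf_smul_left, u1, u2]; simp
  generalize rt δ a • ee δ o + rt δ b • ee δ p = d at *
  have ku := Ok.u hm hd
  have ti := inv_eq_of_mul_eq_one_right h.t2
  have main : W ≤ centralizer {ψ (TS d (v0 m δ) (om δ))} := by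
    refine le_of_four' h1 h.t2 ?_ ?_ h2 h4 ?_ inf_le_right ?_
    · have := h.tc (TS d (v0 m δ) (om δ))
      rw [sb_TS ku, hd.rat, star_v0, ← TS_inv ku, map_inv, ti] at this
      rw [← mul_assoc, this, inv_mul_cancel]
    · rw [← map_mul, TS_mul ku ku, buw_vv, k_two, hf_v0 hm, zero_add]
      exact zd
    · rintro g ⟨hg, hc⟩
      have := h.odd_cent ho hp (odd_orderOf h1 hg) (mem_cent1.1 hc).symm
        fun s hs => mem_cent.1 (h3 s hs) g hg
      exact mem_cent1.2 (mem_cent.1 this _ ⟨_, rfl⟩)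
    · rintro g ⟨hg, hc⟩
      obtain ⟨l, hl⟩ := (frobeniusEquiv F 2).surjective δ
      have hl' : l * l = δ := by rw [← hl, frobeniusEquiv_apply, frobenius_def, pow_two]
      have k0 : hf d ((om δ + rt δ l) • v0 m δ) = 0 := by rw [hf_smul_right, hd.v0_right, mul_zero]
      obtain ⟨c, kc⟩ := exists_ok hd.self k0
      have k1 : Ok d ((om δ + 1 + rt δ l) • v0 m δ) (star c) := by
        have := kc.map (bA δ)
        have e1 : ((bA δ).1 ∘ d) = d := hd.rat
        have e2 : ((bA δ).1 ∘ ((om δ + rt δ l) • v0 m δ)) = (om δ + 1 + rt δ l) • v0 m δ := by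
          change star ((om δ + rt δ l) • v0 m δ) = _
          rw [star_smul, star_v0, star_add, star_om, star_rt]
        rwa [e1, e2] at this
      obtain ⟨y, hy⟩ : ∃ y, y = TS d ((om δ + rt δ l) • v0 m δ) c := ⟨_, rfl⟩
      have e1 : sb y * y⁻¹ = TS d (v0 m δ) (om δ) := by
        rw [hy, sb_TS kc, TS_inv kc, hd.rat, star_smul, star_v0, star_add, star_om, star_rt, TS_mul k1 kc.inv,
          hf_smul_left, hf_smul_right, hf_v0 hm, ← add_smul, k_two, star_add, star_add, star_om, star_rt,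
          star_one]
        have f1 : om δ + 1 + rt δ l + (om δ + rt δ l) = 1 := by
          linear_combination k_two (om δ) + k_two (rt δ l)
        have f2 : rt δ l * rt δ l = rt δ δ := by rw [← map_mul, hl']
        have f3 : 0 + (om δ + 1 + 1 + rt δ l) * ((om δ + rt δ l) * 1) = om δ := by
          linear_combination om_sq (δ := δ) + f2 + k_two (rt δ δ) + k_two (om δ * rt δ l) +
            k_two (om δ + rt δ l)
        rw [f1, f3, one_smul]
      have e2 : ψ y * t * (ψ y)⁻¹ = t * ψ (TS d (v0 m δ) (om δ)) := by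
        rw [← e1, map_mul, map_inv, ← h.tc, ti]
        simp only [← mul_assoc, h.t2, one_mul]
      have e3 : ∀ s ∈ RL o p, ψ y * ψ s = ψ s * ψ y := by
        rintro _ ⟨e, a', c', he, ha', k2, k3, rfl⟩
        have re : RV e := by rcases he with rfl | rfl; exacts [ro, rp]
        have de : hf d e = 0 := by rcases he with rfl | rfl; exacts [dd _ oo po, dd _ op pp]
        have ea : hf e a' = 0 := by rcases he with rfl | rfl; exacts [k2, k3]
        rw [← map_mul, ← map_mul, hy, buw_comm kc (Ok.rv re ha' ea c') de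
          (by rw [hf_smul_left, re.v0_left, mul_zero]) (dd _ k2 k3) (by rw [hf_smul_left, ha'.v0_left, mul_zero])]
      have e4 := h.odd_cent ho hp (g := (ψ y)⁻¹ * g * ψ y) ?_ ?_ ?_
      · have e5 := mem_cent.1 e4 _ ⟨y, rfl⟩
        have e6 : (ψ y)⁻¹ * g * ψ y = g := by
          apply mul_right_cancel (b := ψ y)
          rw [← e5]; group
        rw [e6] at e4
        exact mem_cent1.2 (mem_cent.1 e4 _ ⟨_, rfl⟩)
      · have : orderOf ((ψ y)⁻¹ * g * ψ y) = orderOf g := by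
          have := (MulAut.conj (ψ y)⁻¹).orderOf_eq g
          simpa using this
        rw [this]; exact odd_orderOf h1 hg
      · have e5 := mem_cent1.1 hc
        rw [← e2] at e5
        calc _ = (ψ y)⁻¹ * (g * (ψ y * t * (ψ y)⁻¹)) * ψ y := by group
          _ = _ := by rw [← e5]; group
      · intro s hs
        have e5 := mem_cent.1 (h3 s hs) g hg
        have e6 : Commute (ψ y) (ψ s) := e3 s hs
        exact ((e6.inv_left.mul_left e5).mul_left e6)
  exact mem_cent.2 fun w hw => (mem_cent1.1 (main hw)).symm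

end MM

end CfsgLib.SPC.BC
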