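import Cfsg.Agent.Lib.SPC.BIo
import Cfsg.Agent.Lib.SPC.BW

/-! Type B: the relations -/

set_option autoImplicit false
set_option linter.unusedSectionVars false

namespace CfsgLib.SPC.BC

open Subgroup Module CfsgLib.Forms CfsgLib.LieMult Matrix
open CfsgLib.HX (Std CO Two Mv M2)
open CfsgLib.UN (AV SI TI HH Rad Stb Yg Rg Eg Act nu)
open CfsgLib.ClSys (II)
open Submodule (span)
open scoped commutatorElement Pointwise

universe u

variable {F : Type} [Field F] [Finite F] [CharP F 2] {V : Type} [AddCommGroup V] [Module F V]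
  [FiniteDimensional F V] {P : PQ (RingHom.id F) V} {S : Type} [Group S] [Finite S] {G : Type u}
  [Group G] [Finite G] {C : CG P S} {φ : S →* G} {t : G} {m : ℕ} {δ : F}
  {cv : V →ₗ[F] Vk m δ} {ι : S →* Sg m δ} {ψ : Sg m δ →* G} {w : V → V → G} {u v : V → G}

theorem bx_re (x y : F) : (rt δ x + om δ * rt δ y).re = x := by simp [om]

theorem bx_im (x y : F) : (rt δ x + om δ * rt δ y).im = y := by simp [om]

theorem exists_X_even (h : HW C φ t w 1 δ) (d : Io C cv ι) (hm : Even m) (h6 : 6 ≤ m) :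
    ∃ X : Fin m → Vk m δ → KK δ → G, YRel t X ∧
      (∀ i e a c, i ≠ i.rev → cv e = ee δ i → P.B e a = 0 → X i (cv a) (rt δ c) = τ C φ e a c) ∧
      (∀ i e a, i ≠ i.rev → cv e = ee δ i → P.B e a = 0 → X i (om δ • cv a) 0 = w e a) := by
  have M : Mod C := h.toMod
  have D : Crd P cv := d.toCrd
  have H : Emb C φ := h.toEmb
  obtain ⟨re, im, h1, h2⟩ := D.exists_dec M
  have v : v0 m δ = 0 := v0_even hm
  simp only [v, smul_zero, add_zero] at h1 h2
  have dec : ∀ A : Vk m δ, ∃ a b, A = cv a + om δ • cv b := fun A => ⟨_, _, h1 A⟩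
  choose E hE0 hE using fun i : {i : Fin m // i ≠ i.rev} => D.exists_ee M i.2
  obtain ⟨X, hX⟩ : ∃ X : Fin m → Vk m δ → KK δ → G, ∀ i e, i ≠ i.rev → cv e = ee δ i → ∀ a b c,
      X i (cv a + om δ • cv b) c = τ C φ e a c.re * w e b := by
    classical
    refine ⟨fun i A c => if k : i ≠ i.rev then τ C φ (E ⟨i, k⟩) (re A) c.re * w (E ⟨i, k⟩) (im A) else 1,
      fun i e k he a b c => ?_⟩
    have : E ⟨i, k⟩ = e := D.inj M ((hE _).trans he.symm)
    simp only [dif_pos k, (h2 a b 0).1, (h2 a b 0).2, this]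
  have ex : ∀ i : Fin m, i ≠ i.rev → ∃ e, cv e = ee δ i := fun i k => ⟨_, hE ⟨i, k⟩⟩
  have hd : ∀ a b a' b', hf (cv a + om δ • cv b) (cv a' + om δ • cv b') =
      rt δ (P.B a a' + P.B b a' + δ * P.B b b') + om δ * rt δ (P.B a b' + P.B b a') := fun a b a' b' => by
    have := D.hf_dec M a b a' b' 0 0
    simpa only [zero_smul, add_zero, mul_zero, zero_mul] using this
  have z1 : ∀ a, cv a = cv a + om δ • cv 0 := fun a => by rw [map_zero, smul_zero, add_zero]
  have z2 : ∀ a, om δ • cv a = cv 0 + om δ • cv a := fun a => by rw [map_zero, zero_add]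
  have sm : ∀ (l : KK δ) a, l • cv a = cv (l.re • a) + om δ • cv (l.im • a) := fun l a => by
    rw [D.smul M, D.smul M, smul_smul, ← add_smul, ← k_dec]
  have ok : ∀ {e a b : V} {c : KK δ}, Ok (cv e) (cv a + om δ • cv b) c →
      P.B e a = 0 ∧ P.B e b = 0 ∧ c.im = P.B a b := by
    intro e a b c k
    have e1 := k.ea
    have e2 := k.cc
    rw [z1 e, hd] at e1
    rw [hd, add_star] at e2
    have e3 := congrArg QuadraticAlgebra.re e1
    have e4 := congrArg QuadraticAlgebra.im e1
    have e5 := congrArg QuadraticAlgebra.re e2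
    rw [bx_re] at e3 e5
    rw [bx_im] at e4
    rw [M.B_self, M.B_self, M.B_comm b a, mul_zero, zero_add, add_zero] at e5
    exact ⟨by simpa using e3, by simpa using e4, e5⟩
  refine ⟨X, ⟨h.t2, ?_, ?_, ?_, ?_, ?_⟩, ?_, ?_⟩
  · intro i A c A' c' hi k k'
    obtain ⟨e, he⟩ := ex i hi
    obtain ⟨a, b, rfl⟩ := dec A
    obtain ⟨a', b', rfl⟩ := dec A'
    rw [← he] at k k'
    obtain ⟨k1, k2, -⟩ := ok k
    obtain ⟨k3, k4, -⟩ := ok k'
    rw [add_add_add_comm, ← smul_add, ← map_add, ← map_add, hX i e hi he, hX i e hi he, hX i e hi he,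
      h.bw_mul k1 k2 k3 k4, hd, QuadraticAlgebra.re_add, bx_re, QuadraticAlgebra.re_add]
    simp only [add_assoc]
  · intro i l hi
    obtain ⟨e, he⟩ := ex i hi
    rw [← he, sm, hX i e hi he, add_star, h.bw_self, ← zero_add (l.re • e), H.τ_shift (map_zero _)]
    exact H.z_sq e _
  · intro i j l hi hj n1 n2
    obtain ⟨e, he⟩ := ex i hi
    obtain ⟨f, hf'⟩ := ex j hj
    have k : P.B e f = 0 := (D.perp M).1 (by rw [he, hf', hf_ee_left]; simp [ee, n2.symm])
    have k' : P.B f e = 0 := (M.B_comm _ _).trans k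
    have k1 : ∀ x : F, P.B e (x • f) = 0 := fun x => by rw [map_smul, k, smul_zero]
    have k2 : ∀ x y : F, P.B (x • f) (y • f) = 0 := fun x y => by
      rw [M.B_smul_left, map_smul, M.B_self, smul_zero, mul_zero]
    rw [← he, ← hf', sm l, sm (star l), hX i e hi he, hX j f hj hf', ← h.smul f e _ k', h.symm e _ (k1 _), one_smul]
    change _ = x C φ _ _ * _
    rw [← H.x_smul k', ← H.x_symm (k1 _), QuadraticAlgebra.im_star, QuadraticAlgebra.re_star, M.neg_eq, one_mul]
    have := h.bw_mul (k1 (l.re + l.im)) (k1 l.im) (k1 l.im) (map_zero _) 0 0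
    rw [h.bw_zero, mul_one, mul_assoc, ← add_smul, add_assoc l.re, M.add_self, k2, k2, map_zero] at this
    simp only [add_zero, mul_zero] at this
    exact this.symm
  · intro i j A c A' c' hi hj n1 n2 k k' k0
    obtain ⟨e, he⟩ := ex i hi
    obtain ⟨f, hf'⟩ := ex j hj
    obtain ⟨p, r, rfl⟩ := dec A
    obtain ⟨a, b, rfl⟩ := dec A'
    have ef : P.B e f = 0 := (D.perp M).1 (by rw [he, hf', hf_ee_left]; simp [ee, n2.symm])
    have fe : P.B f e = 0 := (M.B_comm _ _).trans ef
    rw [← he] at k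
    rw [← hf'] at k' k0
    obtain ⟨k1, k2, k5⟩ := ok k
    obtain ⟨k3, k4, -⟩ := ok k'
    rw [z1 f, hd] at k0
    have e3 := congrArg QuadraticAlgebra.re k0
    have e4 := congrArg QuadraticAlgebra.im k0
    rw [bx_re] at e3
    rw [bx_im] at e4
    have rf : P.B r f = 0 := by simpa using e4
    have pf : P.B p f = 0 := by simpa [rf] using e3
    have fr : P.B f r = 0 := (M.B_comm _ _).trans rf
    have o1 : Ok (cv e) (cv p) (rt δ c.re) := Ok.rv (D.rv e) (D.rv p) ((D.perp M).2 k1) _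
    have o2 : Ok (cv e) (om δ • cv r) 0 := Ok.w (D.rv e) (D.rv r) ((D.perp M).2 k2)
    have e1 : TM (cv e) (cv p + om δ • cv r) c = mat (ι (C.T e p c.re)) * TM (cv e) (om δ • cv r) 0 := by
      rw [d.T M k1, ← mat_TS o2, ← mat_mul, TS_mul o1 o2, hf_smul_right, D.form, ← k5, add_zero, ← k_dec,
        mat_TS k]
    have e2 : TM (cv e) (om δ • cv r) 0 *ᵥ (cv a + om δ • cv b) =
        cv (a + (P.B r a + δ * P.B r b) • e + (δ * P.B e b) • r) +
          om δ • cv (b + P.B r a • e + (P.B e a + P.B e b) • r) := by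
      rw [TM_mulVec, zero_mul, add_zero]
      nth_rw 1 [z2 r]
      nth_rw 2 [z1 e]
      rw [hd, hd]
      simp only [map_add, map_mul, map_zero, LinearMap.zero_apply, zero_add, add_zero, mul_zero, D.smul M,
        smul_add, smul_smul, add_smul, add_mul]
      rw [show om δ * rt δ (P.B e b) * om δ = rt δ δ * rt δ (P.B e b) + om δ * rt δ (P.B e b) by
        linear_combination (rt δ (P.B e b)) * om_sq (δ := δ), mul_comm (rt δ (P.B e a)) (om δ), add_smul]
      abel
    have q1 : P.B f (a + (P.B r a + δ * P.B r b) • e + (δ * P.B e b) • r) = 0 := by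
      simp only [map_add, map_smul, k3, fe, fr, smul_zero, add_zero]
    have q2 : P.B f (b + P.B r a • e + (P.B e a + P.B e b) • r) = 0 := by
      simp only [map_add, map_smul, k4, fe, fr, smul_zero, add_zero]
    have lf : C.act (C.T e p c.re) f = f := by
      rw [M.T_app k1, pf, ef, mul_zero, add_zero, zero_smul, zero_smul, add_zero, add_zero]
    have e5 := H.τ_conj (C.T e p c.re) q1 c'.re
    have e6 := h.eqv (C.T e p c.re) _ _ q2
    rw [lf] at e5 e6
    rw [← he, e1, ← mulVec_mulVec, e2, mulVec_add, mulVec_smul, d.act, d.act, hX i e hi he, hX j f hj hf',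
      hX j f hj hf', ← e5, ← e6, _root_.mul_inv_rev, h.bw_inv k2]
    have e7 := h.bw_conj k2 fe fr k3 k4 c'.re
    change φ _ * _ * _ * (_ * (φ _)⁻¹) = _
    rw [mul_assoc (φ _), mul_assoc (φ _), ← mul_assoc _ (w e r), e7]
    group
  · intro i A c hi k
    obtain ⟨e, he⟩ := ex i hi
    obtain ⟨a, b, rfl⟩ := dec A
    rw [← he] at k
    obtain ⟨k1, k2, k3⟩ := ok k
    have e1 : star (cv a + om δ • cv b) = cv (a + b) + om δ • cv b := by
      rw [star_add, star_smul, (D.rv a).rat, (D.rv b).rat, star_om, add_smul, one_smul, map_add]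
      abel
    have e2 := h.bw_mul k1 k2 k2 (map_zero _) c.re 0
    rw [h.bw_zero, mul_one, M.B_self, map_zero] at e2
    simp only [add_zero, mul_zero] at e2
    rw [e1, hX i e hi he, hX i e hi he, QuadraticAlgebra.re_star, one_mul, k3, ← e2, mul_assoc (τ C φ e a c.re)]
    change _ = _ * (_ * x C φ e b)
    rw [← h.bw_t k2, ← mul_assoc t, τ, ← h.toSit.tl]
    group
  · intro i e a c hi he k
    rw [z1 a, hX i e hi he, h.bw_zero, mul_one]
    rfl
  · intro i e a hi he k
    rw [z2 a, hX i e hi he]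
    change x C φ e 0 * _ = _
    rw [H.x_zero, one_mul]

end CfsgLib.SPC.BC
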