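import Cfsg.Agent.Lib.SPC.BW

/-! Type C: the hats `v e` -/

set_option autoImplicit false
set_option linter.unusedSectionVars false

namespace CfsgLib.SPC

open Subgroup Module CfsgLib.Forms CfsgLib.LieMult
open CfsgLib.HX (Std CO Two Mv M2)
open CfsgLib.UN (AV SI TI HH Rad Stb Yg Rg Eg Act nu)
open CfsgLib.ClSys (II)
open Submodule (span)
open scoped commutatorElement Pointwise

universe u

variable {F : Type} [Field F] [Finite F] {V : Type} [AddCommGroup V] [Module F V]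
  [FiniteDimensional F V] {P : PQ (RingHom.id F) V} {S : Type} [Group S] [Finite S] {G : Type u}
  [Group G] [Finite G] {C : CG P S} {φ : S →* G} {t : G}

section Abs

variable {H : Type*} [Group H] {A U m y n : H}

/-- `A · U A U⁻¹` -/
def cvK (A U : H) : H := A * (U * A * U⁻¹)

theorem cvK_left (h1 : Commute m A) (h2 : Commute m U) (h3 : m * m = 1) : cvK (A * m) U = cvK A U := by
  have h4 : Commute m (U * A * U⁻¹) := (h2.mul_right h1).mul_right h2.inv_right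
  calc A * m * (U * (A * m) * U⁻¹) = A * (m * (U * A * (m * U⁻¹))) := by simp only [mul_assoc]
    _ = A * (m * (U * A * U⁻¹) * m) := by rw [h2.inv_right.eq]; simp only [mul_assoc]
    _ = _ := by rw [h4.eq, mul_assoc _ m, h3, mul_one, cvK]

theorem cvK_right (h1 : y * A * y⁻¹ = A * n) (h2 : Commute U n) : cvK A (U * y) = cvK A U * n :=
  calc A * (U * y * A * (U * y)⁻¹) = A * (U * (y * A * y⁻¹) * U⁻¹) := by group
    _ = A * (U * A * (n * U⁻¹)) := by rw [h1]; simp only [mul_assoc]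
    _ = _ := by rw [← h2.inv_left.eq, cvK]; simp only [mul_assoc]

theorem cvK_conj (g A U : H) : g * cvK A U * g⁻¹ = cvK (g * A * g⁻¹) (g * U * g⁻¹) := by
  simp only [cvK]; group

theorem cvK_comm {g : H} (h1 : Commute g A) (h2 : Commute g U) : Commute g (cvK A U) :=
  h1.mul_right ((h2.mul_right h1).mul_right h2.inv_right)

theorem cv_conj {g : H} (h : Commute g A) : g * A * g⁻¹ = A := by rw [h.eq, mul_inv_cancel_right]

theorem cv_of_conj {g : H} (h : g * A * g⁻¹ = A) : Commute g A := mul_inv_eq_iff_eq_mul.1 h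

theorem cv_sw (h : Commute A U) (h2 : A * A = 1) : A * U * A = U := by
  rw [h.eq, mul_assoc, h2, mul_one]

theorem cv_sq (h : Commute A U) (h1 : A * A = 1) (h2 : U * U = 1) : A * U * (A * U) = 1 := by
  rw [← mul_assoc, cv_sw h h1, h2]

end Abs

/-- `w(e, b) x(e, δ b)` -/
def cvA (C : CG P S) (φ : S →* G) (w : V → V → G) (δ : F) (e b : V) : G := w e b * x C φ e (δ • b)

/-- the candidate for `v e` -/
def cvD (C : CG P S) (φ : S →* G) (w : V → V → G) (u : V → G) (δ : F) (e e' c : V) : G :=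
  cvK (w e c) (u e') * cvA C φ w δ e e'

theorem Emb.cv_pair (h : Emb C φ) {e e' : V} (k : P.B e e' = 0) :
    ∃ d c, P.B c d = 1 ∧ P.B e d = 0 ∧ P.B e c = 0 ∧ P.B e' d = 0 ∧ P.B e' c = 0 := by
  obtain ⟨a, b, k1, k2⟩ := h.loc_exists_ln k
  obtain ⟨f, f', k3⟩ := h.hh_of_ln k1
  obtain ⟨c, d, k4⟩ := h.exists_h3 k3
  have hc : c ∈ P.perp (span F {a, b}) := h.mem_perp_span.2 (by simp [k4.h13.ee, k4.h23.ee])
  have hd : d ∈ P.perp (span F {a, b}) := h.mem_perp_span.2 (by simp [k4.h13.ef, k4.h23.ef])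
  have he := k2 (Submodule.subset_span (s := {e, e'}) (by simp : e ∈ _))
  have he' := k2 (Submodule.subset_span (s := {e, e'}) (by simp : e' ∈ _))
  exact ⟨d, c, h.hp_iff.1 k4.h13.h₂, hd e he, hc e he, hd e' he', hc e' he'⟩

theorem Emb.cv_xx (h : Emb C φ) {e a p r : V} (k : P.B e a = 0) (k' : P.B p r = 0) (h1 : P.B p e = 0)
    (h2 : P.B p a = 0) (h3 : P.B r e = 0) (h4 : P.B r a = 0) (c : F) :
    Commute (x C φ e a) (τ C φ p r c) := by
  have := h.τ_conj (C.T p r c) k 0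
  rw [h.T_app k', h.T_app k', h1, h2, h3, h4] at this
  exact (cv_of_conj (by simpa using! this)).symm

namespace HW

variable {w : V → V → G} {δ : F} (h : HW C φ t w 1 δ) {e e' b b' c d p r : V} {g : G}
include h

theorem cv_wx (k : P.B e b = 0) (k' : P.B e b' = 0) (k'' : P.B b b' = 0) (c : F) :
    Commute (w e b) (τ C φ e b' c) :=
  h.bw_τ k k' (h.B_self e) k (P.B_eq_zero_comm.1 k') (P.B_eq_zero_comm.1 k'') c

theorem cvA_comm (h1 : Commute g (w e b)) (h2 : Commute g (x C φ e (δ • b))) :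
    Commute g (cvA C φ w δ e b) := h1.mul_right h2

theorem cvA_sq (k : P.B e b = 0) : cvA C φ w δ e b * cvA C φ w δ e b = 1 := by
  have k1 : P.B e (δ • b) = 0 := by simp [k]
  have : Commute (w e b) (x C φ e (δ • b)) := h.cv_wx k k1 (by simp [h.B_self]) 0
  exact cv_sq this (h.sq e b k) (h.x_sq k1)

theorem cvA_add (k : P.B e b = 0) (k' : P.B e b' = 0) (k'' : P.B b b' = 0) :
    cvA C φ w δ e (b + b') = cvA C φ w δ e b * cvA C φ w δ e b' := by
  have k3 := P.B_eq_zero_comm.1 k''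
  have : Commute (w e b') (x C φ e (δ • b)) := h.cv_wx k' (by simp [k]) (by simp [k3]) 0
  rw [cvA, cvA, cvA, h.add e b b' k k' k'', smul_add,
    h.x_add (by simp [k]) (by simp [k']) (by simp [k'']), this.mul_mul_mul_comm]

theorem cvA_line (k : P.B e d = 0) (k' : P.B e' d = 0) (k'' : P.B e e' = 0) :
    cvA C φ w δ (e + e') d = cvA C φ w δ e d * cvA C φ w δ e' d := by
  have k1 := P.B_eq_zero_comm.1 k
  have k2 := P.B_eq_zero_comm.1 k'
  have : Commute (w e' d) (x C φ e (δ • d)) :=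
    h.bw_τ k' (by simp [k]) k'' k (by simp [k2]) (by simp [h.B_self]) 0
  rw [cvA, cvA, cvA, h.bw_line k k' k'', h.x_symm (by simp [k, k']),
    h.x_add (by simp [k1]) (by simp [k2]) k'', ← h.x_symm (e := e) (by simp [k]),
    ← h.x_symm (e := e') (by simp [k']), this.mul_mul_mul_comm]

theorem cvA_smul (k : P.B e b = 0) (l : F) : cvA C φ w δ (l • e) b = cvA C φ w δ e (l • b) := by
  rw [cvA, cvA, h.smul e b l k, h.x_smul (by simp [k]), smul_comm]

theorem cvA_conj (k : P.B e b = 0) (l : S) :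
    φ l * cvA C φ w δ e b * (φ l)⁻¹ = cvA C φ w δ (C.act l e) (C.act l b) := by
  rw [cvA, cvA, ← h.eqv l e b k, ← map_smul, ← h.x_conj l (by simp [k])]; group

/-- `w p r` commutes with `cvA e b` if `p, r ⊥ e, b` -/
theorem cv_wA (k : P.B e b = 0) (k' : P.B p r = 0) (h1 : P.B e p = 0) (h2 : P.B e r = 0)
    (h3 : P.B b p = 0) (h4 : P.B b r = 0) : Commute (w p r) (cvA C φ w δ e b) :=
  h.cvA_comm (h.bw_w k' k h1 h2 h3 h4)
    (h.bw_τ k' (by simp [k]) h1 h2 (by simp [h3]) (by simp [h4]) 0)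

theorem cv_cw (k : P.B p r = 0) (h1 : P.B e p = 0) (h2 : P.B e r = 0) (h3 : P.B e c = 0)
    (h4 : P.B c p = 1) (h5 : P.B c r = 0) :
    w p r * w e c * (w p r)⁻¹ = w e c * cvA C φ w δ e r := by
  rw [h.bw_inv k, h.cw p r e c k h1 h2 h3, h4, h5, cvA]
  simp [h.z_zero, mul_assoc]

end HW

namespace HC

variable {w : V → V → G} {u : V → G} {δ : F} (h : HC C φ t w u δ) {e e' e'' a b c c' d : V}
include h

theorem cv_uA (k : P.B e b = 0) (h1 : P.B e d = 0) (h2 : P.B b d = 0) :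
    Commute (u d) (cvA C φ w δ e b) :=
  h.cvA_comm (h.uw d e b (P.B_eq_zero_comm.1 h1) (P.B_eq_zero_comm.1 h2) k)
    (h.bu_τ (by simp [k]) h1 (by simp [h2]) 0)

theorem cv_c (k : P.B e e' = 0) (k1 : P.B e c = 0) (k2 : P.B e c' = 0) (k3 : P.B c e' = P.B c' e') :
    cvD C φ w u δ e e' c' = cvD C φ w u δ e e' c := by
  have k4 : P.B e (c + c') = 0 := by simp [k1, k2]
  have k5 : P.B (c + c') e' = 0 := by simp [k3, h.add_self]
  have hz : ∀ a μ, P.B e a = 0 → Commute (w e a) (z C φ e μ) := fun a μ ka =>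
    h.cv_wx ka (map_zero _) (map_zero _) μ
  have e1 : w e c' = w e c * (w e (c + c') * z C φ e (δ * P.B c (c + c'))) := by
    rw [← mul_assoc, h.del rfl e c _ k1 k4, mul_assoc, h.z_sq, mul_one, ← add_assoc, h.vadd_self,
      zero_add]
  rw [cvD, cvD, e1, cvK_left ((h.com e _ _ k4 k1).mul_left (hz c _ k1).symm)
    ((h.uw e' e _ (P.B_eq_zero_comm.1 k) (P.B_eq_zero_comm.1 k5) k4).symm.mul_left
      (h.bu_τ (map_zero _) k (by simp) _).symm)]
  exact cv_sq (hz _ _ k4) (h.sq e _ k4) (h.z_sq _ _)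

theorem cv_e (k : P.B e e' = 0) (k' : P.B e e'' = 0) (k'' : P.B e' e'' = 0) (k1 : P.B e c = 0)
    (k2 : P.B c e' = 1) (k3 : P.B c e'' = 1) : cvD C φ w u δ e e'' c = cvD C φ w u δ e e' c := by
  obtain ⟨d, rfl⟩ : ∃ d, e'' = e' + d := ⟨e' + e'', by rw [← add_assoc, h.vadd_self, zero_add]⟩
  have d1 : P.B e d = 0 := by simpa [k] using k'
  have d2 : P.B e' d = 0 := by simpa [h.B_self] using k''
  have d3 : P.B c d = 0 := by simpa [k2] using k3
  have e1 : u d * w e' d * w e c * (u d * w e' d)⁻¹ = w e c * cvA C φ w δ e d := by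
    rw [← cv_conj ((h.uw d e c (P.B_eq_zero_comm.1 d1) (P.B_eq_zero_comm.1 d3) k1).mul_right
      (h.cv_uA d1 d1 (h.B_self d))), ← h.cv_cw d2 k d1 k1 k2 d3]
    group
  rw [cvD, cvD, h.uline e' d d2, mul_assoc, cvK_right e1 (h.cv_uA d1 k (P.B_eq_zero_comm.1 d2)),
    add_comm, h.cvA_add d1 k (P.B_eq_zero_comm.1 d2), mul_assoc, ← mul_assoc (cvA C φ w δ e d),
    h.cvA_sq d1, one_mul]

theorem cv_ne (k : P.B e e' = 0) (k' : P.B e e'' = 0) (k'' : P.B e' e'' ≠ 0) (k1 : P.B e c = 0)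
    (k2 : P.B c e' = 1) (k3 : P.B e c' = 0) (k4 : P.B c' e'' = 1) :
    cvD C φ w u δ e e'' c' = cvD C φ w u δ e e' c := by
  obtain ⟨a, b, h1, h2, h3, h4, h5, h6, h7⟩ := h.exists_hp3 k'' k k'
  have h8 : P.B b a = 1 := (h.B_comm b a).trans h1
  have key : ∀ p q, P.B e p = 0 → P.B e q = 0 → P.B q p = 1 → P.B p a = 0 → P.B p b = 0 →
      cvD C φ w u δ e p q = cvD C φ w u δ e a b := fun p q j1 j2 j3 j4 j5 => by
    have j6 := P.B_eq_zero_comm.1 j5
    have j7 : P.B e (q + (1 + P.B q a) • b) = 0 := by simp [j2, h3]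
    have j8 : P.B (q + (1 + P.B q a) • b) a = 1 := by
      simp only [map_add, LinearMap.add_apply, h.B_smul_left, h8]
      linear_combination h.add_self (P.B q a)
    have j9 : P.B (q + (1 + P.B q a) • b) p = 1 := by simp [j3, j6]
    rw [h.cv_c j1 j7 j2 (j9.trans j3.symm), ← h.cv_e j1 h2 j4 j7 j9 j8,
      h.cv_c h2 h3 j7 (h8.trans j8.symm)]
  rw [key e' c k k1 k2 h4 h5, key e'' c' k' k3 k4 h6 h7]

theorem cv_ind (k : P.B e e' = 0) (k' : P.B e e'' = 0) (k1 : P.B e c = 0)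
    (k2 : P.B c e' = 1) (k3 : P.B e c' = 0) (k4 : P.B c' e'' = 1) :
    cvD C φ w u δ e e'' c' = cvD C φ w u δ e e' c := by
  obtain ⟨f, f1, f2, f3⟩ : ∃ f, P.B e f = 0 ∧ P.B f e' ≠ 0 ∧ P.B f e'' ≠ 0 := by
    by_cases j1 : P.B c e'' = 0
    · by_cases j2 : P.B c' e' = 0
      · exact ⟨c + c', by simp [k1, k3], by simp [k2, j2], by simp [k4, j1]⟩
      · exact ⟨c', k3, j2, by simp [k4]⟩
    · exact ⟨c, k1, by simp [k2], j1⟩
  have j1 : P.B e ((P.B f e')⁻¹ • e') = 0 := by simp [k]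
  have j2 : P.B ((P.B f e')⁻¹ • e') f = 1 := by
    rw [h.B_smul_left, h.B_comm e', inv_mul_cancel₀ f2]
  rw [h.cv_ne f1 k' f3 j1 j2 k3 k4, h.cv_ne f1 k f2 j1 j2 k1 k2]

theorem cv_ex : ∃ v : V → G, ∀ e e' c, P.B e e' = 0 → P.B e c = 0 → P.B c e' = 1 →
    v e = cvD C φ w u δ e e' c := by
  choose d c h1 h2 h3 _ _ using fun e : V => h.cv_pair (h.B_self e)
  exact ⟨fun e => cvD C φ w u δ e (d e) (c e), fun e e' c' k1 k2 k3 =>
    h.cv_ind k1 (h2 e) k2 k3 (h3 e) (h1 e)⟩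

variable {v : V → G}
  (hv : ∀ e e' c, P.B e e' = 0 → P.B e c = 0 → P.B c e' = 1 → v e = cvD C φ w u δ e e' c)
include hv

theorem cv_zero : v 0 = 1 := by
  obtain ⟨d, c, h1, h2, h3, -⟩ := h.cv_pair (h.B_self 0)
  rw [hv 0 d c h2 h3 h1, cvD, cvK, cvA, h.bw_zero', h.bw_zero', h.x_zero']
  group

theorem cv_eqv (l : S) (e : V) : φ l * v e * (φ l)⁻¹ = v (C.act l e) := by
  obtain ⟨d, c, h1, h2, h3, -⟩ := h.cv_pair (h.B_self e)
  rw [hv e d c h2 h3 h1, hv _ (C.act l d) (C.act l c) (by rwa [C.B_act]) (by rwa [C.B_act])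
    (by rwa [C.B_act]), cvD, cvD, ← h.cvA_conj h2, ← h.eqv l e c h3, ← h.ueqv, ← cvK_conj]
  group

theorem cv_τ (k : P.B a b = 0) (h1 : P.B a e = 0) (h2 : P.B b e = 0) (μ : F) :
    Commute (v e) (τ C φ a b μ) := by
  have := h.cv_eqv hv (C.T a b μ) e
  rw [h.T_app k, h1, h2] at this
  exact (cv_of_conj (by simpa using! this)).symm

theorem cv_def1 (k : P.B e e' = 0) (k' : P.B e c = 0) (k'' : P.B c e' = 1) :
    u e' * w e c * (u e')⁻¹ = w e c * v e * cvA C φ w δ e e' := by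
  rw [hv e e' c k k' k'', cvD, cvK, mul_assoc (w e c) (_ * cvA C φ w δ e e'),
    mul_assoc _ (cvA C φ w δ e e'), h.cvA_sq k, mul_one, ← mul_assoc (w e c), h.sq e c k', one_mul]

theorem cv_def (k : P.B e e' = 0) (k' : P.B e c = 0) : u e' * w e c * (u e')⁻¹ =
    w e c * v (P.B c e' • e) * w e (P.B c e' • e') * x C φ e ((δ * P.B c e') • e') := by
  by_cases h0 : P.B c e' = 0
  · rw [h0, cv_conj (h.uw e' e c (P.B_eq_zero_comm.1 k) (P.B_eq_zero_comm.1 h0) k')]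
    simp [h.cv_zero hv, h.bw_zero, h.x_zero]
  · have j1 : P.B e ((P.B c e')⁻¹ • c) = 0 := by simp [k']
    have := h.cv_def1 hv (e := P.B c e' • e) (e' := e') (c := (P.B c e')⁻¹ • c) (by simp [k])
      (by simp [k']) (by rw [h.B_smul_left, inv_mul_cancel₀ h0])
    rwa [h.smul e _ _ j1, smul_smul, mul_inv_cancel₀ h0, one_smul, h.cvA_smul k, cvA, smul_smul,
      ← mul_assoc] at this

theorem cv_we (k : P.B e b = 0) : Commute (v e) (w e b) := by
  obtain ⟨d, c, h1, h2, h3, h4, h5⟩ := h.cv_pair k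
  have h6 := P.B_eq_zero_comm.1 h4
  rw [hv e d c h2 h3 h1]
  exact ((cvK_comm (h.com e b c k h3) (h.uw d e b (P.B_eq_zero_comm.1 h2) h6 k).symm).mul_right
    (h.cv_wA h2 k (h.B_self e) k (P.B_eq_zero_comm.1 h2) h6)).symm

theorem cv_w (k1 : P.B e a = 0) (k2 : P.B e b = 0) (k3 : P.B a b = 0) : Commute (v e) (w a b) := by
  have j1 := P.B_eq_zero_comm.1 k1
  have j2 := P.B_eq_zero_comm.1 k2
  have j3 := P.B_eq_zero_comm.1 k3
  by_cases ha : a ∈ span F {e, b}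
  · obtain ⟨l, m, rfl⟩ := Submodule.mem_span_pair.1 ha
    rw [h.bw_line (by simp [k2]) (by simp [h.B_self]) (by simp [k2]), h.smul e b l k2,
      h.smul b b m (h.B_self b), h.bw_self]
    exact (h.cv_we hv (by simp [k2])).mul_right (h.cv_τ hv (map_zero _) j2 (by simp) m)
  · obtain ⟨c, h1, h2, h3⟩ : ∃ c, P.B e c = 0 ∧ P.B b c = 0 ∧ P.B c a = 1 := by
      by_contra hn
      refine ha (h.loc_mem _ fun c hc => ?_)
      by_contra h0
      have hc' := h.mem_perp_span.1 hc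
      exact hn ⟨(P.B c a)⁻¹ • c, by simp [hc' e (by simp)], by simp [hc' b (by simp)],
        by rw [h.B_smul_left, inv_mul_cancel₀ h0]⟩
    have h4 := P.B_eq_zero_comm.1 h2
    rw [hv e a c k1 h1 h3]
    refine (Commute.mul_right (cv_of_conj ?_) (h.cv_wA k1 k3 k1 k2 (h.B_self a) k3)).symm
    rw [cvK_conj, h.cv_cw k3 k1 k2 h1 h3 h4, cv_conj (h.uw a a b (h.B_self a) k3 k3).symm,
      cvK_left (h.cv_wA k2 h1 (h.B_self e) h1 j2 h2).symm (h.cv_uA k2 k1 j3).symm (h.cvA_sq k2)]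

theorem cv_A (k : P.B a b = 0) (k1 : P.B e a = 0) (k2 : P.B e b = 0) :
    Commute (v e) (cvA C φ w δ a b) :=
  h.cvA_comm (h.cv_w hv k1 k2 k)
    (h.cv_τ hv (by simp [k]) (P.B_eq_zero_comm.1 k1) (by simp [P.B_eq_zero_comm.1 k2]) 0)

theorem cv_uv (k : P.B e e' = 0) : u e * v e' = v e' * u e * w e e' * x C φ e e' := by
  obtain ⟨d, c, h1, h2, h3, h4, h5⟩ := h.cv_pair k
  have k' := P.B_eq_zero_comm.1 k
  have j2 := P.B_eq_zero_comm.1 h2
  have j4 := P.B_eq_zero_comm.1 h4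
  have e1 : u e * u d * (u e)⁻¹ = u d * x C φ e d := by
    have : Commute (u e) (x C φ e d) := h.bu_τ h2 (h.B_self e) j2 0
    rw [h.bu_u h2, mul_assoc (u d), this.eq, ← mul_assoc, mul_inv_cancel_right]
  have e2 : x C φ e d * w e' c * (x C φ e d)⁻¹ = w e' c * w e' e := by
    have := h.eqv (C.T e d 0) e' c h5
    rw [h.x_app h2, h.x_app h2, j4, k, h3, h.B_comm d, h1] at this
    rw [← h.add e' c e h5 k' (P.B_eq_zero_comm.1 h3)]
    simpa using! this
  have e3 : u e * v e' * (u e)⁻¹ = v e' * w e' e := by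
    rw [hv e' d c h4 h5 h1, cvD, mul_assoc (cvK _ _), ← (h.cv_wA h4 k' (h.B_self e') k' j4 j2).eq,
      ← mul_assoc (cvK _ _), ← cvK_right e2 (h.uw d e' e j4 j2 k'), ← e1]
    conv_rhs => rw [← cv_conj (h.uw e e' c k h3 h5), ← cvK_conj, ← cv_conj (h.cv_uA h4 k' j2)]
    group
  rw [mul_inv_eq_iff_eq_mul.1 e3, mul_assoc, ← (h.uw e e' e k (h.B_self e) k').eq, h.symm e e' k,
    one_smul]
  simp only [mul_assoc]

theorem cv_line (k : P.B e e' = 0) : v (e + e') = v e * v e' * w e (δ • e') := by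
  obtain ⟨d, c, h1, h2, h3, h4, h5⟩ := h.cv_pair k
  have k' := P.B_eq_zero_comm.1 k
  have j2 := P.B_eq_zero_comm.1 h2
  have j3 := P.B_eq_zero_comm.1 h3
  have j4 := P.B_eq_zero_comm.1 h4
  have kδ : P.B e (δ • e') = 0 := by simp [k]
  have e1 : w e' c * cvA C φ w δ e d * w e' c = cvA C φ w δ e d * w e (δ • e') := by
    have c1 : Commute (w e d) (x C φ e (δ • d)) := h.cv_wx h2 (by simp [h2]) (by simp [h.B_self]) 0
    have := h.bw_conj h5 k h3 (a := δ • d) (by simp [h2]) h2 0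
    rw [cvA, c1.eq, mul_assoc (x C φ e (δ • d)), ← h.add e d _ h2 kδ (by simp [j4])]
    simpa [h1, h4, h.add_self] using! this
  have cA : Commute (w e c) (w e' c) := h.bw_w h3 h5 k' h5 j3 (h.B_self c)
  have c1 : Commute (v e) (w e' c) := h.cv_w hv k h3 h5
  have c2 : Commute (v e') (cvA C φ w δ e d) := h.cv_A hv h2 k' h4
  have c3 : Commute (v e') (w e (δ • e')) := h.cv_w hv k' (by simp [h.B_self]) kδ
  have c4 : Commute (w e (δ • e')) (cvA C φ w δ e d) :=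
    h.cv_wA h2 kδ (h.B_self e) kδ j2 (by simp [j4])
  have c5 : Commute (cvA C φ w δ e' d) (cvA C φ w δ e d) :=
    (h.cv_wA h2 h4 k h2 j4 (h.B_self d)).mul_left (h.cvA_comm
      (h.bw_τ h2 (by simp [h4]) k' h4 (by simp [j2]) (by simp [h.B_self]) 0).symm
      (h.cv_xx (by simp [h4]) (by simp [h2]) k (by simp [h2]) (by simp [j4]) (by simp [h.B_self]) 0))
  have d1 := h.cv_def1 hv h2 h3 h1
  have d2 := h.cv_def1 hv h4 h5 h1
  have s1 := h.sq e c h3
  have s2 := h.cvA_sq h2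
  have s3 := h.cvA_sq h4
  rw [hv _ d c (by simp [h2, h4]) (by simp [h3, h5]) h1, cvD, cvK, h.bw_line h3 h5 k,
    h.cvA_line h2 h4 k]
  generalize cvA C φ w δ e d = A at *
  generalize cvA C φ w δ e' d = A' at *
  calc _ = w e c * w e' c * ((u d * w e c * (u d)⁻¹) * (u d * w e' c * (u d)⁻¹)) * (A * A') := by group
    _ = w e c * (w e' c * w e c) * v e * A * w e' c * v e' * (A' * A) * A' := by
      rw [d1, d2]; simp only [mul_assoc]
    _ = (w e c * w e c) * (w e' c * v e) * A * w e' c * v e' * A * (A' * A') := by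
      rw [← cA.eq, c5.eq]; simp only [mul_assoc]
    _ = v e * (w e' c * A * w e' c) * (v e' * A) := by
      rw [s1, s3, ← c1.eq]; simp only [mul_assoc, one_mul, mul_one]
    _ = v e * (A * (w e (δ • e') * A)) * v e' := by rw [e1, c2.eq]; simp only [mul_assoc]
    _ = _ := by rw [c4.eq, ← mul_assoc A, s2, one_mul, mul_assoc, ← c3.eq, mul_assoc]

theorem cv_t (e : V) : t * v e * t⁻¹ = v e * u e * z C φ e (δ + 1) := by
  obtain ⟨d, c, h1, h2, h3, -⟩ := h.cv_pair (h.B_self e)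
  have j2 := P.B_eq_zero_comm.1 h2
  have j3 := P.B_eq_zero_comm.1 h3
  have kδ : P.B e (δ • d) = 0 := by simp [h2]
  have jδ := P.B_eq_zero_comm.1 kδ
  have k0 : P.B e 0 = 0 := map_zero _
  have j0 : P.B 0 e = 0 := by simp
  have ee := h.B_self e
  have e1 : z C φ d 1 * (w e c * x C φ e c) * (z C φ d 1)⁻¹ =
      w e c * w e d * z C φ e δ * (x C φ e c * x C φ e d * z C φ e 1) := by
    have a1 := h.eqv (C.T d 0 1) e c h3
    have a2 := h.x_conj (C.T d 0 1) h3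
    rw [h.z_app, h.z_app, j2, h.B_comm d, h1, mul_zero, zero_smul, add_zero, mul_one, one_smul] at a1 a2
    rw [h.del rfl e c d h3 h2, h.x_mul h3 h2, h1, mul_one, mul_assoc (w e (c + d)), h.z_sq, mul_one,
      mul_assoc (x C φ e (c + d)), h.z_sq, mul_one, ← a1, ← a2, z]
    group
  have e2 : u d * x C φ e c * (u d)⁻¹ = x C φ e c * w e d * u e := by
    have := h.bu_x h2 h3 0
    rwa [h1, one_smul, one_smul] at this
  have e3 := h.cv_def1 hv h2 h3 h1
  have e4 : t * x C φ e (δ • d) * t⁻¹ = x C φ e (δ • d) := cv_conj (h.tl _).symm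
  have u1 := cv_conj (h.uw d e d j2 (h.B_self d) h2)
  have u2 : u d * z C φ e δ * (u d)⁻¹ = z C φ e δ := cv_conj (h.bu_τ k0 h2 (by simp) δ)
  have u3 : u d * z C φ e 1 * (u d)⁻¹ = z C φ e 1 := cv_conj (h.bu_τ k0 h2 (by simp) 1)
  have u4 : u d * x C φ e d * (u d)⁻¹ = x C φ e d := cv_conj (h.bu_τ h2 h2 (h.B_self d) 0)
  have s1 : w e c * x C φ e c * w e c = _ := cv_sw (h.cv_wx h3 h3 (h.B_self c) 0) (h.sq e c h3)
  have s2 : w e d * x C φ e (δ • d) * w e d = _ :=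
    cv_sw (h.cv_wx h2 kδ (by simp [h.B_self]) 0) (h.sq e d h2)
  have s3 : w e d * (u e * x C φ e d * z C φ e 1) * w e d = _ :=
    cv_sw (((h.uw e e d ee h2 h2).symm.mul_right (h.cv_wx h2 h2 (h.B_self d) 0)).mul_right
      (h.cv_wx h2 k0 (map_zero _) 1)) (h.sq e d h2)
  have s4 : x C φ e c * (v e * x C φ e (δ • d) * z C φ e δ) * x C φ e c = _ :=
    cv_sw (((h.cv_τ hv h3 ee j3 0).symm.mul_right (h.τ_comm h3 kδ 0 0)).mul_right
      (h.τ_comm h3 k0 0 δ)) (h.x_sq h3)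
  have s5 : x C φ e d * z C φ e 1 * x C φ e d = _ := cv_sw (h.τ_comm h2 k0 0 1) (h.x_sq h2)
  have s6 : x C φ e (δ • d) * (z C φ e δ * u e * z C φ e 1) * x C φ e (δ • d) = _ :=
    cv_sw (((h.τ_comm kδ k0 0 δ).mul_right (h.bu_τ kδ ee jδ 0).symm).mul_right
      (h.τ_comm kδ k0 0 1)) (h.x_sq kδ)
  have s7 : u e * z C φ e δ = z C φ e δ * u e := (h.bu_τ k0 ee j0 δ).eq
  have e5 : t * v e * t⁻¹ = cvK (t * w e c * t⁻¹) (t * u d * t⁻¹) *
      (t * w e d * t⁻¹ * (t * x C φ e (δ • d) * t⁻¹)) := by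
    rw [hv e d c h2 h3 h1, ← cvK_conj, cvD, cvA]; group
  rw [e5, e4, h.bw_t h3, h.bw_t h2, h.bu_t, h.z_add, cvK]
  rw [cvA] at e3
  simp only [← show ∀ a, τ C φ e a 0 = x C φ e a from fun _ => rfl,
    ← show ∀ μ, τ C φ e 0 μ = z C φ e μ from fun _ => rfl] at *
  generalize τ C φ e c 0 = X at *
  generalize τ C φ e d 0 = X' at *
  generalize τ C φ e (δ • d) 0 = Y at *
  generalize τ C φ e 0 δ = Z at *
  generalize τ C φ e 0 1 = Z' at *
  generalize w e c = W at *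
  generalize w e d = W' at *
  calc _ = W * X * (u d * (z C φ d 1 * (W * X) * (z C φ d 1)⁻¹) * (u d)⁻¹) * (W' * X' * Y) := by group
    _ = W * X * ((u d * W * (u d)⁻¹) * (u d * W' * (u d)⁻¹) * (u d * Z * (u d)⁻¹) *
        (u d * X * (u d)⁻¹) * (u d * X' * (u d)⁻¹) * (u d * Z' * (u d)⁻¹)) * (W' * X' * Y) := by
      rw [e1]; group
    _ = (W * X * W) * v e * (W' * Y * W') * Z * X * (W' * (u e * X' * Z') * W') * X' * Y := by
      rw [e2, e3, u1, u2, u3, u4]; simp only [mul_assoc]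
    _ = (X * (v e * Y * Z) * X) * u e * (X' * Z' * X') * Y := by rw [s1, s2, s3]; simp only [mul_assoc]
    _ = v e * (Y * (Z * u e * Z') * Y) := by rw [s4, s5]; simp only [mul_assoc]
    _ = _ := by rw [s6, ← s7]; simp only [mul_assoc]

end HC

theorem HC.exists_v {w : V → V → G} {u : V → G} {δ : F} (h : HC C φ t w u δ) :
    ∃ v, HV C φ t w u v δ := by
  obtain ⟨v, hv⟩ := h.cv_ex
  exact ⟨v, h, h.cv_zero hv, h.cv_eqv hv, fun _ _ _ => h.cv_def hv, fun _ _ _ => h.cv_w hv,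
    h.cv_t hv, fun _ _ => h.cv_uv hv, fun _ _ => h.cv_line hv⟩

end CfsgLib.SPC
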