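import Cfsg.Agent.Lib.SPC.BIo
import Cfsg.Agent.Lib.SPC.BW

/-! Type C: the relations -/

set_option autoImplicit false
set_option linter.unusedSectionVars false

namespace CfsgLib.SPC.BC

open Subgroup Module CfsgLib.Forms CfsgLib.LieMult Matrix
open CfsgLib.HX (Std CO Two Mv M2)
open CfsgLib.UN (AV SI TI HH Rad Stb Yg Rg Eg Act nu)
open CfsgLib.ClSys (II)
open Submodule (span)
open scoped commutatorElement Pointwise

universe u

variable {F : Type} [Field F] [Finite F] [CharP F 2] {V : Type} [AddCommGroup V] [Module F V]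
  [FiniteDimensional F V] {P : PQ (RingHom.id F) V} {S : Type} [Group S] [Finite S] {G : Type u}
  [Group G] [Finite G] {C : CG P S} {φ : S →* G} {t : G} {m : ℕ} {δ : F}
  {cv : V →ₗ[F] Vk m δ} {ι : S →* Sg m δ} {ψ : Sg m δ →* G} {w : V → V → G} {u v : V → G}

/-- the element `T (e, a + ω b + (α + β ω) v₀, c + ..)` -/
def cxX (C : CG P S) (φ : S →* G) (w : V → V → G) (u v : V → G) (e a b : V) (α β c : F) : G :=
  τ C φ e a c * w e b * u (α • e) * v (β • e)

section grp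

variable (h : HV C φ t w u v δ) {e a b a' b' p r : V}
include h

theorem cx_B0 (e : V) (α : F) : P.B (α • e) e = 0 := by rw [h.B_smul_left, h.B_self, mul_zero]

theorem cx_Bl (k : P.B e a = 0) (α : F) : P.B (α • e) a = 0 := by rw [h.B_smul_left, k, mul_zero]

theorem cx_Br (k : P.B e a = 0) (α : F) : P.B e (α • a) = 0 := by rw [P.B_smul_right, k, mul_zero]

theorem cx_Bs (k : P.B e a = 0) : P.B a e = 0 := by rw [h.B_comm, k]

theorem cx_fix (k : P.B e a = 0) (c : F) (h1 : P.B e p = 0) (h2 : P.B a p = 0) :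
    C.act (C.T e a c) p = p := by
  rw [h.T_app k, h1, h2]; simp

theorem cx_vfix {l : S} (h1 : C.act l e = e) : Commute (v e) (φ l) := by
  have := h.veqv l e
  rw [h1, mul_inv_eq_iff_eq_mul] at this
  exact this.symm

theorem cx_uτ (k : P.B e a = 0) (α c : F) : Commute (u (α • e)) (τ C φ e a c) :=
  h.toHC.bu_fix (cx_fix h k c (cx_Br h (h.B_self e) α) (cx_Br h (cx_Bs h k) α))

theorem cx_vτ (k : P.B e a = 0) (α c : F) : Commute (v (α • e)) (τ C φ e a c) :=
  cx_vfix h (cx_fix h k c (cx_Br h (h.B_self e) α) (cx_Br h (cx_Bs h k) α))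

theorem cx_uw (k : P.B e b = 0) (α : F) : Commute (u (α • e)) (w e b) :=
  h.uw _ _ _ (cx_B0 h e α) (cx_Bl h k α) k

theorem cx_vw (k : P.B e b = 0) (α : F) : Commute (v (α • e)) (w e b) :=
  h.vw _ _ _ (cx_B0 h e α) (cx_Bl h k α) k

theorem cx_wz (k : P.B e b = 0) (c : F) : Commute (w e b) (z C φ e c) :=
  h.toHW.bw_fix k (cx_fix h (map_zero _) c (h.B_self e) (by simp)) (cx_fix h (map_zero _) c k (by simp))

theorem cx_uv (e : V) (α β : F) :
    v (β • e) * u (α • e) = u (α • e) * v (β • e) * z C φ e (α * β) := by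
  have e1 := h.uv (α • e) (β • e) (cx_Br h (cx_B0 h e α) β)
  have k := cx_Br h (h.B_self e) β
  rw [h.smul _ _ _ k, h.x_smul k, smul_smul, h.toHW.bw_self, h.x_self, mul_one] at e1
  rw [e1, mul_assoc, h.z_sq, mul_one]

theorem cx_vv (e : V) (β β' : F) :
    v (β • e) * v (β' • e) = v ((β + β') • e) * z C φ e (δ * β * β') := by
  have e1 := h.vline (β • e) (β' • e) (cx_Br h (cx_B0 h e β) β')
  rw [smul_smul, h.smul _ _ _ (cx_Br h (h.B_self e) _), smul_smul, h.toHW.bw_self] at e1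
  rw [add_smul, e1, mul_assoc, ← h.z_add, show β * (δ * β') + δ * β * β' = 0 by
    rw [← h.add_self (δ * β * β')]; ring, h.z_zero, mul_one]

theorem cx_z (h1 : P.B e a = 0) (h2 : P.B e b = 0) (α β c d : F) :
    cxX C φ w u v e a b α β c * z C φ e d = cxX C φ w u v e a b α β (c + d) := by
  have c1 : Commute (u (α • e)) (z C φ e d) := cx_uτ h (map_zero _) α d
  have c2 : Commute (v (β • e)) (z C φ e d) := cx_vτ h (map_zero _) β d
  have c3 := cx_wz h h2 d
  have e1 : τ C φ e a c * z C φ e d = τ C φ e a (c + d) := by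
    have := h.τ_mul h1 (map_zero (P.B e)) c d
    rwa [add_zero, map_zero, add_zero] at this
  rw [cxX, cxX, ← e1, mul_assoc, mul_assoc, mul_assoc, ← mul_assoc (u _), ← mul_assoc (w _ _),
    ((c3.mul_left (c1.mul_left c2))).eq]
  simp only [mul_assoc]

theorem cx_mul (h1 : P.B e a = 0) (h2 : P.B e b = 0) (h3 : P.B e a' = 0) (h4 : P.B e b' = 0)
    (α β c α' β' c' : F) :
    cxX C φ w u v e a b α β c * cxX C φ w u v e a' b' α' β' c' =
      cxX C φ w u v e (a + a') (b + b') (α + α') (β + β')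
        (c + c' + P.B a a' + P.B b a' + δ * P.B b b' + (α * α' + α' * β + δ * β * β')) := by
  have c1 : Commute (u (α • e) * v (β • e)) (τ C φ e a' c' * w e b') :=
    ((cx_uτ h h3 α c').mul_right (cx_uw h h4 α)).mul_left ((cx_vτ h h3 β c').mul_right (cx_vw h h4 β))
  have z1 : ∀ γ d, Commute (v (γ • e)) (z C φ e d) := fun γ d => cx_vτ h (map_zero _) γ d
  rw [← cx_z h (by rw [map_add, h1, h3, add_zero]) (by rw [map_add, h2, h4, add_zero])]
  calc cxX C φ w u v e a b α β c * cxX C φ w u v e a' b' α' β' c'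
      = τ C φ e a c * w e b * (u (α • e) * v (β • e) * (τ C φ e a' c' * w e b')) * u (α' • e) *
        v (β' • e) := by simp only [cxX, mul_assoc]
    _ = τ C φ e a c * w e b * (τ C φ e a' c' * w e b') * u (α • e) * (v (β • e) * u (α' • e)) *
        v (β' • e) := by rw [c1.eq]; simp only [mul_assoc]
    _ = τ C φ e a c * w e b * (τ C φ e a' c' * w e b') * (u (α • e) * u (α' • e)) * v (β • e) *
        (z C φ e (α' * β) * v (β' • e)) := by rw [cx_uv h]; simp only [mul_assoc]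
    _ = τ C φ e a c * w e b * (τ C φ e a' c' * w e b') * u ((α + α') • e) * (z C φ e (α * α') *
        (v (β • e) * v (β' • e))) * z C φ e (α' * β) := by
          rw [h.toHC.bu_add, ← (z1 β' _).eq]; simp only [mul_assoc]
    _ = _ := by
          rw [h.toHW.bw_mul h1 h2 h3 h4, cx_vv h, ← mul_assoc (z C φ e _), ← (z1 _ _).eq, cxX, h.z_add,
            h.z_add]
          simp only [mul_assoc]
          rw [(h.z_comm (h.B_self e) (δ * (β * β')) (α' * β)).eq]

theorem cx_τ (e a : V) (c : F) : cxX C φ w u v e a 0 0 0 c = τ C φ e a c := by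
  rw [cxX, zero_smul, h.toHW.bw_zero, h.toHC.bu_zero, h.vzero, mul_one, mul_one, mul_one]

theorem cx_w (e b : V) : cxX C φ w u v e 0 b 0 0 0 = w e b := by
  rw [cxX, zero_smul, h.toHC.bu_zero, h.vzero, mul_one, mul_one, show τ C φ e 0 0 = 1 from h.x_zero e,
    one_mul]

theorem cx_u (e : V) (α : F) : cxX C φ w u v e 0 0 α 0 0 = u (α • e) := by
  rw [cxX, zero_smul, h.toHW.bw_zero, h.vzero, mul_one, mul_one, show τ C φ e 0 0 = 1 from h.x_zero e,
    one_mul]

theorem cx_v (e : V) (β : F) : cxX C φ w u v e 0 0 0 β 0 = v (β • e) := by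
  rw [cxX, zero_smul, h.toHW.bw_zero, h.toHC.bu_zero, mul_one, mul_one,
    show τ C φ e 0 0 = 1 from h.x_zero e, one_mul]

theorem cx_t (h1 : P.B e a = 0) (h2 : P.B e b = 0) (α β c : F) :
    t * cxX C φ w u v e a b α β c * t⁻¹ =
      cxX C φ w u v e (a + b) b (α + β) β (c + (P.B a b + (α * α + α * β + δ * β * β))) := by
  have e1 : t * τ C φ e a c * t⁻¹ = τ C φ e a c := by
    rw [τ, ← h.tl, mul_inv_cancel_right]
  have k0 : P.B e 0 = 0 := map_zero _
  calc t * cxX C φ w u v e a b α β c * t⁻¹ = (t * τ C φ e a c * t⁻¹) * (t * w e b * t⁻¹) *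
        (t * u (α • e) * t⁻¹) * (t * v (β • e) * t⁻¹) := by rw [cxX]; group
    _ = cxX C φ w u v e a b 0 0 c * cxX C φ w u v e b 0 0 0 0 * (cxX C φ w u v e 0 0 α 0 0 *
        z C φ e (α * α * 1)) * (cxX C φ w u v e 0 0 0 β 0 * cxX C φ w u v e 0 0 β 0 0 *
        z C φ e (β * β * (δ + 1))) := by
          rw [e1, h.toHW.bw_t h2, h.toHC.bu_t, h.vt, h.z_smul, h.z_smul, cx_τ h, cx_u h, cx_u h, cx_v h,
            cxX, zero_smul, h.toHC.bu_zero, h.vzero]
          simp only [mul_assoc, one_mul, mul_one, x, τ]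
    _ = _ := by
          have k1 : P.B e (a + b) = 0 := by rw [map_add, h1, h2, add_zero]
          rw [cx_mul h k0 k0 k0 k0, cx_mul h h1 h2 h2 k0]
          simp only [add_zero, zero_add]
          rw [cx_z h k0 k0, cx_z h k0 k0, cx_mul h k1 h2 k0 k0]
          simp only [add_zero, zero_add]
          rw [cx_mul h k1 h2 k0 k0]
          simp only [add_zero, zero_add, map_zero, h.B_self]
          congr 1
          linear_combination (β * β) * h.two

theorem cx_cφ {l : S} (hl : C.act l e = e) (h1 : P.B e a = 0) (h2 : P.B e b = 0) (α β c : F) :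
    φ l * cxX C φ w u v e a b α β c * (φ l)⁻¹ = cxX C φ w u v e (C.act l a) (C.act l b) α β c := by
  calc φ l * cxX C φ w u v e a b α β c * (φ l)⁻¹ = (φ l * τ C φ e a c * (φ l)⁻¹) *
        (φ l * w e b * (φ l)⁻¹) * (φ l * u (α • e) * (φ l)⁻¹) * (φ l * v (β • e) * (φ l)⁻¹) := by
          rw [cxX]; group
    _ = _ := by rw [h.τ_conj l h1, h.eqv l e b h2, h.ueqv, h.veqv, map_smul, map_smul, hl, cxX]

theorem cx_cw (k : P.B p r = 0) (k1 : P.B e p = 0) (k2 : P.B e r = 0) (h1 : P.B e a = 0)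
    (h2 : P.B e b = 0) (α β c : F) :
    w p r * cxX C φ w u v e a b α β c * (w p r)⁻¹ =
      cxX C φ w u v e (a + (P.B r a + δ * P.B r b) • p + (δ * P.B p b) • r)
        (b + P.B r a • p + (P.B p a + P.B p b) • r) α β c := by
  have c1 : Commute (u (α • e)) (w p r) := h.uw _ _ _ (cx_Bl h k1 α) (cx_Bl h k2 α) k
  have c2 : Commute (v (β • e)) (w p r) := h.vw _ _ _ (cx_Bl h k1 β) (cx_Bl h k2 β) k
  rw [h.toHW.bw_inv k, cxX, cxX, ← h.toHW.bw_conj k k1 k2 h1 h2]
  simp only [mul_assoc]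
  rw [c2.eq, ← mul_assoc (u _), c1.eq, mul_assoc]

theorem cx_cu (k1 : P.B e p = 0) (h1 : P.B e a = 0) (h2 : P.B e b = 0) (α β c : F) :
    u p * cxX C φ w u v e a b α β c * (u p)⁻¹ =
      cxX C φ w u v e (a + (α + δ * P.B p b) • p) (b + (β + P.B p a) • p + P.B p b • p)
        (α + P.B p a) (β + P.B p b) c := by
  have k0 : P.B e 0 = 0 := map_zero _
  have kp : ∀ γ : F, P.B e (γ • p) = 0 := cx_Br h k1
  have k2 := cx_Bs h k1
  have e1 : u p * u (α • e) * (u p)⁻¹ = cxX C φ w u v e (α • p) 0 α 0 0 := by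
    have c1 : Commute (u p) (x C φ p (α • e)) := by
      have := cx_uτ h (cx_Br h k2 α) 1 0
      rwa [one_smul] at this
    rw [h.toHC.bu_u (cx_Br h k2 α), mul_assoc (u _), c1.eq, ← mul_assoc, mul_inv_cancel_right,
      h.x_symm (cx_Br h k2 α), h.x_smul k1, cxX, zero_smul, h.vzero, h.toHW.bw_zero, mul_one, mul_one]
    exact (cx_uτ h (kp α) α 0).eq
  have e2 : u p * v (β • e) * (u p)⁻¹ = cxX C φ w u v e 0 (β • p) 0 β 0 := by
    have c1 : Commute (u p) (x C φ p (β • e)) := by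
      have := cx_uτ h (cx_Br h k2 β) 1 0
      rwa [one_smul] at this
    have c2 : Commute (u p) (w p (β • e)) := by
      have := cx_uw h (cx_Br h k2 β) 1
      rwa [one_smul] at this
    have s1 := h.symm p (β • e) (cx_Br h k2 β)
    rw [one_smul, h.smul _ _ _ k1] at s1
    rw [h.uv _ _ (cx_Br h k2 β), mul_assoc (v _), mul_assoc (v _), mul_assoc (u p),
      (c2.mul_right c1).eq, ← mul_assoc, mul_inv_cancel_right, ← s1, cxX, zero_smul, h.toHC.bu_zero,
      mul_one, show τ C φ e 0 0 = 1 from h.x_zero e, one_mul]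
    exact (cx_vw h (kp β) β).eq
  calc u p * cxX C φ w u v e a b α β c * (u p)⁻¹ = (u p * τ C φ e a c * (u p)⁻¹) *
        (u p * w e b * (u p)⁻¹) * (u p * u (α • e) * (u p)⁻¹) * (u p * v (β • e) * (u p)⁻¹) := by
          rw [cxX]; group
    _ = cxX C φ w u v e a (P.B p a • p) (P.B p a) 0 c * (cxX C φ w u v e 0 b 0 (P.B p b) 0 *
        cxX C φ w u v e 0 (P.B p b • p) 0 0 0 * cxX C φ w u v e ((δ * P.B p b) • p) 0 0 0 0) *
        cxX C φ w u v e (α • p) 0 α 0 0 * cxX C φ w u v e 0 (β • p) 0 β 0 := by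
          rw [e1, e2, h.toHC.bu_x k1 h1, h.vdef e p b k1 h2, h.B_comm a p, h.B_comm b p, cx_w h, cx_τ h]
          simp only [cxX, zero_smul, h.toHC.bu_zero, h.vzero, mul_one,
            show φ (C.T e 0 0) = 1 from h.x_zero e, one_mul, x, τ]
    _ = _ := by
          rw [cx_mul h k0 h2 k0 (kp _), cx_mul h (by simp) (by simp [h2, k1]) (kp _) k0,
            cx_mul h h1 (kp _) (by simp [k1]) (by simp [h2, k1]),
            cx_mul h (by simp [h1, k1]) (by simp [h2, k1]) (kp _) k0,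
            cx_mul h (by simp [h1, k1]) (by simp [h2, k1]) k0 (kp _)]
          congr 1
          · module
          · module
          · ring
          · ring
          · simp only [map_add, map_smul, LinearMap.add_apply, LinearMap.smul_apply, map_zero,
              LinearMap.zero_apply, smul_eq_mul, h.B_smul_left, P.B_add_left, h.B_self, h.B_comm a p, h.B_comm b p]
            linear_combination (δ * P.B p b * P.B p a + δ * P.B p b * β + δ * P.B p b ^ 2 + P.B p b * α +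
              P.B p a * α) * h.two

end grp

/-- `a + ω b + (α + β ω) v₀` -/
def cxD (cv : V →ₗ[F] Vk m δ) (a b : V) (α β : F) : Vk m δ :=
  cv a + om δ • cv b + (⟨α, β⟩ : KK δ) • v0 m δ

/-- the model of `cxX` -/
noncomputable def cxT (P : PQ (RingHom.id F) V) (cv : V →ₗ[F] Vk m δ) (e a b : V) (α β c : F) : Sg m δ :=
  TS (cv e) (cxD cv a b α β) ⟨c, P.B a b + (α * α + α * β + δ * β * β)⟩

omit [Finite F] [CharP F 2] in
theorem cx_mk (α β : F) : (⟨α, β⟩ : KK δ) = rt δ α + om δ * rt δ β := by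
  ext <;> simp [om]

section mdl

variable (h : Mod C) (d : Crd P cv) (hm : Odd m) {e a b a' b' p r : V}

omit [Finite F] [CharP F 2] [FiniteDimensional F V] in
theorem cxD_add (a b a' b' : V) (α β α' β' : F) :
    cxD cv a b α β + cxD cv a' b' α' β' = cxD cv (a + a') (b + b') (α + α') (β + β') := by
  simp only [cxD, map_add, cx_mk]
  module

omit [Finite F] [CharP F 2] [FiniteDimensional F V] in
theorem cxD_cv (a : V) : cxD cv a 0 0 0 = cv a := by simp [cxD, cx_mk]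

omit [Finite F] [CharP F 2] [FiniteDimensional F V] in
theorem cxD_om (b : V) : cxD cv 0 b 0 0 = om δ • cv b := by simp [cxD, cx_mk]

omit [Finite F] [CharP F 2] [FiniteDimensional F V] in
theorem cxD_v0 : cxD cv 0 0 1 0 = v0 m δ := by simp [cxD, cx_mk]

include h d hm

theorem cx_hf (a b a' b' : V) (α β α' β' : F) : hf (cxD cv a b α β) (cxD cv a' b' α' β') =
    ⟨P.B a a' + P.B b a' + δ * P.B b b' + (α * α' + α' * β + δ * β * β'),
      P.B a b' + P.B b a' + (α * β' + α' * β)⟩ := by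
  rw [cxD, cxD, d.hf_dec h, hf_v0 hm]
  ext
  · simp [om]
    linear_combination (-(β * δ * β')) * h.two
  · simp [om]
    linear_combination (-(β * α')) * h.two

theorem cx_hfe (e a b : V) (α β : F) : hf (cv e) (cxD cv a b α β) = ⟨P.B e a, P.B e b⟩ := by
  rw [← cxD_cv e, cx_hf h d hm]; simp

theorem cx_hfv (a b : V) (α β : F) : hf (v0 m δ) (cxD cv a b α β) = ⟨α, β⟩ := by
  rw [← cxD_v0 (cv := cv), cx_hf h d hm]; simp

theorem cx_ok (h1 : P.B e a = 0) (h2 : P.B e b = 0) (α β c : F) :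
    Ok (cv e) (cxD cv a b α β) ⟨c, P.B a b + (α * α + α * β + δ * β * β)⟩ := by
  refine ⟨(d.rv e).self, by rw [cx_hfe h d hm, h1, h2]; rfl, ?_⟩
  rw [add_star, cx_hf h d hm, h.B_self, h.B_self, h.B_comm b a]
  ext
  · simp
  · simp
    linear_combination (-(P.B a b + α * β)) * h.two

theorem cx_of_ok {α β : F} {c : KK δ} (k : Ok (cv e) (cxD cv a b α β) c) :
    P.B e a = 0 ∧ P.B e b = 0 ∧ c = ⟨c.re, P.B a b + (α * α + α * β + δ * β * β)⟩ := by
  have e1 := k.ea
  rw [cx_hfe h d hm] at e1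
  have h1 : P.B e a = 0 := congrArg QuadraticAlgebra.re e1
  have h2 : P.B e b = 0 := congrArg QuadraticAlgebra.im e1
  refine ⟨h1, h2, ?_⟩
  have e2 := k.cc.trans (cx_ok h d hm h1 h2 α β 0).cc.symm
  rw [add_star, add_star] at e2
  exact QuadraticAlgebra.ext rfl (rt_inj e2)

theorem cxT_mul (h1 : P.B e a = 0) (h2 : P.B e b = 0) (h3 : P.B e a' = 0) (h4 : P.B e b' = 0)
    (α β c α' β' c' : F) :
    cxT P cv e a b α β c * cxT P cv e a' b' α' β' c' =
      cxT P cv e (a + a') (b + b') (α + α') (β + β')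
        (c + c' + P.B a a' + P.B b a' + δ * P.B b b' + (α * α' + α' * β + δ * β * β')) := by
  have k := (cx_ok h d hm h1 h2 α β c).add (cx_ok h d hm h3 h4 α' β' c')
  rw [cxT, cxT, TS_mul (cx_ok h d hm h1 h2 α β c) (cx_ok h d hm h3 h4 α' β' c')]
  rw [cxD_add] at k ⊢
  rw [(cx_of_ok h d hm k).2.2, cxT, cx_hf h d hm]
  congr 2
  simp only [QuadraticAlgebra.re_add]
  ring

theorem cxT_conj {s : Sg m δ} (hs : mat s *ᵥ cv e = cv e) (h1 : P.B e a = 0) (h2 : P.B e b = 0)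
    {α β α' β' : F} (k : mat s *ᵥ cxD cv a b α β = cxD cv a' b' α' β') (c : F) :
    s * cxT P cv e a b α β c * s⁻¹ = cxT P cv e a' b' α' β' c := by
  have k1 := (cx_ok h d hm h1 h2 α β c).conj s
  rw [cxT, TS_conj (cx_ok h d hm h1 h2 α β c)]
  rw [hs, k] at k1 ⊢
  rw [(cx_of_ok h d hm k1).2.2, cxT]

theorem cx_Tw (k : P.B p r = 0) (a b : V) (α β : F) :
    mat (TS (cv p) (om δ • cv r) 0) *ᵥ cxD cv a b α β =
      cxD cv (a + (P.B r a + δ * P.B r b) • p + (δ * P.B p b) • r)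
        (b + P.B r a • p + (P.B p a + P.B p b) • r) α β := by
  rw [mat_TS (Ok.w (d.rv p) (d.rv r) ((d.perp h).2 k)), TM_mulVec, hf_smul_left, cx_hfe h d hm,
    cx_hfe h d hm, star_om]
  simp only [cxD, map_add, d.smul h, map_mul, cx_mk]
  have o := om_sq (δ := δ)
  have o2 := k_two (δ := δ)
  match_scalars
  · ring
  · ring
  · ring
  · linear_combination (rt δ (P.B r b)) * o + o2 (om δ * rt δ (P.B r b))
  · linear_combination (rt δ (P.B p b)) * o

theorem cx_Tu (p a b : V) (α β : F) :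
    mat (TS (cv p) (v0 m δ) (om δ)) *ᵥ cxD cv a b α β =
      cxD cv (a + (α + δ * P.B p b) • p) (b + (β + P.B p a) • p + P.B p b • p)
        (α + P.B p a) (β + P.B p b) := by
  rw [mat_TS (Ok.u hm (d.rv p)), TM_mulVec, cx_hfv h d hm, cx_hfe h d hm]
  simp only [cxD, map_add, d.smul h, map_mul, cx_mk]
  have o := om_sq (δ := δ)
  match_scalars
  · ring
  · ring
  · ring
  · linear_combination (rt δ (P.B p b)) * o

end mdl

variable (C φ w u v cv) in
/-- pairs which act in the same way on the radical of `e` -/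
def cxM (e : V) : Submonoid (G × Sg m δ) where
  carrier := {q | mat q.2 *ᵥ cv e = cv e ∧ ∀ a b α β, P.B e a = 0 → P.B e b = 0 → ∃ a' b' α' β',
    mat q.2 *ᵥ cxD cv a b α β = cxD cv a' b' α' β' ∧ P.B e a' = 0 ∧ P.B e b' = 0 ∧
      ∀ c, q.1 * cxX C φ w u v e a b α β c * q.1⁻¹ = cxX C φ w u v e a' b' α' β' c}
  one_mem' := ⟨one_mulVec _, fun a b α β h1 h2 => ⟨a, b, α, β, one_mulVec _, h1, h2, fun c => by simp⟩⟩
  mul_mem' := by
    rintro q q' ⟨k1, k2⟩ ⟨k3, k4⟩
    refine ⟨by rw [Prod.snd_mul, mat_mul, ← mulVec_mulVec, k3, k1], fun a b α β h1 h2 => ?_⟩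
    obtain ⟨a', b', α', β', e1, h3, h4, e2⟩ := k4 a b α β h1 h2
    obtain ⟨a'', b'', α'', β'', e3, h5, h6, e4⟩ := k2 a' b' α' β' h3 h4
    refine ⟨a'', b'', α'', β'', by rw [Prod.snd_mul, mat_mul, ← mulVec_mulVec, e1, e3], h5, h6,
      fun c => ?_⟩
    rw [← e4, ← e2, Prod.fst_mul]
    group

theorem cxM_inv {e : V} {q : G × Sg m δ} (k : q ∈ cxM C φ cv w u v e) : q⁻¹ ∈ cxM C φ cv w u v e :=
  Submonoid.powers_le.2 k
    ((isOfFinOrder_of_finite q).mem_powers_iff_mem_zpowers.2 (inv_mem (mem_zpowers q)))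

section prs

variable (h : HV C φ t w u v δ) (d : Io C cv ι) (hm : Odd m) {e e' a b p r : V}
include h d hm

theorem cxM_φ {l : S} (hl : C.act l e = e) : (φ l, ι l) ∈ cxM C φ cv w u v e := by
  refine ⟨by rw [d.act, hl], fun a b α β h1 h2 => ⟨C.act l a, C.act l b, α, β, ?_, ?_, ?_,
    cx_cφ h hl h1 h2 α β⟩⟩
  · simp only [cxD, mulVec_add, mulVec_smul, d.act, d.fix0]
  · rw [← hl, C.B_act, h1]
  · rw [← hl, C.B_act, h2]

theorem cxM_τ (k : P.B p r = 0) (k1 : P.B e p = 0) (k2 : P.B e r = 0) (c : F) :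
    (τ C φ p r c, cxT P cv p r 0 0 0 c) ∈ cxM C φ cv w u v e := by
  have e1 : cxT P cv p r 0 0 0 c = ι (C.T p r c) := by
    rw [d.T h.toMod k, cxT, cxD_cv, cx_mk]; simp
  rw [e1]
  exact cxM_φ h d hm (cx_fix h k c (cx_Bs h k1) (cx_Bs h k2))

theorem cxM_w (k : P.B p r = 0) (k1 : P.B e p = 0) (k2 : P.B e r = 0) :
    (w p r, cxT P cv p 0 r 0 0 0) ∈ cxM C φ cv w u v e := by
  have e1 : cxT P cv p 0 r 0 0 0 = TS (cv p) (om δ • cv r) 0 := by
    rw [cxT, cxD_om, cx_mk]; simp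
  rw [e1]
  refine ⟨?_, fun a b α β h1 h2 => ⟨_, _, α, β, cx_Tw h.toMod d.toCrd hm k a b α β, by simp [h1, k1, k2],
    by simp [h2, k1, k2], cx_cw h k k1 k2 h1 h2 α β⟩⟩
  rw [← cxD_cv e, cx_Tw h.toMod d.toCrd hm k, cx_Bs h k1, cx_Bs h k2]
  simp

theorem cxM_u (k1 : P.B e p = 0) : (u p, TS (cv p) (v0 m δ) (om δ)) ∈ cxM C φ cv w u v e := by
  refine ⟨?_, fun a b α β h1 h2 => ⟨_, _, _, _, cx_Tu h.toMod d.toCrd hm p a b α β, by simp [h1, k1],
    by simp [h2, k1], cx_cu h k1 h1 h2 α β⟩⟩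
  rw [← cxD_cv e, cx_Tu h.toMod d.toCrd hm, cx_Bs h k1]
  simp

theorem cxM_v {f : V} (k : P.B p f = 1) (k0 : P.B e e' = 0) (k1 : P.B e p = 0) (k2 : P.B e f = 0)
    (k3 : P.B e' p = 0) (k4 : P.B e' f = 0) (β : F) :
    (v (β • e'), cxT P cv e' 0 0 0 β 0) ∈ cxM C φ cv w u v e := by
  have z0 : P.B e' 0 = 0 := map_zero _
  have b1 : P.B (β • f) p = β := by rw [h.B_smul_left, h.B_comm, k, mul_one]
  have b2 : P.B p (β • f) = β := by rw [h.B_comm, b1]
  have m1 := cxM_w h d hm (cx_Br h k4 β) k0 (cx_Br h k2 β)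
  have m2 := cxM_u h d hm k1
  have m3 := cxM_w h d hm (cx_Br h k3 β) k0 (cx_Br h k1 β)
  have m4 := cxM_τ h d hm (cx_Br h k3 (δ * β)) k0 (cx_Br h k1 (δ * β)) 0
  have e1 := h.vdef e' p (β • f) k3 (cx_Br h k4 β)
  rw [b1] at e1
  have e2 : TS (cv p) (v0 m δ) (om δ) * cxT P cv e' 0 (β • f) 0 0 0 * (TS (cv p) (v0 m δ) (om δ))⁻¹ =
      cxT P cv e' 0 (β • f) 0 0 0 * cxT P cv e' 0 0 0 β 0 * cxT P cv e' 0 (β • p) 0 0 0 *
        cxT P cv e' ((δ * β) • p) 0 0 0 0 := by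
    rw [cxT_conj h.toMod d.toCrd hm (cxM_u h d hm k3).1 z0 (cx_Br h k4 β)
      (cx_Tu h.toMod d.toCrd hm p 0 (β • f) 0 0), cxT_mul h.toMod d.toCrd hm z0 (cx_Br h k4 β) z0 z0,
      cxT_mul h.toMod d.toCrd hm (by simp) (by simp [k4]) z0 (cx_Br h k3 β),
      cxT_mul h.toMod d.toCrd hm (by simp) (by simp [k4, k3]) (cx_Br h k3 _) z0, b2]
    congr 1
    · simp
    · simp
    · simp
    · simp
    · simp only [map_add, map_smul, LinearMap.add_apply, LinearMap.smul_apply, map_zero,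
        LinearMap.zero_apply, smul_eq_mul, h.B_smul_left, P.B_add_left, h.B_self, h.B_comm f p, k]
      linear_combination (-(δ * β * β)) * h.two
  have e3 : (v (β • e'), cxT P cv e' 0 0 0 β 0) = (w e' (β • f), cxT P cv e' 0 (β • f) 0 0 0)⁻¹ *
      ((u p, TS (cv p) (v0 m δ) (om δ)) * (w e' (β • f), cxT P cv e' 0 (β • f) 0 0 0) *
        (u p, TS (cv p) (v0 m δ) (om δ))⁻¹) * (τ C φ e' ((δ * β) • p) 0, cxT P cv e' ((δ * β) • p) 0 0 0 0)⁻¹ *
        (w e' (β • p), cxT P cv e' 0 (β • p) 0 0 0)⁻¹ := by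
    refine Prod.ext ?_ ?_
    · simp only [Prod.fst_mul, Prod.fst_inv]
      rw [e1, x, τ]; group
    · simp only [Prod.snd_mul, Prod.snd_inv]
      rw [e2]; group
  rw [e3]
  exact mul_mem (mul_mem (mul_mem (cxM_inv m1) (mul_mem (mul_mem m2 m1) (cxM_inv m2))) (cxM_inv m4))
    (cxM_inv m3)

theorem cxM_X {f : V} (k : P.B p f = 1) (k0 : P.B e e' = 0) (k1 : P.B e p = 0) (k2 : P.B e f = 0)
    (k3 : P.B e' p = 0) (k4 : P.B e' f = 0) (h1 : P.B e' a = 0) (h2 : P.B e' b = 0) (h3 : P.B e a = 0)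
    (h4 : P.B e b = 0) (α β c : F) :
    (cxX C φ w u v e' a b α β c, cxT P cv e' a b α β c) ∈ cxM C φ cv w u v e := by
  have z0 : P.B e' 0 = 0 := map_zero _
  have e1 : TS (cv (α • e')) (v0 m δ) (om δ) = cxT P cv e' 0 0 α 0 0 := by
    rw [d.toCrd.smul h.toMod, TS_smul, star_rt, cxT]
    congr 1
    · simp [cxD, cx_mk]
    · ext <;> simp [om]
  have e2 : cxT P cv e' a b α β c = cxT P cv e' a 0 0 0 c * cxT P cv e' 0 b 0 0 0 *
      cxT P cv e' 0 0 α 0 0 * cxT P cv e' 0 0 0 β 0 := by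
    rw [cxT_mul h.toMod d.toCrd hm h1 z0 z0 h2, cxT_mul h.toMod d.toCrd hm (by simp [h1]) (by simp [h2]) z0 z0,
      cxT_mul h.toMod d.toCrd hm (by simp [h1]) (by simp [h2]) z0 z0]
    simp
  have := mul_mem (mul_mem (mul_mem (cxM_τ h d hm h1 k0 h3 c) (cxM_w h d hm h2 k0 h4))
    (cxM_u h d hm (cx_Br h k0 α))) (cxM_v h d hm k k0 k1 k2 k3 k4 β)
  rw [e1] at this
  rw [e2]
  exact this

end prs

omit [Finite F] [CharP F 2] in
theorem cx_idx (hm : Odd m) (h6 : 6 ≤ m) (i j : Fin m) :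
    ∃ l : Fin m, l ≠ l.rev ∧ l ≠ i ∧ l ≠ i.rev ∧ l ≠ j ∧ l ≠ j.rev := by
  obtain ⟨k, rfl⟩ := hm
  by_contra hc
  have e : (Finset.univ : Finset (Fin (2 * k + 1))) ⊆ {⟨k, by omega⟩, i, i.rev, j, j.rev} := by
    intro l _
    by_contra hl
    simp only [Finset.mem_insert, Finset.mem_singleton, not_or] at hl
    refine hc ⟨l, fun e => hl.1 (Fin.ext ?_), hl.2⟩
    have := congrArg Fin.val e
    simp only [Fin.val_rev] at this ⊢
    omega
  have := (Finset.card_le_card e).trans Finset.card_le_five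
  simp only [Finset.card_univ, Fintype.card_fin] at this
  omega

theorem exists_X_odd (h : HV C φ t w u v δ) (d : Io C cv ι) (hm : Odd m) (h6 : 6 ≤ m) :
    ∃ X : Fin m → Vk m δ → KK δ → G, YRel t X ∧
      (∀ i e a c, i ≠ i.rev → cv e = ee δ i → P.B e a = 0 → X i (cv a) (rt δ c) = τ C φ e a c) ∧
      (∀ i e a, i ≠ i.rev → cv e = ee δ i → P.B e a = 0 → X i (om δ • cv a) 0 = w e a) ∧
      ∀ i e, i ≠ i.rev → cv e = ee δ i → X i (v0 m δ) (om δ) = u e := by
  have hM := h.toMod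
  have dc := d.toCrd
  obtain ⟨re, im, hd1, hd2⟩ := dc.exists_dec hM
  have hE : ∀ i : Fin m, ∃ e, i ≠ i.rev → cv e = ee δ i := fun i => by
    by_cases hi : i ≠ i.rev
    · obtain ⟨e, -, he⟩ := dc.exists_ee hM hi
      exact ⟨e, fun _ => he⟩
    · exact ⟨0, fun k => absurd k hi⟩
  choose E hE using hE
  have dec : ∀ A : Vk m δ, ∃ a b α β, A = cxD cv a b α β := fun A =>
    ⟨re A, im A, (hf (v0 m δ) A).re, (hf (v0 m δ) A).im, hd1 A⟩
  obtain ⟨X, hX⟩ : ∃ X : Fin m → Vk m δ → KK δ → G, ∀ i a b α β c,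
      X i (cxD cv a b α β) c = cxX C φ w u v (E i) a b α β c.re :=
    ⟨fun i A c => cxX C φ w u v (E i) (re A) (im A) (hf (v0 m δ) A).re (hf (v0 m δ) A).im c.re,
      fun i a b α β c => by
        simp only [cx_hfv hM dc hm]
        rw [cxD, (hd2 _ _ _).1, (hd2 _ _ _).2]⟩
  have sm : ∀ (l : KK δ) e, l • cv e = cxD cv (l.re • e) (l.im • e) 0 0 := fun l e => by
    conv_lhs => rw [k_dec l]
    simp only [cxD, dc.smul hM, cx_mk, map_zero]
    module
  have pp : ∀ i j : Fin m, i ≠ i.rev → j ≠ j.rev → j ≠ i.rev → P.B (E i) (E j) = 0 := fun i j hi hj k => by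
    rw [← dc.perp hM, hE i hi, hE j hj, hf_ee_left, ee, Pi.single_eq_of_ne k.symm]
  have uq : ∀ i e, i ≠ i.rev → cv e = ee δ i → E i = e := fun i e hi k => dc.inj hM ((hE i hi).trans k.symm)
  refine ⟨X, ⟨h.t2, fun i A c B c' hi k k' => ?_, fun i l hi => ?_, fun i j l hi hj h1 h2 => ?_,
    fun i j A c B c' hi hj h1 h2 k k' k0 => ?_, fun i A c hi k => ?_⟩, fun i e a c hi k k' => ?_,
    fun i e a hi k k' => ?_, fun i e hi k => ?_⟩
  · obtain ⟨a, b, α, β, rfl⟩ := dec A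
    obtain ⟨a', b', α', β', rfl⟩ := dec B
    rw [← hE i hi] at k k'
    obtain ⟨k1, k2, -⟩ := cx_of_ok hM dc hm k
    obtain ⟨k3, k4, -⟩ := cx_of_ok hM dc hm k'
    rw [cxD_add, hX, hX, hX, cx_mul h k1 k2 k3 k4, cx_hf hM dc hm]
    congr 1
    simp only [QuadraticAlgebra.re_add]
    ring
  · rw [← hE i hi, sm, hX, add_star, cxX, zero_smul, h.toHC.bu_zero, h.vzero, mul_one, mul_one,
      h.toHW.bw_self, h.τ_eq (cx_Br h (h.B_self _) _), h.x_self, one_mul]
    exact h.z_sq _ _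
  · have k1 := pp i j hi hj h2
    have k2 := cx_Bs h k1
    have s1 := h.symm (E i) (l.im • E j) (cx_Br h k1 _)
    rw [one_smul, h.smul _ _ _ k2] at s1
    have c1 : Commute (w (E i) (l.im • E j)) (x C φ (E i) (l.im • E j)) :=
      h.toHW.bw_τ (cx_Br h k1 _) (cx_Br h k1 _) (h.B_self _) (cx_Br h k1 _) (cx_Bl h k2 _) (h.B_self _) 0
    have e1 : (star l).re = l.re + l.im := by simp
    have e2 : (star l).im = l.im := by simp [h.neg_eq]
    rw [← hE i hi, ← hE j hj, sm, sm, hX, hX, cxX, cxX, e1, e2, s1, c1.eq]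
    simp only [zero_smul, h.toHC.bu_zero, h.vzero, mul_one]
    change x C φ _ _ * _ = x C φ _ _ * _
    rw [← h.x_smul k2, h.x_symm (cx_Bl h k2 _), ← mul_assoc, ← h.x_add (cx_Br h k1 _) (cx_Br h k1 _)
      (cx_Br h (cx_B0 h _ _) _), ← add_smul, add_assoc, h.add_self, add_zero]
  · obtain ⟨a, b, α, β, rfl⟩ := dec A
    obtain ⟨a', b', α', β', rfl⟩ := dec B
    rw [← mat_TS k]
    rw [← hE i hi] at k ⊢
    rw [← hE j hj] at k' k0
    obtain ⟨k1, k2, k5⟩ := cx_of_ok hM dc hm k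
    obtain ⟨k3, k4, -⟩ := cx_of_ok hM dc hm k'
    have k6 := congrArg star k0
    rw [star_hf, cx_hfe hM dc hm, star_zero] at k6
    obtain ⟨l, l0, l1, l2, l3, l4⟩ := cx_idx hm h6 i j
    have l0' : l.rev ≠ l.rev.rev := by rw [Fin.rev_rev]; exact l0.symm
    have q0 : P.B (E l) (E l.rev) = 1 := by
      refine rt_inj (δ := δ) ?_
      rw [← dc.form, hE l l0, hE _ l0', hf_ee_left, ee, Pi.single_eq_same, map_one]
    obtain ⟨a'', b'', α'', β'', e1, -, -, e2⟩ := (cxM_X h d hm q0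
      (pp j i hj hi fun e => h2 (by rw [e, Fin.rev_rev])) (pp j l hj l0 l4)
      (pp j _ hj l0' fun e => l3 (Fin.rev_injective e)) (pp i l hi l0 l2)
      (pp i _ hi l0' fun e => l1 (Fin.rev_injective e)) k1 k2 (congrArg QuadraticAlgebra.re k6)
      (congrArg QuadraticAlgebra.im k6) α β c.re).2 a' b' α' β' k3 k4
    rw [cxT, ← k5] at e1
    rw [e1, hX, hX, hX]
    exact e2 _
  · obtain ⟨a, b, α, β, rfl⟩ := dec A
    rw [← hE i hi] at k
    obtain ⟨k1, k2, k5⟩ := cx_of_ok hM dc hm k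
    have e1 : star (cxD cv a b α β) = cxD cv (a + b) b (α + β) β := by
      simp only [cxD, star_add, star_smul, (dc.rv _).rat, star_v0, star_om, map_add, cx_mk, star_mul,
        star_rt]
      module
    have e2 : (star c).re = c.re + c.im := by simp
    rw [e1, hX, hX, cx_t h k1 k2, e2, congrArg QuadraticAlgebra.im k5]
  · rw [← cxD_cv a, hX, uq i e hi k]
    exact cx_τ h e a c
  · rw [← cxD_om a, hX, uq i e hi k]
    exact cx_w h e a
  · rw [← cxD_v0 (cv := cv), hX, uq i e hi k]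
    exact (cx_u h e 1).trans (by rw [one_smul])

end CfsgLib.SPC.BC
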