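import Cfsg.Agent.Lib.SPC.Max
import Cfsg.Agent.Lib.SPC.Loc
import Cfsg.Agent.Lib.SPC.Defs2

/-! t ~ t a: involutions -/

set_option autoImplicit false
set_option linter.unusedSectionVars false

namespace CfsgLib.SPC

open Subgroup Module CfsgLib.Forms CfsgLib.LieMult
open CfsgLib.HX (Std CO Two Mv M2)
open CfsgLib.UN (AV SI TI HH Rad Stb Yg Rg Eg Act nu)
open CfsgLib.ClSys (II)
open Submodule (span)
open scoped commutatorElement Pointwise

universe u

variable {F : Type} [Field F] [Finite F] {V : Type} [AddCommGroup V] [Module F V]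
  [FiniteDimensional F V] {P : PQ (RingHom.id F) V} {S : Type} [Group S] [Finite S] {G : Type u}
  [Group G] [Finite G] {C : CG P S} {φ : S →* G} {t : G}

theorem she_nmem {e u v f : V} (h1 : P.B f e = 1) (h2 : P.B f u = 0) (h3 : P.B f v = 0) : e ∉ span F {u, v} := by
  intro hm
  obtain ⟨a, b, rfl⟩ := Submodule.mem_span_pair.1 hm
  simp [h2, h3] at h1

theorem she_span {e v : V} {l m : F} (hl : l ≠ 0) (hm : m ≠ 0) : span F {l • e, m • v} = span F {e, v} := by
  rw [Submodule.span_insert, Submodule.span_insert, Submodule.span_singleton_smul_eq hl.isUnit,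
    Submodule.span_singleton_smul_eq hm.isUnit]

theorem she_span' {e v : V} {m : F} (hm : m ≠ 0) : span F {e, m • v} = span F {e, v} := by
  simpa using she_span (e := e) (v := v) one_ne_zero hm

theorem she_span_shift (e a : V) (m : F) : span F {e, a + m • e} = span F {e, a} := by
  refine le_antisymm (Submodule.span_le.2 ?_) (Submodule.span_le.2 ?_)
  · rintro _ (rfl | rfl)
    · exact Submodule.subset_span (by simp)
    · exact Submodule.mem_span_pair.2 ⟨m, 1, by module⟩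
  · rintro _ (rfl | rfl)
    · exact Submodule.subset_span (by simp)
    · exact Submodule.mem_span_pair.2 ⟨-m, 1, by module⟩

theorem she_act_span (l : S) (e a v : V) :
    C.act l v ∈ span F {C.act l e, C.act l a} ↔ v ∈ span F {e, a} := by
  rw [Submodule.mem_span_pair, Submodule.mem_span_pair]
  refine exists₂_congr fun c d => ?_
  rw [← map_smul, ← map_smul, ← map_add]
  exact (C.act l).injective.eq_iff

theorem Cf.ind {e u v c : V} (h : Mod C) (k : Cf P e u v c) {a b d : F} (e1 : a • e + b • u + d • v = 0) :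
    a = 0 ∧ b = 0 ∧ d = 0 := by
  have ha : a = 0 := by
    by_contra ha
    refine k.nmem (Submodule.mem_span_pair.2 ⟨-(a⁻¹ * b), -(a⁻¹ * d), ?_⟩)
    have : e = a⁻¹ • (a • e) := by rw [smul_smul, inv_mul_cancel₀ ha, one_smul]
    rw [this, show a • e = -(b • u + d • v) from eq_neg_of_add_eq_zero_left (by rw [← e1]; abel)]
    module
  rw [ha, zero_smul, zero_add] at e1
  exact ⟨ha, h.ln_inj k.ln (c' := 0) (d' := 0) (by simpa using e1)⟩

theorem Cf.li {e u v c : V} (h : Mod C) (k : Cf P e u v c) : LinearIndependent F ![e, u, v, c] := by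
  rw [Fintype.linearIndependent_iff]
  intro g hg
  simp only [Fin.sum_univ_four, Matrix.cons_val_zero, Matrix.cons_val_one, Matrix.cons_val] at hg
  have h3 : g 3 = 0 := by
    have := congrArg (P.B u) hg
    simpa [h.B_comm u e, k.eu, h.B_self, k.ln.perp, h.B_comm u c, k.cu] using this
  rw [h3, zero_smul, add_zero] at hg
  obtain ⟨h0, h1, h2⟩ := k.ind h hg
  intro i
  fin_cases i
  exacts [h0, h1, h2, h3]

theorem Mod.she_prod (h : Mod C) {e u v : V} (eu : P.B e u = 0) (ev : P.B e v = 0) (uv : P.B u v = 0)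
    (l α β r : F) : C.T u (α • e + β • v) r * C.T (u + l • e) (α • e + β • v) r =
      C.T e ((l * β) • v + (r * l) • u) (l * l * r) := by
  have ue := (h.B_comm u e).trans eu
  have ve := (h.B_comm v e).trans ev
  have vu := (h.B_comm v u).trans uv
  refine C.ext fun y => ?_
  rw [C.mul_apply, h.T_app (by simp [ue, uv]),
    h.T_app (by simp [ue, uv, ev, h.B_self]), h.T_app (by simp [eu, ev])]
  simp only [P.B_add_left, P.B_add_right, P.B_smul_right, h.B_smul_left, eu, ev, uv, ue, ve, vu, h.B_self]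
  match_scalars
  · ring
  · linear_combination (α * P.B e y + β * P.B v y + r * P.B u y) * h.two
  · linear_combination (α * l * P.B e y + α * P.B u y) * h.two
  · linear_combination (β * P.B u y) * h.two

theorem Mod.exists_cf (h : Mod C) {e v : V} (k : Ln P e v) : ∃ u c, Cf P e u v c := by
  obtain ⟨f, f', k1⟩ := h.hh_of_ln k
  obtain ⟨u, c, k3⟩ := h.exists_h3 k1
  exact ⟨u, c, h.ln_symm (h.ln_of_hh k3.h23), she_nmem k1.h₁.fe k3.h13.fe k1.fe, k3.h13.ee, k.perp, k3.h13.ef,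
    (h.B_comm _ _).trans k3.h23.ef, k3.h13.h₂.fe⟩
theorem Mod.exists_cf' (h : Mod C) {u v : V} (k : Ln P u v) : ∃ e c, Cf P e u v c := by
  obtain ⟨f, f', k1⟩ := h.hh_of_ln k
  obtain ⟨e, c, k3⟩ := h.exists_h3 k1
  exact ⟨e, f, k, she_nmem k3.h13.h₂.fe ((h.B_comm _ _).trans k3.h13.ef) ((h.B_comm _ _).trans k3.h23.ef),
    (h.B_comm _ _).trans k3.h13.ee, (h.B_comm _ _).trans k3.h23.ee, (h.B_comm _ _).trans k3.h13.fe, k1.fe,
    k1.h₁.fe⟩
theorem Mod.trans_cf (h : Mod C) {e u v c e' u' v' c' : V} (k : Cf P e u v c) (k' : Cf P e' u' v' c') :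
    ∃ s, C.act s e = e' ∧ C.act s u = u' ∧ C.act s v = v' ∧ C.act s c = c' := by
  obtain ⟨s, hs⟩ := h.witt (k.li h) (k'.li h) (by
    have a1 := k.ln.perp
    have a2 := k'.ln.perp
    intro i j
    fin_cases i <;> fin_cases j <;>
      simp [h.B_self, h.B_comm u e, h.B_comm v e, h.B_comm c e, h.B_comm v u, h.B_comm u c, h.B_comm v c,
        h.B_comm u' e', h.B_comm v' e', h.B_comm c' e', h.B_comm v' u', h.B_comm u' c', h.B_comm v' c', a1, a2,
        k.eu, k.ev, k.ec, k.cv, k.cu, k'.eu, k'.ev, k'.ec, k'.cv, k'.cu])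
  exact ⟨s, hs 0, hs 1, hs 2, hs 3⟩
theorem Mod.cf_ln (h : Mod C) {e u v c : V} (k : Cf P e u v c) :
    Ln P e v ∧ Ln P e u ∧ Ln P e c ∧ u ∉ span F {e, v} := by
  have e0 : e ≠ 0 := fun e0 => k.nmem (e0 ▸ zero_mem _)
  refine ⟨⟨e0, fun m => ?_, k.ev⟩, ⟨e0, fun m => ?_, k.eu⟩, ⟨e0, fun m => ?_, k.ec⟩, fun m => ?_⟩
  · obtain ⟨l, hl⟩ := Submodule.mem_span_singleton.1 m
    have := (k.ind h (a := l) (b := 0) (d := -1) (by rw [hl]; module)).2.2
    simp at this
  · obtain ⟨l, hl⟩ := Submodule.mem_span_singleton.1 m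
    have := (k.ind h (a := l) (b := -1) (d := 0) (by rw [hl]; module)).2.1
    simp at this
  · obtain ⟨l, hl⟩ := Submodule.mem_span_singleton.1 m
    have := k.cu
    rw [← hl, h.B_smul_left, k.eu, mul_zero] at this
    exact zero_ne_one this
  · obtain ⟨l, m, hl⟩ := Submodule.mem_span_pair.1 m
    have := (k.ind h (a := l) (b := -1) (d := m) (by rw [← hl]; module)).2.1
    simp at this

theorem Emb.she_xY (h : Emb C φ) {e a p b : V} (k : P.B p b = 0) (h1 : P.B e p = 0) (h2 : P.B a p = 0)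
    (h3 : P.B e b = 0) (h4 : P.B a b = 0) (c : F) : τ C φ p b c ∈ Yg C φ (span F {e, a}) :=
  h.τ_mem_Y k (CG.mem_perp_pair.2 ⟨h1, h2⟩) (CG.mem_perp_pair.2 ⟨h3, h4⟩) c

theorem Emb.she_xY' (h : Emb C φ) {e a : V} (k : P.B e a = 0) : x C φ e a ∈ Yg C φ (span F {e, a}) :=
  h.she_xY k (h.B_self e) ((h.B_comm _ _).trans k) k (h.B_self a) 0

theorem P0.comm {e a : V} {p y : G} (hp : P0 C φ t e a p) (hy : y ∈ Yg C φ (span F {e, a})) : Commute p y :=
  (hp.cY y hy).symm

namespace Sit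

variable (h : Sit C φ t) {e a : V} {p p' : G}
include h

theorem p0_congr {e' a' : V} (h1 : span F {e, a} = span F {e', a'}) (h2 : x C φ e a = x C φ e' a')
    (hp : P0 C φ t e a p) : P0 C φ t e' a' p := by
  exact ⟨h1 ▸ hp.cY, h2 ▸ hp.pt⟩
theorem iv_congr {e' a' : V} (h1 : span F {e, a} = span F {e', a'}) (h2 : x C φ e a = x C φ e' a')
    (hp : Iv C φ t e a p) : Iv C φ t e' a' p := by
  exact ⟨h.p0_congr h1 h2 hp.toP0, hp.co, hp.sq⟩
theorem p0_conj (k : P.B e a = 0) (hp : P0 C φ t e a p) (l : S) :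
    P0 C φ t (C.act l e) (C.act l a) (φ l * p * (φ l)⁻¹) := by
  refine ⟨fun y hy => ?_, ?_⟩
  · have h1 : (φ l)⁻¹ * y * φ l ∈ Yg C φ (span F {e, a}) :=
      (h.conj_Y l (she_act_span l e a)).1.1 (by simpa [mul_assoc] using hy)
    calc y * (φ l * p * (φ l)⁻¹) = φ l * ((φ l)⁻¹ * y * φ l * p) * (φ l)⁻¹ := by group
      _ = _ := by rw [hp.cY _ h1]; group
  · have c : Commute (φ l) t := h.tl l
    calc φ l * p * (φ l)⁻¹ * t * (φ l * p * (φ l)⁻¹)⁻¹ = φ l * (p * ((φ l)⁻¹ * (t * φ l)) * p⁻¹) * (φ l)⁻¹ := by group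
      _ = _ := by rw [← c.eq, inv_mul_cancel_left, hp.pt, ← h.x_conj l k, ← mul_assoc, c.eq]; group
theorem iv_conj (k : P.B e a = 0) (hp : Iv C φ t e a p) (l : S) :
    Iv C φ t (C.act l e) (C.act l a) (φ l * p * (φ l)⁻¹) := by
  refine ⟨h.p0_conj k hp.toP0 l, h.co_conj' (h.tl l) hp.co, ?_⟩
  rw [conj_mul, hp.sq, mul_one, mul_inv_cancel]
theorem p0_nY (k : P.B e a = 0) (hp : P0 C φ t e a p) :
    p ∈ normalizer ((Yg C φ (span F {e, a}) ⊔ zpowers t : Subgroup G) : Set G) := by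
  refine mem_normalizer_fintype fun n hn => ?_
  rcases (h.mem_sup_t h.Y_le_L).1 hn with k1 | k1
  · rw [(hp.comm k1).eq, mul_inv_cancel_right]
    exact hn
  · have : p * n * p⁻¹ = p * t * p⁻¹ * (p * (t * n) * p⁻¹) := by
      rw [conj_mul, ← mul_assoc t, h.t2, one_mul]
    rw [this, hp.pt, (hp.comm k1).eq, mul_inv_cancel_right]
    exact mul_mem (mul_mem (mem_sup_right (mem_zpowers t)) (mem_sup_left (h.she_xY' k))) (mem_sup_left k1)
theorem p0_uniq (k : P.B e a = 0) (hp : P0 C φ t e a p) (hp' : P0 C φ t e a p') :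
    ∃ ε ∈ Eg C φ (span F {e, a}), ∃ c ∈ centralizer (φ.range : Set G), c * t = t * c ∧
      p' = p * ε * c := by
  have h1 : p⁻¹ * p' * t = t * (p⁻¹ * p') := by
    calc p⁻¹ * p' * t = p⁻¹ * (p' * t * p'⁻¹) * p' := by group
      _ = _ := by rw [hp'.pt, ← hp.pt]; group
  obtain ⟨ε, hε, c, hc, e1⟩ := h.cY (h.ti_pair k) (h.norm_of h1) (mul_mem (inv_mem hp.cY) hp'.cY)
  refine ⟨ε, hε, c, hc, h.ct_of (map_le_range _ _ hε) (e1 ▸ h1), ?_⟩
  rw [mul_assoc, ← e1, mul_inv_cancel_left]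
theorem iv_mul (k : P.B e a = 0) (hp : Iv C φ t e a p) {ε : G} (hε : ε ∈ Eg C φ (span F {e, a})) :
    Iv C φ t e a (p * ε) := by
  have hU := h.ti_pair k
  have hL : ε ∈ φ.range := map_le_range _ _ hε
  have c : Commute p ε := hp.comm (h.R_le_Y (h.E_le_R hU hε))
  refine ⟨⟨mul_mem hp.cY (h.E_cent hU hε), ?_⟩, hp.co.mul (CO.of_mem hL), ?_⟩
  · rw [← hp.pt, mul_assoc p, h.tL hL]; group
  · rw [c.symm.mul_mul_mul_comm, hp.sq, h.E_sq hU hε, one_mul]
/-- a `CO` involution `p ε c` has `c = 1` -/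
theorem kill (h2 : Two φ.range t) {y ε c : G} (pt : p * t * p⁻¹ = t * y) (hy : y ∈ φ.range) (y1 : y ≠ 1)
    (co : CO φ.range t p) (p2 : p * p = 1) (hε : ε ∈ φ.range) (ε2 : ε * ε = 1) (pε : Commute p ε)
    (hc : c ∈ centralizer (φ.range : Set G)) (ct : c * t = t * c)
    (sq : p * ε * c * (p * ε * c) = 1) : c = 1 := by
  obtain ⟨o, ho, ot, oo, e1⟩ := h2.dec hc ct
  have po : Commute p o := co o ho ot oo
  have εo : Commute ε o := ho ε hε
  have εt : Commute ε t := h.tL hε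
  have ot' : Commute o t := ot
  rcases e1 with rfl | rfl
  · rw [(po.mul_left εo).symm.mul_mul_mul_comm, pε.symm.mul_mul_mul_comm, p2, ε2, one_mul, one_mul] at sq
    have h1 := orderOf_dvd_of_pow_eq_one (x := c) (n := 2) (by rw [pow_two, sq])
    rcases (Nat.dvd_prime Nat.prime_two).1 h1 with h3 | h3
    · exact orderOf_eq_one_iff.1 h3
    · rw [h3] at oo; exact absurd oo (by decide)
  · exfalso
    have e2 : p * ε * (t * o) = p * t * (ε * o) := by rw [mul_assoc, mul_assoc, ← mul_assoc ε, εt.eq, mul_assoc]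
    have c1 : Commute (ε * o) (p * t) := (pε.symm.mul_right εt).mul_left (po.symm.mul_right ot')
    have e3 : p * t * (p * t) = y := by
      have : p * t * (p * t) = p * t * p⁻¹ * (p * p) * t := by group
      rw [this, pt, p2, mul_one, mul_assoc, h.tL hy, ← mul_assoc, h.t2, one_mul]
    rw [e2, c1.mul_mul_mul_comm, εo.symm.mul_mul_mul_comm, ε2, one_mul, e3] at sq
    refine y1 (h.eq_one hy ?_)
    rw [eq_inv_of_mul_eq_one_left sq]
    exact inv_mem (mul_mem ho ho)
theorem iv_uniq (h2 : Two φ.range t) (k : Ln P e a) (hp : Iv C φ t e a p) (hp' : Iv C φ t e a p') :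
    ∃ ε ∈ Eg C φ (span F {e, a}), p' = p * ε := by
  obtain ⟨ε, hε, c, hc, ct, e1⟩ := h.p0_uniq k.perp hp.toP0 hp'.toP0
  have hU := h.ti_pair k.perp
  have := h.kill h2 hp.pt ⟨_, rfl⟩ (fun e2 => one_ne_zero ((h.x_eq_one k (c := 1)).1 (by rw [one_smul]; exact e2)))
    hp.co hp.sq (map_le_range _ _ hε) (h.E_sq hU hε) (hp.comm (h.R_le_Y (h.E_le_R hU hε))) hc ct (e1 ▸ hp'.sq)
  exact ⟨ε, hε, by rw [e1, this, mul_one]⟩
/-- the action on `Q_e` -/
theorem iv_Q (h2 : Two φ.range t) (k : Ln P e a) (hp : Iv C φ t e a p) {b : V} (hb : P.B e b = 0) :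
    ∃ κ κ' : F, x C φ e b * p * x C φ e b * p = z C φ e κ * x C φ e (κ' • a) := by
  have hU := h.ti_pair k.perp
  have X2 := h.x_sq hb
  have Xi : (φ (C.T e b 0))⁻¹ = x C φ e b := h.τ_inv hb 0
  have be := (h.B_comm b e).trans hb
  by_cases hμ : P.B b a = 0
  · refine ⟨0, 0, ?_⟩
    have c := hp.comm (h.she_xY hb (h.B_self e) ((h.B_comm _ _).trans k.perp) hb ((h.B_comm _ _).trans hμ) 0)
    rw [zero_smul, h.z_zero, h.x_zero, mul_assoc (_ * p)]
    exact (c.mul_mul_mul_comm _ _).trans (by rw [hp.sq]; exact congrArg (· * 1) X2)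
  have ae : C.act (C.T e b 0) e = e := by rw [h.x_app hb, be, h.B_self]; simp
  have aa : C.act (C.T e b 0) a = a + P.B b a • e := by rw [h.x_app hb, k.perp]; simp
  have h1 := h.iv_conj k.perp hp (C.T e b 0)
  rw [ae, aa, Xi] at h1
  obtain ⟨ε, hε, e1⟩ := h.iv_uniq h2 k hp (h.iv_congr (she_span_shift e a _) (h.x_shift k.perp _) h1)
  have c : Commute p ε := hp.comm (h.R_le_Y (h.E_le_R hU hε))
  have e2 : x C φ e b * p * x C φ e b * p = ε := by
    rw [show x C φ e b * p * x C φ e b = p * ε from e1, c.eq, mul_assoc, hp.sq, mul_one]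
  have e3 : φ (C.T e b 0) * ε * (φ (C.T e b 0))⁻¹ = ε := by
    have e4 : ε = (x C φ e b * p * x C φ e b * p)⁻¹ := by
      rw [e2, inv_eq_of_mul_eq_one_right (h.E_sq hU hε)]
    rw [Xi]
    calc x C φ e b * ε * x C φ e b = x C φ e b * x C φ e b * p * x C φ e b * p * x C φ e b := by
          rw [← e2]; group
      _ = _ := by
          rw [X2, e4, mul_inv_rev, mul_inv_rev, mul_inv_rev, inv_eq_of_mul_eq_one_right X2,
            inv_eq_of_mul_eq_one_right hp.sq]
          group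
  obtain ⟨r, m, r', rfl⟩ := (h.mem_El k).1 hε
  obtain ⟨s, rfl⟩ := h.exists_sqrt r'
  rw [← conj_mul, ← conj_mul, h.z_conj, h.z_conj, h.x_conj _ (by simp [k.perp]), map_smul, ae, aa, smul_add,
    smul_smul, h.x_shift (by simp [k.perp]), mul_right_inj, ← mul_one (s * s), ← h.z_smul, ← h.z_smul] at e3
  have e5 := h.z_one_inj e3
  rw [smul_add, add_eq_left, smul_smul, smul_eq_zero, mul_eq_zero] at e5
  have s0 : s = 0 := (e5.resolve_right k.ne).resolve_right hμ
  exact ⟨r, m, by rw [e2, s0, mul_zero, h.z_zero, mul_one]⟩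

end Sit

namespace MA0

variable (h : MA0 C φ t) {e u v c : V} {p' : G}
include h

/-- the commutator with a root element -/
theorem n0 (k : Cf P e u v c) (hp' : P0 C φ t u v p') {l : F} (hl : l ≠ 0) :
    ∃ p, ∃ α β : F, P0 C φ t e (l • v) p ∧ CO φ.range t p ∧ p * p = x C φ e ((l * β) • v) ∧
      x C φ e (l • c) * p' * x C φ e (l • c) * p'⁻¹ = p * x C φ u (α • e + β • v) := by
  have hS := h.toSit
  have uv := k.ln.perp
  have ue := (h.B_comm u e).trans k.eu
  have ve := (h.B_comm v e).trans k.ev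
  have vu := (h.B_comm v u).trans uv
  have vc := (h.B_comm v c).trans k.cv
  have uc := (h.B_comm u c).trans k.cu
  have ce := (h.B_comm c e).trans k.ec
  have ec : P.B e (l • c) = 0 := by simp [k.ec]
  have elv : P.B e (l • v) = 0 := by simp [k.ev]
  obtain ⟨k1, -, -, k4⟩ := h.cf_ln k
  have X2 := h.x_sq ec
  have Xi : (φ (C.T e (l • c) 0))⁻¹ = x C φ e (l • c) := h.τ_inv ec 0
  have au : C.act (C.T e (l • c) 0) u = u + l • e := by
    rw [h.x_app ec, h.B_smul_left, k.cu, k.eu]; simp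
  have av : C.act (C.T e (l • c) 0) v = v := by rw [h.x_app ec, h.B_smul_left, k.cv, k.ev]; simp
  have hq := hS.p0_conj uv hp' (C.T e (l • c) 0)
  rw [au, av, Xi] at hq
  set X := x C φ e (l • c) with hX
  replace hq : P0 C φ t (u + l • e) v (X * p' * X) := hq
  have XL : X ∈ φ.range := ⟨_, rfl⟩
  have co : CO φ.range t (X * p' * X * p'⁻¹) := by
    have := (CO.of_mem (t := t) XL).mul (hS.co_conj (h.ti_pair uv) (hS.p0_nY uv hp') XL)
    simpa only [mul_assoc] using this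
  have ulv : P.B (u + l • e) v = 0 := by simp [P.B_add_left, h.B_smul_left, uv, k.ev]
  have ulu : P.B (u + l • e) u = 0 := by simp [P.B_add_left, h.B_smul_left, h.B_self, k.eu]
  have nt : X * p' * X * p'⁻¹ * t * (X * p' * X * p'⁻¹)⁻¹ = t * x C φ e (l • v) := by
    have c1 := hp'.comm (h.she_xY' uv)
    have e1 : p'⁻¹ * t * p' = t * x C φ u v := by
      have : t = p' * t * p'⁻¹ * x C φ u v := by rw [hp'.pt, mul_assoc, h.x_sq uv, mul_one]
      calc p'⁻¹ * t * p' = p'⁻¹ * (p' * t * p'⁻¹ * x C φ u v) * p' := by rw [← this]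
        _ = t * (p'⁻¹ * (x C φ u v * p')) := by group
        _ = _ := by rw [← c1.eq, inv_mul_cancel_left]
    have c2 : Commute (X * p' * X) (x C φ u v) := hq.comm (h.she_xY uv ulu vu ulv (h.B_self v) 0)
    calc _ = X * p' * X * (p'⁻¹ * t * p') * (X * p' * X)⁻¹ := by group
      _ = X * p' * X * t * (X * p' * X)⁻¹ * (X * p' * X * x C φ u v * (X * p' * X)⁻¹) := by rw [e1]; group
      _ = _ := by
        rw [hq.pt, c2.eq, mul_inv_cancel_right, mul_assoc, h.x_symm ulv, h.x_symm uv,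
          ← h.x_add ((h.B_comm _ _).trans ulv) vu ulu, add_right_comm, h.vadd_self, zero_add,
          h.x_symm (by simp [ve]), h.x_smul k.ev]
  obtain ⟨p₀, hp₀⟩ := h.mv e (l • v) (by simpa using h.ln_smul k1 one_ne_zero hl 0)
  have c0 := hp₀.cY
  rw [she_span' hl] at c0
  have hπ : TI P (span F {e, v, u}) := ti_span.2 (by
    have a1 := k.eu
    have a2 := k.ev
    rintro _ (rfl | rfl | rfl) _ (rfl | rfl | rfl) <;> first | exact h.B_self _ | assumption)
  have me : e ∈ span F {e, v, u} := Submodule.subset_span (by simp)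
  have mv : v ∈ span F {e, v, u} := Submodule.subset_span (by simp)
  have mu : u ∈ span F {e, v, u} := Submodule.subset_span (by simp)
  have sub : ∀ {a b : V} {g : G}, a ∈ span F {e, v, u} → b ∈ span F {e, v, u} →
      g ∈ centralizer (Yg C φ (span F {a, b}) : Set G) → g ∈ centralizer (Yg C φ (span F {e, v, u}) : Set G) :=
    fun ha hb hg => centralizer_le (h.Y_anti (Submodule.span_le.2 (by rintro _ (rfl | rfl) <;> assumption))) hg
  have gt : p₀⁻¹ * (X * p' * X * p'⁻¹) * t = t * (p₀⁻¹ * (X * p' * X * p'⁻¹)) := by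
    calc _ = p₀⁻¹ * (X * p' * X * p'⁻¹ * t * (X * p' * X * p'⁻¹)⁻¹) * (X * p' * X * p'⁻¹) := by group
      _ = _ := by rw [nt, ← hp₀.pt]; group
  obtain ⟨ε, hε, d, hd, e1⟩ := h.cY hπ (hS.norm_of gt) (mul_mem (inv_mem (sub me mv c0))
    (mul_mem (sub (add_mem mu (Submodule.smul_mem _ _ me)) mv hq.cY) (inv_mem (sub mu mv hp'.cY))))
  have dt := hS.ct_of (map_le_range _ _ hε) (e1 ▸ gt)
  obtain ⟨ε₀, hε₀, α, β, r, rfl⟩ := (h.mem_Epl k1 k4 k.eu vu).1 hε
  have uw : P.B u (α • e + β • v) = 0 := by simp [ue, uv]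
  set T := τ C φ u (α • e + β • v) r with hT
  have T2 : T * T = 1 := h.τ_sq uw r
  have dT : Commute T d := hd _ ⟨_, rfl⟩
  have e2 : X * p' * X * p'⁻¹ = p₀ * ε₀ * d * T := by
    rw [mul_assoc _ d, ← dT.eq, mul_assoc p₀, ← mul_assoc ε₀, ← e1, mul_inv_cancel_left]
  have cp : p₀ * ε₀ * d ∈ centralizer (Yg C φ (span F {e, v}) : Set G) :=
    mul_mem (mul_mem c0 (h.E_cent (h.ti_pair k.ev) hε₀)) (centralizer_le h.Y_le_L hd)
  have pt : p₀ * ε₀ * d * t * (p₀ * ε₀ * d)⁻¹ = t * x C φ e (l • v) := by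
    rw [← hp₀.pt, mul_assoc _ d, dt, mul_assoc p₀, ← mul_assoc ε₀, hS.tL (map_le_range _ _ hε₀)]
    group
  set p := p₀ * ε₀ * d with hp
  have pX : Commute X p := cp _ (h.she_xY ec (h.B_self e) ve ec (by simp [vc]) 0)
  have pT : Commute T p := cp _ (h.she_xY uw k.eu vu (by simp [h.B_self, k.ev]) (by simp [ve, h.B_self]) r)
  have XT : X * T * X = τ C φ (u + l • e) (α • e + β • v) r := by
    rw [hX, hT, h.x_τ ec uw]
    simp [h.B_smul_left, k.cu, k.eu, ce, k.cv, k.ev, h.B_self]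
  have p2 : p * p = τ C φ e ((l * β) • v + (r * l) • u) (l * l * r) := by
    have e3 : X * (p * T) * X * (p * T) = 1 := by
      rw [← e2]
      calc _ = X * X * p' * X * p'⁻¹ * (X * X) * p' * X * p'⁻¹ := by group
        _ = p' * X * X * p'⁻¹ := by rw [X2]; group
        _ = 1 := by rw [mul_assoc p', X2]; group
    have e4 : X * (p * T) * X * (p * T) = p * (X * T * X * T) * p := by
      rw [← mul_assoc X p, pX.eq, ← pT.eq]; group
    have e5 : p * p = (X * T * X * T)⁻¹ := by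
      rw [e4] at e3
      calc p * p = p * (p * (X * T * X * T) * p) * p⁻¹ * (X * T * X * T)⁻¹ := by group
        _ = _ := by rw [e3]; group
    rw [e5, mul_inv_rev, XT, inv_eq_of_mul_eq_one_right T2,
      h.τ_inv (a := α • e + β • v) (e := u + l • e) (by simp [ue, uv, k.ev, h.B_self]), hT, τ, τ, τ, ← map_mul, h.she_prod k.eu k.ev uv]
  have r0 : r = 0 := by
    have c1 : Commute (z C φ c 1) p := cp _ (h.she_xY (map_zero _) k.ec vc (map_zero _) (map_zero _) 1)
    have c2 := (c1.mul_right c1).symm.eq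
    rw [p2, τ, z, ← map_mul, ← map_mul] at c2
    have c3 := h.fix_of_comm one_ne_zero (h.inj c2)
    rw [h.T_app (by simp [k.ev, k.eu]), k.ec] at c3
    simp only [P.B_add_left, h.B_smul_left, vc, uc, mul_zero, zero_add, mul_one, add_zero, zero_smul,
      add_eq_left, smul_eq_zero, mul_eq_zero] at c3
    exact (c3.resolve_right k1.ne).resolve_right hl
  subst r0
  refine ⟨p, α, β, ⟨by rw [she_span' hl]; exact cp, pt⟩, ?_, ?_, e2⟩
  · have : p = X * p' * X * p'⁻¹ * T := by rw [e2, mul_assoc, T2, mul_one]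
    rw [this]
    exact co.mul (CO.of_mem ⟨_, rfl⟩)
  · rw [p2, zero_mul, zero_smul, add_zero, mul_zero]; rfl

theorem n0_big (hs : ¬ Small F) (k : Cf P e u v c) (hp' : P0 C φ t u v p') :
    ∃ p, ∃ α : F, Iv C φ t e v p ∧ x C φ e c * p' * x C φ e c * p'⁻¹ = p * x C φ u (α • e) := by
  have hS := h.toSit
  have uv := k.ln.perp
  have ue := (h.B_comm u e).trans k.eu
  have ve := (h.B_comm v e).trans k.ev
  have vu := (h.B_comm v u).trans uv
  have vc := (h.B_comm v c).trans k.cv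
  have uc := (h.B_comm u c).trans k.cu
  have ce := (h.B_comm c e).trans k.ec
  have ec : ∀ l : F, P.B e (l • c) = 0 := fun l => by simp [k.ec]
  have ev : ∀ l : F, P.B e (l • v) = 0 := fun l => by simp [k.ev]
  have uw : ∀ α β : F, P.B u (α • e + β • v) = 0 := fun α β => by simp [ue, uv]
  have ww : ∀ α β α' β' : F, P.B (α • e + β • v) (α' • e + β' • v) = 0 := fun α β α' β' => by
    simp [P.B_add_left, h.B_smul_left, h.B_self, k.ev, ve]
  let Bt : F → F → Prop := fun l β => ∃ p, ∃ α : F, P0 C φ t e (l • v) p ∧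
    x C φ e (l • c) * p' * x C φ e (l • c) * p'⁻¹ = p * x C φ u (α • e + β • v)
  have uniq : ∀ l β β', l ≠ 0 → Bt l β → Bt l β' → β = β' := by
    rintro l β β' hl ⟨p, α, hp, e1⟩ ⟨q, α', hq, e2⟩
    obtain ⟨ε, hε, d, hd, -, rfl⟩ := hS.p0_uniq (ev l) hp hq
    rw [she_span' hl] at hε
    have e3 : x C φ u (α • e + β • v + (α' • e + β' • v)) * 1 = ε * d := by
      rw [h.x_add (uw _ _) (uw _ _) (ww _ _ _ _), mul_one, ← mul_left_inj (x C φ u (α' • e + β' • v)), mul_assoc,
        h.x_sq (uw _ _), mul_one, ← mul_right_inj p, ← e1, e2]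
      group
    have e4 := (h.dec_inj ⟨_, rfl⟩ (map_le_range _ _ hε) (one_mem _) hd e3).1
    obtain ⟨s, hs, rfl⟩ := hε
    have e5 := hs c (CG.mem_perp_pair.2 ⟨k.ec, vc⟩)
    rw [← h.inj e4, h.x_app (by simp [ue, uv]), uc] at e5
    simp only [P.B_add_left, h.B_smul_left, k.ec, vc, mul_zero, add_zero, zero_smul, one_smul, add_eq_left] at e5
    have := k.ind h.toMod (a := α + α') (b := 0) (d := β + β') (by rw [← e5]; module)
    exact h.eq_of_add this.2.2
  have add : ∀ l m β β', l ≠ 0 → m ≠ 0 → l + m ≠ 0 → Bt l β → Bt m β' → Bt (l + m) (β' + β) := by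
    rintro l m β β' hl hm hlm ⟨p, α, hp, e1⟩ ⟨q, α', hq, e2⟩
    have cp := hp.cY
    have cq := hq.cY
    rw [she_span' hl] at cp
    rw [she_span' hm] at cq
    have mx : ∀ n : F, x C φ e (n • v) ∈ Eg C φ (span F {e, v}) := fun n => h.τ_mem_E (h.ti_pair k.ev)
      (Submodule.subset_span (by simp)) (Submodule.smul_mem _ _ (Submodule.subset_span (by simp))) 0
    have mx' : ∀ n : F, x C φ e (n • v) ∈ Yg C φ (span F {e, v}) := fun n =>
      h.R_le_Y (h.E_le_R (h.ti_pair k.ev) (mx n))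
    refine ⟨q * p * x C φ e ((l * β') • v), α' + α, ⟨?_, ?_⟩, ?_⟩
    · rw [she_span' hlm]
      exact mul_mem (mul_mem cq cp) (h.E_cent (h.ti_pair k.ev) (mx _))
    · have c1 : Commute (x C φ e (l • v)) q := cq _ (mx' l)
      calc _ = q * (p * (x C φ e ((l * β') • v) * t * (x C φ e ((l * β') • v))⁻¹) * p⁻¹) * q⁻¹ := by group
        _ = q * t * q⁻¹ * (q * x C φ e (l • v) * q⁻¹) := by
          rw [hS.tL (g := x C φ e ((l * β') • v)) ⟨_, rfl⟩, mul_inv_cancel_right, hp.pt]; group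
        _ = _ := by
          rw [hq.pt, ← c1.eq, mul_inv_cancel_right, mul_assoc,
            ← h.x_add (ev m) (ev l) (by simp [h.B_smul_left, h.B_self]), ← add_smul, add_comm m l]
    · have c1 : Commute (x C φ e (l • c)) (x C φ e (m • c)) := h.τ_comm (ec l) (ec m) 0 0
      have c2 : Commute (x C φ e (l • c)) q := cq _ (h.she_xY (ec l) (h.B_self e) ve (ec l) (by simp [vc]) 0)
      have c3 : Commute (x C φ u (α' • e + β' • v)) p :=
        cp _ (h.she_xY (uw _ _) k.eu vu (by simp [h.B_self, k.ev]) (by simp [ve, h.B_self]) 0)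
      have c4 : Commute (x C φ e ((l * β') • v)) p := cp _ (mx' _)
      have XT : x C φ e (l • c) * x C φ u (α' • e + β' • v) * x C φ e (l • c) =
          x C φ e ((l * β') • v) * x C φ u (α' • e + β' • v) := by
        have a1 : x C φ e (l • c) * x C φ u (α' • e + β' • v) * x C φ e (l • c) =
            x C φ (u + l • e) (α' • e + β' • v) := by
          refine (h.x_τ (ec l) (uw α' β') 0).trans ?_
          simp [k.cu, k.eu, ce, k.cv, k.ev, h.B_self, x, τ]
        have a2 : x C φ u (α' • e + β' • v) * x C φ (u + l • e) (α' • e + β' • v) = x C φ e ((l * β') • v) := by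
          rw [x, x, ← map_mul, h.she_prod k.eu k.ev uv]
          simp [x]
        have c5 : Commute (x C φ e ((l * β') • v)) (x C φ u (α' • e + β' • v)) :=
          (h.E_cent (h.ti_pair k.ev) (mx _) _
            (h.she_xY (uw _ _) k.eu vu (by simp [h.B_self, k.ev]) (by simp [ve, h.B_self]) 0)).symm
        rw [c5.eq, a1, ← a2, ← mul_assoc, h.x_sq (uw α' β'), one_mul]
      have X2 := h.x_sq (ec l)
      rw [add_smul, h.x_add (ec l) (ec m) (by simp [h.B_smul_left, h.B_self]),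
        show (α' + α) • e + (β' + β) • v = α' • e + β' • v + (α • e + β • v) by module,
        h.x_add (uw _ _) (uw _ _) (ww _ _ _ _)]
      generalize x C φ e (l • c) = A at *
      generalize x C φ e (m • c) = B at *
      generalize x C φ u (α' • e + β' • v) = T' at *
      generalize x C φ u (α • e + β • v) = T at *
      generalize x C φ e ((l * β') • v) = Z at *
      calc A * B * p' * (A * B) * p'⁻¹ = A * (B * p' * B * p'⁻¹) * (A * A) * p' * A * p'⁻¹ := by
            rw [X2]; nth_rw 2 [c1.eq]; group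
        _ = A * q * T' * A * (A * p' * A * p'⁻¹) := by rw [e2]; group
        _ = q * (A * T' * A) * p * T := by rw [e1, c2.eq]; group
        _ = _ := by rw [XT, mul_assoc q, mul_assoc Z, c3.eq, ← mul_assoc Z, c4.eq]; group
  have tor : ∀ ν β, ν ≠ 0 → Bt 1 β → Bt ν β := by
    rintro ν β hν ⟨p, α, hp, e1⟩
    obtain ⟨f, hf⟩ := h.exists_dual (k.li h.toMod) ![1, 0, 0, 0]
    obtain ⟨s, -, s1, -, s2⟩ := h.exists_diag1 (e := e) (f := f) (hf 0) hν
    have su : C.act s u = u := s2 u k.eu ((h.B_comm _ _).trans (hf 1))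
    have sv : C.act s v = v := s2 v k.ev ((h.B_comm _ _).trans (hf 2))
    have sc : C.act s c = c := s2 c k.ec ((h.B_comm _ _).trans (hf 3))
    have c1 : Commute p' (φ s) := hp'.comm ⟨s, mem_fix_pair.2 ⟨su, sv⟩, rfl⟩
    have h1 := hS.p0_conj (ev 1) hp s
    rw [s1, map_smul, sv] at h1
    refine ⟨φ s * p * (φ s)⁻¹, α * ν, hS.p0_congr ?_ ?_ h1, ?_⟩
    · rw [she_span hν one_ne_zero, she_span' hν]
    · rw [h.x_smul (ev 1), one_smul]
    · have a1 := h.x_conj s (ec 1)
      have a2 := h.x_conj s (uw α β)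
      rw [s1, map_smul, sc, h.x_smul (ec 1), one_smul] at a1
      rw [su, map_add, map_smul, map_smul, s1, sv, smul_smul] at a2
      rw [one_smul] at e1
      have a3 : φ s * p' * (φ s)⁻¹ = p' := by rw [← c1.eq, mul_inv_cancel_right]
      rw [← a1, ← a2, conj_mul, ← e1]
      nth_rw 1 2 [← a3]
      group
  obtain ⟨p, α, β, hp, co, p2, e1⟩ := h.n0 k hp' one_ne_zero
  obtain ⟨l, l0, l1⟩ := h.exists_big hs
  have b1 : Bt 1 β := ⟨p, α, hp, e1⟩
  have l2 : l + 1 ≠ 0 := fun e2 => l1 (h.eq_of_add e2)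
  have b0 : β = 0 := by
    rw [← h.add_self β]
    exact uniq _ _ _ l2 (tor _ _ l2 b1) (add _ _ _ _ l0 one_ne_zero l2 (tor _ _ l0 b1) b1)
  subst b0
  rw [one_smul] at hp e1
  rw [mul_zero, zero_smul, h.x_zero] at p2
  rw [zero_smul, add_zero] at e1
  exact ⟨p, α, ⟨hp, co, p2⟩, e1⟩

theorem exists_iv {a : V} (k : Ln P e a) : ∃ p, Iv C φ t e a p := by
  obtain ⟨u, c, k1⟩ := h.exists_cf k
  obtain ⟨p', hp'⟩ := h.mv u a k1.ln
  by_cases hs : Small F
  · obtain ⟨p, α, β, hp, co, p2, -⟩ := h.n0 k1 hp' one_ne_zero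
    rw [one_smul] at hp
    rcases hs β with rfl | rfl
    · rw [mul_zero, zero_smul, h.x_zero] at p2
      exact ⟨p, hp, co, p2⟩
    · rw [mul_one, one_smul] at p2
      refine ⟨p * t, ⟨mul_mem hp.cY (centralizer_le h.Y_le_L h.tC), ?_⟩, co.mul CO.self, ?_⟩
      · rw [← hp.pt]; group
      · calc p * t * (p * t) = p * t * p⁻¹ * (p * p) * t := by group
          _ = 1 := by rw [hp.pt, p2, mul_assoc t, h.x_sq k.perp, mul_one, h.t2]
  · obtain ⟨p, -, hp, -⟩ := h.n0_big hs k1 hp'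
    exact ⟨p, hp⟩

theorem ma1_big (hs : ¬ Small F) : MA1 C φ t := by
  refine ⟨h.toSit, h.two', fun e a k => h.exists_iv k, fun e u v c p' k hp' => ?_⟩
  have := h.n0_big hs k hp'.toP0
  rwa [inv_eq_of_mul_eq_one_right hp'.sq] at this

theorem fus1 : Fus1 φ.range t := by
  obtain ⟨e, he⟩ := h.exists_ne0
  obtain ⟨a, k⟩ := h.exists_ln he
  obtain ⟨p, hp⟩ := h.mv e a k
  exact ⟨x C φ e a, ⟨_, rfl⟩, h.x_sq k.perp,
    fun e2 => one_ne_zero ((h.x_eq_one k (c := 1)).1 (by rw [one_smul]; exact e2)), p,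
    hp.comm (h.she_xY' k.perp), hp.pt⟩

end MA0

end CfsgLib.SPC
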