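import Cfsg.Agent.Lib.SPC.MzB
import Cfsg.Agent.Lib.SPC.ShE

/-! Type C: an element centralising Y_e and the w e a -/

set_option autoImplicit false
set_option linter.unusedSectionVars false

namespace CfsgLib.SPC

open Subgroup Module CfsgLib.Forms CfsgLib.LieMult
open CfsgLib.HX (Std CO Two Mv M2)
open CfsgLib.UN (AV SI TI HH Rad Stb Yg Rg Eg Act nu)
open CfsgLib.ClSys (II)
open Submodule (span)
open scoped commutatorElement Pointwise

universe u

variable {F : Type} [Field F] [Finite F] {V : Type} [AddCommGroup V] [Module F V]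
  [FiniteDimensional F V] {P : PQ (RingHom.id F) V} {S : Type} [Group S] [Finite S] {G : Type u}
  [Group G] [Finite G] {C : CG P S} {φ : S →* G} {t : G}

namespace HW

variable {w : V → V → G} {δ : F} (h : HW C φ t w 1 δ) {e : V} {p : G}
include h

theorem iv {a : V} (k : P.B e a = 0) : Iv C φ t e a (w e a) :=
  ⟨⟨(h.mv e a k).cY, (h.mv e a k).pt⟩, (h.mv e a k).co, h.sq e a k⟩

theorem caa_dep (e : V) (μ : F) : w e (μ • e) = z C φ e μ := by
  have h1 := h.add e 0 0 (by simp) (by simp) (by simp)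
  have h2 := h.shift e 0 μ (by simp)
  rw [add_zero, left_eq_mul] at h1
  rwa [zero_add, h1, one_mul, one_mul] at h2

theorem caa_τ (h0 : e ≠ 0) (hp : Pz0 C φ t e p) {a : V} (k : P.B e a = 0) (c : F) :
    p * τ C φ e a c * p⁻¹ = τ C φ e a c :=
  mul_inv_eq_of_eq_mul (hp.cQ _ ((h.mem_Q h0).2 ⟨a, c, k, rfl⟩)).symm

theorem caa_z (h0 : e ≠ 0) (hp : Pz0 C φ t e p) (c : F) : p * z C φ e c * p⁻¹ = z C φ e c :=
  h.caa_τ h0 hp (by simp) c

theorem caa_wτ {a b : V} (k : P.B e a = 0) (k' : P.B e b = 0) (c : F) :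
    τ C φ e b c * w e a = w e a * τ C φ e b (c + P.B a b) := by
  rw [← one_mul (P.B a b), ← h.wQ e a b c k k', ← mul_assoc, ← mul_assoc, h.sq e a k, one_mul]

theorem caa_one (hp : Pz0 C φ t e p) {a : V} (k : Ln P e a) : ∃ ν ζ : F,
    p * w e a * p⁻¹ = w e a * τ C φ e (ν • a) ζ := by
  have h0 := k.ne
  have ea := k.perp
  have ae := (h.B_comm a e).trans ea
  have ww := h.sq e a ea
  have wi := inv_eq_of_mul_eq_one_right ww
  have p1 := h.pz1_of hp
  have he : e ∈ P.perp (span F {e, a}) := CG.mem_perp_pair.2 ⟨h.B_self e, ae⟩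
  have nY : p ∈ normalizer (Yg C φ (span F {e, a}) : Set G) := Tech.mem_normalizer_of_forall (by
    rintro _ ⟨s, hs, rfl⟩
    refine h.fix_gen (h.ti_pair ea)
      (H := ((Yg C φ (span F {e, a})).comap (MulAut.conj p).toMonoidHom).comap φ) (fun v hv r => ?_) hs
    have ev := (CG.mem_perp_pair.1 hv).1
    obtain ⟨l, c, e1⟩ := h.zv h0 p1 ev r
    change p * z C φ v r * p⁻¹ ∈ Yg C φ _
    rw [e1]
    exact mul_mem (h.τ_mem_Y (by simp) hv (zero_mem _) r)
      (h.τ_mem_Y (by simp [ev]) he (Submodule.smul_mem _ _ hv) c))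
  have hz := h.caa_z h0 hp 1
  obtain ⟨ε, hε, e1⟩ := h.iv_uniq h.two' k (h.iv ea) (p' := p * w e a * p⁻¹)
    ⟨⟨Tech.conj_mem_of_mem_normalizer (loc_ncent nY) (h.mv e a ea).cY, by
      have h1 : p⁻¹ * t * p = t * z C φ e 1 := by
        calc _ = p⁻¹ * (t * z C φ e 1 * z C φ e 1) * p := by rw [mul_assoc t, h.z_sq, mul_one]
          _ = p⁻¹ * (p * t * p⁻¹ * (p * z C φ e 1 * p⁻¹)) * p := by rw [hp.pt, hz]
          _ = _ := by group
      have h2 : w e a * z C φ e 1 * (w e a)⁻¹ = z C φ e 1 := by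
        have := h.wQ e a 0 1 ea (by simp)
        rw [wi]; rwa [map_zero, mul_zero, add_zero] at this
      calc _ = p * (w e a * (p⁻¹ * t * p) * (w e a)⁻¹) * p⁻¹ := by group
        _ = _ := by
          rw [h1, ← conj_mul (b := w e a), (h.mv e a ea).pt, h2, ← conj_mul, ← conj_mul, hp.pt, hz,
            show p * x C φ e a * p⁻¹ = x C φ e a from h.caa_τ h0 hp ea 0, mul_assoc, mul_assoc,
            show x C φ e a * z C φ e 1 = z C φ e 1 * x C φ e a from h.τ_comm ea (by simp) 0 1,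
            ← mul_assoc (z C φ e 1), h.z_sq, one_mul]⟩,
    fun o h1 h2 h3 => by
      obtain ⟨a1, a2⟩ := h.nO (h.ti_pt e) (inv_mem p1.nY) h1 h2 h3
      have := (h.mv e a ea).co _ a1 a2 (by rwa [← (MulAut.conj p⁻¹).orderOf_eq] at h3)
      calc _ = p * (w e a * (p⁻¹ * o * p⁻¹⁻¹)) * p⁻¹ := by group
        _ = _ := by rw [this]; group,
    by rw [conj_mul, ww]; simp⟩
  obtain ⟨r, ν, r', rfl⟩ := (h.mem_El k).1 hε
  obtain ⟨f, b, kk⟩ := h.hh_of_ln k
  have h1 : z C φ e r * x C φ e (ν • a) = τ C φ e (ν • a) r := by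
    rw [h.τ_eq (by simp [ea])]; exact h.τ_comm (by simp) (by simp [ea]) r 0
  have h2 : Commute (z C φ a r') (τ C φ e b 0) := by
    have h3 : p * w e a * p⁻¹ * τ C φ e b 0 = τ C φ e b (0 + P.B a b) * (p * w e a * p⁻¹) := by
      nth_rw 1 [← h.caa_τ h0 hp kk.ef 0, ← h.caa_τ h0 hp kk.ef (0 + P.B a b)]
      rw [conj_mul, conj_mul, h.caa_wτ ea kk.ef, add_assoc, h.add_self, add_zero]
    rw [e1, ← mul_assoc (τ C φ e b _), h.caa_wτ ea kk.ef, add_assoc, h.add_self, add_zero, mul_assoc, mul_assoc,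
      mul_assoc (w e a), mul_right_inj, h1, ← mul_assoc (τ C φ e b 0),
      (h.τ_comm kk.ef (by simp [ea]) 0 r).eq, mul_assoc, mul_right_inj] at h3
    exact h3
  obtain rfl : r' = 0 := by
    by_contra r0
    have h3 := h.fix_of_comm r0 (s := C.T e b 0) (p := a) (h.inj (by rw [map_mul, map_mul]; exact h2.symm))
    rw [h.x_app kk.ef, ea, (h.B_comm b a).trans kk.h₂.ef] at h3
    exact h0 (by simpa using h3)
  exact ⟨ν, r, by rw [e1, h.z_zero, mul_one, h1]⟩

theorem caa_add (h0 : e ≠ 0) (hp : Pz0 C φ t e p) {a b a' b' : V} {ζ ζ' : F} (k : P.B e a = 0)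
    (k' : P.B e b = 0) (l : P.B e a' = 0) (l' : P.B e b' = 0)
    (h1 : p * w e a * p⁻¹ = w e a * τ C φ e a' ζ) (h2 : p * w e b * p⁻¹ = w e b * τ C φ e b' ζ') :
    p * w e (a + b) * p⁻¹ = w e (a + b) * τ C φ e (a' + b') (ζ + P.B b a' + ζ' + P.B a' b') := by
  have e1 : w e (a + b) = w e a * w e b * z C φ e (δ * P.B a b) := by
    rw [h.del rfl e a b k k', mul_assoc, h.z_sq, mul_one]
  rw [e1, ← conj_mul, ← conj_mul, h1, h2, h.caa_z h0 hp, ← h.τ_mul l l', mul_assoc (w e a),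
    ← mul_assoc (τ C φ e a' ζ), h.caa_wτ k' l, mul_assoc (w e a * _) (z C φ e _),
    (show Commute (z C φ e (δ * P.B a b)) _ from (h.τ_comm (by simp) l _ _).mul_right
      (h.τ_comm (by simp) l' _ _)).eq]
  simp only [mul_assoc]

theorem ca_w (h0 : e ≠ 0) (hp : Pz0 C φ t e p) : ∃ (η : F) (ζ : V → F), ∀ a, P.B e a = 0 →
    p * w e a * p⁻¹ = w e a * τ C φ e (η • a) (ζ a) := by
  have key : ∀ {a b : V} {ν ν' ζ ζ' : F}, Ln P e a → b ∉ span F {e, a} → P.B e b = 0 →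
      p * w e a * p⁻¹ = w e a * τ C φ e (ν • a) ζ → p * w e b * p⁻¹ = w e b * τ C φ e (ν' • b) ζ' → ν = ν' :=
    fun {a b ν ν' ζ ζ'} k hb eb h1 h2 => by
    have ea := k.perp
    have he : span F {e} ≤ span F {e, a} := Submodule.span_mono (by simp)
    have ha : a ∈ span F {e, a} := Submodule.subset_span (by simp)
    obtain ⟨μ, ξ, h3⟩ := h.caa_one hp (a := a + b)
      ⟨h0, fun hm => hb ((Submodule.add_mem_iff_right _ ha).1 (he hm)), by simp [ea, eb]⟩
    rw [h.caa_add h0 hp ea eb (by simp [ea]) (by simp [eb]) h1 h2, mul_right_inj,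
      h.τ_eq_iff h0 (by simp [ea, eb]) (by simp [ea, eb])] at h3
    have h4 : ν • a + ν' • b + μ • (a + b) = (ν + μ) • a + (ν' + μ) • b := by module
    rw [h4] at h3
    have h5 : ν' + μ = 0 := by_contra fun f => hb ((Submodule.smul_mem_iff _ f).1
      ((Submodule.add_mem_iff_right _ (Submodule.smul_mem _ _ ha)).1 (he h3.1)))
    rw [h5, zero_smul, add_zero] at h3
    have h6 : ν + μ = 0 := by_contra fun f => k.nmem ((Submodule.smul_mem_iff _ f).1 h3.1)
    linear_combination h6 - h5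
  obtain ⟨a₀, k₀⟩ := h.exists_ln h0
  obtain ⟨η, ζ₀, H₀⟩ := h.caa_one hp k₀
  suffices H : ∀ a, ∃ ζ, P.B e a = 0 → p * w e a * p⁻¹ = w e a * τ C φ e (η • a) ζ by
    choose ζ H using H
    exact ⟨η, ζ, H⟩
  intro a
  by_cases k : Ln P e a
  · obtain ⟨ν, ζ, H⟩ := h.caa_one hp k
    refine ⟨ζ, fun _ => ?_⟩
    by_cases ha : a ∈ span F {e, a₀}
    · obtain ⟨u, c, kc⟩ := h.exists_cf k₀
      obtain ⟨-, l, -, hu⟩ := h.cf_ln kc
      obtain ⟨ν', ζ', H'⟩ := h.caa_one hp l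
      rwa [key k₀ hu kc.eu H₀ H', ← key k (fun hm => hu (Submodule.span_le.2 (by
        rintro _ (rfl | rfl)
        exacts [Submodule.subset_span (by simp), ha]) hm)) kc.eu H H']
    · rwa [key k₀ ha k.perp H₀ H]
  · refine ⟨0, fun ea => ?_⟩
    obtain ⟨μ, rfl⟩ := Submodule.mem_span_singleton.1 (by_contra fun hn => k ⟨h0, hn, ea⟩)
    rw [h.caa_dep, h.caa_z h0 hp, smul_smul, show τ C φ e ((η * μ) • e) 0 = 1 from h.x_self e _, mul_one]

theorem ca_lin (h0 : e ≠ 0) (hp : Pz0 C φ t e p) {l c : V → F} (k : Coc C φ e p l c) {η : F} {ζ : V → F}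
    (H : ∀ a, P.B e a = 0 → p * w e a * p⁻¹ = w e a * τ C φ e (η • a) (ζ a)) :
    (η = 0 ∨ η = 1) ∧ (∃ b, P.B e b = 0 ∧ ∀ a, P.B e a = 0 → ζ a = P.B b a) ∧
      ∀ a, P.B e a = 0 → a ∉ span F {e} → l a = ζ a := by
  have add : ∀ a b, P.B e a = 0 → P.B e b = 0 → ζ (a + b) = ζ a + ζ b + (η * η + η) * P.B a b :=
    fun a b ea eb => by
    have := h.caa_add h0 hp ea eb (by simp [ea]) (by simp [eb]) (H a ea) (H b eb)
    rw [H _ (by simp [ea, eb]), mul_right_inj, h.τ_eq_iff h0 (by simp [ea, eb]) (by simp [ea, eb])] at this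
    rw [this.2]
    simp only [map_smul, LinearMap.smul_apply, smul_eq_mul, h.B_comm b a]
    ring
  have dep : ∀ a ∈ span F {e}, ζ a = 0 := fun a ha => by
    obtain ⟨μ, rfl⟩ := Submodule.mem_span_singleton.1 ha
    have := H (μ • e) (by simp [h.B_self])
    rw [h.caa_dep, h.caa_z h0 hp, left_eq_mul, h.τ_eq_one h0 (by simp [h.B_self])] at this
    exact this.2
  have tv : ∀ v a, P.B e v = 0 → v ∉ span F {e} → P.B e a = 0 →
      ζ (a + P.B v a • v) = ζ a + l v * P.B v a := fun v a ev hv ea => by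
    have ve := (h.B_comm v e).trans ev
    have e1 : z C φ v 1 * w e a * z C φ v 1 = w e (a + P.B v a • v) := by
      have := h.eqv (C.T v 0 1) e a ea
      rw [h.z_app, h.z_app, ve, ← map_inv, h.r2_inv (by simp)] at this
      simp only [mul_zero, zero_smul, add_zero, one_mul] at this
      exact this
    have l1 : P.B e (l v • v) = 0 := by simp [ev]
    have l2 : P.B e (η • a) = 0 := by simp [ea]
    have e2 : p * z C φ v 1 * p⁻¹ = τ C φ e (l v • v) (c v) * z C φ v 1 := by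
      rw [← inv_inj, conj_inv, mul_inv_rev, h.τ_inv l1, inv_eq_of_mul_eq_one_right (h.z_sq v 1), k.act v ev hv]
    have e3 := H (a + P.B v a • v) (by simp [ea, ev])
    nth_rw 1 [← e1] at e3
    rw [← conj_mul, ← conj_mul, H a ea] at e3
    nth_rw 1 [k.act v ev hv] at e3
    rw [e2, mul_assoc (z C φ v 1), ← mul_assoc (τ C φ e _ _), h.caa_wτ ea l1, mul_assoc (w e a),
      h.τ_mul l1 l2, mul_assoc (z C φ v 1), mul_assoc (w e a), ← mul_assoc (τ C φ e _ _),
      h.τ_mul (by simp [ea, ev]) l1, ← e1, mul_assoc, mul_assoc, mul_right_inj, mul_right_inj,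
      ← mul_right_inj (z C φ v 1), ← mul_assoc, ← mul_assoc, h.z_sq, one_mul,
      h.z_τ 1 (by simp [ea, ev]), ve, mul_zero, zero_smul, add_zero,
      h.τ_eq_iff h0 (by simp [ea, ev]) (by simp [ea, ev])] at e3
    rw [← e3.2]
    simp only [map_smul, map_add, LinearMap.smul_apply, LinearMap.add_apply, smul_eq_mul, h.B_comm a v,
      h.B_self]
    linear_combination (c v + l v * η * P.B v a) * h.two
  have sm : ∀ v β, P.B e v = 0 → v ∉ span F {e} → ζ (β • v) + (η * η + η) * (β * β) = l v * β :=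
    fun v β ev hv => by
    obtain ⟨f, b, kk⟩ := h.hh_of_ln ⟨h0, hv, ev⟩
    have e1 : P.B v (β • b) = β := by simp [kk.h₂.ef]
    have e2 := tv v (β • b) ev hv (by simp [kk.ef])
    rw [e1, add _ _ (by simp [kk.ef]) (by simp [ev])] at e2
    simp only [map_smul, LinearMap.smul_apply, smul_eq_mul, (h.B_comm b v).trans kk.h₂.ef] at e2
    linear_combination e2
  have one : ∀ v, P.B e v = 0 → v ∉ span F {e} → l v = ζ v + (η * η + η) := fun v ev hv => by
    simpa using (sm v 1 ev hv).symm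
  have hη : η * η + η = 0 := by
    obtain ⟨a, la⟩ := h.exists_ln h0
    obtain ⟨u, c', kc⟩ := h.exists_cf la
    obtain ⟨-, lu, -, hu⟩ := h.cf_ln kc
    have hm : u + a ∉ span F {e} := fun hm => hu ((Submodule.add_mem_iff_left _
      (Submodule.subset_span (by simp))).1 (Submodule.span_mono (t := {e, a}) (by simp) hm))
    have e1 := sm _ η (by simp [kc.eu, kc.ev]) hm
    have e2 := sm _ η kc.eu lu.nmem
    have e3 := sm _ η kc.ev la.nmem
    rw [one _ (by simp [kc.eu, kc.ev]) hm, smul_add, add _ _ (by simp [kc.eu]) (by simp [kc.ev]),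
      add _ _ kc.eu kc.ev] at e1
    rw [one _ kc.eu lu.nmem] at e2
    rw [one _ kc.ev la.nmem] at e3
    simp only [map_smul, LinearMap.smul_apply, smul_eq_mul, kc.ln.perp] at e1
    refine mul_self_eq_zero.1 ?_
    linear_combination e2 + e3 - e1 + ((η * η + η) * η) * h.two
  simp only [hη, zero_mul, add_zero] at add sm one
  refine ⟨(mul_eq_zero.1 (by linear_combination hη - η * h.two : η * (η - 1) = 0)).imp_right sub_eq_zero.1,
    ?_, one⟩
  obtain ⟨b, hb, e1⟩ := h.exists_form (h.ti_pt e) (f := ζ)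
    (fun a ha b hb => add a b (P.mem_perp_span_singleton.1 ha) (P.mem_perp_span_singleton.1 hb))
    (fun a ha β => by
      by_cases hm : a ∈ span F {e}
      · rw [dep a hm, dep _ (Submodule.smul_mem _ _ hm), mul_zero]
      · rw [sm a β (P.mem_perp_span_singleton.1 ha) hm, one a (P.mem_perp_span_singleton.1 ha) hm, mul_comm]) dep
  exact ⟨b, P.mem_perp_span_singleton.1 hb, fun a ha => e1 a (P.mem_perp_span_singleton.2 ha)⟩

theorem caa_const (h0 : e ≠ 0) {l c : V → F} (k : Coc C φ e p l c)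
    (l0 : ∀ a, P.B e a = 0 → a ∉ span F {e} → l a = 0) {u v : V} (eu : P.B e u = 0) (hu : u ∉ span F {e})
    (ev : P.B e v = 0) (hv : v ∉ span F {e}) : c u = c v := by
  have nm : ∀ {a b}, P.B e b = 0 → P.B a b ≠ 0 → a ∉ span F {e} := fun {a b} eb ab hm => by
    obtain ⟨μ, rfl⟩ := Submodule.mem_span_singleton.1 hm
    exact ab (by simp [eb])
  have key : ∀ {a b}, P.B e a = 0 → P.B e b = 0 → P.B a b ≠ 0 → c a = c b := fun {a b} ea eb ab => by
    obtain ⟨r, hr⟩ := h.exists_sqrt (P.B a b)⁻¹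
    have r0 : r ≠ 0 := by rintro rfl; exact inv_ne_zero ab (by rw [← hr, mul_zero])
    have e1 : P.B (r • (a + b)) b = r * P.B a b := by simp [h.B_self]
    have e2 : P.B e (r • (a + b)) = 0 := by simp [ea, eb]
    have e3 := e1 ▸ mul_ne_zero r0 ab
    have := (k.tv _ b e2 eb e3).2
    rwa [l0 _ e2 (nm eb e3), mul_zero, mul_zero, add_zero, e1, smul_smul, mul_right_comm, hr,
      inv_mul_cancel₀ ab, one_smul, add_comm a, ← add_assoc, h.vadd_self, zero_add] at this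
  obtain ⟨_, a, ka⟩ := h.hh_of_ln ⟨h0, hu, eu⟩
  obtain ⟨_, b, kb⟩ := h.hh_of_ln ⟨h0, hv, ev⟩
  have ua : P.B u a ≠ 0 := ka.h₂.ef ▸ one_ne_zero
  have vb : P.B v b ≠ 0 := kb.h₂.ef ▸ one_ne_zero
  by_cases h1 : P.B v a = 0
  · by_cases h2 : P.B u b = 0
    · have eab : P.B e (a + b) = 0 := by simp [ka.ef, kb.ef]
      rw [key eu eab (by simpa [h2] using ua), key ev eab (by simpa [h1] using vb)]
    · rw [key eu kb.ef h2, key ev kb.ef vb]
  · rw [key eu ka.ef ua, key ev ka.ef h1]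

theorem exists_uc (hz : MZ0 C φ t) (h0 : e ≠ 0) : ∃ p, UC C φ t w e p := by
  obtain ⟨p₀, hp₀⟩ := hz.mv e
  obtain ⟨l₀, c₀, k₀⟩ := h.coc h0 hp₀
  obtain ⟨η₀, ζ₀, H₀⟩ := h.ca_w h0 hp₀
  obtain ⟨-, ⟨b, eb, hb⟩, hl⟩ := h.ca_lin h0 hp₀ k₀ H₀
  obtain ⟨hp, k⟩ := h.coc_adj h0 hp₀ k₀ eb
  have l0 : ∀ a, P.B e a = 0 → a ∉ span F {e} → (fun v => l₀ v + P.B b v) a = 0 := fun a ea ha => by
    simp only [hl a ea ha, hb a ea, h.add_self]
  generalize x C φ e b * p₀ = p at hp k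
  generalize (fun v => l₀ v + P.B b v) = l at k l0
  generalize (fun v => c₀ v + P.B b v * P.B b v) = c at k
  obtain ⟨η, ζ, H⟩ := h.ca_w h0 hp
  obtain ⟨hη, ⟨b', eb', hb'⟩, hl'⟩ := h.ca_lin h0 hp k H
  have ζ0 : ∀ a, P.B e a = 0 → ζ a = 0 := fun a ea => by
    by_cases ha : a ∈ span F {e}
    · obtain ⟨μ, rfl⟩ := Submodule.mem_span_singleton.1 ha
      simp [hb' _ ea, h.B_comm b', eb']
    · rw [← hl' a ea ha, l0 a ea ha]
  have act : ∀ v, P.B e v = 0 → v ∉ span F {e} → p * z C φ v 1 * p⁻¹ = z C φ v 1 * z C φ e (c v) :=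
    fun v ev hv => by rw [k.act v ev hv, l0 v ev hv, zero_smul]; rfl
  have c0 : ∀ v, P.B e v = 0 → v ∉ span F {e} → c v = 0 := fun v ev hv => by
    by_cases hs : Small F
    · exact (hs (c v)).resolve_right fun f => h.exo hs h0 hp fun u eu hu => by
        rw [act u eu hu, h.caa_const h0 k l0 eu hu ev hv, f]
    obtain ⟨μ, m0, m1⟩ := h.exists_big hs
    have m2 : μ + 1 ≠ 0 := fun f => m1 (h.eq_of_add f)
    have e1 : ∀ {ν : F}, ν ≠ 0 → c (ν • v) = c v := fun n0 => h.caa_const h0 k l0 (by simp [ev])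
      (fun hm => hv ((Submodule.smul_mem_iff _ n0).1 hm)) ev hv
    have := (k.line v μ 1 ev hv m0 one_ne_zero m2).2
    rwa [e1 m2, e1 m0, e1 one_ne_zero, h.add_self] at this
  have cY : p ∈ centralizer (Yg C φ (span F {e}) : Set G) := h.cent_Y (h.ti_pt e) fun v hv r => by
    obtain ⟨s, rfl⟩ := h.exists_sqrt r
    have ev : P.B e (s • v) = 0 := by simp [P.mem_perp_span_singleton.1 hv]
    rw [← mul_one (s * s), ← h.z_smul]
    refine mul_inv_eq_iff_eq_mul.1 ?_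
    by_cases hm : s • v ∈ span F {e}
    · obtain ⟨μ, hμ⟩ := Submodule.mem_span_singleton.1 hm
      rw [← hμ, h.z_smul, h.caa_z h0 hp]
    · rw [act _ ev hm, c0 _ ev hm, h.z_zero, mul_one]
  rcases hη with rfl | rfl
  · exact ⟨p, cY, hp.pt, fun a ea => mul_inv_eq_iff_eq_mul.1 (by
      rw [H a ea, ζ0 a ea, zero_smul, show τ C φ e 0 0 = 1 from h.z_zero e, mul_one])⟩
  refine ⟨p * t, mul_mem cY fun y hy => h.tL (h.Y_le_L hy), by rw [← hp.pt]; group, fun a ea =>
    mul_inv_eq_iff_eq_mul.1 ?_⟩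
  have e1 : t * w e a * t⁻¹ = w e a * x C φ e a := by
    have e2 := (h.mv e a ea).pt
    have wi := inv_eq_of_mul_eq_one_right (h.sq e a ea)
    rw [← h.tL (g := x C φ e a) ⟨_, rfl⟩] at e2
    calc _ = w e a * (w e a * t * (w e a)⁻¹) * t⁻¹ := by rw [wi]; simp [← mul_assoc, h.sq e a ea]
      _ = _ := by rw [e2]; group
  calc _ = p * (t * w e a * t⁻¹) * p⁻¹ := by group
    _ = _ := by
      rw [e1, ← conj_mul, H a ea, ζ0 a ea, one_smul, mul_assoc,
        show p * x C φ e a * p⁻¹ = τ C φ e a 0 from h.caa_τ h0 hp ea 0, h.τ_sq ea, mul_one]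

end HW

end CfsgLib.SPC
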