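import Cfsg.Agent.Lib.SPC.CaA

/-! Type C: the family u -/

set_option autoImplicit false
set_option linter.unusedSectionVars false

namespace CfsgLib.SPC

open Subgroup Module CfsgLib.Forms CfsgLib.LieMult
open CfsgLib.HX (Std CO Two Mv M2)
open CfsgLib.UN (AV SI TI HH Rad Stb Yg Rg Eg Act nu)
open CfsgLib.ClSys (II)
open Submodule (span)
open scoped commutatorElement Pointwise

universe u

variable {F : Type} [Field F] [Finite F] {V : Type} [AddCommGroup V] [Module F V]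
  [FiniteDimensional F V] {P : PQ (RingHom.id F) V} {S : Type} [Group S] [Finite S] {G : Type u}
  [Group G] [Finite G] {C : CG P S} {φ : S →* G} {t : G}

theorem Emb.cb_Y1 (h : Emb C φ) {e p a : V} (k : P.B p a = 0) (h1 : P.B e p = 0) (h2 : P.B e a = 0)
    (c : F) : τ C φ p a c ∈ Yg C φ (span F {e}) :=
  h.τ_mem_Y k (h.mem_perp_span.2 (by rintro _ rfl; exact h1))
    (h.mem_perp_span.2 (by rintro _ rfl; exact h2)) c

theorem Emb.cb_z1 (h : Emb C φ) {e p : V} (h1 : P.B e p = 0) (c : F) :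
    z C φ p c ∈ Yg C φ (span F {e}) := h.cb_Y1 (map_zero _) h1 (map_zero _) c

theorem Emb.cb_perp2 (h : Emb C φ) {e a p : V} (h1 : P.B e p = 0) (h2 : P.B a p = 0) :
    p ∈ P.perp (span F {e, a}) :=
  h.mem_perp_span.2 (by rintro _ (rfl | rfl); exacts [h1, h2])

theorem Emb.cb_z2 (h : Emb C φ) {e a p : V} (h1 : P.B e p = 0) (h2 : P.B a p = 0) (c : F) :
    z C φ p c ∈ Yg C φ (span F {e, a}) :=
  h.τ_mem_Y (map_zero _) (h.cb_perp2 h1 h2) (zero_mem _) c

theorem cb_cent {g g' t y : G} (h1 : g * t * g⁻¹ = y) (h2 : g' * t * g'⁻¹ = y) :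
    g⁻¹ * g' * t = t * (g⁻¹ * g') := by
  calc _ = g⁻¹ * (g' * t * g'⁻¹) * g' := by group
    _ = _ := by rw [h2, ← h1]; group

theorem cb_inv {g t y : G} (h1 : g * t * g⁻¹ = t * y) (h2 : y * g = g * y) (h3 : y * y = 1) :
    g⁻¹ * t * g = t * y := by
  have : g * (t * y) * g⁻¹ = t := by
    calc _ = g * t * g⁻¹ * (g * y * g⁻¹) := by group
      _ = t * (y * y) := by rw [h1, ← h2]; group
      _ = t := by rw [h3, mul_one]
  calc _ = g⁻¹ * (g * (t * y) * g⁻¹) * g := by rw [this]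
    _ = _ := by group

theorem cb_comm {p W ε X : G} (e1 : p * W * p⁻¹ = W * ε) (c1 : Commute W ε) (ε2 : ε * ε = 1)
    (hX : Commute p X) (hX' : Commute p (W * X * W)) : Commute ε X := by
  have e2 : W * (ε * X * ε) * W = W * X * W := by
    calc _ = W * ε * X * (ε * W) := by group
      _ = p * W * p⁻¹ * (p * X * p⁻¹) * (p * W * p⁻¹) := by
        rw [← c1.eq, e1, hX.eq, mul_inv_cancel_right]
      _ = p * (W * X * W) * p⁻¹ := by group
      _ = _ := by rw [hX'.eq, mul_inv_cancel_right]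
  have e3 : ε * X * ε = X := mul_left_cancel (mul_right_cancel e2)
  calc ε * X = ε * X * (ε * ε) := by rw [ε2, mul_one]
    _ = X * ε := by rw [← mul_assoc, e3]

theorem Emb.cb_m (h : Emb C φ) {e a b m : V} {r : F} (h0 : e ≠ 0) (h1 : P.B e a = 0)
    (h2 : P.B e b = 0) (h3 : P.B a b = 0) (hm : P.B e m = 0) (ha : a ∉ span F {e})
    (hb : b ∉ span F {e, a})
    (H : ∀ f, P.B a f = 0 → P.B e f = 0 → Commute (τ C φ e m r) (x C φ a f)) :
    m ∈ span F {e, a} := by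
  have K : ∀ f, P.B a f = 0 → P.B e f = 0 → P.B f m • a + P.B a m • f ∈ span F {e} := by
    intro f f1 f2
    have e1 := h.x_τ f1 hm r
    rw [← (H f f1 f2).eq, mul_assoc, h.x_sq f1, mul_one, h.B_comm f e, f2, h.B_comm a e, h1,
      zero_smul, zero_smul, add_zero, add_zero] at e1
    have e2 := ((h.τ_eq_iff h0 hm (by
      rw [map_add, map_add, map_smul, map_smul, hm, h1, f2]; simp)).1 e1).1
    rwa [add_assoc m, ← add_assoc m, h.vadd_self, zero_add] at e2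
  have am : P.B a m = 0 := by
    by_contra k
    apply hb
    have e1 : P.B b m • a + P.B a m • b ∈ span F {e, a} :=
      Submodule.span_mono (by simp) (K b h3 h2)
    rw [Submodule.add_mem_iff_right _ (Submodule.smul_mem _ _ (Submodule.subset_span (by simp)))]
      at e1
    exact (Submodule.smul_mem_iff _ k).1 e1
  refine h.loc_mem _ fun f hf => ?_
  rw [h.mem_perp_span] at hf
  have e1 := K f (hf a (by simp)) (hf e (by simp))
  rw [am, zero_smul, add_zero] at e1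
  by_contra k
  exact ha ((Submodule.smul_mem_iff _ k).1 e1)

namespace HW

variable {w : V → V → G} {δ : F} (h : HW C φ t w 1 δ) {e : V} {p : G}
include h

theorem uc_conj (hp : UC C φ t w e p) (l : S) : UC C φ t w (C.act l e) (φ l * p * (φ l)⁻¹) := by
  refine ⟨fun y hy => ?_, ?_, fun a ha => ?_⟩
  · have e1 : ∀ v, C.act l v ∈ span F {C.act l e} ↔ v ∈ span F {e} := fun v => by
      simp only [Submodule.mem_span_singleton, ← map_smul, EmbeddingLike.apply_eq_iff_eq]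
    have e2 := hp.cY _ ((h.conj_Y (g := (φ l)⁻¹ * y * φ l) l e1).1.1 (by
      rw [show φ l * ((φ l)⁻¹ * y * φ l) * (φ l)⁻¹ = y by group]; exact hy))
    calc _ = φ l * ((φ l)⁻¹ * y * φ l * p) * (φ l)⁻¹ := by group
      _ = _ := by rw [e2]; group
  · have e1 : (φ l)⁻¹ * t * φ l = t := by rw [mul_assoc, ← h.tl, inv_mul_cancel_left]
    calc _ = φ l * (p * ((φ l)⁻¹ * t * φ l) * p⁻¹) * (φ l)⁻¹ := by group
      _ = φ l * t * (φ l)⁻¹ * (φ l * z C φ e 1 * (φ l)⁻¹) := by rw [e1, hp.pt]; group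
      _ = _ := by rw [h.z_conj, h.tl, mul_inv_cancel_right]
  · have e1 : P.B e (C.act l⁻¹ a) = 0 := by rw [← C.B_act_left, ha]
    have e2 := h.eqv l e _ e1
    rw [C.apply_inv] at e2
    rw [← e2]
    exact (hp.cw _ e1).conj _

theorem cb_w0 (a : V) : w a 0 = 1 := by
  have := h.add a 0 0 (map_zero _) (map_zero _) (map_zero _)
  rwa [h.sq a 0 (map_zero _), add_zero] at this

theorem uc_mul (hp : UC C φ t w e p) {o : G} (h1 : o ∈ centralizer (φ.range : Set G))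
    (h2 : o * t = t * o) (h3 : Odd (orderOf o)) : UC C φ t w e (p * o) := by
  refine ⟨mul_mem hp.cY fun y hy => h1 _ (h.Y_le_L hy), ?_, fun a ha =>
    (hp.cw a ha).mul_left ((h.mv e a ha).co o h1 h2 h3).symm⟩
  rw [← hp.pt, mul_assoc p, h2]; group

theorem uc_nY (hp : UC C φ t w e p) :
    p ∈ normalizer ((Yg C φ (span F {e}) ⊔ zpowers t : Subgroup G) : Set G) :=
  (h.toSit.pz1_of ⟨fun y hy => hp.cY _ (h.R_le_Y hy), centralizer_le_normalizer _ hp.cY, hp.pt⟩).nY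

theorem uc_co0 (hz : MZ0 C φ t) (h0 : e ≠ 0) : ∃ p, UC C φ t w e p ∧ CO φ.range t p := by
  obtain ⟨p, hp⟩ := h.exists_uc hz h0
  obtain ⟨a, ln⟩ := h.exists_ln h0
  obtain ⟨f, c, k⟩ := h.hh_of_ln ln
  have ac : P.B a c = 1 := h.hp_iff.1 k.h₂
  have ae : P.B a e = 0 := by rw [h.B_comm, ln.perp]
  obtain ⟨p', hp'⟩ := h.exists_uc hz (h.ln_symm ln).ne
  have hp'' := h.uc_conj hp' (C.T e c 0)
  rw [h.x_app k.ef, h.B_comm c a, ac, ln.perp, one_smul, zero_smul, add_zero, add_comm] at hp''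
  have nco : CO φ.range t (φ (C.T e c 0) * p' * (φ (C.T e c 0))⁻¹ * p'⁻¹) := by
    have := (CO.of_mem (t := t) (H := φ.range) ⟨C.T e c 0, rfl⟩).mul
      (h.toSit.co_conj (h.ti_pt a) (h.uc_nY hp') (inv_mem ⟨C.T e c 0, rfl⟩))
    simpa only [mul_assoc] using this
  generalize φ (C.T e c 0) * p' * (φ (C.T e c 0))⁻¹ = p'' at hp'' nco
  have mv := h.mv e a ln.perp
  have t1 : p * w e a * t * (p * w e a)⁻¹ = t * z C φ e 1 * x C φ e a := by
    have e1 := hp.cY _ (h.toEmb.cb_Y1 ln.perp (h.B_self e) ln.perp 0)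
    calc _ = p * (w e a * t * (w e a)⁻¹) * p⁻¹ := by group
      _ = p * t * p⁻¹ * (p * x C φ e a * p⁻¹) := by rw [mv.pt]; group
      _ = _ := by
        rw [hp.pt]
        congr 1
        exact mul_inv_eq_iff_eq_mul.2 e1.symm
  have t2 : p'' * p'⁻¹ * t * (p'' * p'⁻¹)⁻¹ = t * z C φ e 1 * x C φ e a := by
    have e1 := cb_inv hp'.pt (hp'.cY _ (h.toEmb.cb_z1 (h.B_self a) 1)) (h.z_sq a 1)
    have e2 := hp''.cY _ (h.toEmb.cb_z1 (e := e + a) (p := a)
      (by rw [map_add, LinearMap.add_apply, ln.perp, h.B_self, add_zero]) 1)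
    have e3 : Commute (x C φ a e) (z C φ a 1) := h.τ_comm ae (map_zero _) 0 1
    calc _ = p'' * (p'⁻¹ * t * p') * p''⁻¹ := by group
      _ = p'' * t * p''⁻¹ * (p'' * z C φ a 1 * p''⁻¹) := by rw [e1]; group
      _ = t * z C φ e 1 * (z C φ a 1 * (x C φ a e * z C φ a 1)) := by
        rw [hp''.pt, ← e2, h.z_line ln.perp, one_smul, h.x_symm ln.perp]; group
      _ = _ := by rw [e3.eq, ← mul_assoc (z C φ a 1), h.z_sq, one_mul, h.x_symm ln.perp]
  have ct := cb_cent t1 t2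
  have sub : ∀ {u q}, u ∈ span F {e, a} → UC C φ t w u q →
      q ∈ centralizer (Yg C φ (span F {e, a}) : Set G) := fun hu hq y hy =>
    hq.cY _ (h.Y_anti ((Submodule.span_singleton_le_iff_mem _ _).2 hu) hy)
  have me : e ∈ span F {e, a} := Submodule.subset_span (by simp)
  have ma : a ∈ span F {e, a} := Submodule.subset_span (by simp)
  obtain ⟨ε, hε, c', hc', e1⟩ := h.cY (h.ti_pair ln.perp) (h.toSit.norm_of ct)
    (mul_mem (inv_mem (mul_mem (sub me hp) mv.cY))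
      (mul_mem (sub (add_mem me ma) hp'') (inv_mem (sub ma hp'))))
  have εL : ε ∈ φ.range := h.Y_le_L (h.R_le_Y (h.E_le_R (h.ti_pair ln.perp) hε))
  obtain ⟨o, o1, o2, o3, ho⟩ := h.toSit.dec h.two' εL hc' (e1 ▸ ct)
  obtain ⟨j, hj, rfl⟩ : ∃ j, CO φ.range t j ∧ c' = j * o :=
    ho.elim (fun e2 => ⟨1, CO.of_mem (one_mem _), by rw [e2, one_mul]⟩) fun e2 => ⟨t, CO.self, e2⟩
  have kco : CO φ.range t (w e a * ε * j) := (mv.co.mul (CO.of_mem εL)).mul hj
  refine ⟨p * o, h.uc_mul hp o1 o2 o3, ?_⟩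
  have e3 : p * o = p'' * p'⁻¹ * (w e a * ε * j)⁻¹ := by
    rw [eq_mul_inv_iff_mul_eq, mul_assoc p, ← kco o o1 o2 o3]
    calc _ = p * w e a * (ε * (j * o)) := by group
      _ = _ := by rw [← e1]; group
  rw [e3]
  exact nco.mul kco.inv

theorem uc_co (hz : MZ0 C φ t) (h0 : e ≠ 0) :
    ∃ p, ∃ ρ : F, UC C φ t w e p ∧ CO φ.range t p ∧ p * p = z C φ e ρ := by
  obtain ⟨p, hp, co⟩ := h.uc_co0 hz h0
  have zY := fun r => h.toEmb.cb_z1 (h.B_self e) r
  have ct : p * p * t = t * (p * p) := by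
    have e1 := cb_cent (g := p⁻¹) (g' := p) (t := t)
      (by rw [inv_inv]; exact cb_inv hp.pt (hp.cY _ (zY 1)) (h.z_sq e 1)) hp.pt
    rwa [inv_inv] at e1
  obtain ⟨ε, hε, c', hc', e1⟩ := h.cY (h.ti_pt e) (h.toSit.norm_of ct) (mul_mem hp.cY hp.cY)
  obtain ⟨ρ, rfl⟩ := h.mem_Z.1 hε
  have εL : z C φ e ρ ∈ φ.range := ⟨_, rfl⟩
  obtain ⟨o, o1, o2, o3, ho⟩ := h.toSit.dec h.two' εL hc' (e1 ▸ ct)
  rcases ho with rfl | rfl
  · obtain ⟨k, hk⟩ := o3
    have oc : CO φ.range t c' := by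
      have : c' = (z C φ e ρ)⁻¹ * (p * p) := by rw [e1, inv_mul_cancel_left]
      rw [this]
      exact (CO.of_mem εL).inv.mul (co.mul co)
    have k2 : c' ^ k * t = t * c' ^ k := (show Commute c' t from o2).pow_left k
    have k3 : Odd (orderOf (c' ^ k)) := Odd.of_dvd_nat ⟨k, hk⟩ (orderOf_pow_dvd k)
    refine ⟨p * c' ^ k, ρ, h.uc_mul hp (pow_mem o1 k) k2 k3, co.mul fun o a1 a2 a3 =>
      (show Commute c' o from oc o a1 a2 a3).pow_left k, ?_⟩
    have e2 := co _ (pow_mem o1 k) k2 k3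
    calc _ = p * (c' ^ k * p) * c' ^ k := by group
      _ = p * p * c' ^ (2 * k) := by rw [← e2, two_mul, pow_add]; group
      _ = z C φ e ρ * c' ^ (2 * k + 1) := by rw [e1, pow_succ']; group
      _ = _ := by rw [← hk, pow_orderOf_eq_one, mul_one]
  · exfalso
    obtain ⟨a, ln⟩ := h.exists_ln h0
    have mv := h.mv e a ln.perp
    have c1 : Commute (p * p) (w e a) := (hp.cw a ln.perp).mul_left (hp.cw a ln.perp)
    have c2 : Commute (z C φ e ρ) (w e a) :=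
      mv.cY _ (h.toEmb.cb_z2 (h.B_self e) (by rw [h.B_comm, ln.perp]) ρ)
    have c3 : Commute o (w e a) := (mv.co o o1 o2 o3).symm
    have c4 : Commute t (w e a) := by
      have : t = (z C φ e ρ)⁻¹ * (p * p) * o⁻¹ := by rw [e1]; group
      rw [this]
      exact (c2.inv_left.mul_left c1).mul_left c3.inv_left
    have e2 := mv.pt
    rw [← c4.eq, mul_inv_cancel_right, left_eq_mul] at e2
    exact one_ne_zero ((h.x_eq_one ln (c := 1)).1 (by rwa [one_smul]))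

/-- **U-W** -/
theorem uc_w (h0 : e ≠ 0) (hp : UC C φ t w e p) (co : CO φ.range t p) {a b : V} (h1 : P.B e a = 0)
    (h2 : P.B e b = 0) (h3 : P.B a b = 0) : Commute p (w a b) := by
  have pY : ∀ {y}, y ∈ Yg C φ (span F {e}) → Commute p y := fun hy => (hp.cY _ hy).symm
  have ae : P.B a e = 0 := by rw [h.B_comm, h1]
  have be : P.B b e = 0 := by rw [h.B_comm, h2]
  have ba : P.B b a = 0 := by rw [h.B_comm, h3]
  by_cases ha : a ∈ span F {e}
  · obtain ⟨μ, rfl⟩ := Submodule.mem_span_singleton.1 ha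
    rw [h.smul e b μ h2]
    exact hp.cw _ (by rw [map_smul, h2, smul_zero])
  by_cases hb : b ∈ span F {e, a}
  · obtain ⟨α, β, rfl⟩ := Submodule.mem_span_pair.1 hb
    have k1 : P.B (α • e) a = 0 := by rw [h.B_smul_left, h1, mul_zero]
    rw [h.shift a _ β (by rw [map_smul, ae, smul_zero]), h.symm _ a k1, h.smul e a α h1, one_smul]
    refine ((hp.cw _ (by rw [map_smul, h1, smul_zero])).mul_right (pY ?_)).mul_right
      (pY (h.toEmb.cb_z1 h1 _))
    exact h.toEmb.cb_Y1 k1 (by rw [map_smul, h.B_self, smul_zero]) h1 0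
  have ln : Ln P a b := ⟨fun e1 => ha (e1 ▸ zero_mem _),
    fun k => hb (Submodule.span_mono (by simp) k), h3⟩
  have hb1 : b ∉ span F {e} := fun k => hb (Submodule.span_mono (by simp) k)
  have me : e ∈ span F {e, a} := Submodule.subset_span (by simp)
  have ma : a ∈ span F {e, a} := Submodule.subset_span (by simp)
  have ha1 : a ∉ span F {e, b} := by
    intro k
    obtain ⟨α, β, e1⟩ := Submodule.mem_span_pair.1 k
    have β0 : β ≠ 0 := by
      rintro rfl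
      exact ha (by rw [← e1, zero_smul, add_zero]; exact Submodule.smul_mem _ _ (by simp))
    rw [← e1, Submodule.add_mem_iff_right _ (Submodule.smul_mem _ _ (e1 ▸ me))] at ma
    rw [e1] at ma
    exact hb ((Submodule.smul_mem_iff _ β0).1 ma)
  have mv := h.mv a b h3
  have W2 := h.sq a b h3
  have Wi : (w a b)⁻¹ = w a b := inv_eq_of_mul_eq_one_right W2
  have ti : TI P (span F {e, a, b}) := ti_span.2 (by
    rintro _ (rfl | rfl | rfl) _ (rfl | rfl | rfl) <;> first | assumption | exact h.B_self _)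
  have Y1 : Yg C φ (span F {e, a, b}) ≤ Yg C φ (span F {e}) :=
    h.Y_anti (Submodule.span_mono (by simp))
  have Y2 : Yg C φ (span F {e, a, b}) ≤ Yg C φ (span F {a, b}) :=
    h.Y_anti (Submodule.span_mono (by simp))
  have cze : ∀ {b'}, P.B a b' = 0 → P.B e b' = 0 → ∀ r, z C φ e r * w a b' = w a b' * z C φ e r :=
    fun k1 k2 r => (h.mv a _ k1).cY _ (h.toEmb.cb_z2 ae (by rw [h.B_comm, k2]) r)
  -- the commutator centralises `t`
  have t1 : p * w a b * p⁻¹ * t * (p * w a b * p⁻¹)⁻¹ = t * x C φ a b := by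
    have e1 := cb_inv hp.pt (hp.cY _ (h.toEmb.cb_z1 (h.B_self e) 1)) (h.z_sq e 1)
    have e2 : Commute p (x C φ a b) := pY (h.toEmb.cb_Y1 h3 h1 h2 0)
    have e3 : Commute p (z C φ e 1) := pY (h.toEmb.cb_z1 (h.B_self e) 1)
    have e4 : x C φ a b * z C φ e 1 = z C φ e 1 * x C φ a b :=
      h.E_cent (h.ti_pt e) (h.mem_Z.2 ⟨1, rfl⟩) _ (h.toEmb.cb_Y1 h3 h1 h2 0)
    calc _ = p * (w a b * (p⁻¹ * t * p) * (w a b)⁻¹) * p⁻¹ := by group
      _ = p * (w a b * t * (w a b)⁻¹ * (w a b * z C φ e 1 * (w a b)⁻¹)) * p⁻¹ := by rw [e1]; group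
      _ = p * t * p⁻¹ * (p * (x C φ a b * z C φ e 1) * p⁻¹) := by
        rw [mv.pt, ← cze h3 h2]; group
      _ = t * (z C φ e 1 * z C φ e 1) * x C φ a b := by
        rw [hp.pt, (e2.mul_right e3).eq, e4]; group
      _ = _ := by rw [h.z_sq, mul_one]
  have ct := cb_cent mv.pt t1
  have pc : p ∈ centralizer (Yg C φ (span F {e, a, b}) : Set G) := fun y hy => hp.cY _ (Y1 hy)
  have wc : w a b ∈ centralizer (Yg C φ (span F {e, a, b}) : Set G) := fun y hy => mv.cY _ (Y2 hy)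
  obtain ⟨ε, hε, c', hc', e1⟩ := h.cY ti (h.toSit.norm_of ct)
    (mul_mem (inv_mem wc) (mul_mem (mul_mem pc wc) (inv_mem pc)))
  have εY := h.R_le_Y (h.E_le_R ti hε)
  have εL : ε ∈ φ.range := h.Y_le_L εY
  have ε2 := h.E_sq ti hε
  have cWε : Commute (w a b) ε := (wc _ εY).symm
  have e2 : p * w a b * p⁻¹ = w a b * ε * c' := by rw [mul_assoc _ ε, ← e1]; group
  have c1 : c' = 1 := h.toSit.kill h.two' mv.pt ⟨_, rfl⟩
    (fun k => one_ne_zero ((h.x_eq_one ln (c := 1)).1 (by rwa [one_smul]))) mv.co W2 εL ε2 cWε hc'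
    (h.toSit.ct_of εL (e1 ▸ ct)) (by rw [← e2, conj_mul, W2]; group)
  rw [c1, mul_one] at e2
  -- `ε ∈ Q_e`
  have hQ : ε ∈ centralizer (Rg C φ (span F {e}) : Set G) := by
    intro y hy
    obtain ⟨c, d, hc, rfl⟩ := (h.mem_Q h0).1 hy
    rw [h.τ_eq hc]
    have k1 : Commute ε (z C φ e d) :=
      (h.E_cent ti hε _ (h.R_le_Y (h.E_le_R ti (h.E_mono (Submodule.span_mono (by simp))
        (h.mem_Z.2 ⟨d, rfl⟩))))).symm
    have k2 : Commute p (x C φ e c) := pY (h.toEmb.cb_Y1 hc (h.B_self e) hc 0)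
    refine ((cb_comm e2 cWε ε2 k2 ?_).mul_right k1).symm
    rw [h.cx a b e c h3 h1 h2 hc]
    have k3 : P.B e ((1 * P.B c b) • a) = 0 := by rw [map_smul, h1, smul_zero]
    exact ((k2.mul_right (hp.cw _ (by rw [map_add, map_smul, map_smul, h1, h2]; simp))).mul_right
      (pY (h.toEmb.cb_Y1 k3 (h.B_self e) k3 0))).mul_right (pY (h.toEmb.cb_z1 (h.B_self e) _))
  obtain ⟨ε', hε', c'', hc'', e3⟩ := h.cQ h0 (le_normalizer εL) hQ
  obtain ⟨m, r, hm, rfl⟩ := (h.mem_Q h0).1 hε'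
  obtain rfl : ε = τ C φ e m r :=
    (h.dec_inj εL ⟨_, rfl⟩ (one_mem _) hc'' ((mul_one ε).trans e3)).1
  have m1 : m ∈ span F {e, a} := h.toEmb.cb_m h0 h1 h2 h3 hm ha hb fun f f1 f2 =>
    cb_comm e2 cWε ε2 (pY (h.toEmb.cb_Y1 f1 h1 f2 0)) (by
      have := h.wQ a b f 0 h3 f1
      change w a b * x C φ a f * w a b = _ at this
      rw [this]
      exact pY (h.toEmb.cb_Y1 f1 h1 f2 _))
  have m2 : m ∈ span F {e, b} := h.toEmb.cb_m h0 h2 h1 ba hm hb1 ha1 fun f f1 f2 =>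
    cb_comm e2 cWε ε2 (pY (h.toEmb.cb_Y1 f1 h2 f2 0)) (by
      have k1 : P.B b (a + f) = 0 := by rw [map_add, ba, f1, add_zero]
      have k2 := h.wQ b a (a + f) (0 + 0 + P.B a f) ba k1
      have k3 : x C φ b a * x C φ b f = _ := h.τ_mul ba f1 0 0
      rw [h.symm b a ba, one_smul, mul_assoc (w b a), k3, ← mul_assoc, k2]
      exact (pY (h.toEmb.cb_Y1 k1 h2 (by rw [map_add, h1, f2, add_zero]) _)).mul_right
        (pY (h.toEmb.cb_Y1 ba h2 h1 0)))
  obtain ⟨α, β, rfl⟩ := Submodule.mem_span_pair.1 m2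
  obtain rfl : β = 0 := by
    by_contra β0
    rw [Submodule.add_mem_iff_right _ (Submodule.smul_mem _ _ me)] at m1
    exact hb ((Submodule.smul_mem_iff _ β0).1 m1)
  rw [zero_smul, add_comm, h.τ_shift (map_zero _)] at e2
  change _ = _ * z C φ e r at e2
  -- `r = 0`
  have step : ∀ b', P.B e b' = 0 → P.B a b' = 0 → b' ∉ span F {e, a} →
      p * w a b' * p⁻¹ = w a b' * z C φ e r := by
    intro b' k1 k2 k3
    obtain ⟨s, hs, rfl⟩ := h.trans_Y (h.ti_pair h1) (h.toEmb.cb_perp2 h2 h3)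
      (h.toEmb.cb_perp2 k1 k2) hb k3
    obtain ⟨s1, s2⟩ := mem_fix_pair.1 hs
    have q1 := h.eqv s a b h3
    have q2 := h.z_conj s e r
    have q3 : Commute p (φ s) := pY ⟨s, mem_fix_pt.2 s1, rfl⟩
    rw [s2] at q1
    rw [s1] at q2
    rw [← q1, ← q2, conj_mul, ← e2]
    calc _ = p * φ s * w a b * (p * φ s)⁻¹ := by group
      _ = _ := by rw [q3.eq]; group
  obtain ⟨b', k0, k3⟩ : ∃ b' ∈ P.perp (span F {e, a}), P.B b' b ≠ 0 := by
    by_contra hc
    push Not at hc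
    exact hb (h.loc_mem _ hc)
  have k1 := h.mem_perp_span.1 k0 e (by simp)
  have k2 := h.mem_perp_span.1 k0 a (by simp)
  have nm : ∀ {u v}, P.B e v = 0 → P.B a v = 0 → P.B u v ≠ 0 → u ∉ span F {e, a} := by
    intro u v q1 q2 q3 q4
    obtain ⟨α, β, rfl⟩ := Submodule.mem_span_pair.1 q4
    exact q3 (by rw [map_add, LinearMap.add_apply, h.B_smul_left, h.B_smul_left, q1, q2]; simp)
  have s1 := step b' k1 k2 (nm h2 h3 k3)
  have s2 := step (b + b') (by rw [map_add, h2, k1, add_zero]) (by rw [map_add, h3, k2, add_zero])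
    (nm h2 h3 (by rwa [map_add, LinearMap.add_apply, h.B_self, zero_add]))
  have d := h.del rfl a b b' h3 k2
  have q1 : Commute p (z C φ a (δ * P.B b b')) := pY (h.toEmb.cb_z1 h1 _)
  have q2 := (h.z_comm h1 r (δ * P.B b b')).eq
  have q3 : w a b * w a b' = w a b * w a b' * z C φ e r := by
    calc _ = w a b * w a b' * (z C φ e r * z C φ e r) := by rw [h.z_sq, mul_one]
      _ = w a b * z C φ e r * (w a b' * z C φ e r) := by
        rw [mul_assoc (w a b) (z C φ e r), ← mul_assoc (z C φ e r), cze k2 k1]; group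
      _ = p * (w a b * w a b') * p⁻¹ := by rw [← e2, ← s1]; group
      _ = p * w a (b + b') * p⁻¹ * (p * z C φ a (δ * P.B b b') * p⁻¹) := by rw [d]; group
      _ = _ := by rw [s2, q1.eq, mul_inv_cancel_right, mul_assoc, q2, ← mul_assoc, ← d]
  rw [left_eq_mul.1 q3, mul_one] at e2
  exact mul_inv_eq_iff_eq_mul.1 e2

theorem hc1 (hz : MZ0 C φ t) : ∃ u ρ, HC1 C φ t w u δ ρ := by
  classical
  obtain ⟨e₀, h0⟩ := h.exists_ne0
  obtain ⟨p, ρ, hp, co, sq⟩ := h.uc_co hz h0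
  have ex : ∀ e : V, ∃ q : G, (e = 0 → q = 1) ∧
      ∀ l, C.act l e₀ = e → q = φ l * p * (φ l)⁻¹ := by
    intro e
    by_cases he : e = 0
    · refine ⟨1, fun _ => rfl, fun l hl => (h0 ?_).elim⟩
      rw [he] at hl
      exact (C.act l).map_eq_zero_iff.1 hl
    · obtain ⟨s, hs⟩ := h.trans h0 he
      refine ⟨φ s * p * (φ s)⁻¹, fun k => (he k).elim, fun l hl => ?_⟩
      have e1 := hp.cY (φ (l⁻¹ * s)) ⟨_, mem_fix_pt.2 (by
        rw [C.mul_apply, hs, C.inv_apply_eq hl]), rfl⟩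
      rw [map_mul, map_inv] at e1
      calc _ = φ l * ((φ l)⁻¹ * φ s * p) * (φ s)⁻¹ := by group
        _ = _ := by rw [e1]; group
  choose u u0 u1 using ex
  have cs : ∀ e, (e = 0 ∧ u e = 1) ∨ ∃ l, C.act l e₀ = e ∧ e ≠ 0 ∧ u e = φ l * p * (φ l)⁻¹ := by
    intro e
    by_cases he : e = 0
    · exact .inl ⟨he, u0 e he⟩
    · obtain ⟨s, hs⟩ := h.trans h0 he
      exact .inr ⟨s, hs, he, u1 e s hs⟩
  refine ⟨u, ρ, h, fun e => ?_, fun e => ?_, u0 0 rfl, fun l e => ?_, fun e a b h1 h2 h3 => ?_⟩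
  · rcases cs e with ⟨rfl, k⟩ | ⟨l, rfl, -, k⟩ <;> rw [k]
    · exact ⟨one_mem _, by rw [h.z_zero']; simp, CO.of_mem (one_mem _)⟩
    · exact ⟨(h.uc_conj hp l).cY, (h.uc_conj hp l).pt, h.toSit.co_conj' (h.tl l) co⟩
  · rcases cs e with ⟨rfl, k⟩ | ⟨l, rfl, -, k⟩ <;> rw [k]
    · rw [h.z_zero', mul_one]
    · rw [conj_mul, sq, h.z_conj]
  · rcases cs e with ⟨rfl, k⟩ | ⟨l', rfl, -, k⟩
    · rw [map_zero, k]; simp
    · rw [k, u1 _ (l * l') (C.mul_apply _ _ _), map_mul]; group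
  · rcases cs e with ⟨rfl, k⟩ | ⟨l, rfl, k0, k⟩ <;> rw [k]
    · exact Commute.one_left _
    · exact h.uc_w k0 (h.uc_conj hp l) (h.toSit.co_conj' (h.tl l) co) h1 h2 h3

end HW

end CfsgLib.SPC
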