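import Cfsg.Agent.Lib.SPC.Max
import Cfsg.Agent.Lib.SPC.Loc

/-! The class c alone is impossible -/

set_option autoImplicit false
set_option linter.unusedSectionVars false

namespace CfsgLib.SPC

open Subgroup Module CfsgLib.Forms CfsgLib.LieMult
open CfsgLib.HX (Std CO Two Mv M2)
open CfsgLib.UN (AV SI TI HH Rad Stb Yg Rg Eg Act nu)
open CfsgLib.ClSys (II)
open Submodule (span)
open scoped commutatorElement Pointwise

universe u

variable {F : Type} [Field F] [Finite F] {V : Type} [AddCommGroup V] [Module F V]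
  [FiniteDimensional F V] {P : PQ (RingHom.id F) V} {S : Type} [Group S] [Finite S] {G : Type u}
  [Group G] [Finite G] {C : CG P S} {φ : S →* G} {t : G}

theorem Emb.cq_mem_A (h : Emb C φ) {e a : V} (k : Ln P e a) {g : G} :
    g ∈ ⁅Rg C φ (span F {e, a}), Rg C φ (span F {e, a})⁆ ↔ ∃ v : F, g = x C φ e (v • a) := by
  rw [Rg, ← map_commutator]
  constructor
  · rintro ⟨s, hs, rfl⟩
    obtain ⟨v, rfl⟩ := (h.comm_rad_line k).1 hs
    exact ⟨v, rfl⟩
  · rintro ⟨v, rfl⟩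
    exact ⟨_, (h.comm_rad_line k).2 ⟨v, rfl⟩, rfl⟩

theorem Emb.cq_nmem (_h : Emb C φ) {e a w : V} (h1 : P.B w e = 0) (h2 : P.B w a ≠ 0) :
    a ∉ span F {e} := by
  intro k
  obtain ⟨l, rfl⟩ := Submodule.mem_span_singleton.1 k
  exact h2 (by rw [P.B_smul_right, h1, mul_zero])

theorem Emb.cq_stb (_h : Emb C φ) {e u : V} {s : S} (h1 : C.act s e ∈ span F {e, u})
    (h2 : C.act s u ∈ span F {e, u}) : s ∈ Stb C (span F {e, u}) := by
  have k1 : (span F {e, u}).map (C.act s).toLinearMap ≤ span F {e, u} := by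
    rw [Submodule.map_span_le]
    rintro _ (rfl | rfl)
    · exact h1
    · exact h2
  have k2 : (span F {e, u}).map (C.act s).toLinearMap = span F {e, u} :=
    Submodule.eq_of_le_of_finrank_eq k1 (LinearEquiv.finrank_map_eq (C.act s) _)
  intro v
  refine ⟨fun hv => ?_, fun hv => k1 ⟨v, hv, rfl⟩⟩
  rw [← k2] at hv
  obtain ⟨w, hw, e1⟩ := hv
  rwa [← (C.act s).injective e1]

namespace Sit

variable (h : Sit C φ t)
include h

theorem cq_big (hs : ¬ Small F) (hc : Tc C φ t) : Tz C φ t ∨ Ta C φ t := by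
  have hE := h.toEmb
  right
  obtain ⟨e, a, k, g, hg⟩ := id hc
  have hU := h.ti_pair k.perp
  have kp := k.perp
  have me : e ∈ span F {e, a} := Submodule.subset_span (by simp)
  have ma : a ∈ span F {e, a} := Submodule.subset_span (by simp)
  obtain ⟨n, hn, e1⟩ := h.nu hU (g := g) (by
    rw [hg]
    exact mul_mem (mem_sup_right (mem_zpowers t)) (mem_sup_left
      (mul_mem (hE.τ_mem_E hU me (zero_mem _) 1) (hE.τ_mem_E hU ma (zero_mem _) 1))))
  rw [hg] at e1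
  have nA := (h.norm_R hU hn).2
  have key : ∀ v : F, ∃ v' : F, n * x C φ e (v • a) * n⁻¹ = x C φ e (v' • a) := fun v =>
    (hE.cq_mem_A k).1 ((mem_normalizer_iff.1 nA _).1 ((hE.cq_mem_A k).2 ⟨v, rfl⟩))
  have kv : ∀ v : F, P.B e (v • a) = 0 := fun v => by rw [P.B_smul_right, kp, mul_zero]
  obtain ⟨v, v', v0, v1, e2⟩ : ∃ v v' : F, v ≠ 0 ∧ v' ≠ 1 ∧
      n * x C φ e (v • a) * n⁻¹ = x C φ e (v' • a) := by
    obtain ⟨c, c0, c1⟩ := h.exists_big hs
    obtain ⟨d, hd⟩ := key 1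
    obtain ⟨d', hd'⟩ := key c
    by_cases k1 : d = 1
    · refine ⟨c, d', c0, fun k2 => c1 ?_, hd'⟩
      rw [k2, ← k1, ← hd, mul_left_inj, mul_right_inj] at hd'
      have := ((hE.τ_eq_iff k.ne (kv c) (kv 1)).1 hd').1
      rw [← add_smul] at this
      by_contra k3
      have k4 : c + 1 ≠ 0 := fun k4 => k3 (h.eq_of_add k4)
      exact k.nmem ((Submodule.smul_mem_iff _ k4).1 this)
    · exact ⟨1, d, one_ne_zero, k1, hd⟩
  have v2 : 1 + v' ≠ 0 := fun k4 => v1 (h.eq_of_add k4).symm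
  have l1 : Ln P (e + a) ((1 + v') • a) := by
    simpa using h.ln_smul (hE.loc_ln' k) one_ne_zero v2 0
  have l2 : Ln P e (v • a) := by simpa using h.ln_smul k one_ne_zero v0 0
  rw [h.ta_iff l2, InT.move e1, e2]
  have e3 : z C φ e 1 * z C φ a 1 * x C φ e (v' • a) = τ C φ (e + a) ((1 + v') • a) 1 := by
    have e4 : x C φ (e + a) ((1 + v') • a) = x C φ e ((1 + v') • a) := by
      simpa using hE.loc_x kp 1 1 0 (1 + v')
    have c1 : Commute (x C φ (e + a) ((1 + v') • a)) (z C φ (e + a) 1) :=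
      hE.τ_comm l1.perp (by simp) _ _
    rw [hE.τ_eq l1.perp, c1.eq, e4, hE.z_line kp, add_smul, hE.x_add (kv 1) (kv v')
      (by rw [h.B_smul_left, P.B_smul_right, h.B_self, mul_zero, mul_zero]), mul_assoc (_ * _),
      ← mul_assoc (x C φ e _), hE.x_sq (kv 1), one_mul]
  rw [e3]
  exact (h.tc_iff l1 one_ne_zero).1 hc

/-- `q = 2`: an element of `N(Y_l ⟨t⟩)` interchanging `t` and `t c` -/
theorem cq_swap (hs : Small F) (hc : Tc C φ t) (hz : ¬ Tz C φ t) (ha : ¬ Ta C φ t) {e u : V}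
    (k : Ln P e u) : ∃ n ∈ normalizer ((Yg C φ (span F {e, u}) ⊔ zpowers t : Subgroup G) : Set G),
      n * t * n⁻¹ = t * τ C φ e u 1 ∧ n * (t * τ C φ e u 1) * n⁻¹ = t := by
  have hE := h.toEmb
  have hU := h.ti_pair k.perp
  have kp := k.perp
  have kp' : P.B u e = 0 := by rw [h.B_comm, kp]
  have me : e ∈ span F {e, u} := Submodule.subset_span (by simp)
  have mu : u ∈ span F {e, u} := Submodule.subset_span (by simp)
  obtain ⟨g, hg⟩ := (h.tc_iff k one_ne_zero).1 hc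
  obtain ⟨n, hn, e1⟩ := h.nu hU (g := g) (by
    rw [hg]
    exact mul_mem (mem_sup_right (mem_zpowers t)) (mem_sup_left (hE.τ_mem_E hU me mu 1)))
  rw [hg] at e1
  have hEL : Eg C φ (span F {e, u}) ≤ φ.range := ((hE.E_le_R hU).trans hE.R_le_Y).trans hE.Y_le_L
  have m1 : n⁻¹ * t * n⁻¹⁻¹ ∈ Eg C φ (span F {e, u}) ⊔ zpowers t :=
    (mem_normalizer_iff.1 (h.norm_E hU (inv_mem hn)) t).1 (mem_sup_right (mem_zpowers t))
  have m2 := ((h.mem_sup_t hEL).1 m1).resolve_left (h.nzl kp n⁻¹)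
  obtain ⟨r, v, r', e2⟩ := (hE.mem_El k).1 m2
  have e3 : n⁻¹ * t * n⁻¹⁻¹ = t * (z C φ e r * x C φ e (v • u) * z C φ u r') := by
    rw [← e2, ← mul_assoc, h.t2, one_mul]
  have i1 : InT t (z C φ e r * x C φ e (v • u) * z C φ u r') := ⟨_, e3⟩
  have key : ∀ e' u' : V, Ln P e' u' → e' ∈ span F {e, u} → u' ∈ span F {e, u} →
      z C φ e r * x C φ e (v • u) * z C φ u r' = τ C φ e' u' 1 →
      ∃ n ∈ normalizer ((Yg C φ (span F {e, u}) ⊔ zpowers t : Subgroup G) : Set G),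
      n * t * n⁻¹ = t * τ C φ e u 1 ∧ n * (t * τ C φ e u 1) * n⁻¹ = t := by
    intro e' u' l he' hu' e4
    obtain ⟨s, s1, s2⟩ := h.trans_ln k l
    have hs := hE.cq_stb (s := s) (s1 ▸ he') (s2 ▸ hu')
    have c1 : φ s * t * (φ s)⁻¹ = t := by rw [h.tl, mul_inv_cancel_right]
    refine ⟨n * φ s, mul_mem hn ?_, ?_, ?_⟩
    · refine normalizer_inf_normalizer_le_normalizer_sup _ _ ⟨?_, ?_⟩
      · exact mem_normalizer_fintype fun y hy => (hE.conj_Y s hs).1.2 hy
      · refine centralizer_le_normalizer _ (mem_centralizer_iff.2 fun y hy => ?_)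
        obtain ⟨i, rfl⟩ := mem_zpowers_iff.1 hy
        exact (Commute.zpow_left (h.tl s).symm i).eq
    · rw [← e1]
      calc n * φ s * t * (n * φ s)⁻¹ = n * (φ s * t * (φ s)⁻¹) * n⁻¹ := by group
        _ = _ := by rw [c1]
    · calc n * φ s * (t * τ C φ e u 1) * (n * φ s)⁻¹
          = n * ((φ s * t * (φ s)⁻¹) * (φ s * τ C φ e u 1 * (φ s)⁻¹)) * n⁻¹ := by group
        _ = t := by rw [c1, hE.τ_conj s kp, s1, s2, ← e4, ← e3]; group
  have c1 : Commute (x C φ e u) (z C φ e 1) := hE.τ_comm kp (by simp) _ _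
  have c2 : Commute (x C φ e u) (z C φ u 1) := by
    rw [hE.x_symm kp]; exact hE.τ_comm kp' (by simp) _ _
  have k' := h.ln_symm k
  have k'' := hE.loc_ln' k
  rcases hs r with rfl | rfl <;> rcases hs v with rfl | rfl <;> rcases hs r' with rfl | rfl <;>
    simp only [hE.z_zero, zero_smul, one_smul, hE.x_zero, one_mul, mul_one] at i1 e3 key
  · exfalso
    have e5 : n * t * n⁻¹ = t := by
      conv_lhs => rw [← e3]
      group
    rw [e5, left_eq_mul, hE.τ_eq_one k.ne kp] at e1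
    exact one_ne_zero e1.2
  · exact absurd ⟨u, k'.ne, i1⟩ hz
  · exact absurd ⟨e, u, k, i1⟩ ha
  · exact key u e k' mu me (by rw [hE.τ_eq kp', hE.x_symm kp])
  · exact absurd ⟨e, k.ne, i1⟩ hz
  · refine key (e + u) u k'' (add_mem me mu) mu ?_
    have e4 : x C φ (e + u) u = x C φ e u := by simpa using hE.loc_x kp 1 1 0 1
    rw [hE.τ_eq k''.perp, e4, hE.z_line kp, one_smul, ← mul_assoc, ← mul_assoc, c1.eq,
      mul_assoc (z C φ e 1), c2.eq, mul_assoc, mul_assoc, hE.x_sq kp, mul_one]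
  · exact key e u k me mu (by rw [hE.τ_eq kp, c1.eq])
  · refine absurd ⟨e + u, k''.ne, ?_⟩ hz
    rwa [hE.z_line kp, one_smul, mul_assoc, ← c2.eq, ← mul_assoc]

/-- `q = 2`: an element interchanging `t` and `t c` and normalising `Q_e` -/
theorem cq_norm (hs : Small F) (hc : Tc C φ t) (hz : ¬ Tz C φ t) (ha : ¬ Ta C φ t) {e u : V}
    (k : Ln P e u) : ∃ n ∈ normalizer (Rg C φ (span F {e}) : Set G),
      n * t * n⁻¹ = t * τ C φ e u 1 ∧ Commute n (z C φ e 1) := by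
  have hE := h.toEmb
  have hU := h.ti_pair k.perp
  have kp := k.perp
  have k0 : P.B e 0 = 0 := by simp
  have me : e ∈ span F {e, u} := Submodule.subset_span (by simp)
  have mu : u ∈ span F {e, u} := Submodule.subset_span (by simp)
  obtain ⟨n, hn, e1, e2⟩ := h.cq_swap hs hc hz ha k
  have hQL : Rg C φ (span F {e}) ≤ φ.range := hE.R_le_Y.trans hE.Y_le_L
  have mQ : ∀ {a : V} (c : F), P.B e a = 0 → τ C φ e a c ∈ Rg C φ (span F {e}) :=
    fun c ka => (hE.mem_Q k.ne).2 ⟨_, c, ka, rfl⟩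
  have e3 : n * τ C φ e u 1 * n⁻¹ = τ C φ e u 1 := by
    calc n * τ C φ e u 1 * n⁻¹ = (n * t * n⁻¹) * (n * (t * τ C φ e u 1) * n⁻¹) := by
          rw [conj_mul, ← mul_assoc t, h.t2, one_mul]
      _ = _ := by
          rw [e1, e2, mul_assoc, h.tL (hQL (mQ 1 kp)), ← mul_assoc, h.t2, one_mul]
  have e4 : n * x C φ e u * n⁻¹ = x C φ e u := by
    obtain ⟨v, hv⟩ := (hE.cq_mem_A k).1 ((mem_normalizer_iff.1 (h.norm_R hU hn).2 _).1
      ((hE.cq_mem_A k).2 ⟨1, rfl⟩))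
    rw [one_smul] at hv
    rcases hs v with rfl | rfl
    · rw [zero_smul, hE.x_zero, conj_eq_one_iff, ← one_smul F u, hE.x_eq_one k] at hv
      exact absurd hv one_ne_zero
    · rw [hv, one_smul]
  have e5 : n * z C φ e 1 * n⁻¹ = z C φ e 1 := by
    rw [hE.τ_eq kp, ← conj_mul, e4] at e3
    exact mul_left_cancel e3
  have tH : t ∈ Rg C φ (span F {e}) ⊔ zpowers t := mem_sup_right (mem_zpowers t)
  -- the group `H = Q_e ⟨t⟩`
  have H2 : ∀ g ∈ Rg C φ (span F {e}) ⊔ zpowers t, g * g = 1 := by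
    have q2 : ∀ g ∈ Rg C φ (span F {e}), g * g = 1 := by
      intro g hg
      obtain ⟨a, c, ka, rfl⟩ := (hE.mem_Q k.ne).1 hg
      exact hE.τ_sq ka c
    intro g hg
    rcases (h.mem_sup_t hQL).1 hg with k1 | k1
    · exact q2 g k1
    · have c1 : g * t = t * g := mul_left_cancel (a := t) (by rw [← mul_assoc, h.tL (hQL k1)])
      have := q2 _ k1
      rwa [mul_assoc, ← mul_assoc g, c1, ← mul_assoc, ← mul_assoc, h.t2, one_mul] at this
  have nH : Yg C φ (span F {e, u}) ⊔ zpowers t ≤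
      normalizer ((Rg C φ (span F {e}) ⊔ zpowers t : Subgroup G) : Set G) := by
    refine sup_le ?_ (le_sup_right.trans le_normalizer)
    rintro _ ⟨s, hs, rfl⟩
    refine normalizer_inf_normalizer_le_normalizer_sup _ _ ⟨?_, ?_⟩
    · exact mem_normalizer_fintype fun y hy => (hE.conj_Y s
        (fix_le_stb _ (mem_fix_pt.2 (mem_fix_pair.1 hs).1))).2.1.2 hy
    · refine centralizer_le_normalizer _ (mem_centralizer_iff.2 fun y hy => ?_)
      obtain ⟨i, rfl⟩ := mem_zpowers_iff.1 hy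
      exact (Commute.zpow_left (h.tl s).symm i).eq
  set H' : Subgroup S := (((Rg C φ (span F {e}) ⊔ zpowers t).map
    (MulAut.conj n).toMonoidHom).comap φ) ⊓ Stb C (span F {e, u}) with hH'
  have H'2 : IsPGroup 2 H' := by
    refine (IsPGroup.comap_of_injective (IsPGroup.map ?_ _) φ h.inj).to_inf_left
    intro g
    exact ⟨1, Subtype.ext (by simpa [pow_two] using H2 g g.2)⟩
  have H'n : C.fixG (span F {e, u}) ≤ normalizer (H' : Set S) := by
    intro y hy
    refine mem_normalizer_fintype fun s hs => ?_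
    obtain ⟨⟨r, hr, s1⟩, s2⟩ := mem_inf.1 hs
    have y0 := fix_le_stb _ hy
    refine mem_inf.2 ⟨?_, mul_mem (mul_mem y0 s2) (inv_mem y0)⟩
    have y1 : n⁻¹ * φ y * n⁻¹⁻¹ ∈ Yg C φ (span F {e, u}) ⊔ zpowers t :=
      (mem_normalizer_iff.1 (inv_mem hn) _).1 (mem_sup_left ⟨y, hy, rfl⟩)
    refine ⟨_, (mem_normalizer_iff.1 (nH y1) r).1 hr, ?_⟩
    have s3 : φ s = n * r * n⁻¹ := by rw [← s1]; rfl
    simp [s3, mul_assoc]
  have tn : t ∈ (Rg C φ (span F {e}) ⊔ zpowers t).map (MulAut.conj n).toMonoidHom :=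
    ⟨_, mul_mem tH (mem_sup_left (mQ 1 kp)), e2⟩
  have stepA : ∀ (b : V) (d : F), P.B e b = 0 → P.B b u = 1 →
      n * τ C φ e b d * n⁻¹ ∈ Rg C φ (span F {e}) ⊔ zpowers t := by
    intro b d kb kb'
    have cj : ∀ {a b : G}, Commute a b → Commute (n * a * n⁻¹) (n * b * n⁻¹) := fun c => by
      rw [Commute, SemiconjBy, conj_mul, conj_mul, c.eq]
    have j1 : Commute (n * τ C φ e b d * n⁻¹) t := by
      have := cj ((show Commute (τ C φ e b d) t from h.tL (hQL (mQ d kb))).mul_right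
        (hE.τ_comm kb kp d 1))
      rwa [e2] at this
    have j2 : Commute (n * τ C φ e b d * n⁻¹) (τ C φ e u 1) := by
      have := cj (hE.τ_comm kb kp d 1)
      rwa [e3] at this
    have j3 : Commute (n * τ C φ e b d * n⁻¹) (z C φ e 1) := by
      have := cj (hE.τ_comm kb k0 d 1)
      rwa [show τ C φ e 0 1 = z C φ e 1 from rfl, e5] at this
    have j4 : n * τ C φ e b d * n⁻¹ * (n * τ C φ e b d * n⁻¹) = 1 := by
      rw [conj_mul, hE.τ_sq kb, mul_one, mul_inv_cancel]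
    have j5 : n * τ C φ e b d * n⁻¹ ∈
      (Rg C φ (span F {e}) ⊔ zpowers t).map (MulAut.conj n).toMonoidHom :=
      ⟨_, mem_sup_left (mQ d kb), rfl⟩
    have j6 : n * τ C φ e b d * n⁻¹ ∉ Yg C φ (span F {e, u}) ⊔ zpowers t := by
      rw [← mem_normalizer_iff.1 hn, h.mem_sup_t hE.Y_le_L]
      rintro (⟨s, s1, s2⟩ | k1)
      · rw [h.inj s2] at s1
        have := (mem_fix_pair.1 s1).2
        rw [h.T_app kb, kb', kp] at this
        exact k.ne (by simpa using this)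
      · exact h.t_not_mem ((mul_mem_cancel_right (hQL (mQ d kb))).1 (hE.Y_le_L k1))
    obtain ⟨l, l2, hl⟩ := (h.invol' j1 j4).resolve_right (by
      rintro ⟨α, γ, -, k1, -⟩
      exact k1 (h.aut_small hs α))
    have ct : ∀ {a : G}, a ∈ φ.range → Commute (n * τ C φ e b d * n⁻¹) a → Commute (φ l) a := by
      intro a ha c
      rcases hl with hl | hl
      · rwa [hl] at c
      · rw [hl] at c
        have c1 : Commute t a := (h.tL ha).symm
        have := c1.mul_left c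
        rwa [← mul_assoc, h.t2, one_mul] at this
    have cH : ∀ {K : Subgroup G}, t ∈ K → (n * τ C φ e b d * n⁻¹ ∈ K ↔ φ l ∈ K) := by
      intro K hK
      rcases hl with hl | hl
      · rw [hl]
      · rw [hl, mul_mem_cancel_left hK]
    have l1 : C.act l e = e := by
      have := hE.z_conj l e 1
      rw [(ct (a := z C φ e 1) (hQL (mQ 1 k0)) j3).eq, mul_inv_cancel_right] at this
      exact (hE.z_one_inj this).symm
    have l3 : C.act l u = u + e := by
      have := hE.τ_conj l kp 1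
      rw [(ct (hQL (mQ 1 kp)) j2).eq, mul_inv_cancel_right, l1] at this
      have kl : P.B e (C.act l u) = 0 := by rw [← l1, C.B_act, kp]
      obtain ⟨c, hc⟩ := Submodule.mem_span_singleton.1 ((hE.τ_eq_iff k.ne kp kl).1 this).1
      rcases hs c with rfl | rfl
      · rw [zero_smul] at hc
        have m1 : φ l ∈ Yg C φ (span F {e, u}) :=
          ⟨l, mem_fix_pair.2 ⟨l1, (h.veq_of_add hc.symm).symm⟩, rfl⟩
        exact absurd ((cH (mem_sup_right (mem_zpowers t))).2 (mem_sup_left m1)) j6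
      · rw [one_smul] at hc
        rw [hc, ← add_assoc, h.vadd_self, zero_add]
    have l4 : l ∈ H' := mem_inf.2 ⟨(cH tn).1 j5,
      hE.cq_stb (by rw [l1]; exact me) (by rw [l3]; exact add_mem mu me)⟩
    exact (cH tH).2 (mem_sup_left ⟨l, h.mem_Q_of k l2 l1 l3
      fun v hv => h.o2 hU H'2 inf_le_right H'n l4 hv, rfl⟩)
  have stepB : n ∈ normalizer ((Rg C φ (span F {e}) ⊔ zpowers t : Subgroup G) : Set G) := by
    obtain ⟨f, f', hh⟩ := h.hh_of_ln k
    have f1 : P.B f' u = 1 := by rw [h.B_comm]; exact h.hp_iff.1 hh.h₂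
    have q1 : ∀ g ∈ Rg C φ (span F {e}), n * g * n⁻¹ ∈ Rg C φ (span F {e}) ⊔ zpowers t := by
      intro g hg
      obtain ⟨b, d, kb, rfl⟩ := (hE.mem_Q k.ne).1 hg
      rcases hs (P.B b u) with k1 | k1
      · have kb' : P.B e (b + f') = 0 := by rw [P.B_add_right, kb, hh.ef, add_zero]
        have : τ C φ e b d = τ C φ e (b + f') (d + P.B (b + f') f') * τ C φ e f' 0 := by
          rw [hE.τ_mul kb' hh.ef, add_assoc, h.vadd_self, add_zero, add_zero, add_assoc, h.add_self,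
            add_zero]
        rw [this, ← conj_mul]
        exact mul_mem (stepA _ _ kb' (by rw [P.B_add_left, k1, f1, zero_add])) (stepA _ _ hh.ef f1)
      · exact stepA _ _ kb k1
    refine mem_normalizer_fintype fun g hg => ?_
    rcases (h.mem_sup_t hQL).1 hg with k1 | k1
    · exact q1 g k1
    · have := q1 _ k1
      rw [← conj_mul, e1] at this
      exact (mul_mem_cancel_left (mul_mem tH (mem_sup_left (mQ 1 kp)))).1 this
  refine ⟨n, mem_normalizer_fintype fun g hg => ?_, e1, mul_inv_eq_iff_eq_mul.1 e5⟩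
  have stepC : ∀ a : V, P.B e a = 0 → a ∉ span F {e} →
      n * τ C φ e a 1 * n⁻¹ ∈ Rg C φ (span F {e}) := by
    intro a ka ka'
    obtain ⟨g, hg⟩ := (h.tc_iff ⟨k.ne, ka', ka⟩ one_ne_zero).1 hc
    have m1 := (mem_normalizer_iff.1 stepB _).1 (mul_mem tH (mem_sup_left (mQ 1 ka)))
    rcases (h.mem_sup_t hQL).1 m1 with k1 | k1
    · exfalso
      obtain ⟨b, d, kb, e6⟩ := (hE.mem_Q k.ne).1 k1
      obtain ⟨b', l, m2⟩ := hE.mem_line k.ne kb d
      rw [← e6, ← hg] at m2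
      refine h.nzl l.perp (n * g) ?_
      convert m2 using 1
      group
    · rw [← conj_mul, e1, ← mul_assoc t, ← mul_assoc t, h.t2, one_mul] at k1
      exact (mul_mem_cancel_left (mQ 1 kp)).1 k1
  have mz : ∀ c : F, n * z C φ e c * n⁻¹ ∈ Rg C φ (span F {e}) := by
    intro c
    rcases hs c with rfl | rfl
    · rw [hE.z_zero, mul_one, mul_inv_cancel]; exact one_mem _
    · rw [e5]; exact mQ 1 k0
  obtain ⟨a, c, ka, rfl⟩ := (hE.mem_Q k.ne).1 hg
  by_cases ka' : a ∈ span F {e}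
  · rw [(hE.τ_eq_iff k.ne ka k0).2 ⟨by rwa [add_zero], rfl⟩]
    exact mz c
  · have : τ C φ e a c = τ C φ e a 1 * z C φ e (1 + c) := by
      rw [show z C φ e (1 + c) = τ C φ e 0 (1 + c) from rfl, hE.τ_mul ka k0, add_zero, ← add_assoc,
        h.add_self, zero_add]
      simp
    rw [this, ← conj_mul]
    exact mul_mem (stepC a ka ka') (mz _)

theorem cq_small (hs : Small F) (hc : Tc C φ t) : Tz C φ t ∨ Ta C φ t := by
  have hE := h.toEmb
  by_contra hn
  obtain ⟨hz, ha⟩ := not_or.1 hn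
  obtain ⟨e, u, k, -⟩ := id hc
  obtain ⟨n, nQ, e1, cz⟩ := h.cq_norm hs hc hz ha k
  have kp := k.perp
  have k0 : P.B e 0 = 0 := by simp
  have e5 : n * τ C φ e 0 1 * n⁻¹ = τ C φ e 0 1 := mul_inv_eq_iff_eq_mul.2 cz.eq
  have mQ : ∀ {a : V} (c : F), P.B e a = 0 → τ C φ e a c ∈ Rg C φ (span F {e}) :=
    fun c ka => (hE.mem_Q k.ne).2 ⟨_, c, ka, rfl⟩
  obtain ⟨p, d, k1, e2⟩ := (hE.mem_Q k.ne).1 ((mem_normalizer_iff.1 (inv_mem nQ) _).1 (mQ 1 kp))
  have e3 : n * τ C φ e p d * n⁻¹ = τ C φ e u 1 := by rw [← e2]; group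
  have p1 : p ∉ span F {e} := by
    intro k2
    rw [(hE.τ_eq_iff k.ne k1 k0).2 ⟨by rwa [add_zero], rfl⟩] at e3
    rcases hs d with rfl | rfl
    · rw [(hE.τ_eq_one k.ne k0).2 ⟨zero_mem _, rfl⟩, mul_one, mul_inv_cancel, eq_comm,
        hE.τ_eq_one k.ne kp] at e3
      exact one_ne_zero e3.2
    · rw [e5, hE.τ_eq_iff k.ne k0 kp, zero_add] at e3
      exact k.nmem e3.1
  obtain ⟨f, b, hh⟩ := h.hh_of_ln ⟨k.ne, p1, k1⟩
  have b1 : P.B p b = 1 := h.hp_iff.1 hh.h₂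
  have b2 : P.B e b = 0 := hh.ef
  obtain ⟨a, a', a1, a2, a3, a4, a5, a6, a7⟩ := h.exists_hp3 (e := e) (by rw [b1]; exact one_ne_zero) k1 b2
  -- the affine map preserves the class of `t`
  have key : ∀ (v w : V) (c : F), P.B e v = 0 → v ∉ span F {e} → P.B b v = 0 → P.B e w = 0 →
      n * τ C φ e v 1 * n⁻¹ = τ C φ e w c → c = P.B u w := by
    intro v w c v1 v2 v3 w1 e4
    have i1 := (InT.move e1).1 ((h.tc_iff ⟨k.ne, v2, v1⟩ one_ne_zero).1 hc)
    have w2 : P.B e (u + w) = 0 := by rw [P.B_add_right, kp, w1, add_zero]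
    have i2 : τ C φ e u 1 * (n * τ C φ e v 1 * n⁻¹) ≠ 1 := by
      intro e6
      rw [← e3, conj_mul, conj_eq_one_iff, hE.τ_mul k1 v1,
        hE.τ_eq_one k.ne (by rw [P.B_add_right, k1, v1, add_zero])] at e6
      refine hE.cq_nmem (w := b) (by rw [h.B_comm, b2]) ?_ e6.1
      rw [P.B_add_right, v3, h.B_comm, b1, add_zero]
      exact one_ne_zero
    rw [e4, hE.τ_mul kp w1] at i1 i2
    rcases hs (1 + c + P.B u w) with k2 | k2
    · exfalso
      rw [k2] at i1 i2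
      by_cases k3 : u + w ∈ span F {e}
      · exact i2 ((hE.τ_eq_one k.ne w2).2 ⟨k3, rfl⟩)
      · exact ha ⟨e, u + w, ⟨k.ne, k3, w2⟩, i1⟩
    · exact h.eq_of_add (by linear_combination k2)
  have img : ∀ v : V, P.B e v = 0 → ∃ w c, P.B e w = 0 ∧ n * τ C φ e v 1 * n⁻¹ = τ C φ e w c :=
    fun v v1 => (hE.mem_Q k.ne).1 ((mem_normalizer_iff.1 nQ _).1 (mQ 1 v1))
  have ad : ∀ {v w : V}, P.B e v = 0 → P.B e w = 0 → P.B e (v + w) = 0 := fun k2 k3 => by
    rw [P.B_add_right, k2, k3, add_zero]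
  have prod : ∀ {v v' w w' : V} {c c' : F}, P.B e v = 0 → P.B e v' = 0 → P.B e w = 0 →
      P.B e w' = 0 → n * τ C φ e v 1 * n⁻¹ = τ C φ e w c → n * τ C φ e v' 1 * n⁻¹ = τ C φ e w' c' →
      n * τ C φ e (v + v') 1 * n⁻¹ = τ C φ e (w + w') (c + c' + P.B w w' + 1 + P.B v v') := by
    intro v v' w w' c c' v1 v2 w1 w2 e6 e7
    have e8 : n * τ C φ e 0 (1 + P.B v v') * n⁻¹ = τ C φ e 0 (1 + P.B v v') := by
      rcases hs (1 + P.B v v') with k2 | k2 <;> rw [k2]
      · rw [(hE.τ_eq_one k.ne k0).2 ⟨zero_mem _, rfl⟩, mul_one, mul_inv_cancel]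
      · exact e5
    have e9 : τ C φ e (v + v') 1 = τ C φ e v 1 * τ C φ e v' 1 * τ C φ e 0 (1 + P.B v v') := by
      rw [hE.τ_mul v1 v2, hE.τ_mul (ad v1 v2) k0, add_zero]
      congr 1
      simp only [map_zero]
      linear_combination (-1 - P.B v v') * h.two
    rw [e9, ← conj_mul, ← conj_mul, e6, e7, e8, hE.τ_mul w1 w2, hE.τ_mul (ad w1 w2) k0, add_zero]
    congr 1
    simp only [map_zero]
    ring
  obtain ⟨w₁, c₁, w1, q1⟩ := img b b2
  obtain ⟨w₂, c₂, w2, q2⟩ := img a a2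
  obtain ⟨w₃, c₃, w3, q3⟩ := img a' a3
  have q12 := prod b2 a2 w1 w2 q1 q2
  have q13 := prod b2 a3 w1 w3 q1 q3
  have q23 := prod a2 a3 w2 w3 q2 q3
  have q123 := prod (ad b2 a2) a3 (ad w1 w2) w3 q12 q3
  have pe : P.B p e = 0 := by rw [h.B_comm, k1]
  have ae : P.B a e = 0 := by rw [h.B_comm, a2]
  have ae' : P.B a' e = 0 := by rw [h.B_comm, a3]
  have r1 := key _ _ _ b2 (hE.cq_nmem pe (by simp [b1])) (h.B_self b) w1 q1
  have r2 := key _ _ _ a2 (hE.cq_nmem ae' (by simp [h.B_comm a' a, a1])) a6 w2 q2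
  have r3 := key _ _ _ a3 (hE.cq_nmem ae (by simp [a1])) a7 w3 q3
  have r12 := key _ _ _ (ad b2 a2) (hE.cq_nmem pe (by simp [b1, a4]))
    (by simp [h.B_self, a6]) (ad w1 w2) q12
  have r13 := key _ _ _ (ad b2 a3) (hE.cq_nmem pe (by simp [b1, a5]))
    (by simp [h.B_self, a7]) (ad w1 w3) q13
  have r23 := key _ _ _ (ad a2 a3) (hE.cq_nmem ae (by simp [a1, h.B_self]))
    (by simp [a6, a7]) (ad w2 w3) q23
  have r123 := key _ _ _ (ad (ad b2 a2) a3) (hE.cq_nmem pe (by simp [b1, a4, a5]))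
    (by simp [h.B_self, a6, a7]) (ad (ad w1 w2) w3) q123
  simp only [P.B_add_left, P.B_add_right, a1, a6, a7] at r12 r13 r23 r123
  refine one_ne_zero (α := F) ?_
  linear_combination r12 + r13 + r23 - r123 - r1 - r2 - r3

end Sit

end CfsgLib.SPC
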