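import Cfsg.Agent.Lib.SPC.DGeo

/-! Type D: first facts in the group -/

set_option autoImplicit false
set_option linter.unusedSectionVars false

namespace CfsgLib.SPC.D

open Subgroup QuadraticMap CfsgLib.OrthE CfsgLib.SLD Module
open scoped commutatorElement Pointwise

universe u

variable {F V : Type} [Field F] [Finite F] [AddCommGroup V] [Module F V] [Finite V] {Q : QuadraticForm F V}
  {k : ℕ} {d : V} {G : Type u} [Group G] [Finite G] {ψ : Om Q →* G} {t : G}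

namespace DD

variable (h : DD Q k ψ t d)
include h

variable {g g' l : G} {γ γ' : SI Q} {u v w : V}

theorem ac_uniq (h1 : Ac ψ g γ) (h2 : Ac ψ g γ') : γ = γ' := by
  refine (inv_mul_eq_one.1 (h.cent_Om fun e he => ?_)).symm
  have := ph_inj h.inj (Om_normal.conj_mem e he γ) (Om_normal.conj_mem e he γ')
    ((h1 e he).symm.trans (h2 e he))
  calc e * (γ'⁻¹ * γ) = γ'⁻¹ * (γ' * e * γ'⁻¹) * γ := by group
    _ = γ'⁻¹ * γ * e := by rw [← this]; group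

theorem ac_pow (h1 : Ac ψ g γ) {n : ℕ} (h2 : g ^ n = 1) : γ ^ n = 1 :=
  h.ac_uniq (h2 ▸ h1.pow n) (ac_one.2 (one_mem _))

theorem ac_sq (h1 : Ac ψ g γ) (h2 : g * g = 1) : γ * γ = 1 :=
  h.ac_uniq (h2 ▸ h1.mul h1) (ac_one.2 (one_mem _))

theorem ac_two (h1 : Ac ψ g γ) (h2 : IsPGroup 2 (zpowers g)) : IsPGroup 2 (zpowers γ) := by
  obtain ⟨n, hn⟩ := Core.isPGroup_zpowers_iff.1 h2
  exact Core.isPGroup_zpowers_iff.2 ⟨n, h.ac_pow h1 hn⟩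

theorem ac_comm (h1 : Ac ψ g γ) (h2 : Ac ψ g' γ') (h3 : Commute g g') : Commute γ γ' :=
  h.ac_uniq (h1.mul h2) (h3.eq ▸ h2.mul h1)

theorem exists_kap : ∃ κ : N0 ψ →* SI Q, ∀ g : N0 ψ, Ac ψ g (κ g) := by
  choose κ hκ using fun g : N0 ψ => mem_N0.1 g.2
  exact ⟨MonoidHom.mk' κ fun a b => h.ac_uniq (hκ (a * b)) ((hκ a).mul (hκ b)), hκ⟩

theorem simple' : IsSimpleGroup ψ.range := by
  have := h.simple
  exact (MonoidHom.ofInjective h.inj).symm.isSimpleGroup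

theorem eq_one' (h1 : g ∈ ψ.range) (h2 : g ∈ centralizer (ψ.range : Set G)) : g = 1 := by
  obtain ⟨γ, hγ, rfl⟩ := mem_L.1 h1
  rw [h.ac_uniq (ac_ph hγ) (ac_one.2 h2), ph_one]

theorem eq_of_ac (h1 : Ac ψ g γ) (h2 : Ac ψ g' γ) (h3 : g⁻¹ * g' ∈ ψ.range) : g = g' :=
  inv_mul_eq_one.1 (h.eq_one' h3 (ac_one.1 (inv_mul_cancel γ ▸ h1.inv.mul h2)))

theorem le_of_norm {K : Subgroup G} (hK : ψ.range ≤ normalizer (K : Set G)) (h1 : g ∈ K)
    (h2 : g ∈ ψ.range) (h3 : g ≠ 1) : ψ.range ≤ K := by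
  refine subgroupOf_eq_top.1 ((h.simple'.eq_bot_or_eq_top_of_normal _
    (normal_subgroupOf_of_le_normalizer hK)).resolve_left fun e => h3 ?_)
  have h4 : (⟨g, h2⟩ : ψ.range) ∈ K.subgroupOf _ := h1
  rw [e, mem_bot] at h4
  exact congrArg Subtype.val h4

theorem t_inv : t⁻¹ = t := inv_eq_of_mul_eq_one_right h.t2

theorem t_mem : t ∈ N0 ψ := ⟨_, h.ac⟩

theorem t_not_mem : t ∉ ψ.range := fun e => by
  obtain ⟨γ, hγ, e⟩ := mem_L.1 e
  exact h.rf_not (h.ac_uniq (e ▸ ac_ph hγ) h.ac ▸ hγ)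

theorem tl (hγ : γ ∈ Fx Q {d}) : Commute t (ph ψ γ) :=
  (mem_centralizer_iff.1 h.tC _ (ph_mem_im hγ)).symm

theorem xx_ne (hu : Sd Q d u) (u0 : u ≠ 0) : xx ψ u d ≠ 1 := fun e =>
  u0 (h.ρd_inj hu ⟨map_zero Q, polar_zero_left Q d⟩
    ((ph_eq_one h.inj (ρ_mem Q u d) e).trans (ρ_zero_left d).symm))

theorem xx_L (hu : Sd Q d u) : xx ψ u d ∈ im ψ (Fx Q {d}) := ph_mem_im (h.ρd_mem' hu)

theorem mv (hu : Sd Q d u) (hw : polar Q u w = 0) :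
    xx ψ u w * t * (xx ψ u w)⁻¹ = t * xx ψ u (polar Q w d • d) :=
  h.ac.conj_ph (ρ_mem Q u w) (h.conj_r hu hw)

theorem mv' (hu : Sd Q d u) : ∃ y ∈ im ψ (A Q u), y * t * y⁻¹ = t * xx ψ u d := by
  obtain ⟨w, h1, h2⟩ := h.ex_w hu
  have := h.mv hu h1
  rw [h2, one_smul] at this
  exact ⟨_, ph_mem_im (ρ_mem_A u w), this⟩

theorem cent_odd : Odd (Nat.card (centralizer (ψ.range : Set G))) := by
  refine SLE.odd_of_inv h.t2 (Tech.mem_normalizer_iff_cj.2 (by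
    rw [Tech.cj_centralizer, Tech.mem_normalizer_iff_cj.1 h.ac.norm])) fun c hc c2 ct => ?_
  refine (h.invol (centralizer_le (SetLike.coe_subset_coe.2 (im_le_L _)) hc) ct c2).resolve_right
    fun e => h.rf_not ?_
  rw [h.ac_uniq h.ac (ac_one.2 (e ▸ hc))]
  exact one_mem _

theorem eq_one_of_two {c : G} (hc : c ∈ centralizer (ψ.range : Set G)) {n : ℕ} (hn : c ^ 2 ^ n = 1) :
    c = 1 := by
  have h1 : Odd (orderOf c) := h.cent_odd.of_dvd_nat (orderOf_dvd_natCard _ hc)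
  exact orderOf_eq_one_iff.1 (Nat.Coprime.eq_one_of_dvd
    ((Nat.coprime_two_right.2 h1).pow_right n) (orderOf_dvd_of_pow_eq_one hn))

/-- a 2-element acting as an element of `Ω` -/
theorem eq_ph (h1 : Ac ψ g γ) (h2 : γ ∈ Om Q) (h3 : IsPGroup 2 (zpowers g)) : g = ph ψ γ := by
  obtain ⟨n, hn⟩ := Core.isPGroup_zpowers_iff.1 h3
  have h4 := h.ac_pow h1 hn
  obtain ⟨c, hc, rfl⟩ := h1.split h2
  have h5 : Commute (ph ψ γ) c := mem_centralizer_iff.1 hc _ (ph_mem γ)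
  rw [h5.mul_pow, ← ph_pow h2, h4, ph_one, one_mul] at hn
  rw [h.eq_one_of_two hc hn, mul_one]

theorem exists_act : ∃ α : normalizer (ψ.range : Set G) →* MulAut (Om Q),
    ∀ g e, ψ (α g e) = g * ψ e * (g : G)⁻¹ :=
  ⟨(MulAut.congr (MonoidHom.ofInjective h.inj).symm).toMonoidHom.comp ψ.range.normalizerMonoidHom,
    fun _ _ => MonoidHom.apply_ofInjective_symm h.inj _⟩

theorem ac_iff {β : MulAut (Om Q)} (hβ : ∀ e, ψ (β e) = g * ψ e * g⁻¹) :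
    Ac ψ g γ ↔ ∀ e : Om Q, (β e : SI Q) = γ * e * γ⁻¹ :=
  ⟨fun k e => ph_inj h.inj (β e).2 (Om_normal.conj_mem _ e.2 γ) (by rw [← k e e.2, ph_coe, ph_coe, hβ]),
    fun k e he => by rw [← k ⟨e, he⟩, ph_coe, hβ, ph_eq he]⟩

/-- the centraliser of `t` acts by semilinear isometries -/
theorem cN : centralizer {t} ≤ N0 ψ := fun c hc => by
  have ct : c * t = t * c := mem_centralizer_singleton_iff.1 hc
  obtain ⟨e, f, fr⟩ := h.afr
  have k4 := h.four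
  have hu : Sd Q d (e 0) := fr.sd (e_mem_Tn (by omega))
  have u0 : e 0 ≠ 0 := (fr.rp (i := 0) (j := 1) (by omega) (by omega) (by omega)).u0
  generalize e 0 = u at hu u0
  obtain ⟨w, hw, wd⟩ := h.ex_w hu
  have hy := h.mv hu hw
  rw [wd, one_smul] at hy
  obtain ⟨γ', hγ', -, e1⟩ := mem_im.1 (Tech.conj_mem_of_mem_normalizer (h.CN hc) (h.xx_L hu))
  have e2 : c * xx ψ u w * t * (c * xx ψ u w)⁻¹ = t * ph ψ γ' := by
    rw [← e1, show c * xx ψ u w * t * (c * xx ψ u w)⁻¹ = c * (xx ψ u w * t * (xx ψ u w)⁻¹) * c⁻¹ by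
      group, hy, ← mul_assoc c, ct]
    group
  obtain ⟨u', hu', rfl⟩ := h.cls γ' hγ' (isConj_iff.2 ⟨_, e2⟩)
  obtain ⟨y', hy', e3⟩ := h.mv' hu'
  have hm : y'⁻¹ * (c * xx ψ u w) ∈ normalizer (im ψ (Fx Q {d}) : Set G) :=
    h.CN (mem_centralizer_singleton_iff.2 (by
      have : c * xx ψ u w * t * (c * xx ψ u w)⁻¹ = y' * t * y'⁻¹ := e2.trans e3.symm
      rw [← mul_inv_eq_iff_eq_mul, show y'⁻¹ * (c * xx ψ u w) * t * (y'⁻¹ * (c * xx ψ u w))⁻¹ =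
        y'⁻¹ * (c * xx ψ u w * t * (c * xx ψ u w)⁻¹) * y' by group, this]
      group))
  have ad : ρ Q u w • d = d + u := by
    rw [ρ_left hu.q hw (by rw [polar_comm]; exact hu.p), polar_comm, wd, one_smul]
  have key : Om Q ≤ pre ψ (ψ.range.comap (MulAut.conj c).toMonoidHom) := by
    refine (h.gen2 hu u0).trans (sup_le (fun γ hγ => mem_pre.2 ⟨Fx_le _ hγ, ?_⟩)
      fun γ hγ => mem_pre.2 ⟨Fx_le _ hγ, ?_⟩)
    · exact im_le_L _ (Tech.conj_mem_of_mem_normalizer (h.CN hc) (ph_mem_im hγ))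
    · have a1 : (ρ Q u w)⁻¹ * γ * ρ Q u w ∈ Fx Q {d} := mem_Fx.2
        ⟨mul_mem (mul_mem (inv_mem (ρ_mem Q u w)) (Fx_le _ hγ)) (ρ_mem Q u w), by
          rintro _ rfl
          rw [mul_smul, mul_smul, ad, (mem_Fx.1 hγ).2 _ rfl, ← ad, inv_smul_smul]⟩
      have a2 := im_le_L _ (Tech.conj_mem_of_mem_normalizer hm (ph_mem_im (φ := ψ) a1))
      have a3 := mul_mem (mul_mem (im_le_L _ hy') a2) (inv_mem (im_le_L _ hy'))
      rw [ph_mul (mul_mem (inv_mem (ρ_mem Q u w)) (Fx_le _ hγ)) (ρ_mem Q u w),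
        ph_mul (inv_mem (ρ_mem Q u w)) (Fx_le _ hγ), ph_inv (ρ_mem Q u w)] at a3
      change c * ph ψ γ * c⁻¹ ∈ ψ.range
      convert a3 using 1
      simp only [xx]
      group
  have hn : c ∈ normalizer (ψ.range : Set G) := Tech.mem_normalizer_of_forall fun x hx => by
    obtain ⟨γ, hγ, rfl⟩ := mem_L.1 hx
    exact (mem_pre.1 (key hγ)).2
  obtain ⟨α, hα⟩ := h.exists_act
  obtain ⟨γ, hγ⟩ := h.ind_of_ns (α ⟨c, hn⟩) hu.q u0 hu.p (by rw [h.qd]; exact one_ne_zero)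
    (u' := u') (v' := d)
    (ph_inj h.inj (Subtype.property _) (ρ_mem Q _ _) (by rw [ph_coe, hα, ← ph_coe]; exact e1))
  exact ⟨γ, (h.ac_iff (hα ⟨c, hn⟩)).2 hγ⟩

theorem fixd (h1 : Ac ψ g γ) (h2 : Commute g t) : γ • d = d := h.fix_d (h.ac_comm h1 h.ac h2)

/-- an element fixing `d` centralises `t` up to `C(G0)` -/
theorem adj (h1 : Ac ψ g γ) (h2 : γ • d = d) :
    ∃ c ∈ centralizer (ψ.range : Set G), Commute (c * g) t := by
  have h3 : Ac ψ (g * t * g⁻¹ * t) 1 := by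
    have := ((h1.mul h.ac).mul h1.inv).mul h.ac
    rwa [(h.comm_r h2).eq, mul_inv_cancel_right, rf_sq] at this
  have hc := ac_one.1 h3
  have ss : g * t * g⁻¹ * (g * t * g⁻¹) = 1 := by rw [conj_mul, h.t2]; simp
  obtain ⟨j, hj⟩ : Odd (orderOf (g * t * g⁻¹ * t)) :=
    h.cent_odd.of_dvd_nat (orderOf_dvd_natCard _ hc)
  refine ⟨_, pow_mem hc j, ?_⟩
  rw [Commute, SemiconjBy, ← mul_inv_eq_iff_eq_mul, show (g * t * g⁻¹ * t) ^ j * g * t *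
    ((g * t * g⁻¹ * t) ^ j * g)⁻¹ = (g * t * g⁻¹ * t) ^ j * (g * t * g⁻¹) *
      ((g * t * g⁻¹ * t) ^ j)⁻¹ by group]
  generalize g * t * g⁻¹ = s at ss hj
  have s1 : s⁻¹ = s := inv_eq_of_mul_eq_one_right ss
  have e1 : s * (s * t)⁻¹ * s⁻¹ = s * t := by
    rw [mul_inv_rev, h.t_inv, ← mul_assoc, mul_assoc _ s⁻¹, s1, ss, mul_one]
  have e2 : s * ((s * t) ^ j)⁻¹ = (s * t) ^ j * s := by
    rw [← inv_pow, ← mul_inv_eq_iff_eq_mul, ← conj_pow, e1]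
  have e3 : (s * t) ^ (2 * j + 1) = 1 := hj ▸ pow_orderOf_eq_one _
  rw [mul_assoc, e2, ← mul_assoc, ← pow_add, ← two_mul]
  rw [pow_succ, ← mul_assoc, mul_eq_one_iff_eq_inv, h.t_inv] at e3
  exact e3

theorem comm2 (h1 : l ∈ ⁅centralizer ({t} : Set G), centralizer ({t} : Set G)⁆) (h2 : l * l = 1) :
    l ∈ im ψ (Fx Q {d}) := by
  let K : Subgroup G :=
    { carrier := {g | ∃ γ ∈ Om Q, Ac ψ g γ}
      one_mem' := ⟨1, one_mem _, ac_one.2 (one_mem _)⟩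
      mul_mem' := fun ⟨_, ha, a⟩ ⟨_, hb, b⟩ => ⟨_, mul_mem ha hb, a.mul b⟩
      inv_mem' := fun ⟨_, ha, a⟩ => ⟨_, inv_mem ha, a.inv⟩ }
  obtain ⟨γ, hγ, a⟩ : l ∈ K := (commutator_le.2 fun a ha b hb => by
    obtain ⟨α, hα⟩ := h.cN ha
    obtain ⟨β, hβ⟩ := h.cN hb
    exact ⟨⁅α, β⁆, h.comm_mem α β, ((hα.mul hβ).mul hα.inv).mul hβ.inv⟩ :
      ⁅centralizer ({t} : Set G), centralizer ({t} : Set G)⁆ ≤ K) h1
  have h3 : Commute l t := mem_centralizer_singleton_iff.1 (commutator_le_self _ h1)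
  rw [h.eq_ph a hγ (Tech.isPGroup_zpowers_of_pow (k := 1) (by rwa [pow_one, pow_two]))]
  exact ph_mem_im (mem_Fx.2 ⟨hγ, by rintro _ rfl; exact h.fixd a h3⟩)

end DD

end CfsgLib.SPC.D
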