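import Cfsg.Agent.Lib.UN.Defs
import Cfsg.Agent.Lib.HX.Base

/-!
# Standard components of symplectic type in characteristic two: definitions
-/

set_option autoImplicit false

namespace CfsgLib.SPC

open Subgroup Module CfsgLib.Forms CfsgLib.LieMult
open CfsgLib.HX (Std CO Two Mv M2)
open CfsgLib.UN (AV SI TI HH Rad Stb Yg Rg Eg Act nu)
open CfsgLib.ClSys (II)
open Submodule (span)

universe u

variable {F : Type} [Field F] {V : Type} [AddCommGroup V] [Module F V]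
  {P : PQ (RingHom.id F) V} {S : Type} [Group S] {G : Type u} [Group G]

/-- `q = 2` -/
def Small (F : Type) [Field F] : Prop := ∀ c : F, c = 0 ∨ c = 1

/-- `e, a` span a totally isotropic plane -/
structure Ln (P : PQ (RingHom.id F) V) (e a : V) : Prop where
  ne : e ≠ 0
  nmem : a ∉ span F {e}
  perp : P.B e a = 0

/-- three orthogonal hyperbolic pairs -/
structure H3 (P : PQ (RingHom.id F) V) (e₁ f₁ e₂ f₂ e₃ f₃ : V) : Prop where
  h12 : HH P e₁ f₁ e₂ f₂
  h13 : HH P e₁ f₁ e₃ f₃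
  h23 : HH P e₂ f₂ e₃ f₃

/-- a maximal totally isotropic subspace -/
def Lag (P : PQ (RingHom.id F) V) (M : Submodule F V) : Prop := P.perp M = M

/-- a quadratic form with polar form `B` -/
structure QF (P : PQ (RingHom.id F) V) (Q : V → F) : Prop where
  add : ∀ u v, Q (u + v) = Q u + Q v + P.B u v
  smul : ∀ (c : F) v, Q (c • v) = c * c * Q v

/-- `S = Sp(V)`, with the facts taken from the matrix model -/
structure Mod (C : CG P S) : Prop where
  two : (2 : F) = 0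
  lam : P.Λ = ⊤
  full : ∀ g : V →ₗ[F] V, (∀ u v, P.B (g u) (g v) = P.B u v) → ∃ s, ∀ v, C.act s v = g v
  d6 : 6 ≤ finrank F V
  simp : IsSimpleGroup S
  aut : ∀ θ : MulAut S, ∃ α γ, SI P α γ ∧
    ∀ s s' : S, (∀ v, C.act s' (γ v) = γ (C.act s v)) → θ s = s'
  mult : M2 S

section
variable (C : CG P S) (φ : S →* G)

/-- `v ↦ v + (B a v + c B e v) e + B e v a` -/
def τ (e a : V) (c : F) : G := φ (C.T e a c)

/-- short root elements -/
def x (e a : V) : G := φ (C.T e a 0)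

/-- transvections -/
def z (e : V) (c : F) : G := φ (C.T e 0 c)

/-- a copy of `S` inside `G` -/
structure Emb : Prop extends Mod C where
  inj : Function.Injective φ

/-- the situation of the theorem -/
structure Sit (t : G) : Prop extends Emb C φ, Std φ.range t

/-- `t` is conjugate to `t l` -/
def InT (t l : G) : Prop := ∃ g, g * t * g⁻¹ = t * l

/-- `t` is conjugate to `t z`, `z` a transvection -/
def Tz (t : G) : Prop := ∃ e, e ≠ 0 ∧ InT t (z C φ e 1)

/-- `t` is conjugate to `t a`, `a` a short root element -/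
def Ta (t : G) : Prop := ∃ e a, Ln P e a ∧ InT t (x C φ e a)

/-- `t` is conjugate to `t c`, `c` a product of two commuting transvections -/
def Tc (t : G) : Prop := ∃ e a, Ln P e a ∧ InT t (z C φ e 1 * z C φ a 1)

/-- elements moving `t` to `t z_e` -/
structure Pz (t : G) (e : V) (p : G) : Prop where
  cQ : p ∈ centralizer (Rg C φ (span F {e}) : Set G)
  nY : p ∈ normalizer (Yg C φ (span F {e}) : Set G)
  pt : p * t * p⁻¹ = t * z C φ e 1
  co : CO φ.range t p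

/-- `t ~ t z` -/
structure MZ (t : G) : Prop extends Sit C φ t where
  two' : Two φ.range t
  mv : ∀ e, ∃ p, Pz C φ t e p

/-- `t ~ t a`: the hats `w e a` of the short root elements. -/
structure HW (t : G) (w : V → V → G) (κ δ : F) : Prop extends Sit C φ t where
  two' : Two φ.range t
  kk : κ = 0 ∨ κ = 1
  mv : ∀ e a, P.B e a = 0 → Mv φ.range (Yg C φ (span F {e, a})) t (x C φ e a) (w e a)
  sq : ∀ e a, P.B e a = 0 → w e a * w e a = 1
  eqv : ∀ l e a, P.B e a = 0 → φ l * w e a * (φ l)⁻¹ = w (C.act l e) (C.act l a)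
  shift : ∀ e a μ, P.B e a = 0 → w e (a + μ • e) = w e a * z C φ e (κ * μ)
  smul : ∀ e a (l : F), P.B e a = 0 → w (l • e) a = w e (l • a)
  symm : ∀ e a, P.B e a = 0 → w a e = w e a * x C φ e (κ • a)
  add : ∀ e a b, P.B e a = 0 → P.B e b = 0 → P.B a b = 0 → w e (a + b) = w e a * w e b
  wQ : ∀ e a b c, P.B e a = 0 → P.B e b = 0 →
    w e a * τ C φ e b c * w e a = τ C φ e b (c + κ * P.B a b)
  com : ∀ e a b, P.B e a = 0 → P.B e b = 0 → Commute (w e a) (w e b)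
  cx : ∀ u v e c, P.B u v = 0 → P.B e u = 0 → P.B e v = 0 → P.B e c = 0 →
    w u v * x C φ e c * w u v = x C φ e c * w e (P.B c u • v + P.B c v • u) *
      x C φ e ((κ * P.B c v) • u) * z C φ e (κ * P.B c u * P.B c v)
  cw : ∀ u v e c, P.B u v = 0 → P.B e u = 0 → P.B e v = 0 → P.B e c = 0 →
    w u v * w e c * w u v = w e c * w e (P.B c u • v + ((1 + κ) * P.B c v) • u) *
      x C φ e (δ • (P.B c u • v + P.B c v • u)) * z C φ e (κ * δ * P.B c u * P.B c v)
  del : κ = 1 → ∀ e a b, P.B e a = 0 → P.B e b = 0 →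
    w e a * w e b = w e (a + b) * z C φ e (δ * P.B a b)
  ct : ∀ g α γ, g * t = t * g → Act C φ g α γ → ∃ μ : F, ∀ e a, P.B e a = 0 →
    g * w e a * g⁻¹ = w (γ e) (γ a) * x C φ (γ e) (μ • γ a)

/-- type A (`κ = 0`): model `Sp(V ⊗ K)`, `K = F[ω]`, `ω² = ω + δ`, `w e a = T e (ω a) 0`,
`y e β = T e 0 (ω β)` -/
structure HA (t : G) (w : V → V → G) (y : V → F → G) (δ : F) : Prop extends HW C φ t w 0 δ where
  ymv : ∀ e β, Mv φ.range (Yg C φ (span F {e})) t (z C φ e β) (y e β)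
  yadd : ∀ e β β', y e (β + β') = y e β * y e β'
  ysmul : ∀ e β (l : F), y (l • e) β = y e (l * l * β)
  yeqv : ∀ l e β, φ l * y e β * (φ l)⁻¹ = y (C.act l e) β
  ww : ∀ e a b, P.B e a = 0 → P.B e b = 0 →
    w e a * w e b = w e (a + b) * y e (P.B a b) * z C φ e (δ * P.B a b)
  yw : ∀ e a b β, P.B e a = 0 → P.B e b = 0 → P.B a b = 0 → Commute (y e β) (w a b)
  yline : ∀ e a β, P.B e a = 0 → y (e + a) β = y e β * y a β * w e (β • a)

/-- type C (`κ = 1`, `t ~ t z`): model `SU((V ⊗ K) ⊥ K v₀)`, `w e a = T e (ω a) 0`,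
`u e = T e v₀ (ω + 1)` -/
structure HC (t : G) (w : V → V → G) (u : V → G) (δ : F) : Prop extends HW C φ t w 1 δ where
  umv : ∀ e, Mv φ.range (Yg C φ (span F {e})) t (z C φ e 1) (u e)
  usq : ∀ e, u e * u e = z C φ e 1
  ueqv : ∀ l e, φ l * u e * (φ l)⁻¹ = u (C.act l e)
  uline : ∀ e a, P.B e a = 0 → u (e + a) = u e * u a * w e a
  uw : ∀ e a b, P.B e a = 0 → P.B e b = 0 → P.B a b = 0 → Commute (u e) (w a b)
  uct : ∀ g α γ, g * t = t * g → Act C φ g α γ → ∃ μ : F, ∀ e,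
    g * u e * g⁻¹ = u (γ e) * z C φ (γ e) μ

/-- type D (`t ~ t z`, `t ≁ t a`): model `Ω(V × F × F)`, `Q v + α² + α β + δ β²`, `t` the reflection in
`(0, 1, 0)`, `T e a c = ρ(e, (a, √(c + Q a), 0))` for singular `e`, `y a σ = ρ(v a, (0, 0, σ))` -/
structure HD (t : G) {m : ℕ} (Fr : Frame P m) (Q : V → F) (y : II m → F → G) (δ : F) : Prop
    extends MZ C φ t where
  qf : QF P Q
  qv : ∀ a, Q (Fr.v a) = 0
  pz : ∀ a σ, Pz C φ t (σ • Fr.v a) (y a σ)
  cQ : ∀ a σ, y a σ ∈ centralizer (Rg C φ (span F {Fr.v a}) : Set G)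
  add : ∀ a σ σ', y a (σ + σ') = y a σ * y a σ'
  yz : ∀ a σ v (r : F), P.B (Fr.v a) v = 0 → r * r = Q v →
    y a σ * z C φ v 1 * y a σ = z C φ (v + (σ * r) • Fr.v a) 1 * x C φ v (σ • Fr.v a)
  xy : ∀ a b (l σ : F), Ap a b → x C φ (Fr.v a) (l • Fr.v b.swap) * y b σ *
    x C φ (Fr.v a) (l • Fr.v b.swap) =
      y b σ * y a (l * σ) * x C φ (Fr.v a) ((δ * l * σ * σ) • Fr.v b)
  com : ∀ a b σ σ', Ap a b → Commute (y a σ) (y b σ')
  cls : ∀ l ∈ φ.range, InT t l → ∃ e, l = z C φ e 1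

end

/-- `g` centralises the involution `e` of `H` and moves `t` to `t e` -/
def Fus1 (H : Subgroup G) (t : G) : Prop :=
  ∃ e ∈ H, e * e = 1 ∧ e ≠ 1 ∧ ∃ g, Commute g e ∧ g * t * g⁻¹ = t * e

/-- the list of the theorem -/
def Pr (F : Type) [Field F] (k : ℕ) (H : Type u) [Group H] : Prop :=
  Nonempty (H ≃* Matrix.ProjectiveSpecialLinearGroup (Fin (2 * k)) F) ∨
    Nonempty (H ≃* Matrix.ProjectiveSpecialLinearGroup (Fin (2 * k + 1)) F) ∨
    (∃ (K : Type) (_ : Field K) (_ : Fintype K), Fintype.card K = Nat.card F ^ 2 ∧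
      (Nonempty (H ≃* Cfsg.PSU (2 * k) K (Nat.card F)) ∨
        Nonempty (H ≃* Cfsg.PSU (2 * k + 1) K (Nat.card F)) ∨ Nonempty (H ≃* Cfsg.PSp k K))) ∨
    Nonempty (H ≃* Cfsg.POmega F (Cfsg.quadFormPlus (k + 1) F)) ∨
    ∃ a b : F, (∀ z₁ z₂ : F, z₁ ^ 2 + a * z₁ * z₂ + b * z₂ ^ 2 = 0 → z₁ = 0 ∧ z₂ = 0) ∧
      Nonempty (H ≃* Cfsg.POmega F (Cfsg.quadFormMinus k F a b))

end CfsgLib.SPC
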