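import Cfsg.Agent.Lib.SLD.Mdl
import Cfsg.Agent.Lib.SPC.Defs

/-! Type D: definitions -/

set_option autoImplicit false

namespace CfsgLib.SPC.D

open Subgroup QuadraticMap CfsgLib.OrthE CfsgLib.SLD

universe u

variable {F V : Type} [Field F] [AddCommGroup V] [Module F V] (Q : QuadraticForm F V)
  {G : Type u} [Group G]

/-- singular vectors orthogonal to `d` -/
structure Sd (d u : V) : Prop where
  q : Q u = 0
  p : polar Q u d = 0

/-- a frame of length `k - 1` orthogonal to `d` -/
structure AFr (k : ℕ) (d : V) (e f : ℕ → V) : Prop extends Fr Q (k - 1) e f where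
  dW : d ∈ Wn Q e f (k - 1)

/-- an orthogonal space with a vector of norm one -/
structure OD (k : ℕ) (d : V) : Prop extends OS0 Q k where
  qd : Q d = 1

/-- `t` acts on the model as the reflection in `d` -/
structure DD (k : ℕ) (ψ : Om Q →* G) (t : G) (d : V) : Prop
    extends OD Q k d, HX.Std (im ψ (Fx Q {d})) t where
  inj : Function.Injective ψ
  ac : Ac ψ t (rf Q d)
  gen : ∀ K : Subgroup G, (∀ u, Sd Q d u → xx ψ u d ∈ K) → im ψ (Fx Q {d}) ≤ K
  cls : ∀ γ ∈ Fx Q {d}, IsConj t (t * ph ψ γ) → ∃ u, Sd Q d u ∧ γ = ρ Q u d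

/-- the global situation: `t` fixes a unique point of `G / N0` -/
structure DU (k : ℕ) (ψ : Om Q →* G) (t : G) (d : V) (Gs : Subgroup G) : Prop
    extends DD Q k ψ t d where
  glob : SLE.Glob Gs t
  le : ψ.range ≤ Gs
  nmem : t ∉ Gs
  u : UFP.U (N0 ψ) t

/-- the centraliser of `t` in the Sylow subgroup -/
def U0 (k : ℕ) (d : V) (e : ℕ → V) : Subgroup (SI Q) := UF Q e (k - 1) ⊓ Fx Q {d}

end CfsgLib.SPC.D

namespace CfsgLib.SPC

open Subgroup CfsgLib.Forms CfsgLib.LieMult QuadraticMap
open CfsgLib.ClSys (II)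
open CfsgLib.SLD (Om Fx)

universe u

variable {F : Type} [Field F] {V : Type} [AddCommGroup V] [Module F V]
  {P : PQ (RingHom.id F) V} {S : Type} [Group S] {G : Type u} [Group G] {Q : V → F}

/-- the form `Q v + α² + α β + δ β²` -/
def Qh (h : QF P Q) (δ : F) : QuadraticForm F (V × F × F) where
  toFun p := Q p.1 + p.2.1 * p.2.1 + p.2.1 * p.2.2 + δ * (p.2.2 * p.2.2)
  toFun_smul c p := by
    simp only [Prod.smul_fst, Prod.smul_snd, smul_eq_mul, h.smul]; ring
  exists_companion' := ⟨LinearMap.mk₂ F (fun p p' => P.B p.1 p'.1 + 2 * (p.2.1 * p'.2.1) +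
      (p.2.1 * p'.2.2 + p.2.2 * p'.2.1) + δ * (2 * (p.2.2 * p'.2.2)))
      (fun p q r => by simp only [Prod.fst_add, Prod.snd_add, map_add, LinearMap.add_apply]; ring)
      (fun c p q => by
        simp only [Prod.smul_fst, Prod.smul_snd, smul_eq_mul, P.B_smul_left, RingHom.id_apply]; ring)
      (fun p q r => by simp only [Prod.fst_add, Prod.snd_add, map_add]; ring)
      (fun c p q => by simp only [Prod.smul_fst, Prod.smul_snd, smul_eq_mul, map_smul]; ring),
    fun p q => by
      simp only [Prod.fst_add, Prod.snd_add, h.add, LinearMap.mk₂_apply]; ring⟩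

variable (F V) in
/-- the vector `d` -/
def dd : V × F × F := (0, 1, 0)

variable {k : ℕ} (Fr : Frame P k)

/-- the frame vectors in the big space -/
def vh (a : II k) : V × F × F := (Fr.v a, 0, 0)

/-- the first half of the frame -/
def eh (i : ℕ) : V × F × F := if h : i < k then vh Fr (.inl ⟨i, h⟩) else 0

/-- the second half of the frame -/
def fh (i : ℕ) : V × F × F := if h : i < k then vh Fr (.inr ⟨i, h⟩) else 0

variable (C : CG P S)

/-- `γ` fixes `d` and induces `s` on `d^⊥ / d` -/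
structure Cor (h : QF P Q) (δ : F) (s : S) (γ : SLD.SI (Qh h δ)) : Prop where
  mem : γ ∈ Fx (Qh h δ) {dd F V}
  act : ∀ (v : V) (α : F), (γ • ((v, α, 0) : V × F × F)).1 = C.act s v

/-- the element `ρ (v a, p)` -/
def Xh (φ : S →* G) (Q : V → F) (y : II k → F → G) (a : II k) (p : V × F × F) : G :=
  τ C φ (Fr.v a) p.1 (p.2.1 * p.2.1 + Q p.1) * y a p.2.2

end CfsgLib.SPC
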