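import Cfsg.Agent.Lib.SPC.DBas
import Cfsg.Agent.Lib.SLD.Desc

/-! Type D: no conjugate of `t` induces a field automorphism -/

set_option autoImplicit false
set_option linter.unusedSectionVars false

namespace CfsgLib.SPC.D

open Subgroup QuadraticMap CfsgLib.OrthE CfsgLib.SLD Module
open scoped commutatorElement Pointwise

universe u

variable {F V : Type} [Field F] [Finite F] [AddCommGroup V] [Module F V] [Finite V] {Q : QuadraticForm F V}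
  {k : ℕ} {d : V} {G : Type u} [Group G] [Finite G] {ψ : Om Q →* G} {t : G}

theorem DD.fx (h : DD Q k ψ t d) {g : G} {γ : SI Q} (h1 : Ac ψ (g * t * g⁻¹) γ) : γ.σ = 1 := by
  by_contra hσ
  have γ2 := h.ac_sq h1 (by
    rw [show g * t * g⁻¹ * (g * t * g⁻¹) = g * (t * t) * g⁻¹ by group, h.t2]; group)
  obtain ⟨F₀, _, _, j, hj⟩ := exists_fld γ.σ
  obtain ⟨V₀, _, _, _, Q₀, ι, ds⟩ := exists_ds γ2 hσ j hj
  obtain ⟨e, f, fr0⟩ := (ds.os0 h.toOS0).exists_fr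
  have f0 : Fr Q₀ 3 e f := fr0.mono (by have := h.four; omega)
  have fr := ds.fr f0
  obtain ⟨θ, hθ⟩ := h90 h.two ds.σsq hσ
  have key : ∀ u w : V₀, Q₀ u = 0 → polar Q₀ u w = 0 →
      ∃ a, Sd Q d a ∧ g⁻¹ * xx ψ (ι u) (ι w) * g = xx ψ a d := by
    intro u w hu hw
    have qu := ds.map0.2 hu
    have pw := ds.pol0.2 hw
    have ps : ∀ s : F, polar Q (ι u) (s • ι w) = 0 := fun s => by rw [polar_smul_right, pw, smul_zero]
    have c1 := ph_mem_im (φ := ψ) (h.semi_perf γ2 hσ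
      ⟨ρ_mem Q (ι u) (ι w), UFP.mem_cent1.2 (ds.comm_rat u w)⟩)
    rw [im_comm inf_le_left inf_le_left] at c1
    have c2 := mem_map_of_mem (MulAut.conj g⁻¹).toMonoidHom c1
    have c3 : (im ψ (Om Q ⊓ centralizer {γ})).map (MulAut.conj g⁻¹).toMonoidHom ≤ centralizer {t} := by
      rintro _ ⟨x, hx, rfl⟩
      obtain ⟨b, hb, hb', rfl⟩ := mem_im.1 hx
      have := (h1.comm hb' (UFP.mem_cent1.1 hb.2)).eq
      refine UFP.mem_cent1.2 ?_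
      show t * (g⁻¹ * ph ψ b * g⁻¹⁻¹) = g⁻¹ * ph ψ b * g⁻¹⁻¹ * t
      calc _ = g⁻¹ * (g * t * g⁻¹ * ph ψ b) * g := by group
        _ = _ := by rw [this]; group
    rw [Subgroup.map_commutator] at c2
    have c4 : g⁻¹ * xx ψ (ι u) (ι w) * g ∈ im ψ (Fx Q {d}) := h.comm2 (by
      simpa [xx] using commutator_mono c3 c3 c2) (by
      rw [show g⁻¹ * xx ψ (ι u) (ι w) * g * (g⁻¹ * xx ψ (ι u) (ι w) * g) =
        g⁻¹ * (xx ψ (ι u) (ι w) * xx ψ (ι u) (ι w)) * g by group, h.xx_sq]; group)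
    obtain ⟨b, hb, -, eb⟩ := mem_im.1 c4
    have c5 := h1.conj_ph (ρ_mem Q (ι u) (θ • ι w)) (e := ρ Q (ι u) (ι w)) (by
      have e1 := conj_ρ γ (ι u) (θ • ι w)
      rw [ds.fix', γ.smul_smul, ds.fix', inv_eq_of_mul_eq_one_right γ2] at e1
      have e2 := ρ_mul qu (ps (γ.σ θ)) (ps θ)
      rw [← add_smul, add_comm, hθ, one_smul] at e2
      rw [← e2, ← e1, h.ρ_inv, ← mul_assoc, ← mul_assoc, ← mul_assoc, γ2, one_mul])
    obtain ⟨a, ha, rfl⟩ := h.cls b hb (isConj_iff.2 ⟨g⁻¹ * ph ψ (ρ Q (ι u) (θ • ι w)) * g, by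
      rw [← eb, xx]
      calc _ = g⁻¹ * (ph ψ (ρ Q (ι u) (θ • ι w)) * (g * t * g⁻¹) * (ph ψ (ρ Q (ι u) (θ • ι w)))⁻¹) * g := by group
        _ = _ := by rw [c5]; group⟩)
    exact ⟨a, ha, eb⟩
  have tv : ∀ {x y : G} {a b c : V}, Sd Q d a → Sd Q d b → Sd Q d c → x ≠ 1 → g⁻¹ * x * g = xx ψ a d →
      g⁻¹ * y * g = xx ψ b d → g⁻¹ * (x * y) * g = xx ψ c d → ∃ s : F, g⁻¹ * y * g = xx ψ a (s • d) := by
    intro x y a b c ha hb hc x1 e1 e2 e3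
    obtain ⟨s, rfl⟩ := h.tv ha hb hc (by
      rintro rfl
      rw [xx, ρ_zero_left, ph_one, mul_assoc, inv_mul_eq_one, right_eq_mul] at e1
      exact x1 e1) (ph_inj h.inj (mul_mem (ρ_mem Q _ _) (ρ_mem Q _ _)) (ρ_mem Q _ _) (by
      rw [ph_mul (ρ_mem Q _ _) (ρ_mem Q _ _), ← xx, ← xx, ← xx, ← e1, ← e2, ← e3]; group))
    exact ⟨s, by rw [e2, xx, xx, ρ_smul_left s ha.q ha.p]⟩
  have r := fr.rp (i := 0) (j := 1) (by omega) (by omega) (by omega)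
  have q0 := f0.qe 0 (by omega)
  have q1 := f0.qe 1 (by omega)
  have p01 := f0.ee 0 (by omega) 1 (by omega)
  have p02 := f0.ee 0 (by omega) 2 (by omega)
  have p10 := f0.ee 1 (by omega) 0 (by omega)
  have p12 := f0.ef' 1 (by omega) 2 (by omega) (by omega)
  have n1 : xx ψ (ι (e 0)) (ι (e 1)) ≠ 1 := fun e' => h.ρ_ne_one r (ph_eq_one h.inj (ρ_mem Q _ _) e')
  obtain ⟨a, ha, ea⟩ := key _ _ q0 p01
  obtain ⟨b, hb, eb⟩ := key _ _ q0 p02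
  obtain ⟨c, hc, ec⟩ := key _ (e 1 + e 2) q0 (by rw [polar_add_right, p01, p02, add_zero])
  obtain ⟨b', hb', eb'⟩ := key _ _ q1 p12
  obtain ⟨c', hc', ec'⟩ := key _ (e 0 + f 2) q1 (by rw [polar_add_right, p10, p12, add_zero])
  rw [map_add, ← xx_mul r.qu r.uv (ds.pol0.2 p02)] at ec
  have sw := h.xx_swap (φ := ψ) r.qu r.qv r.uv 1
  rw [one_smul, one_smul] at sw
  rw [map_add, ← xx_mul r.qv r.vu (ds.pol0.2 p12), sw] at ec'
  obtain ⟨s, es⟩ := tv ha hb hc n1 ea eb ec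
  obtain ⟨s', es'⟩ := tv ha hb' hc' n1 ea eb' ec'
  have cm : Commute (xx ψ (ι (e 0)) (ι (e 2))) (xx ψ (ι (e 1)) (ι (f 2))) := by
    have := (xx_comm (φ := ψ) a (s • d) (s' • d)).eq
    rw [← es, ← es'] at this
    calc _ = g * (g⁻¹ * xx ψ (ι (e 0)) (ι (e 2)) * g * (g⁻¹ * xx ψ (ι (e 1)) (ι (f 2)) * g)) * g⁻¹ := by group
      _ = _ := by rw [this]; group
  have e3 := h.ρ_conj_ρ r.qu r.qv r.uv (ds.pol0.2 p02) (fr.ee 1 (by omega) 2 (by omega))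
    (fr.ef' 0 (by omega) 2 (by omega) (by omega)) (ds.pol0.2 p12)
  rw [(comm_of_ph h.inj (ρ_mem Q _ _) (ρ_mem Q _ _) cm).eq, mul_inv_cancel_right, fr.ef 2 (by omega), one_smul,
    left_eq_mul] at e3
  exact h.ρ_ne_one r e3

end CfsgLib.SPC.D
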