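import Cfsg.Agent.Lib.SPC.DGeo
import Cfsg.Agent.Lib.SLD.Chn
import Cfsg.Agent.Lib.UFP.Gr

/-! Type D: the Sylow subgroup and its central series in the model -/

set_option autoImplicit false
set_option linter.unusedSectionVars false

namespace CfsgLib.SPC.D

open Subgroup QuadraticMap CfsgLib.OrthE CfsgLib.SLD Module
open scoped commutatorElement Pointwise

universe u

variable {F V : Type} [Field F] [Finite F] [AddCommGroup V] [Module F V] [Finite V] {Q : QuadraticForm F V}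
  {k : ℕ} {d : V}

open CfsgLib.SLD.ChX

namespace OD

variable (h : OD Q k d) {e f : ℕ → V} (fr : AFr Q k d e f)
include h fr

omit h in
theorem df_pp {m : ℕ} (hm : m ≤ k - 1) : d ∈ pp Q (Tn F e m) := pp_anti (Tn_mono e hm) fr.dW.1

omit h in
theorem df_ed {i : ℕ} (hi : i < k - 1) : polar Q (e i) d = 0 := pol_e (df_pp fr hi)

omit h in
theorem df_td {t : V} (ht : t ∈ Tn F e (k - 1)) : polar Q t d = 0 := by
  rw [polar_comm]; exact fr.dW.1 t ht

theorem r_e {i : ℕ} (hi : i < k - 1) : rf Q d • e i = e i := 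
  rf_fix (df_ed fr hi)

theorem d_not_mem : d ∉ Tn F e (k - 1) := fun hd =>
  one_ne_zero (h.qd.symm.trans (fr.ts le_rfl d hd))

theorem df_g : ∃ g ∈ pp Q (Tn F e (k - 1)), polar Q g d = 1 := by
  obtain ⟨g, h1, h2⟩ := h.exists_pol (h.d_not_mem fr)
  exact ⟨g, h1, by rwa [polar_comm]⟩

theorem df_q {t : V} (ht : t ∈ Tn F e (k - 1)) (s : F) : Q (t + s • d) = s * s := by
  rw [Q_add, fr.ts le_rfl t ht, polar_smul_right, df_td fr ht, Q.map_smul, h.qd]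
  simp

theorem df_lag {x : V} (h1 : x ∈ pp Q (Tn F e (k - 1))) (h2 : polar Q x d = 0) :
    ∃ t ∈ Tn F e (k - 1), ∃ s : F, x = t + s • d := by
  have k4 := h.four
  have a1 : Tn F e (k - 1) < Tn F e (k - 1) ⊔ Submodule.span F {d} :=
    lt_of_le_of_ne le_sup_left fun c => h.d_not_mem fr
      (c ▸ Submodule.mem_sup_right (Submodule.mem_span_singleton_self d))
  have a2 := Submodule.finrank_lt_finrank_of_lt a1
  have a3 := h.finrank_pp (Tn F e (k - 1) ⊔ Submodule.span F {d})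
  rw [fr.finrank_Tn le_rfl] at a2
  have a4 : Tn F e (k - 1) ⊔ Submodule.span F {d} = pp Q (Tn F e (k - 1) ⊔ Submodule.span F {d}) := by
    refine Submodule.eq_of_le_of_finrank_le ?_ (by omega)
    rw [pp_sup]
    refine sup_le (le_inf (fr.ts le_rfl).le_pp fun t ht => mem_pp_span.2 fun y hy => ?_)
      ((Submodule.span_singleton_le_iff_mem _ _).2 ⟨fr.dW.1, mem_pp_span.2 fun y hy => ?_⟩)
    · rw [Set.mem_singleton_iff.1 hy, df_td fr ht]
    · rw [Set.mem_singleton_iff.1 hy, h.pol_self]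
  have a5 : x ∈ Tn F e (k - 1) ⊔ Submodule.span F {d} := by
    rw [a4, pp_sup]
    exact ⟨h1, mem_pp_span.2 fun y hy => by rw [Set.mem_singleton_iff.1 hy, h2]⟩
  obtain ⟨t, ht, y, hy, rfl⟩ := Submodule.mem_sup.1 a5
  obtain ⟨s, rfl⟩ := Submodule.mem_span_singleton.1 hy
  exact ⟨t, ht, s, rfl⟩

theorem df_step {i : ℕ} (hi : i < k - 1) {x : V} (hq : Q x = 0)
    (hx : ∀ w ∈ pp Q (Tn F e (i + 1)), polar Q w d = 0 → ρ Q (e i) w • x - x ∈ Tn F e i) :
    x ∈ Tn F e (i + 1) := by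
  have a1 : polar Q x (e i) = 0 := by
    by_contra c
    have := Tn_mono e hi.le (hx d (df_pp fr hi) (h.pol_self d))
    rw [h.ρ_smul (fr.qe i hi) (df_ed fr hi)] at this
    have he := e_mem_Tn (F := F) (e := e) hi
    have := sub_mem (sub_mem this (Submodule.smul_mem _ (polar Q x d) he))
      (Submodule.smul_mem _ (Q d * polar Q x (e i)) he)
    refine h.d_not_mem fr ((Submodule.smul_mem_iff _ c).1 ?_)
    convert this using 1
    module
  have a2 : x ∈ Tn F e (i + 1) ⊔ Submodule.span F {d} := by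
    rw [← h.pp_pp (Tn F e (i + 1) ⊔ Submodule.span F {d})]
    intro w hw
    rw [pp_sup] at hw
    have := hx w hw.1 (hw.2 d (Submodule.mem_span_singleton_self d))
    rw [ρ_left (fr.qe i hi) (pol_e hw.1) a1, add_sub_cancel_left] at this
    by_contra c
    exact fr.e_not_mem hi le_rfl ((Submodule.smul_mem_iff _ c).1 this)
  obtain ⟨t, ht, y, hy, rfl⟩ := Submodule.mem_sup.1 a2
  obtain ⟨s, rfl⟩ := Submodule.mem_span_singleton.1 hy
  rw [h.df_q fr (Tn_mono e hi ht), mul_self_eq_zero] at hq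
  rwa [hq, zero_smul, add_zero]

theorem flg_of {P : Subgroup (SI Q)} (hP : IsPGroup 2 P) (h0 : U0 Q k d e ≤ P) :
    ∀ γ ∈ P, γ ∈ Om Q → γ ∈ UF Q e (k - 1) := by
  obtain ⟨e', f', fr', hf⟩ := h.flag hP
  have key : ∀ i ≤ k - 1, Tn F e' i = Tn F e i := by
    intro i
    induction i with
    | zero => intro _; rw [Tn_zero, Tn_zero]
    | succ i ih =>
      intro hi
      have e1 := ih (Nat.le_of_succ_le hi)
      have hx : e' i ∈ Tn F e (i + 1) := h.df_step fr hi (fr'.qe i hi) fun w h1 h2 => by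
        rw [← e1]
        refine hf _ (h0 ⟨ρ_mem_UF hi h1, mem_Fx.2 ⟨ρ_mem _ _ _, fun y hy => ?_⟩⟩) i hi
        rw [Set.mem_singleton_iff.1 hy]
        exact ρ_fix (by rw [polar_comm]; exact df_ed fr hi) (by rw [polar_comm]; exact h2)
      refine Submodule.eq_of_le_of_finrank_eq ?_ (by rw [fr'.finrank_Tn hi, fr.finrank_Tn hi])
      rw [Tn_succ e', e1]
      exact sup_le (Tn_mono e i.le_succ) ((Submodule.span_singleton_le_iff_mem _ _).2 hx)
  intro γ hγ hO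
  have h2 : IsPGroup 2 (zpowers γ) := hP.to_le (zpowers_le.2 hγ)
  refine h.flag_Om fr.toFr hO h2 (h.flg_of_two fr.toFr (σ_Om hO) h2 fun i hi => ?_)
  rw [← key _ hi]
  exact smul_mem_Tn (hf γ hγ).mem hi (by rw [key _ hi]; exact e_mem_Tn i.lt_succ_self)

theorem cj_m {v : V} (hv : Q v = 1) (e' : rf Q v * rf Q d ∈ UF Q e (k - 1)) :
    ∃ n ∈ UF Q e (k - 1), n • d = v := by
  obtain ⟨g, g1, g2⟩ := h.df_g fr
  have a1 := ((h.mem_UF fr.toFr).1 e').2.2 (g + d) (add_mem g1 fr.dW.1)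
  have a2 : rf Q d • (g + d) = g := by
    rw [h.rf_smul, h.qd, polar_add_left, g2, h.pol_self, add_assoc]
    simp [h.addV]
  rw [mul_smul, a2, h.rf_smul, hv, inv_one, one_mul, add_sub_add_left_eq_sub] at a1
  have a3 := h.df_q fr a1 1
  rw [one_smul, sub_add_cancel, Q.map_smul, hv, smul_eq_mul, mul_one, mul_one] at a3
  rw [h.eq_one a3, one_smul] at a1
  refine ⟨ρ Q (v - d) g, h.NT_le_UF fr.toFr le_rfl (ρ_mem_NT (fr.ts le_rfl) a1 g1), ?_⟩
  rw [ρ_left (fr.ts le_rfl _ a1) (by rw [polar_comm]; exact g1 _ a1) (fr.dW.1 _ a1), polar_comm, g2, one_smul,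
    add_sub_cancel]

theorem df_flg : Flg e (k - 1) (rf Q d) := fun i hi => by rw [h.r_e fr hi, sub_self]; exact zero_mem _

theorem df_conj {i : ℕ} (hi : i ≤ 2 * k * (k - 1)) :
    ∀ x ∈ Ch (Q := Q) e k i, rf Q d * x * (rf Q d)⁻¹ ∈ Ch e k i := by
  have ha := Nat.div_le_of_le_mul hi
  rw [Ch]
  generalize i / (2 * k) = a, i % (2 * k) = b at *
  have h3 : ∀ n ≤ k - 1, ∀ x ∈ pp Q (Tn F e n), rf Q d • x ∈ pp Q (Tn F e n) := fun n hn =>
    smul_mem_pp fun x hx => smul_mem_Tn (h.df_flg fr).mem hn hx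
  refine conj_of_le (MM_le (UF_le.2 fun i hi w hw => ?_) fun ha w k1 k2 => ?_)
  · change rf Q d * ρ Q _ _ * (rf Q d)⁻¹ ∈ MM e k a (Gf (Q := Q) e k b)
    rw [conj_ρ, h.r_e fr (by omega)]
    exact UF_le_MM (ρ_mem_UF hi (h3 _ (by omega) _ hw))
  · change rf Q d * ρ Q _ _ * (rf Q d)⁻¹ ∈ MM e k a (Gf (Q := Q) e k b)
    rw [conj_ρ, h.r_e fr ha]
    exact ρ_mem_MM ha (Gf_inv (h.df_flg fr).mem _ _ k1) (h3 _ ha _ k2)

theorem df_R {a : ℕ} (ha : a < k - 1) {x : SI Q} {w : V} (r : R e a x w) :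
    R e a (rf Q d * x * (rf Q d)⁻¹ * x⁻¹) (polar Q w d • d) := by
  have := (r.conj h.toOS0 fr.toFr ha (h.df_flg fr)).mul h.toOS0 fr.toFr ha (r.inv h.toOS0 fr.toFr ha)
  rwa [h.rf_smul, h.qd, inv_one, one_mul, add_right_comm, h.addV, zero_add] at this

theorem ser : UFP.Ser (rf Q d) (UF Q e (k - 1)) (2 * k * (k - 1)) (Ch e k) := by
  have k4 := h.four
  have fr' := fr.toFr
  have h' := h.toOS0
  refine ⟨rf_sq d, ?_, ?_, fun i hi => ?_, fun i hi => mem_normalizer_fintype (h.df_conj fr hi),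
    fun i hi u hu x hx => ?_, fun i hi x hx => ?_⟩
  · rw [Ch, Nat.zero_div, Nat.zero_mod, Gf_zero (by omega), MM_bot]
    exact eq_bot_iff.2 (UF_le.2 fun i hi => absurd hi i.not_lt_zero)
  · rw [Ch, Nat.mul_div_cancel_left _ (by omega), Nat.mul_mod_right, Gf_zero (by omega), MM_bot]
  all_goals obtain ⟨a, b, ha, hb, e1, e2⟩ := Ch_eq (Q := Q) (e := e) hi
  · rw [e1, e2]
    exact MM_mono (Gf_mono h' fr')
  all_goals
    rw [e2] at hx
    obtain ⟨w, hw, r⟩ := exists_R h' fr' ha hx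
  · rw [e1]
    refine ((r.conj h' fr' ha ((h'.mem_UF fr').1 hu).2.1).mul h' fr' ha (r.inv h' fr' ha)).mem' h' fr' ha ?_
    rw [← h'.subV]
    exact Gf_triv h' fr' hu hb hw
  · rw [e1]
    refine (r.mul h' fr' ha r).mem' h' fr' ha ?_
    rw [h'.addV]
    exact zero_mem _

/-- the only layers on which the reflection acts non-trivially -/
theorem layer {i : ℕ} (hi : i < 2 * k * (k - 1)) {x : SI Q} (hx : x ∈ Ch e k (i + 1))
    (hn : rf Q d * x * (rf Q d)⁻¹ * x⁻¹ ∉ Ch e k i) :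
    ∃ a < k - 1, Ch (Q := Q) e k i = MM e k a (Tn F e (k - 1)) ∧
      Ch (Q := Q) e k (i + 1) = MM e k a (pp Q (Tn F e (k - 1))) := by
  obtain ⟨a, b, ha, hb, e1, e2⟩ := Ch_eq (Q := Q) (e := e) hi
  rw [e2] at hx
  obtain ⟨w, hw, r⟩ := exists_R h.toOS0 fr.toFr ha hx
  have a1 : polar Q w d • d ∉ Gf (Q := Q) e k b := fun c =>
    hn (e1 ▸ (h.df_R fr ha r).mem' h.toOS0 fr.toFr ha c)
  rcases lt_trichotomy b k with c | rfl | c
  · rw [Gf_lo c] at hw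
    rw [df_td fr (Tn_mono e (min_le_right _ _) hw), zero_smul] at a1
    exact absurd (zero_mem _) a1
  · refine ⟨a, ha, ?_, ?_⟩
    · rw [e1, Gf_lo le_rfl, min_eq_right (by omega)]
    · rw [e2, Gf_hi b.lt_succ_self, show 2 * b - (b + 1) = b - 1 by omega]
  · rw [Gf_hi c] at a1
    exact absurd (Submodule.smul_mem _ _ (df_pp fr (by omega))) a1

theorem fix_m : ∀ i < 2 * k * (k - 1), ∀ x ∈ Ch (Q := Q) e k (i + 1),
    rf Q d * x * (rf Q d)⁻¹ * x⁻¹ ∈ Ch e k i → ∃ m ∈ Ch (Q := Q) e k i,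
      (∃ u, Sd Q d u ∧ x * m = ρ Q u d) ∨
        ∃ u v, RP Q u v ∧ polar Q u d = 0 ∧ polar Q v d = 0 ∧ x * m = ρ Q u v := by
  intro i hi x hx hx'
  have h' := h.toOS0
  have fr' := fr.toFr
  obtain ⟨a, b, ha, hb, e1, e2⟩ := Ch_eq (Q := Q) (e := e) hi
  rw [e2] at hx
  rw [e1] at hx' ⊢
  obtain ⟨w, hw, r⟩ := exists_R h' fr' ha hx
  suffices H : ∃ w' ∈ pp Q (Tn F e (a + 1)), w + w' ∈ Gf (Q := Q) e k b ∧
      ((∃ u, Sd Q d u ∧ ρ Q (e a) w' = ρ Q u d) ∨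
        ∃ u v, RP Q u v ∧ polar Q u d = 0 ∧ polar Q v d = 0 ∧ ρ Q (e a) w' = ρ Q u v) by
    obtain ⟨w', k1, k2, k3⟩ := H
    refine ⟨x⁻¹ * ρ Q (e a) w', ((r.inv h' fr' ha).mul h' fr' ha (R.of k1)).mem' h' fr' ha k2, ?_⟩
    rwa [mul_inv_cancel_left]
  have form : ∀ w' ∈ pp Q (Tn F e (a + 1)), Q w' = 0 → polar Q w' d = 0 →
      (∃ u, Sd Q d u ∧ ρ Q (e a) w' = ρ Q u d) ∨
        ∃ u v, RP Q u v ∧ polar Q u d = 0 ∧ polar Q v d = 0 ∧ ρ Q (e a) w' = ρ Q u v := by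
    intro w' k1 k2 k3
    by_cases c : ∃ s : F, w' = s • e a
    · obtain ⟨s, rfl⟩ := c
      exact .inl ⟨0, ⟨map_zero _, polar_zero_left _ _⟩, by rw [ρ_self, ρ_zero_left]⟩
    · exact .inr ⟨e a, w', ⟨fr.qe a ha, k2, pol_e k1, (fr.hyp ha).e_ne, fun s c' => c ⟨s, c'⟩⟩,
        df_ed fr ha, k3, rfl⟩
  rcases lt_trichotomy b k with c | rfl | c
  · rw [Gf_lo c] at hw
    have hw' := Tn_mono e (min_le_right _ _) hw
    exact ⟨w, r.1, by rw [h.addV]; exact zero_mem _, form w r.1 (fr.ts le_rfl w hw') (df_td fr hw')⟩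
  · rw [Gf_hi b.lt_succ_self, show 2 * b - (b + 1) = b - 1 by omega] at hw
    rw [Gf_lo le_rfl, min_eq_right (by omega)] at hx' ⊢
    have k1 := (h.df_R fr ha r).hat h' fr' ha (act h' fr' ha hx' (fr'.f_pp ha le_rfl))
    have k2 : polar Q w d = 0 := by
      by_contra c
      have k3 : hat (Q := Q) e a (Tn F e (b - 1)) ≤ Tn F e (b - 1) := sup_le inf_le_left (Tn_mono e ha)
      exact h.d_not_mem fr ((Submodule.smul_mem_iff _ c).1 (k3 k1))
    obtain ⟨t, ht, s, rfl⟩ := h.df_lag fr hw k2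
    refine ⟨s • d, Submodule.smul_mem _ _ (df_pp fr ha), by rwa [add_assoc, h.addV, add_zero],
      .inl ⟨s • e a, fr.sd (Submodule.smul_mem _ _ (e_mem_Tn ha)), ?_⟩⟩
    rw [ρ_smul_left s (fr.qe a ha) (df_ed fr ha)]
  · obtain ⟨g, g1, g2⟩ := h.df_g fr
    obtain ⟨s, hs⟩ := h.sqrt (Q (w + polar Q w d • g))
    have k1 : polar Q (w + polar Q w d • g) d = 0 := by
      rw [polar_add_left, polar_smul_left, g2, smul_eq_mul, mul_one, h.addF]
    have k2 : polar Q w d • g + s • d ∈ pp Q (Tn F e (k - 1)) :=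
      add_mem (Submodule.smul_mem _ _ g1) (Submodule.smul_mem _ _ fr.dW.1)
    have k3 := add_mem r.1 (pp_anti (Tn_mono e ha) k2)
    refine ⟨_, k3, ?_, form _ k3 ?_ ?_⟩
    · rw [← add_assoc, h.addV, zero_add, Gf_hi c]
      exact pp_anti (Tn_mono e (by omega)) k2
    · rw [← add_assoc, Q_add, polar_smul_right, k1, Q.map_smul, h.qd, ← hs]
      simp [h.addF]
    · rw [← add_assoc, polar_add_left, k1, polar_smul_left, h.pol_self, smul_zero, add_zero]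

theorem lin2_m : ∀ i < 2 * k * (k - 1), ∀ x ∈ Ch (Q := Q) e k (i + 1),
    rf Q d * x * (rf Q d)⁻¹ * x⁻¹ ∉ Ch e k i → ∀ γ : SI Q,
    (∀ y ∈ Ch (Q := Q) e k (i + 1), rf Q d * y * (rf Q d)⁻¹ * y⁻¹ ∈ Ch e k i → Commute y γ) →
    (rf Q d)⁻¹ * (γ * rf Q d * γ⁻¹) ∈ Ch (Q := Q) e k (i + 1) := by
  intro i hi x hx hn γ H
  obtain ⟨a, ha, -, e2⟩ := h.layer fr hi hx hn
  have hu : Sd Q d (e a) := fr.sd (e_mem_Tn ha)
  have mem : ∀ s : F, ρ Q (e a) (s • d) ∈ Ch (Q := Q) e k (i + 1) := fun s =>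
    e2 ▸ ρ_mem_MM ha (Submodule.smul_mem _ s fr.dW.1) (Submodule.smul_mem _ s (df_pp fr ha))
  have hy := mem 1
  rw [one_smul] at hy
  have c := H _ hy (by rw [conj_ρ, h.r_e fr ha, h.rf_d, mul_inv_cancel]; exact one_mem _)
  obtain ⟨-, s, hs⟩ := h.fix_of_comm hu (fr.hyp ha).e_ne c.symm
  rw [conj_rf, hs, h.rf_shift hu, inv_mul_cancel_left]
  exact mem s

end OD

end CfsgLib.SPC.D
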