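import Cfsg.Agent.Lib.SPC.DDefs
import Cfsg.Agent.Lib.SLD.Inv

/-! Type D: geometry of a vector of norm one -/

set_option autoImplicit false
set_option linter.unusedSectionVars false
set_option linter.unusedVariables false

namespace CfsgLib.SPC.D

open Subgroup QuadraticMap CfsgLib.OrthE CfsgLib.SLD Module
open scoped commutatorElement Pointwise

universe u

variable {F V : Type} [Field F] [Finite F] [AddCommGroup V] [Module F V] [Finite V] {Q : QuadraticForm F V}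
  {k : ℕ} {d : V}

theorem Sd.geo_p {u : V} (hu : Sd Q d u) : polar Q d u = 0 := (polar_comm Q _ _).trans hu.p

namespace OD

variable (h : OD Q k d)
include h

variable {u v w a b c : V} {γ : SI Q}

theorem geo_ne : Q d ≠ 0 := h.qd ▸ one_ne_zero

theorem geo_map (γ : SI Q) : Q (γ • d) = 1 := by rw [γ.map, h.qd, map_one]

theorem geo_q (hu : Sd Q d u) (s : F) : Q (d + s • u) = 1 := by
  rw [Q_add, Q_smul, hu.q, polar_smul_right, hu.geo_p, h.qd, mul_zero, smul_zero, add_zero, add_zero]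

theorem geo_zero (hu : Sd Q d u) {s r : F} (e : Q (s • u + r • d) = 0) : r = 0 := by
  rwa [Q_add, Q_smul, Q_smul, hu.q, polar_smul_left, polar_smul_right, hu.p, h.qd, mul_zero, smul_zero, smul_zero,
    zero_add, add_zero, mul_one, mul_self_eq_zero] at e

theorem rf_not : rf Q d ∉ Om Q := h.rf_not_mem h.geo_ne

theorem rf_d : rf Q d • d = d := rf_fix (h.pol_self d)

theorem ex_w (hu : Sd Q d u) : ∃ w, polar Q u w = 0 ∧ polar Q w d = 1 := by
  obtain ⟨w, h1, h2⟩ := h.exists_pol (T := Submodule.span F {u}) (x := d) fun hm => by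
    obtain ⟨a, ha⟩ := Submodule.mem_span_singleton.1 hm
    exact h.geo_ne (by rw [← ha, Q_smul, hu.q, mul_zero])
  exact ⟨w, by rw [polar_comm, mem_pp_one.1 h1], by rw [polar_comm, h2]⟩

theorem ρd_mem (hu : Sd Q d u) (s : F) : ρ Q u (s • d) ∈ Fx Q {d} :=
  mem_Fx.2 ⟨ρ_mem Q _ _, by
    rintro _ rfl
    exact ρ_fix hu.geo_p (by rw [polar_smul_right, h.pol_self, smul_zero])⟩

theorem ρd_mem' (hu : Sd Q d u) : ρ Q u d ∈ Fx Q {d} := by
  simpa only [one_smul] using h.ρd_mem hu 1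

theorem rf_shift (hu : Sd Q d u) (s : F) : rf Q (d + s • u) = rf Q d * ρ Q u (s • d) := by
  have := h.rf_add (u := s • u) (v := d) (by rw [Q_smul, hu.q, mul_zero])
    (by rw [polar_smul_left, hu.p, smul_zero]) h.geo_ne
  rwa [h.qd, one_smul, ρ_smul_left s hu.q hu.p] at this

theorem conj_r (hu : Sd Q d u) (hw : polar Q u w = 0) :
    ρ Q u w * rf Q d * (ρ Q u w)⁻¹ = rf Q d * ρ Q u (polar Q w d • d) := by
  rw [conj_rf, ρ_left hu.q hw hu.geo_p, h.rf_shift hu, polar_comm Q d w]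

theorem rf_inj (hv : Q v = 1) (e : rf Q v = rf Q d) : v = d := by
  obtain ⟨x, -, hx⟩ := h.exists_pol (T := ⊥) (x := d) fun hm => h.geo_ne (by rw [(Submodule.mem_bot F).1 hm, map_zero])
  have e1 := congrArg (· • x) e
  simp only [h.rf_smul, hv, h.qd, inv_one, one_mul, polar_comm Q x d, hx, one_smul, add_right_inj] at e1
  have e2 := congrArg Q e1
  rw [Q_smul, hv, h.qd, mul_one] at e2
  rwa [h.eq_one e2, one_smul] at e1

theorem fix_d (hc : Commute γ (rf Q d)) : γ • d = d :=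
  h.rf_inj (h.geo_map γ) (by rw [← conj_rf, hc.eq, mul_inv_cancel_right])

theorem comm_r (hc : γ • d = d) : Commute γ (rf Q d) := by
  have := conj_rf γ d
  rwa [hc, mul_inv_eq_iff_eq_mul] at this

theorem ρd_inj (ha : Sd Q d a) (hb : Sd Q d b) (e : ρ Q a d = ρ Q b d) : a = b := by
  have e1 : rf Q (d + (1 : F) • a) = rf Q (d + (1 : F) • b) := by
    rw [h.rf_shift ha, h.rf_shift hb, one_smul, e]
  have := OD.rf_inj ⟨h.toOS0, h.geo_q hb 1⟩ (h.geo_q ha 1) e1
  simpa using this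

theorem comm_ρd (ha : Sd Q d a) (hb : Sd Q d b) (hab : polar Q a b = 0) (s r : F) :
    Commute (ρ Q a (s • d)) (ρ Q b (r • d)) :=
  comm_ρ_of_fix (ρ_fix (by rw [polar_comm, hab]) (by rw [polar_smul_right, hb.p, smul_zero]))
    (ρ_fix (by rw [polar_smul_left, ha.geo_p, smul_zero])
      (by rw [polar_smul_left, polar_smul_right, h.pol_self, smul_zero, smul_zero]))

theorem fix_of_comm (hu : Sd Q d u) (u0 : u ≠ 0) (hc : Commute γ (ρ Q u d)) :
    γ • u = u ∧ ∃ s : F, γ • d = d + s • u := by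
  obtain ⟨a, b, -, h1, h2⟩ := h.ρ_inj_ns hu.q u0 hu.p h.geo_ne (γ.map_eq_zero.2 hu.q) (γ.pol_eq_zero.2 hu.p)
    (ρ_eq_of_comm hc)
  have e := congrArg Q h2
  rw [Q_smul, h.geo_map, h.geo_q hu, mul_one] at e
  rw [h.eq_one e, one_smul] at h1 h2
  exact ⟨h1, b, h2⟩

/-- a product of two transvections is a transvection only inside a root group -/
theorem tv (ha : Sd Q d a) (hb : Sd Q d b) (hc : Sd Q d c) (a0 : a ≠ 0)
    (e : ρ Q a d * ρ Q b d = ρ Q c d) : ∃ s : F, b = s • a := by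
  by_cases hm : a ∈ ln F b d
  · obtain ⟨s, r, rfl⟩ := mem_ln.1 hm
    obtain rfl := h.geo_zero hb ha.q
    rw [zero_smul, add_zero] at a0 ⊢
    exact ⟨s⁻¹, by rw [smul_smul, inv_mul_cancel₀ (left_ne_zero_of_smul a0), one_smul]⟩
  obtain ⟨y, h1, h2⟩ := h.exists_pol hm
  obtain ⟨h3, h4⟩ := mem_pp_ln.1 h1
  have e1 := congrArg (· • y) e
  simp only [mul_smul, ρ_fix h3 h4, h.ρ_smul ha.q ha.p, h.ρ_smul hc.q hc.p, h4, polar_comm Q y a, h2, h.qd, zero_smul,
    add_zero, one_mul, add_assoc, add_right_inj] at e1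
  have e2 := congrArg Q e1
  rw [← smul_add, ← smul_add, Q_smul, Q_smul, ← one_smul F a, ← one_smul F c, h.geo_q ha, h.geo_q hc,
    mul_one, mul_one, mul_one] at e2
  rw [one_smul] at e2
  rw [h.eq_one e2.symm, add_right_inj, one_smul, one_smul] at e1
  rw [e1, mul_eq_left, ← ρ_zero_left d] at e
  exact ⟨0, by rw [h.ρd_inj hb ⟨map_zero Q, polar_zero_left Q d⟩ e, zero_smul]⟩

theorem tr1 (hv : Q v = 1) : ∃ a ∈ Om Q, a • v = d := by
  have e1 : Q (v + d) = polar Q v d := by rw [Q_add, hv, h.qd, h.addF, zero_add]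
  have e2 : polar Q v (v + d) = polar Q v d := by rw [polar_add_right, h.pol_self, zero_add]
  have e3 : v + (v + d) = d := by rw [← add_assoc, h.addV, zero_add]
  by_cases k0 : polar Q v d = 0
  · have hu : Sd Q d (v + d) := ⟨e1.trans k0, by rw [polar_add_left, k0, h.pol_self, add_zero]⟩
    obtain ⟨w, h1, h2⟩ := h.ex_w hu
    refine ⟨_, ρ_mem Q (v + d) w, ?_⟩
    have h3 := h1
    rw [polar_add_left, polar_comm Q d w, h2, add_eq_zero_iff_eq_neg, h.negF] at h3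
    rw [ρ_left hu.q h1 (e2.trans k0), h3, one_smul, e3]
  · refine ⟨_, h.mul_mem_of_not (σ_rf d) (σ_rf (v + d)) h.rf_not (h.rf_not_mem (e1 ▸ k0)), ?_⟩
    rw [mul_smul, h.rf_smul (v + d), e1, e2, inv_mul_cancel₀ k0, one_smul, e3, h.rf_d]

/-- a linear involution outside `Ω` fixes a vector of norm one -/
theorem nsf (h1 : γ.σ = 1) (h2 : γ * γ = 1) (h3 : γ ∉ Om Q) : ∃ v, Q v = 1 ∧ γ • v = v := by
  obtain ⟨θ, i⟩ := exists_iv h1 h2
  by_cases k0 : ∀ x, Q (θ x) = 0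
  · have hT : TS Q (LinearMap.range θ) := by rintro _ ⟨x, rfl⟩; exact k0 x
    exact absurd (h.NT_le_Om hT (h.DT_le_NT hT (mem_DT.2
      ⟨h1, fun x hx => i.fix_iff.2 ((i.mem_pp h.toOS0).1 hx)⟩))) h3
  obtain ⟨x, hx⟩ := not_forall.1 k0
  obtain ⟨b, hb⟩ := h.sqrt (Q (θ x))⁻¹
  exact ⟨b • θ x, by rw [Q_smul, hb, inv_mul_cancel₀ hx], by rw [lin_smul h1, i.fix h.toOS0]⟩

theorem ex_perp (hu : Sd Q d u) (hv : Sd Q d v) :
    ∃ w, Sd Q d w ∧ w ≠ 0 ∧ polar Q u w = 0 ∧ polar Q w v = 0 := by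
  have h1 := h.finrank_pp (ln F u v ⊔ Submodule.span F {d})
  have h2 := finrank_sup_one (ln F u v) d
  have h3 := finrank_ln_le (F := F) u v
  have h4 := h.four
  obtain ⟨w, w1, w2, w3⟩ := exs (Q := Q) (bot_le (a := pp Q (ln F u v ⊔ Submodule.span F {d})))
    (by rw [finrank_bot]; omega)
  rw [pp_sup] at w1
  exact ⟨w, ⟨w3, mem_pp_one.1 w1.2⟩, w2, by rw [polar_comm, (mem_pp_ln.1 w1.1).1], (mem_pp_ln.1 w1.1).2⟩

theorem afr_ext {m : ℕ} {e f : ℕ → V} (fr : Fr Q m e f) (hd : d ∈ Wn Q e f m) (hm : m ≤ k - 1) :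
    ∃ e' f', AFr Q k d e' f' ∧ ∀ i < m, e' i = e i ∧ f' i = f i := by
  have k1 : ∀ n, m ≤ n → n ≤ k - 1 → ∃ e' f', Fr Q n e' f' ∧ d ∈ Wn Q e' f' n ∧
      ∀ i < m, e' i = e i ∧ f' i = f i := by
    intro n hn
    induction n, hn using Nat.le_induction with
    | base => exact fun _ => ⟨e, f, fr, hd, fun _ _ => ⟨rfl, rfl⟩⟩
    | succ n hn ih =>
      intro hk
      obtain ⟨e', f', k2, k0, k3⟩ := ih (by omega)
      have k4 := h.finrank_Wn k2
      have k5 := OS0.Wn_eq (Q := Q) e' f' n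
      set T := Tn F e' n ⊔ Tn F f' n
      have k6 := h.finrank_pp T
      have k7 := h.finrank_pp (T ⊔ Submodule.span F {d})
      have k8 := finrank_sup_one T d
      rw [k5] at k4
      obtain ⟨x, x1, x2, x3⟩ := exs (Q := Q) (bot_le (a := pp Q (T ⊔ Submodule.span F {d})))
        (by rw [finrank_bot]; omega)
      have x4 := x1
      rw [pp_sup, ← k5] at x4
      obtain ⟨y, y1, y2⟩ := h.exists_partner x3 (fun hm => by
        obtain ⟨t, ht, _, hz, rfl⟩ := Submodule.mem_sup.1 hm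
        obtain ⟨c, rfl⟩ := Submodule.mem_span_singleton.1 hz
        obtain rfl : t = 0 := h.Wn_nd k2 (by simpa using sub_mem x4.1 (Submodule.smul_mem _ c k0)) fun y hy => by
          rw [polar_comm]; exact (k5 ▸ hy : y ∈ pp Q T) t ht
        rw [zero_add, Q_smul, h.qd, mul_one, mul_self_eq_zero] at x3
        exact x2 (by simp [x3])) x1
      rw [pp_sup, ← k5] at y1
      refine ⟨_, _, k2.snoc y2 x4.1 y1.1, mem_Wn.2 ⟨fun i _ => ?_, fun i _ => ?_⟩,
        fun i hi => by simp only [if_pos (show i < n by omega)]; exact k3 i hi⟩ <;> split_ifs with hi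
      exacts [(mem_Wn.1 k0).1 i hi, (polar_comm Q _ _).trans (mem_pp_one.1 x4.2), (mem_Wn.1 k0).2 i hi,
        (polar_comm Q _ _).trans (mem_pp_one.1 y1.2)]
  obtain ⟨e', f', k2, k3, k4⟩ := k1 _ hm le_rfl
  exact ⟨e', f', ⟨k2, k3⟩, k4⟩

theorem afr : ∃ e f, AFr Q k d e f := by
  obtain ⟨e, f, k1, -⟩ := h.afr_ext (Fr.zero (fun _ => 0) fun _ => 0)
    (mem_Wn.2 ⟨fun _ hi => absurd hi (Nat.not_lt_zero _), fun _ hi => absurd hi (Nat.not_lt_zero _)⟩) (Nat.zero_le _)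
  exact ⟨e, f, k1⟩

theorem afr_rp (r : RP Q u v) (hu : polar Q u d = 0) (hv : polar Q v d = 0) :
    ∃ e f, AFr Q k d e f ∧ e 0 = u ∧ e 1 = v := by
  have := h.four
  obtain ⟨x, x1, x2⟩ := h.exists_partner (T := ln F v d) r.qu (fun hm => by
    obtain ⟨s, c, e⟩ := mem_ln.1 hm
    obtain rfl := h.geo_zero ⟨r.qv, hv⟩ (e ▸ r.qu : Q (s • v + c • d) = 0)
    exact r.symm.ind s (by rw [← e, zero_smul, add_zero])) (mem_pp_ln.2 ⟨r.uv, hu⟩)
  obtain ⟨x3, x4⟩ := mem_pp_ln.1 x1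
  have v1 : v ∈ pp Q (ln F u x) := mem_pp_ln.2 ⟨r.vu, by rw [polar_comm, x3]⟩
  obtain ⟨y, y1, y2⟩ := h.exists_partner (T := ln F u x ⊔ Submodule.span F {d}) r.qv (fun hm => by
    obtain ⟨t, ht, _, hz, e⟩ := Submodule.mem_sup.1 hm
    obtain ⟨c, rfl⟩ := Submodule.mem_span_singleton.1 hz
    obtain ⟨s, s', rfl⟩ := mem_ln.1 ht
    have e1 := r.uv
    rw [← e] at e1
    simp only [polar_add_right, polar_smul_right, h.pol_self, x2.hef, hu, smul_eq_mul, mul_zero, mul_one, zero_add,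
      add_zero] at e1
    rw [e1, zero_smul, add_zero] at e
    obtain rfl := h.geo_zero ⟨r.qu, hu⟩ (e ▸ r.qv : Q (s • u + c • d) = 0)
    exact r.ind s (by rw [← e, zero_smul, add_zero])) (by rw [pp_sup]; exact ⟨v1, mem_pp_one.2 hv⟩)
  rw [pp_sup] at y1
  obtain ⟨e, f, fr, a0, b0, a1, b1⟩ := OS0.fr_two x2 y2 v1 y1.1
  obtain ⟨e', f', k1, k2⟩ := h.afr_ext fr (mem_Wn.2 ⟨fun i hi => by
    interval_cases i
    · rw [a0, polar_comm, hu]
    · rw [a1, polar_comm, hv], fun i hi => by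
    interval_cases i
    · rw [b0, polar_comm, x4]
    · rw [b1, polar_comm, mem_pp_one.1 y1.2]⟩) (by omega)
  exact ⟨e', f', k1, (k2 0 (by omega)).1.trans a0, (k2 1 (by omega)).1.trans a1⟩

theorem gen2 (hu : Sd Q d u) (u0 : u ≠ 0) : Om Q ≤ Fx Q {d} ⊔ Fx Q {d + u} := by
  have h1 := h.finrank_pp (ln F u d)
  have h2 := finrank_ln_le (F := F) u d
  have h3 := h.four
  obtain ⟨x, x1, x2, x3⟩ := exs (Q := Q) (A := ln F u d) (C := pp Q (ln F u d)) (Submodule.span_le.2 (by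
    rintro _ (rfl | rfl)
    exacts [mem_pp_ln.2 ⟨h.pol_self _, hu.p⟩, mem_pp_ln.2 ⟨hu.geo_p, h.pol_self _⟩])) (by omega)
  obtain ⟨y, y1, y2⟩ := h.exists_partner x3 x2 x1
  have key : ∀ a b : V, Hyp Q a b → a ∈ pp Q (ln F u d) → b ∈ pp Q (ln F u d) →
      A Q a ≤ Fx Q {d} ⊔ Fx Q {d + u} := fun a b hh ha hb => A_le fun w _ hw => by
    obtain ⟨a1, a2⟩ := mem_pp_ln.1 ha
    have a3 : polar Q a (d + u) = 0 := by rw [polar_add_right, a1, a2, add_zero]
    obtain ⟨g, g1, g2⟩ := h.exists_pol (T := ln F a (d + u)) (x := d) fun hm => by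
      obtain ⟨s, c, e⟩ := mem_ln.1 hm
      have e1 := congrArg Q e
      have e2 := h.geo_q hu 1
      rw [one_smul] at e2
      rw [Q_add, Q_smul, Q_smul, hh.he, e2, polar_smul_left, polar_smul_right, a3, h.qd] at e1
      simp only [mul_zero, smul_zero, zero_add, add_zero, mul_one] at e1
      rw [h.eq_one e1, one_smul, add_left_comm, add_eq_left] at e
      have e3 := congrArg (polar Q b) e
      rw [polar_add_right, polar_smul_right, hh.hfe, (mem_pp_ln.1 hb).1, polar_zero_right, add_zero, smul_eq_mul,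
        mul_one] at e3
      rw [e3, zero_smul, zero_add] at e
      exact u0 e
    obtain ⟨g3, g4⟩ := mem_pp_ln.1 g1
    have g5 : polar Q a (polar Q d w • g) = 0 := by rw [polar_smul_right, polar_comm Q a, g3, smul_zero]
    rw [show w = w + polar Q d w • g + polar Q d w • g by rw [add_assoc, h.addV, add_zero],
      ← ρ_mul hh.he (by rw [polar_add_right, hw, g5, add_zero]) g5]
    refine mul_mem (mem_sup_left (mem_Fx.2 ⟨ρ_mem Q _ _, ?_⟩)) (mem_sup_right (mem_Fx.2 ⟨ρ_mem Q _ _, ?_⟩))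
    · rintro _ rfl
      exact ρ_fix (by rw [polar_comm, a2]) (by
        rw [polar_add_right, polar_smul_right, g2, smul_eq_mul, mul_one, h.addF])
    · rintro _ rfl
      exact ρ_fix (by rw [polar_comm, a3]) (by rw [polar_smul_right, polar_comm Q _ g, g4, smul_zero])
  exact (h.gen_A y2).trans (sup_le (key x y y2 x1 y1) (key y x y2.symm y1 x1))

theorem fix_of_root (r : RP Q u v) (hu : polar Q u d = 0) (hv : polar Q v d = 0)
    (hc : Commute γ (ρ Q u v * rf Q d)) : γ • d = d := by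
  have key : ∀ x, polar Q ((ρ Q u v * rf Q d) • x) x = polar Q x d * polar Q x d := fun x => by
    rw [mul_smul, h.rf_smul, smul_add, lin_smul (σ_ρ u v), ρ_fix (x := d) (by rw [polar_comm, hu])
      (by rw [polar_comm, hv]), h.ρ_smul r.qu r.uv]
    simp only [polar_add_left, polar_smul_left, h.pol_self, r.qv, h.qd, inv_one, one_mul, zero_mul, smul_eq_mul,
      zero_add, add_zero, polar_comm Q u x, polar_comm Q v x, polar_comm Q d x]
    rw [mul_comm (polar Q x v), h.addF, zero_add]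
  refine h.eq_of_add (h.eq_zero fun y => ?_)
  have e := key (γ • γ⁻¹ • y)
  rw [← mul_smul, ← hc.eq, mul_smul, γ.pol, key, map_mul, ← γ.pol, smul_inv_smul] at e
  rw [polar_comm, polar_add_right, ← mul_self_eq_zero]
  linear_combination e + (polar Q y (γ • d) * polar Q y d + polar Q y d * polar Q y d) * h.two

theorem comm_eq : commutator (SI Q) = Om Q :=
  le_antisymm ((commutator_le (H₁ := ⊤) (H₂ := ⊤)).2 fun a _ b _ => h.comm_mem a b)
    (h.perf.trans (commutator_mono le_top le_top))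

end OD

theorem AFr.sd {e f : ℕ → V} (fr : AFr Q k d e f) {u : V} (hu : u ∈ Tn F e (k - 1)) : Sd Q d u :=
  ⟨fr.ts le_rfl u hu, (polar_comm Q _ _).trans (fr.dW.1 u hu)⟩

end CfsgLib.SPC.D
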