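import Cfsg.Agent.Lib.SPC.DDefs
import Cfsg.Agent.Lib.SPC.PresB
import Cfsg.Agent.Lib.SLD.Pres
import Cfsg.Agent.Lib.SLD.Wrp

/-! Type D: a presentation of `Ω^±` -/

set_option autoImplicit false
set_option linter.unusedSectionVars false

namespace CfsgLib.SPC.D

open Subgroup QuadraticMap CfsgLib.OrthE CfsgLib.SLD Module
open scoped commutatorElement Pointwise

universe u

variable {F V : Type} [Field F] [Finite F] [AddCommGroup V] [Module F V] [Finite V] {Q : QuadraticForm F V}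
  {k : ℕ} {d : V} {G : Type u} [Group G] [Finite G]

/-- the relations of `OS0.pres` -/
structure PRel (Q : QuadraticForm F V) (R : Set V) (x : V → V → G) : Prop where
  q : ∀ u ∈ R, Q u = 0
  add : ∀ u ∈ R, ∀ v w, polar Q u v = 0 → polar Q u w = 0 → x u (v + w) = x u v * x u w
  self : ∀ u ∈ R, ∀ a : F, x u (a • u) = 1
  swap : ∀ u ∈ R, ∀ v ∈ R, polar Q u v = 0 → ∀ a : F, x u (a • v) = x v (a • u)
  conj : ∀ u ∈ R, ∀ u' ∈ R, polar Q u u' = 0 → ∀ v w, polar Q u v = 0 → polar Q u' v = 0 →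
    polar Q u' w = 0 → x u v * x u' w * (x u v)⁻¹ = x u' (ρ Q u v • w)

/-- the group generated by the elements `x u v` -/
def PG (Q : QuadraticForm F V) (R : Set V) (x : V → V → G) : Subgroup G :=
  closure {g | ∃ u ∈ R, ∃ v, polar Q u v = 0 ∧ g = x u v}

section Aux

open CfsgLib.LieMult CfsgLib.Forms
open CfsgLib.ClSys (II)

variable {m : ℕ}

theorem dp_fr (b : II m → V) (h1 : ∀ a, Q (b a) = 0)
    (h2 : ∀ a c, polar Q (b a) (b c) = if a = c.swap then 1 else 0) :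
    ∃ e f, Fr Q m e f ∧ ∀ i : Fin m, e i = b (.inl i) ∧ f i = b (.inr i) :=
  ⟨fun i => if h : i < m then b (.inl ⟨i, h⟩) else 0, fun i => if h : i < m then b (.inr ⟨i, h⟩) else 0,
    ⟨fun i hi => by simp only [dif_pos hi, h1], fun i hi => by simp only [dif_pos hi, h1],
      fun i hi j hj => by simp [dif_pos hi, dif_pos hj, h2], fun i hi j hj => by simp [dif_pos hi, dif_pos hj, h2],
      fun i hi => by simp [dif_pos hi, h2], fun i hi j hj e => by simp [dif_pos hi, dif_pos hj, h2, e]⟩,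
    fun i => ⟨dif_pos i.2, dif_pos i.2⟩⟩

theorem dp_pol {V' : Type} [AddCommGroup V'] [Module F V'] {Q' : QuadraticForm F V'} (θ : V' ≃ₗ[F] V)
    (hθ : ∀ x, Q (θ x) = Q' x) (u v : V') : polar Q (θ u) (θ v) = polar Q' u v := by
  simp only [polar, ← map_add, hθ]

theorem dp_expand (Fr : Frame (ofQuad Q) m) {H : Type*} [Group H] {y : V → H} {a : II m}
    (add : ∀ v w, polar Q (Fr.v a) v = 0 → polar Q (Fr.v a) w = 0 → y (v + w) = y v * y w)
    (self : ∀ s : F, y (s • Fr.v a) = 1) {K : Subgroup H}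
    (h1 : ∀ b, Ap a b → ∀ t : F, y (t • Fr.v b) ∈ K) (h2 : ∀ w ∈ Fr.V0, y w ∈ K) {v : V}
    (hv : polar Q (Fr.v a) v = 0) : y v ∈ K := by
  have key : ∀ T : Finset (II m), polar Q (Fr.v a) (∑ c ∈ T, polar Q (Fr.v c.swap) v • Fr.v c) = 0 ∧
      y (∑ c ∈ T, polar Q (Fr.v c.swap) v • Fr.v c) ∈ K := fun T => by
    induction T using Finset.induction_on with
    | empty =>
      have := self 0
      rw [zero_smul] at this
      rw [Finset.sum_empty, this]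
      exact ⟨polar_zero_right _ _, one_mem K⟩
    | insert c T hc ih =>
      rw [Finset.sum_insert hc]
      by_cases e : a = c.swap
      · rwa [← e, hv, zero_smul, zero_add]
      have p : polar Q (Fr.v a) (polar Q (Fr.v c.swap) v • Fr.v c) = 0 := by
        rw [polar_smul_right, show polar Q (Fr.v a) (Fr.v c) = 0 from Fr.B_ne e, smul_zero]
      rw [add _ _ p ih.1, polar_add_right, p, ih.1, add_zero]
      refine ⟨rfl, mul_mem ?_ ih.2⟩
      by_cases e' : a = c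
      · rw [← e', self]; exact one_mem K
      · exact h1 c (ap_of_ne e' e) _
  have h3 := Fr.decomp v
  have h4 := add _ _ (Frame.B_V0 h3 a) (key Finset.univ).1
  have h5 := mul_mem (h2 _ h3) (key Finset.univ).2
  rw [← h4] at h5
  exact (sub_add_cancel v _) ▸ h5

theorem dp_xrel (h : OS0 Q k) (Fr : Frame (ofQuad Q) m) {x : V → V → G}
    (hx : PRel Q (Set.range Fr.v) x) :
    XRel Fr (fun a b t => x (Fr.v a) (t • Fr.v b)) fun a w _ => x (Fr.v a) w := by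
  have q : ∀ a, Q (Fr.v a) = 0 := fun a => hx.q _ ⟨a, rfl⟩
  have p0 : ∀ {a b}, a ≠ b.swap → polar Q (Fr.v a) (Fr.v b) = 0 := Fr.B_ne
  have ps : ∀ {a b}, a ≠ b.swap → ∀ t : F, polar Q (Fr.v a) (t • Fr.v b) = 0 := fun e t => by
    rw [polar_smul_right, p0 e, smul_zero]
  have ps' : ∀ {a b}, a ≠ b.swap → ∀ t : F, polar Q (t • Fr.v a) (Fr.v b) = 0 := fun e t => by
    rw [polar_smul_left, p0 e, smul_zero]
  have pw : ∀ {w}, w ∈ Fr.V0 → ∀ a, polar Q (Fr.v a) w = 0 := Frame.B_V0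
  have pw' : ∀ {w}, w ∈ Fr.V0 → ∀ a, polar Q w (Fr.v a) = 0 := Frame.B_V0'
  have p1 : ∀ a, polar Q (Fr.v a) (Fr.v a.swap) = 1 := Fr.B_swap
  have p1' : ∀ a, polar Q (Fr.v a.swap) (Fr.v a) = 1 := Fr.B_swap'
  have ad := fun a => hx.add _ ⟨a, rfl⟩
  have cj := fun a c => hx.conj _ ⟨a, rfl⟩ _ ⟨c, rfl⟩
  have x0 : ∀ a, x (Fr.v a) 0 = 1 := fun a => by simpa using hx.self _ ⟨a, rfl⟩ 0
  have cm : ∀ a c, polar Q (Fr.v a) (Fr.v c) = 0 → ∀ v w n, polar Q (Fr.v a) v = 0 →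
      polar Q (Fr.v c) v = 0 → polar Q (Fr.v c) w = 0 → polar Q (Fr.v c) n = 0 →
      ρ Q (Fr.v a) v • w = n + w → ⁅x (Fr.v a) v, x (Fr.v c) w⁆ = x (Fr.v c) n :=
    fun a c h0 v w n h1 h2 h3 h4 e => by
      rw [commutatorElement_def, cj a c h0 v w h1 h2 h3, e, ad c _ _ h4 h3, mul_inv_cancel_right]
  have co : ∀ a c, polar Q (Fr.v a) (Fr.v c) = 0 → ∀ v w, polar Q (Fr.v a) v = 0 →
      polar Q (Fr.v c) v = 0 → polar Q (Fr.v c) w = 0 → polar Q w (Fr.v a) = 0 → polar Q w v = 0 →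
      Commute (x (Fr.v a) v) (x (Fr.v c) w) := fun a c h0 v w h1 h2 h3 h4 h5 =>
    mul_inv_eq_iff_eq_mul.1 (by rw [cj a c h0 v w h1 h2 h3, ρ_fix h4 h5])
  refine ⟨fun a b k t u => ?_, fun a b k t => ?_, fun a w w' c c' hw hw' _ _ => ?_,
    fun a b c k k1 k2 t u => ?_, fun a b k t u => ?_, fun a b w c k hw hc t => ?_,
    fun a b w w' c c' k hw hw' _ _ => ?_, fun a b c d k k' e1 e2 e3 e4 t u => ?_,
    fun a b c w d k e1 e2 hw _ t => ?_⟩
  · rw [add_smul, ad a _ _ (ps k.ne_swap t) (ps k.ne_swap u)]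
  · rw [RingHom.id_apply, h.negF]
    exact hx.swap _ ⟨a, rfl⟩ _ ⟨b, rfl⟩ (p0 k.ne_swap) t
  · exact (ad a _ _ (pw hw a) (pw hw' a)).symm
  · refine cm a c (p0 k1.symm.ne_swap) _ _ _ (ps k.ne_swap t) (ps k2.ne_swap t) (ps k2.sr.ne_swap u)
      (ps k1.ne_swap _) ?_
    rw [h.ρ_smul (q a) (ps k.ne_swap t), ps' k.symm.sl.ne_swap, polar_smul_left, polar_smul_right, p1',
      RingHom.id_apply]
    module
  · rw [x0, commutatorElement_eq_one_iff_mul_comm, ← ad a _ _ (ps k.ne_swap t) (ps k.sr.ne_swap u),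
      ← ad a _ _ (ps k.sr.ne_swap u) (ps k.ne_swap t), add_comm]
  · obtain rfl : c = Q w := sub_eq_zero.1 ((ofQuad_mem Q _).1 hc.mem)
    have a1 : polar Q (Fr.v a) (t • -w) = 0 := by
      rw [polar_smul_right, polar_neg_right, pw hw, neg_zero, smul_zero]
    rw [← ad a _ _ a1 (ps k.sr.ne_swap _)]
    refine cm b.swap a (p0 k.symm.sl.ne_swap) _ _ _ (pw hw _) (pw hw _) (ps k.ne_swap t)
      (by rw [polar_add_right, a1, ps k.sr.ne_swap, add_zero]) ?_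
    rw [h.ρ_smul (q _) (pw hw _), polar_smul_left, polar_smul_left, pw hw, p1, RingHom.id_apply, h.negF,
      h.negV]
    module
  · refine cm b a (p0 k.symm.ne_swap) _ _ _ (pw hw' _) (pw hw' _) (pw hw _) (ps k.ne_swap _) ?_
    rw [ρ_left (q b) (pw hw' _) (pw' hw _), ofQuad_B, polar_comm, add_comm]
  · refine co a c (p0 e1) _ _ (ps k.ne_swap t) (ps (fun e => e3 (ClSys.eq_swap_comm.1 e)) t)
      (ps k'.ne_swap u) (ps' (fun e => e2 (ClSys.eq_swap_comm.1 e)) u) ?_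
    rw [polar_smul_right, ps' (fun e => e4 (ClSys.eq_swap_comm.1 e)), smul_zero]
  · refine co a c (p0 fun e => e1 (ClSys.eq_swap_comm.1 e)) _ _ (ps k.ne_swap t) (ps e2 t) (pw hw c)
      (pw' hw a) ?_
    rw [polar_smul_right, pw' hw, smul_zero]

theorem dp_XG (Fr : Frame (ofQuad Q) m) {x : V → V → G} (hx : PRel Q (Set.range Fr.v) x) :
    XG Fr (fun a b t => x (Fr.v a) (t • Fr.v b)) (fun a w _ => x (Fr.v a) w) =
      PG Q (Set.range Fr.v) x := by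
  refine le_antisymm ((closure_le _).2 ?_) ((closure_le _).2 ?_)
  · rintro _ (⟨a, b, t, k, rfl⟩ | ⟨a, w, c, hw, -, rfl⟩)
    · exact subset_closure ⟨_, ⟨a, rfl⟩, _, (Fr.ok k.ne_swap t).perp, rfl⟩
    · exact subset_closure ⟨_, ⟨a, rfl⟩, _, Frame.B_V0 hw a, rfl⟩
  · rintro _ ⟨_, ⟨a, rfl⟩, v, hv, rfl⟩
    exact dp_expand Fr (hx.add _ ⟨a, rfl⟩) (hx.self _ ⟨a, rfl⟩)
      (fun b k t => subset_closure (.inl ⟨a, b, t, k, rfl⟩))
      (fun w hw => subset_closure (.inr ⟨a, w, _, hw, TOk.self (Fr.sing a) (Frame.B_V0 hw a), rfl⟩)) hv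

theorem dp_model (h2 : (2 : F) = 0) (hm : 3 ≤ m) {a b : F}
    (hab : ∀ z₁ z₂ : F, z₁ ^ 2 + a * z₁ * z₂ + b * z₂ ^ 2 = 0 → z₁ = 0 ∧ z₂ = 0)
    {x : ((Fin m ⊕ Fin m) ⊕ Fin 2 → F) → ((Fin m ⊕ Fin m) ⊕ Fin 2 → F) → G}
    (hx : PRel (qMinus F m a b) (Set.range (frM m hab).v) x)
    (hz : ∀ g ∈ PG (qMinus F m a b) (Set.range (frM m hab).v) x,
      g ∈ centralizer (PG (qMinus F m a b) (Set.range (frM m hab).v) x : Set G) → g * g = 1 → g = 1) :
    ∃ ψ : E (qMinus F m a b) →* G, ∀ c v, polar (qMinus F m a b) ((frM m hab).v c) v = 0 →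
      ψ ⟨eich _ ((frM m hab).v c) v, eich_mem_E _ _⟩ = x ((frM m hab).v c) v := by
  have h : OS0 (qMinus F m a b) (m + 1) := wr_minus h2 (k := m + 1) (by omega) hab
  have : Fact (∀ r : F, r ^ 2 ≠ -b + a * r) :=
    ⟨fun r e => one_ne_zero (neg_eq_zero.1 (hab r (-1) (by linear_combination e)).2)⟩
  have := h.charP
  have : CharP (OrthE.QA a b) 2 := charP_of_injective_algebraMap (algebraMap F _).injective 2
  have : Finite (OrthE.QA a b) := Finite.of_equiv _ (QuadraticAlgebra.equivProd _ _).symm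
  have : Finite (E (qMinus F m a b)) := Finite.of_equiv _ (omE _).symm.toEquiv
  have hne : (frM m hab).V0 ≠ ⊥ := fun e =>
    one_ne_zero (iz_injective (m := m) ((e ▸ iz_mem hab 1 : _ ∈ (⊥ : Submodule F _)).trans
      (by funext i; rcases i with i | i; exacts [rfl, by fin_cases i <;> rfl])))
  obtain ⟨u, f, hh⟩ := h.nd.exists_hyp_of_three h.three
  have perf : (⊤ : Subgroup (E (qMinus F m a b))) ≤ ⁅(⊤ : Subgroup (E (qMinus F m a b))), ⊤⁆ := by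
    refine (map_le_map_iff_of_injective (E _).subtype_injective).1 ?_
    rw [map_commutator, ← MonoidHom.range_eq_map, range_subtype,
      hh.E_perfect h.nd h.five (hh.exists_singular_orth h.five)]
  obtain ⟨ψ, k1, k2, -⟩ := pres (cgE (nondeg_qMinus m hab)) (frM m hab) h2 (by omega)
    (fun c => (exists_node_M hab c).choose) (sl2_U_p 2) (sl2_V_p 2) (sl2_T_p 2) (.inl hne) (cgE_gen _) perf
    (fun Γ _ _ σ hσ => by rw [(spinBound_minus hab hm Γ σ hσ).2 h2]; exact IsPGroup.of_bot)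
    (dp_xrel h _ hx) (by rw [dp_XG _ hx]; exact hz)
  refine ⟨ψ, fun c v hv => ?_⟩
  have q : qMinus F m a b ((frM m hab).v c) = 0 := hx.q _ ⟨c, rfl⟩
  exact dp_expand (frM m hab) (a := c)
    (y := fun v => ((⟨eich _ ((frM m hab).v c) v, eich_mem_E _ _⟩, x ((frM m hab).v c) v) :
      E (qMinus F m a b) × G))
    (fun v w h1 h3 => Prod.ext (Subtype.ext (eich_mul q h1 h3).symm) (hx.add _ ⟨c, rfl⟩ v w h1 h3))
    (fun s => Prod.ext (Subtype.ext (ofO_inj ((ρ_self s _).trans (map_one _).symm))) (hx.self _ ⟨c, rfl⟩ s))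
    (K := (ψ.comp (MonoidHom.fst _ G)).eqLocus (MonoidHom.snd _ G)) (fun d k t => k1 c d k t)
    (fun w hw => k2 c w _ hw (TOk.self ((frM m hab).sing c) (Frame.B_V0 hw c))) hv

end Aux

theorem exists_minus {m : ℕ} (h : OS0 Q (m + 1)) {e f : ℕ → V} (fr : Fr Q m e f)
    (an : ∀ w ∈ Wn Q e f m, Q w = 0 → w = 0) {a b : F}
    (hab : ∀ z₁ z₂ : F, z₁ ^ 2 + a * z₁ * z₂ + b * z₂ ^ 2 = 0 → z₁ = 0 ∧ z₂ = 0) :
    ∃ θ : ((Fin m ⊕ Fin m) ⊕ Fin 2 → F) ≃ₗ[F] V, (∀ x, Q (θ x) = qMinus F m a b x) ∧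
      ∀ i : Fin m, θ (Pi.single (.inl (.inl i)) 1) = e i ∧ θ (Pi.single (.inl (.inr i)) 1) = f i := by
  rcases exists_equiv_or h.nd h.dim hab with ⟨θ, hθ⟩ | ⟨θ, hθ⟩
  · obtain ⟨e', f', fr', -⟩ := dp_fr (Q := Q) (fun c => θ (Pi.single c 1)) (fun c => by
      rw [hθ]; rcases c with i | i; exacts [(hyp_qPlus i).he, (hyp_qPlus i).hf]) fun c d => by
      rw [dp_pol θ hθ]
      rcases d with i | i
      · rw [polar_qPlus_inl, Pi.single_apply]; exact if_congr eq_comm rfl rfl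
      · rw [polar_qPlus_inr, Pi.single_apply]; exact if_congr eq_comm rfl rfl
    obtain ⟨γ, h1, h2⟩ := h.fr_lin (fr'.mono (Nat.le_succ m)) fr
    have h3 := an (γ • e' m) (mem_Wn.2 ⟨fun i hi => ?_, fun i hi => ?_⟩)
      (γ.map_eq_zero.2 (fr'.qe m (by omega)))
    · have := fr'.ef m (by omega)
      rw [(smul_eq_zero_iff_eq γ).1 h3, polar_zero_left] at this
      exact absurd this zero_ne_one
    · rw [← (h2 i hi).1, γ.pol_eq_zero]
      exact fr'.ee m (by omega) i (by omega)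
    · rw [← (h2 i hi).2, γ.pol_eq_zero]
      exact fr'.ef' m (by omega) i (by omega) (by omega)
  · obtain ⟨e', f', fr', h0⟩ := dp_fr (Q := Q) (fun c => θ ((LieMult.frM m hab).v c))
      (fun c => by rw [hθ]; exact (Forms.ofQuad_sing _ _).1 ((LieMult.frM m hab).sing c))
      fun c d => by rw [dp_pol θ hθ]; exact (LieMult.frM m hab).B_v c d
    obtain ⟨γ, h1, h2⟩ := h.fr_lin fr' fr
    refine ⟨θ.trans (toL γ h1), fun x => (lin_map h1 _).trans (hθ x), fun i => ⟨?_, ?_⟩⟩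
    · rw [← (h2 i i.2).1, (h0 i).1]; rfl
    · rw [← (h2 i i.2).2, (h0 i).2]; rfl

theorem pres_minus {m : ℕ} (h : OS0 Q (m + 1)) {e f : ℕ → V} (fr : Fr Q m e f)
    (an : ∀ w ∈ Wn Q e f m, Q w = 0 → w = 0) {R : Set V} (hR : ∀ i < m, e i ∈ R ∧ f i ∈ R)
    (hR' : ∀ u ∈ R, ∃ i < m, u = e i ∨ u = f i) {x : V → V → G} (hx : PRel Q R x)
    (hz : ∀ g ∈ PG Q R x, g ∈ centralizer (PG Q R x : Set G) → g * g = 1 → g = 1) :
    ∃ ψ : Om Q →* G, (∀ v, polar Q (e 0) v = 0 → xx ψ (e 0) v = x (e 0) v) ∧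
      ∀ v, polar Q (f 0) v = 0 → xx ψ (f 0) v = x (f 0) v := by
  obtain ⟨a, b, hab⟩ := exists_anisotropic F
  obtain ⟨θ, hθ, h1⟩ := exists_minus h fr an hab
  have h4 := h.four
  have h' : OS0 (qMinus F m a b) (m + 1) := wr_minus h.two (k := m + 1) h4 hab
  have pl := dp_pol θ hθ
  have h2 : ∀ u ∈ Set.range (LieMult.frM m hab).v, θ u ∈ R := by
    rintro _ ⟨i | i, rfl⟩
    exacts [(h1 i).1 ▸ (hR i i.2).1, (h1 i).2 ▸ (hR i i.2).2]
  have h3 : ∀ u v w, qMinus F m a b u = 0 → polar (qMinus F m a b) u v = 0 →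
      θ (ρ _ u v • w) = ρ Q (θ u) (θ v) • θ w := fun u v w k1 k2 => by
    rw [h'.ρ_smul k1 k2, h.ρ_smul ((hθ u).trans k1) ((pl u v).trans k2), pl, pl, hθ]
    simp only [map_add, map_smul]
  have hx' : PRel (qMinus F m a b) (Set.range (LieMult.frM m hab).v) fun u v => x (θ u) (θ v) :=
    ⟨fun u hu => (hθ u).symm.trans (hx.q _ (h2 u hu)),
      fun u hu v w k1 k2 => by rw [map_add, hx.add _ (h2 u hu) _ _ ((pl _ _).trans k1) ((pl _ _).trans k2)],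
      fun u hu s => by rw [map_smul, hx.self _ (h2 u hu)],
      fun u hu v hv k1 s => by rw [map_smul, map_smul, hx.swap _ (h2 u hu) _ (h2 v hv) ((pl _ _).trans k1)],
      fun u hu u' hu' k0 v w k1 k2 k3 => by
        rw [h3 u v w ((hθ u).symm.trans (hx.q _ (h2 u hu))) k1, hx.conj _ (h2 u hu) _ (h2 u' hu')
          ((pl _ _).trans k0) _ _ ((pl _ _).trans k1) ((pl _ _).trans k2) ((pl _ _).trans k3)]⟩
  have hG : PG (qMinus F m a b) (Set.range (LieMult.frM m hab).v) (fun u v => x (θ u) (θ v)) = PG Q R x := by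
    refine congrArg Subgroup.closure (Set.ext fun g => ⟨fun ⟨u, hu, v, k, e⟩ => ⟨_, h2 u hu, _, (pl _ _).trans k, e⟩, ?_⟩)
    rintro ⟨u, hu, v, k, rfl⟩
    obtain ⟨v, rfl⟩ := θ.surjective v
    obtain ⟨c, rfl⟩ : ∃ c, θ ((LieMult.frM m hab).v c) = u := by
      obtain ⟨i, hi, rfl | rfl⟩ := hR' u hu
      exacts [⟨.inl ⟨i, hi⟩, (h1 ⟨i, hi⟩).1⟩, ⟨.inr ⟨i, hi⟩, (h1 ⟨i, hi⟩).2⟩]
    exact ⟨_, ⟨c, rfl⟩, v, (pl _ _).symm.trans k, rfl⟩
  obtain ⟨ψ, hψ⟩ := dp_model h.two (by omega) hab hx' (hG ▸ hz)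
  let ε := (h.eCongr h' θ hθ).trans (omE Q)
  have key : ∀ c v, polar Q (θ ((LieMult.frM m hab).v c)) v = 0 →
      xx (ψ.comp ε.symm.toMonoidHom) (θ ((LieMult.frM m hab).v c)) v = x (θ ((LieMult.frM m hab).v c)) v := by
    intro c v k
    obtain ⟨v, rfl⟩ := θ.surjective v
    rw [pl] at k
    rw [xx, ph_eq (ρ_mem Q _ _), ← hψ c v k]
    refine congrArg ψ (ε.symm_apply_eq.2 (Subtype.ext (lin_ext (σ_ρ _ _) rfl fun w => ?_)))
    obtain ⟨w, rfl⟩ := θ.surjective w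
    rw [← h3 _ _ _ (hx'.q _ ⟨c, rfl⟩) k]
    exact congrArg (fun y => θ (ρ (qMinus F m a b) ((LieMult.frM m hab).v c) v • y))
      (θ.symm_apply_apply w).symm
  exact ⟨_, (h1 ⟨0, by omega⟩).1 ▸ key (.inl ⟨0, by omega⟩), (h1 ⟨0, by omega⟩).2 ▸ key (.inr ⟨0, by omega⟩)⟩

theorem pres2 {m : ℕ} (h : OS0 Q (m + 1)) {e f : ℕ → V} (fr : Fr Q m e f) {R : Set V}
    (hR : ∀ i < m, e i ∈ R ∧ f i ∈ R) (hR' : ∀ u ∈ R, ∃ i < m, u = e i ∨ u = f i)
    {x : V → V → G} (hx : PRel Q R x)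
    (hz : ∀ g ∈ PG Q R x, g ∈ centralizer (PG Q R x : Set G) → g * g = 1 → g = 1) :
    ∃ ψ : Om Q →* G, (∀ v, polar Q (e 0) v = 0 → xx ψ (e 0) v = x (e 0) v) ∧
      ∀ v, polar Q (f 0) v = 0 → xx ψ (f 0) v = x (f 0) v := by
  by_cases an : ∀ w ∈ Wn Q e f m, Q w = 0 → w = 0
  · exact pres_minus h fr an hR hR' hx hz
  push Not at an
  obtain ⟨w, hw, q, w0⟩ := an
  obtain ⟨y, hy, hh⟩ := h.partner_Wn fr hw w0 q
  have h4 := h.four
  have := h.pres (fr.snoc hh hw hy) R (fun i hi => by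
    rw [if_pos (by omega), if_pos (by omega)]; exact hR i (by omega)) x hx.add hx.self hx.swap hx.conj
  rwa [if_pos (by omega), if_pos (by omega)] at this

end CfsgLib.SPC.D
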