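import Cfsg.Agent.Lib.SPC.DRel
import Cfsg.Agent.Lib.SPC.DPres

/-! Type D: the identification of `G0` -/

set_option autoImplicit false
set_option linter.unusedSectionVars false

namespace CfsgLib.SPC

open Subgroup Module CfsgLib.Forms CfsgLib.LieMult QuadraticMap
open CfsgLib.UN (Rg Yg)
open CfsgLib.ClSys (II)
open CfsgLib.SLD (Om Fx ρ rf xx ph im Ac)
open CfsgLib.SPC.D (Sd AFr OD DD)
open Submodule (span)
open scoped commutatorElement

universe u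

variable {F : Type} [Field F] [Finite F] {V : Type} [AddCommGroup V] [Module F V] [Finite V]
  {P : PQ (RingHom.id F) V} {S : Type} [Group S] [Finite S] {C : CG P S} {Q : V → F} {δ : F} {k : ℕ}
  {G : Type u} [Group G] [Finite G] {φ : S →* G} {t : G} {Fr : Frame P k} {y : II k → F → G}

namespace HD

variable (h : HD C φ t Fr Q y δ) (hk : finrank F V = 2 * k)
include h hk

theorem id_pol (a : II k) (p : V × F × F) : polar (Qh h.qf δ) (vh Fr a) p = P.B (Fr.v a) p.1 := by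
  rw [h.toMod.polar_Qh]; simp [vh]

theorem id_y0 (a : II k) : y a 0 = 1 := by
  have := h.add a 0 0
  rwa [add_zero, left_eq_mul] at this

theorem id_τ (a : II k) (w : V) (c : F) :
    ∃ α : F, α * α + Q w = c ∧ Xh Fr C φ Q y a (w, α, 0) = φ (C.T (Fr.v a) w c) := by
  have od := h.toMod.od (δ := δ) h.qf hk
  obtain ⟨α, hα⟩ := od.sqrt (c + Q w)
  have e : α * α + Q w = c := by rw [hα, add_assoc, od.addF, add_zero]
  exact ⟨α, e, by rw [Xh, h.id_y0 hk, mul_one, e]; rfl⟩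

theorem id_z (a : II k) : φ (C.T (Fr.v a) 0 1) ≠ 1 := fun e => by
  have e1 := h.toMod.d_apply (e := Fr.v a) (a := 0) (by simp) 1 (Fr.v a.swap)
  rw [(injective_iff_map_eq_one φ).1 h.inj _ e, C.one_apply, Fr.B_swap] at e1
  have e2 : Fr.v a = 0 := by simpa using e1
  have := Fr.B_swap a
  rw [e2] at this
  simp at this

theorem id_r (a : II k) {p : V × F × F} (hp : P.B (Fr.v a) p.1 = 0) :
    P.B (Fr.v a) (rf (Qh h.qf δ) (dd F V) • p).1 = 0 := by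
  rw [(h.toMod.od (δ := δ) h.qf hk).rf_smul]
  simpa [dd] using hp

theorem psi (h0 : 0 < k) :
    ∃ ψ : Om (Qh h.qf δ) →* G, ∀ a : II k, a = .inl ⟨0, h0⟩ ∨ a = .inr ⟨0, h0⟩ →
      ∀ p : V × F × F, P.B (Fr.v a) p.1 = 0 → xx ψ (vh Fr a) p = Xh Fr C φ Q y a p := by
  have : Nonempty (II k) := ⟨.inl ⟨0, h0⟩⟩
  have od := h.toMod.od (δ := δ) h.qf hk
  have fr := h.toMod.afr (δ := δ) h.qf Fr h.qv
  have inj : Function.Injective (vh Fr) := fun a b e => by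
    have e1 := Fr.B_swap a
    rw [show Fr.v a = Fr.v b from congrArg Prod.fst e, Fr.B_v, Sum.swap_swap] at e1
    by_contra n
    rw [if_neg (Ne.symm n)] at e1
    exact zero_ne_one e1
  obtain ⟨X, hX⟩ : ∃ X : V × F × F → V × F × F → G, ∀ a p, X (vh Fr a) p = Xh Fr C φ Q y a p :=
    ⟨fun u => Xh Fr C φ Q y (Function.invFun (vh Fr) u), fun a p => by
      simp only [Function.leftInverse_invFun inj a]⟩
  have pol := h.id_pol hk
  have ne : ∀ a b, polar (Qh h.qf δ) (vh Fr a) (vh Fr b) = 0 → a ≠ b.swap := fun a b e n => by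
    rw [pol, n] at e
    exact one_ne_zero ((Fr.B_swap' b).symm.trans e)
  obtain ⟨ψ, k1, k2⟩ := D.pres2 od.toOS0 fr.toFr (R := Set.range (vh Fr)) (x := X)
    (fun i hi => ⟨⟨.inl ⟨i, hi⟩, by rw [eh, dif_pos hi]⟩, ⟨.inr ⟨i, hi⟩, by rw [fh, dif_pos hi]⟩⟩) (by
      rintro _ ⟨i | i, rfl⟩
      · exact ⟨i, i.2, .inl (by rw [eh, dif_pos i.2])⟩
      · exact ⟨i, i.2, .inr (by rw [fh, dif_pos i.2])⟩)
    ⟨by rintro _ ⟨a, rfl⟩; simp [Qh_apply, vh, h.qv], by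
      rintro _ ⟨a, rfl⟩ p p' h1 h2
      rw [hX, hX, hX, h.X_add hk a (pol a p ▸ h1) (pol a p' ▸ h2)], by
      rintro _ ⟨a, rfl⟩ l
      rw [hX, h.X_self hk], by
      rintro _ ⟨a, rfl⟩ _ ⟨b, rfl⟩ e l
      rw [hX, hX, h.X_swap hk (ne a b e)], by
      rintro _ ⟨a, rfl⟩ _ ⟨b, rfl⟩ e p p' h1 h2 h3
      rw [hX, hX, hX, h.X_conj hk (ne a b e) (pol a p ▸ h1) (pol b p ▸ h2) (pol b p' ▸ h3)]⟩ (by
      generalize hH : D.PG (Qh h.qf δ) (Set.range (vh Fr)) X = H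
      have m : ∀ a p, P.B (Fr.v a) p.1 = 0 → Xh Fr C φ Q y a p ∈ H := fun a p hp =>
        hH ▸ subset_closure ⟨_, ⟨a, rfl⟩, p, (pol a p).trans hp, (hX a p).symm⟩
      have m1 : ∀ a w c, P.B (Fr.v a) w = 0 → C.T (Fr.v a) w c ∈ H.comap φ := fun a w c hw => by
        obtain ⟨α, -, e⟩ := h.id_τ hk a w c
        exact mem_comap.2 (e ▸ m a _ hw)
      have hL : φ.range ≤ H := by
        rintro _ ⟨s, rfl⟩
        exact (h.toMod.d_genQ (Fr.B_swap (.inl ⟨0, h0⟩)) (m1 _) (m1 _)).ge (mem_top s)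
      have hn : t ∈ normalizer (H : Set G) := mem_normalizer_fintype fun g hg => by
        have : H ≤ H.comap (MulAut.conj t).toMonoidHom := by
          conv_lhs => rw [← hH]
          refine (closure_le _).2 ?_
          rintro _ ⟨_, ⟨a, rfl⟩, p, hp, rfl⟩
          rw [pol] at hp
          show t * X _ p * t⁻¹ ∈ H
          rw [hX, h.X_t hk a hp]
          exact m a _ (h.id_r hk a hp)
        exact this hg
      have nt : t ∉ centralizer (H : Set G) := fun c => by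
        have e1 := (h.pz (.inl ⟨0, h0⟩) 1).pt
        have e2 := m (.inl ⟨0, h0⟩) (0, 0, 1) (by simp)
        have q0 : Q 0 = 0 := by simpa using h.qf.smul 0 0
        rw [Xh, τ, mul_zero, q0, add_zero, C.T_zero (Fr.sing _), map_one, one_mul] at e2
        rw [c _ e2, mul_inv_cancel_right, left_eq_mul, one_smul] at e1
        exact h.id_z hk _ e1
      intro g g1 g2 g3
      have ti := inv_eq_of_mul_eq_one_right h.t2
      have c1 := UFP.conj_mem (Core.normalizer_le_normalizer_centralizer _ hn) g2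
      have c2 : g * (t * g * t⁻¹) = t * g * t⁻¹ * g := c1 g g1
      have c3 := h.toStd.invol (centralizer_le hL (mul_mem g2 c1)) (by
        rw [c2, ti]
        calc _ = t * (g * (t * g * t)) := by group
          _ = _ := by rw [← ti, show t⁻¹ * g * t⁻¹ = t * g * t⁻¹ by rw [ti], c2, ti]) (by
        calc _ = g * (t * g * t⁻¹ * g) * (t * g * t⁻¹) := by group
          _ = g * g * (t * (g * g) * t⁻¹) := by rw [← c2]; group
          _ = 1 := by rw [g3]; group)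
      have c4 := c3.resolve_right fun e => nt (e ▸ mul_mem g2 c1)
      refine (h.toStd.invol (centralizer_le hL g2) ?_ g3).resolve_right fun e => nt (e ▸ g2)
      exact (mul_inv_eq_iff_eq_mul.1 (mul_left_cancel (c4.trans g3.symm))).symm)
  refine ⟨ψ, ?_⟩
  rw [eh, dif_pos h0] at k1
  rw [fh, dif_pos h0] at k2
  rintro _ (rfl | rfl) p hp
  · rw [k1 p ((pol _ p).trans hp), hX]
  · rw [k2 p ((pol _ p).trans hp), hX]

theorem dd : ∃ ψ : Om (Qh h.qf δ) →* G, DD (Qh h.qf δ) (k + 1) ψ t (SPC.dd F V) ∧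
      im ψ (Fx (Qh h.qf δ) {SPC.dd F V}) = φ.range := by
  have od := h.toMod.od (δ := δ) h.qf hk
  have h0 : 0 < k := by have := od.four; omega
  have fr := h.toMod.afr (δ := δ) h.qf Fr h.qv
  obtain ⟨ψ, hψ⟩ := h.psi hk h0
  have key : ∀ {s γ}, Cor C h.qf δ s γ → ph ψ γ = φ s := by
    let K : Subgroup S :=
      { carrier := {s | ∃ γ, Cor C h.qf δ s γ ∧ ph ψ γ = φ s}
        one_mem' := ⟨1, h.toMod.cor_one hk, by rw [SLD.ph_one, map_one]⟩
        mul_mem' := by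
          rintro a b ⟨γ, a1, a2⟩ ⟨γ', b1, b2⟩
          exact ⟨_, h.toMod.cor_mul hk a1 b1, by rw [SLD.ph_mul a1.mem.1 b1.mem.1, a2, b2, map_mul]⟩
        inv_mem' := by
          rintro a ⟨γ, a1, a2⟩
          exact ⟨_, h.toMod.cor_inv hk a1, by rw [SLD.ph_inv a1.mem.1, a2, map_inv]⟩ }
    have m : ∀ a : II k, a = .inl ⟨0, h0⟩ ∨ a = .inr ⟨0, h0⟩ → ∀ w c, P.B (Fr.v a) w = 0 →
        C.T (Fr.v a) w c ∈ K := fun a ha w c hw => by
      obtain ⟨α, rfl, e⟩ := h.id_τ hk a w c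
      exact ⟨_, h.toMod.cor_T hk (h.qv a) hw α, (hψ a ha (w, α, 0) hw).trans e⟩
    intro s γ hc
    obtain ⟨γ', k1, k2⟩ := (h.toMod.d_genQ (Fr.B_swap (.inl ⟨0, h0⟩)) (m _ (.inl rfl)) (m _ (.inr rfl))).ge
      (mem_top s)
    rw [h.toMod.cor_uniq hk hc k1, k2]
  have eL : im ψ (Fx (Qh h.qf δ) {SPC.dd F V}) = φ.range := by
    refine le_antisymm (SLD.im_le.2 fun γ hγ _ => ?_) ?_
    · obtain ⟨s, hs⟩ := h.toMod.exists_cor' hk hγ
      exact ⟨s, (key hs).symm⟩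
    · rintro _ ⟨s, rfl⟩
      obtain ⟨γ, hγ⟩ := h.toMod.exists_cor (hq := h.qf) (δ := δ) hk s
      exact key hγ ▸ SLD.ph_mem_im hγ.mem
  have cz : ∀ v, ∃ u, Sd (Qh h.qf δ) (SPC.dd F V) u ∧
      Cor C h.qf δ (C.T v 0 1) (ρ (Qh h.qf δ) u (SPC.dd F V)) := fun v => by
    obtain ⟨r, hr⟩ := od.sqrt (Q v)
    exact ⟨_, (h.toMod.sd_iff hk).2 ⟨v, r, hr, rfl⟩, h.toMod.cor_z hk hr⟩
  refine ⟨ψ, ⟨od, eL ▸ h.toStd, ?_, ?_, fun K hK => ?_, fun γ hγ hc => ?_⟩, eL⟩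
  · refine (MonoidHom.ker_eq_bot_iff ψ).1 ((od.simple.eq_bot_or_eq_top_of_normal _ inferInstance).resolve_right
      fun e => ?_)
    obtain ⟨u, -, hu⟩ := cz (Fr.v (.inl ⟨0, h0⟩))
    exact h.id_z hk _ ((key hu).symm.trans ((SLD.ph_eq hu.mem.1).trans (e.ge (mem_top _))))
  · let H : Subgroup (SLD.SI (Qh h.qf δ)) :=
      { carrier := {e | e ∈ Om (Qh h.qf δ) ∧ t * ph ψ e * t⁻¹ =
          ph ψ (rf (Qh h.qf δ) (SPC.dd F V) * e * (rf (Qh h.qf δ) (SPC.dd F V))⁻¹)}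
        one_mem' := ⟨one_mem _, by simp [SLD.ph_one]⟩
        mul_mem' := fun {a b} ha hb => ⟨mul_mem ha.1 hb.1, by
          rw [SLD.ph_mul ha.1 hb.1, ← conj_mul, ha.2, hb.2, ← SLD.ph_mul (SLD.Om_normal.conj_mem _ ha.1 _)
            (SLD.Om_normal.conj_mem _ hb.1 _), conj_mul]⟩
        inv_mem' := fun {a} ha => ⟨inv_mem ha.1, by
          rw [SLD.ph_inv ha.1, ← conj_inv, ha.2, ← SLD.ph_inv (SLD.Om_normal.conj_mem _ ha.1 _), conj_inv]⟩ }
    have m : ∀ a : II k, a = .inl ⟨0, h0⟩ ∨ a = .inr ⟨0, h0⟩ → SLD.A (Qh h.qf δ) (vh Fr a) ≤ H := fun a ha =>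
      SLD.A_le fun p _ hp => ⟨SLD.ρ_mem _ _ _, by
        rw [h.id_pol hk] at hp
        rw [SLD.conj_ρ, SLD.rf_fix (by rw [h.id_pol hk]; simp [SPC.dd]), ← xx, ← xx, hψ a ha p hp,
          hψ a ha _ (h.id_r hk a hp), h.X_t hk a hp]⟩
    have hy := fr.hyp (i := 0) h0
    rw [eh, fh, dif_pos h0, dif_pos h0] at hy
    exact fun e he => ((od.gen_A hy).trans (sup_le (m _ (.inl rfl)) (m _ (.inr rfl))) he).2
  · rw [eL]
    rintro _ ⟨s, rfl⟩
    refine (h.toMod.d_genz (K := K.comap φ) fun v => ?_).ge (mem_top s)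
    obtain ⟨u, h1, h2⟩ := cz v
    exact mem_comap.2 (key h2 ▸ hK u h1)
  · obtain ⟨s, hs⟩ := h.toMod.exists_cor' hk hγ
    obtain ⟨v, hv⟩ := h.cls (φ s) ⟨s, rfl⟩ (key hs ▸ isConj_iff.1 hc)
    obtain ⟨u, h1, h2⟩ := cz v
    exact ⟨u, h1, h.toMod.cor_uniq hk (h.inj hv ▸ hs) h2⟩

end HD

end CfsgLib.SPC
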