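import Cfsg.Agent.Lib.SPC.DFlg

/-! Type D: the linearity condition in the model -/

set_option autoImplicit false
set_option linter.unusedSectionVars false

namespace CfsgLib.SPC.D

open Subgroup QuadraticMap CfsgLib.OrthE CfsgLib.SLD Module
open scoped commutatorElement Pointwise

universe u

variable {F V : Type} [Field F] [Finite F] [AddCommGroup V] [Module F V] [Finite V] {Q : QuadraticForm F V}
  {k : ℕ} {d : V}

/-- the elements of `UF` which are trivial on `Tn c ^⊥` modulo `T` -/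
def N2 (h : OS0 Q k) {e f : ℕ → V} (fr : Fr Q (k - 1) e f) (c : ℕ) (hc : c ≤ k - 1) : Subgroup (SI Q) where
  carrier := {g | g ∈ UF Q e (k - 1) ∧ ∀ z ∈ pp Q (Tn F e c), g • z - z ∈ Tn F e (k - 1)}
  one_mem' := ⟨one_mem _, fun z _ => by simp⟩
  mul_mem' {a b} ha hb := ⟨mul_mem ha.1 hb.1, fun z hz => by
    have := add_mem (smul_mem_Tn ((h.mem_UF fr).1 ha.1).2.1.mem le_rfl (hb.2 z hz)) (ha.2 z hz)
    rwa [smul_sub, sub_add_sub_cancel, ← mul_smul] at this⟩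
  inv_mem' {a} ha := ⟨inv_mem ha.1, fun z hz => by
    have := neg_mem (ha.2 _ (smul_mem_pp (fun x hx =>
      smul_mem_Tn ((h.mem_UF fr).1 (inv_mem ha.1)).2.1.mem hc hx) z hz))
    rwa [smul_inv_smul, neg_sub] at this⟩

theorem lnm_pp (h : OS0 Q k) {e f : ℕ → V} (fr : Fr Q (k - 1) e f) {c : ℕ} (hc : c ≤ k - 1) {g : SI Q}
    (hg : g ∈ UF Q e (k - 1)) {z : V} (hz : z ∈ pp Q (Tn F e c)) : g • z ∈ pp Q (Tn F e c) :=
  smul_mem_pp (fun _ hx => smul_mem_Tn ((h.mem_UF fr).1 hg).2.1.mem hc hx) z hz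

theorem N2_conj (h : OS0 Q k) {e f : ℕ → V} (fr : Fr Q (k - 1) e f) {c : ℕ} (hc : c ≤ k - 1) {g n : SI Q}
    (hg : g ∈ UF Q e (k - 1)) (hn : n ∈ N2 h fr c hc) : g * n * g⁻¹ ∈ N2 h fr c hc :=
  ⟨mul_mem (mul_mem hg hn.1) (inv_mem hg), fun z hz => by
    rw [conj_sub]
    exact smul_mem_Tn ((h.mem_UF fr).1 hg).2.1.mem le_rfl (hn.2 _ (lnm_pp h fr hc (inv_mem hg) hz))⟩

theorem OD.lnm_level (h : OD Q k d) {e f : ℕ → V} (fr : AFr Q k d e f) {j : ℕ} (hj : j < 2 * k * (k - 1))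
    {m : V} (hm : m ∈ Tn F e (k - 1)) (hg : ρ Q m d ∉ Ch (Q := Q) e k j) :
    ∃ c, ∃ hc : c ≤ k - 1, Ch (Q := Q) e k j ≤ N2 h.toOS0 fr.toFr c hc ∧ m ∉ Tn F e c := by
  obtain ⟨a, b, ha, -, E, -⟩ := ChX.Ch_eq (Q := Q) (e := e) hj
  have dT : d ∈ pp Q (Tn F e (k - 1)) := fr.dW.1
  have U := Ch_le (Q := Q) e hj.le
  have sm := fr.sd hm
  rcases le_or_gt b k with hb | hb
  · refine ⟨a, ha.le, fun g k1 => ⟨U k1, fun z hz => ?_⟩, fun k1 => hg (E ▸ ChX.UF_le_MM ?_)⟩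
    · refine (sup_le (inf_le_left.trans ?_) (Tn_mono e ha) : ChX.hat (Q := Q) e a _ ≤ _)
        (ChX.act h.toOS0 fr.toFr ha (E ▸ k1) hz)
      rw [ChX.Gf_lo hb]
      exact Tn_mono e (min_le_right _ _)
    · exact h.NT_le_UF (fr.mono ha.le) le_rfl (ρ_mem_NT (fr.ts ha.le) k1 (pp_anti (Tn_mono e ha.le) dT))
  · refine ⟨a + 1, ha, fun g k1 => ⟨U k1, fun z hz => Tn_mono e ha
      (((h.mem_UF (fr.mono ha)).1 (ChX.MM_le_UF (E ▸ k1))).2.2 z hz)⟩, fun k1 => hg ?_⟩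
    rw [E]
    refine (ChX.mem_MM h.toOS0 fr.toFr ha (h.NT_le_UF fr.toFr le_rfl (ρ_mem_NT (fr.ts le_rfl) hm dT))).2
      ⟨fun z hz => ?_, fun z _ => ?_⟩
    · rw [ρ_left sm.q sm.p (hz m k1), add_sub_cancel_left]
      exact Submodule.smul_mem _ _ k1
    · rw [h.ρ_smul sm.q sm.p, show z + polar Q z d • m + polar Q z m • d + (Q d * polar Q z m) • m - z =
        polar Q z m • d + (polar Q z d + Q d * polar Q z m) • m by module]
      refine Submodule.add_mem_sup (Submodule.smul_mem _ _ ⟨?_, pp_anti (Tn_mono e ha) dT⟩)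
        (Submodule.smul_mem _ _ k1)
      rw [ChX.Gf_hi hb]
      exact pp_anti (Tn_mono e (by omega)) dT

theorem OD.lin_m (h : OD Q k d) {e f : ℕ → V} (fr : AFr Q k d e f) :
    ∀ i < 2 * k * (k - 1), ∀ x ∈ Ch (Q := Q) e k (i + 1),
    rf Q d * x * (rf Q d)⁻¹ * x⁻¹ ∉ Ch e k i → ∀ j ≤ i, ∀ a ∈ UF Q e (k - 1),
    (∀ y ∈ Ch (Q := Q) e k (i + 1), rf Q d * y * (rf Q d)⁻¹ * y⁻¹ ∈ Ch e k i →
      a * y * a⁻¹ * y⁻¹ ∈ Ch e k j) →
    a * (x * rf Q d) * a⁻¹ * (x * rf Q d)⁻¹ ∈ Ch e k j →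
    a * rf Q d * a⁻¹ * (rf Q d)⁻¹ ∈ Ch e k j := by
  intro i hi x hx hn j hj a ha H1 H2
  obtain ⟨n, hn', E1, E2⟩ := h.layer fr hi hx hn
  have dT : d ∈ pp Q (Tn F e (k - 1)) := fr.dW.1
  obtain ⟨a1, a2, a3⟩ := (h.mem_UF fr.toFr).1 ha
  have hm := a3 d dT
  obtain ⟨m, em⟩ : ∃ m, m = a • d - d := ⟨_, rfl⟩
  rw [← em] at hm
  have ad : a • d = d + m := by rw [em]; abel
  have sm := fr.sd hm
  have eg : a * rf Q d * a⁻¹ * (rf Q d)⁻¹ = ρ Q m d := by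
    have := h.rf_shift sm 1
    rw [one_smul, one_smul] at this
    rw [conj_rf, ad, this, conj_ρ, rf_fix sm.p, h.rf_d]
  rw [eg]
  by_contra hg
  obtain ⟨c, hc, le, mc⟩ := h.lnm_level fr (by omega) hm hg
  have eT : e n ∈ Tn F e (k - 1) := e_mem_Tn hn'
  have uT : a • e n ∈ Tn F e (k - 1) := smul_mem_Tn a2.mem le_rfl eT
  have se := fr.sd eT
  have su := fr.sd uT
  have dn := h.d_not_mem fr
  have dz : ∀ s : F, s • d ∈ Tn F e (k - 1) → s = 0 := fun s hs => by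
    by_contra s0
    exact dn (by simpa [s0] using Submodule.smul_mem _ s⁻¹ hs)
  have ρU : ∀ w ∈ pp Q (Tn F e (k - 1)), ρ Q (e n) w ∈ UF Q e (k - 1) := fun w hw =>
    ρ_mem_UF hn' (pp_anti (Tn_mono e hn') hw)
  have key : ∀ w ∈ pp Q (Tn F e (k - 1)), ∀ z, ∃ τ ∈ Tn F e (k - 1),
      (a * ρ Q (e n) w * a⁻¹) • z - ρ Q (e n) w • z = τ + (polar Q z (a • e n) - polar Q z (e n)) • w := by
    intro w hw z
    have p1 : polar Q (e n) w = 0 := by rw [polar_comm]; exact hw _ eT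
    rw [conj_ρ, h.ρ_smul su.q (by rw [lin_pol a1, p1]), h.ρ_smul se.q p1]
    refine ⟨_, add_mem (add_mem (Submodule.smul_mem _ (polar Q z (a • w) + Q (a • w) * polar Q z (a • e n)) uT)
      (Submodule.smul_mem _ (polar Q z (a • e n)) (a3 w hw)))
      (Submodule.smul_mem _ (-(polar Q z w + Q w * polar Q z (e n))) eT), ?_⟩
    generalize a • w = w', a • e n = u'
    module
  have k1 : ∀ z ∈ pp Q (Tn F e c), polar Q z (a • e n) - polar Q z (e n) = 0 := fun z hz => by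
    have y1 : ρ Q (e n) d ∈ Ch (Q := Q) e k (i + 1) := E2 ▸ ChX.ρ_mem_MM hn' dT (pp_anti (Tn_mono e hn') dT)
    have y2 := (le (H1 _ y1 (by
      rw [conj_ρ, h.r_e fr hn', h.rf_d, mul_inv_cancel]; exact one_mem _))).2 _
      (lnm_pp h.toOS0 fr.toFr hc (ρU d dT) hz)
    obtain ⟨τ, hτ, e1⟩ := key d dT z
    rw [mul_smul, inv_smul_smul, e1] at y2
    exact dz _ ((Submodule.add_mem_iff_right _ hτ).1 y2)
  obtain ⟨w, hw, R⟩ := ChX.exists_R h.toOS0 fr.toFr hn' (E2 ▸ hx)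
  have s := h.ser fr
  have n1 : x * (ρ Q (e n) w)⁻¹ ∈ Ch (Q := Q) e k i := E1 ▸ ChX.UF_le_MM R.2
  have nU := Ch_le e hi.le n1
  have xU := Ch_le e hi hx
  have k2 := le (H1 _ (s.mono i hi n1) (mul_mem (UFP.conj_mem (s.tn i hi.le) n1) (inv_mem n1)))
  have k3 : a * ρ Q (e n) w * a⁻¹ * (ρ Q (e n) w)⁻¹ ∈ N2 h.toOS0 fr.toFr c hc :=
    ⟨mul_mem (mul_mem (mul_mem ha (ρU w hw)) (inv_mem ha)) (inv_mem (ρU w hw)), fun z hz => by
      obtain ⟨τ, hτ, e1⟩ := key w hw ((ρ Q (e n) w)⁻¹ • z)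
      rw [k1 _ (lnm_pp h.toOS0 fr.toFr hc (inv_mem (ρU w hw)) hz), zero_smul, add_zero, smul_inv_smul] at e1
      rw [mul_smul, e1]; exact hτ⟩
  have k4 := N2_conj h.toOS0 fr.toFr hc (inv_mem xU)
    (mul_mem (inv_mem (mul_mem k2 (N2_conj h.toOS0 fr.toFr hc nU k3))) (le H2))
  rw [show ∀ p : SI Q, x⁻¹ * ((a * (x * p⁻¹) * a⁻¹ * (x * p⁻¹)⁻¹ * (x * p⁻¹ * (a * p * a⁻¹ * p⁻¹) * (x * p⁻¹)⁻¹))⁻¹ *
    (a * (x * rf Q d) * a⁻¹ * (x * rf Q d)⁻¹)) * x⁻¹⁻¹ = a * rf Q d * a⁻¹ * (rf Q d)⁻¹ from fun p => by group, eg] at k4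
  obtain ⟨z, hz, e1⟩ := h.exists_pol mc
  have k5 := k4.2 z hz
  rw [polar_comm] at e1
  rw [h.ρ_smul sm.q sm.p, e1, show z + polar Q z d • m + (1 : F) • d + (Q d * 1) • m - z =
    (polar Q z d + Q d * 1) • m + (1 : F) • d by module] at k5
  exact one_ne_zero (dz _ ((Submodule.add_mem_iff_right _ (Submodule.smul_mem _ _ hm)).1 k5))

end CfsgLib.SPC.D
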