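import Cfsg.Agent.Lib.SPC.DGeo

/-! Type D: the symplectic group inside the orthogonal group -/

set_option autoImplicit false
set_option linter.unusedSectionVars false

namespace CfsgLib.SPC

open Subgroup Module CfsgLib.Forms CfsgLib.LieMult QuadraticMap
open CfsgLib.UN (Rg Yg)
open CfsgLib.ClSys (II)
open CfsgLib.SLD (Om Fx ρ rf xx ph im Ac)
open CfsgLib.SPC.D (Sd AFr OD DD)
open Submodule (span)
open scoped commutatorElement

universe u

variable {F : Type} [Field F] [Finite F] {V : Type} [AddCommGroup V] [Module F V] [Finite V]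
  {P : PQ (RingHom.id F) V} {S : Type} [Group S] [Finite S] {C : CG P S} {Q : V → F} {δ : F} {k : ℕ}

theorem Qh_apply (hq : QF P Q) (p : V × F × F) :
    Qh hq δ p = Q p.1 + p.2.1 * p.2.1 + p.2.1 * p.2.2 + δ * (p.2.2 * p.2.2) := rfl

namespace Mod

variable (h : Mod C)
include h

theorem d_symm (u v : V) : P.B u v = P.B v u := (C.conj v u).symm

theorem d_alt (u : V) : P.B u u = 0 := by
  rw [P.self, C.ε1, RingHom.id_apply]; linear_combination P.N u * h.two

theorem d_tok {e a : V} (hp : P.B e a = 0) (c : F) : TOk P e a c := 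
  ⟨by rw [PQ.Sing, h.lam]; trivial, hp, by rw [h.lam]; trivial⟩

theorem d_addV (v : V) : v + v = 0 := by rw [← two_smul F v, h.two, zero_smul]

theorem d_apply {e a : V} (hp : P.B e a = 0) (c : F) (v : V) :
    C.act (C.T e a c) v = v + (P.B a v + c * P.B e v) • e + P.B e v • a := by
  rw [C.T_apply (h.d_tok hp c), tfun, RingHom.id_apply]
  linear_combination (norm := module) h.two • (-(c * P.B e v) • e - P.B e v • a)

theorem dm_z (u v : V) : C.act (C.T u 0 1) v = v + P.B u v • u := by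
  rw [h.d_apply (map_zero _)]
  simp

/-- `T e a c` as a product of four transvections -/
theorem d_fac {e a : V} (hp : P.B e a = 0) (r : F) :
    C.T e a (r * r) = C.T (e + a) 0 1 * C.T e 0 1 * C.T a 0 1 * C.T (r • e) 0 1 := by
  have ae : P.B a e = 0 := by rw [h.d_symm, hp]
  refine C.ext fun v => ?_
  simp only [C.mul_apply, h.d_apply hp, h.dm_z, map_add, map_smul, LinearMap.add_apply,
    LinearMap.smul_apply, smul_eq_mul, h.d_alt, hp, ae, mul_zero, add_zero]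
  linear_combination (norm := module) h.two • (-P.B e v • e - P.B a v • a)

theorem d_genz {K : Subgroup S} (hK : ∀ v, C.T v 0 1 ∈ K) : K = ⊤ := by
  have := h.simp
  have : Module.Finite F V := Module.Finite.of_finite
  have : Nontrivial V := Module.nontrivial_of_finrank_pos (R := F) (by have := h.d6; omega)
  have hle : normalClosure (Set.range fun v => C.T v 0 1) ≤ K := by
    refine (closure_le _).2 fun x hx => ?_
    obtain ⟨_, ⟨v, rfl⟩, hc⟩ := Group.mem_conjugatesOfSet_iff.1 hx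
    obtain ⟨g, rfl⟩ := isConj_iff.1 hc
    rw [C.T_conj g (h.d_tok (map_zero _) 1), map_zero]
    exact hK _
  rcases IsSimpleGroup.eq_bot_or_eq_top_of_normal (normalClosure (Set.range fun v => C.T v 0 1))
    inferInstance with e | e
  · obtain ⟨v, hv⟩ := exists_ne (0 : V)
    refine absurd (C.nondeg v fun w => ?_) hv
    have h1 : C.T v 0 1 = 1 := mem_bot.1 (e ▸ subset_normalClosure ⟨v, rfl⟩)
    have h2 := h.dm_z v w
    rw [h1, C.one_apply, left_eq_add, smul_eq_zero] at h2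
    exact h2.resolve_right hv
  · exact top_le_iff.1 (e ▸ hle)

theorem dm_not {e f : V} (H : HP P e f) {K : Subgroup S} (h1 : ∀ a c, P.B e a = 0 → C.T e a c ∈ K)
    (h2 : ∀ a c, P.B f a = 0 → C.T f a c ∈ K) (v : V) (hv : P.B e v ≠ 0) : C.T v 0 1 ∈ K := by
  obtain ⟨a, c, ok, -, e1, -⟩ := C.exists_T_map H (y := v) (by rw [PQ.Sing, h.lam]; trivial) hv
  have e2 := C.T_conj (C.T e a c) (h.d_tok (e := P.B e v • f) (map_zero _) 1)
  rw [e1, map_zero] at e2
  rw [← e2]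
  refine K.mul_mem (K.mul_mem (h1 _ _ ok.perp) ?_) (K.inv_mem (h1 _ _ ok.perp))
  rw [C.T_smul_left (h.d_tok (map_zero _) 1)]
  exact h2 _ _ (by simp)

theorem d_genQ {e f : V} (hp : P.B e f = 1) {K : Subgroup S} (h1 : ∀ a c, P.B e a = 0 → C.T e a c ∈ K)
    (h2 : ∀ a c, P.B f a = 0 → C.T f a c ∈ K) : K = ⊤ := by
  have hs : ∀ v, P.Sing v := fun v => by rw [PQ.Sing, h.lam]; trivial
  have H : HP P e f := ⟨hs e, hs f, hp, by rw [h.d_symm, hp]⟩
  have k1 := h.dm_not H h1 h2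
  have k2 := h.dm_not H.symm h2 h1
  refine h.d_genz fun v => ?_
  by_cases a1 : P.B e v = 0
  · by_cases a2 : P.B f v = 0
    · have e1 := h.d_fac a1 0
      have m1 : C.T (e + v) 0 1 ∈ K := k2 _ (by rw [map_add, a2, H.fe, add_zero]; exact one_ne_zero)
      have m2 : C.T e 0 1 ∈ K := h1 _ _ (map_zero _)
      have m3 : C.T ((0 : F) • e) 0 1 ∈ K := by
        rw [C.T_smul_left (h.d_tok (map_zero _) 1)]
        exact h1 _ _ (by simp)
      have m4 := h1 v (0 * 0) a1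
      rwa [e1, K.mul_mem_cancel_right m3, K.mul_mem_cancel_left (K.mul_mem m1 m2)] at m4
    · exact k2 v a2
  · exact k1 v a1

theorem d_rad {e a : V} (hp : P.B e a = 0) (c : F) : C.T e a c ∈ UN.Rad C (span F {e}) := by
  refine ⟨fun v hv => ?_, fun v hv => ?_⟩
  · obtain ⟨s, rfl⟩ := Submodule.mem_span_singleton.1 hv
    rw [map_smul, C.T_self (h.d_tok hp c)]
  · rw [C.T_perp (h.d_tok hp c) (P.mem_perp_span_singleton.1 hv), add_sub_cancel_left]
    exact Submodule.smul_mem _ _ (Submodule.mem_span_singleton_self e)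

variable (hq : QF P Q)

theorem polar_Qh (p p' : V × F × F) :
    polar (Qh hq δ) p p' = P.B p.1 p'.1 + p.2.1 * p'.2.2 + p.2.2 * p'.2.1 := by
  simp only [polar, Qh_apply, Prod.fst_add, Prod.snd_add, hq.add]
  linear_combination (p.2.1 * p'.2.1 + δ * (p.2.2 * p'.2.2)) * h.two

omit h in
theorem dm_q0 (hq : QF P Q) : Q 0 = 0 := by simpa using hq.smul 0 0

theorem dm_pd (p : V × F × F) : polar (Qh hq δ) p (dd F V) = p.2.2 := by
  simp [h.polar_Qh, dd]

theorem od (hk : finrank F V = 2 * k) : OD (Qh hq δ) (k + 1) (dd F V) := by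
  have : Module.Finite F V := Module.Finite.of_finite
  refine ⟨⟨h.two, fun x hx => ?_, ?_, by have := h.d6; omega⟩, ?_⟩
  · have h1 := hx (0, 0, 1)
    have h2 := hx (0, 1, 0)
    have h3 := fun w => hx (w, 0, 0)
    simp only [h.polar_Qh, map_zero, mul_zero, mul_one, add_zero, zero_add] at h1 h2 h3
    exact Prod.ext (C.nondeg _ h3) (Prod.ext h1 h2)
  · simp only [finrank_prod, hk, finrank_self]; ring
  · simp [Qh_apply, dd, dm_q0 hq]

theorem afr (Fr : Frame P k) (qv : ∀ a, Q (Fr.v a) = 0) :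
    AFr (Qh hq δ) (k + 1) (dd F V) (eh Fr) (fh Fr) := by
  have he : ∀ i (hi : i < k), eh Fr i = (Fr.v (.inl ⟨i, hi⟩), 0, 0) := fun i hi => dif_pos hi
  have hf : ∀ i (hi : i < k), fh Fr i = (Fr.v (.inr ⟨i, hi⟩), 0, 0) := fun i hi => dif_pos hi
  refine ⟨⟨fun i hi => ?_, fun i hi => ?_, fun i hi j hj => ?_, fun i hi j hj => ?_, fun i hi => ?_,
    fun i hi j hj hij => ?_⟩, SLD.mem_Wn.2 ⟨fun i hi => ?_, fun i hi => ?_⟩⟩
  · simp [he i hi, Qh_apply, qv]
  · simp [hf i hi, Qh_apply, qv]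
  · simp [he i hi, he j hj, h.polar_Qh, Fr.B_v]
  · simp [hf i hi, hf j hj, h.polar_Qh, Fr.B_v]
  · simp [he i hi, hf i hi, h.polar_Qh, Fr.B_v]
  · simp [he i hi, hf j hj, h.polar_Qh, Fr.B_v, hij]
  · rw [polar_comm, h.dm_pd, he i hi]
  · rw [polar_comm, h.dm_pd, hf i hi]

variable {hq} (hk : finrank F V = 2 * k)
include hk

variable {s s' : S} {γ γ' : SLD.SI (Qh hq δ)}

omit hk in
theorem dm_third (hγ : γ ∈ Fx (Qh hq δ) {dd F V}) (v : V) (α : F) :
    (γ • ((v, α, 0) : V × F × F)).2.2 = 0 := by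
  obtain ⟨h1, h2⟩ := SLD.mem_Fx.1 hγ
  rw [← h.dm_pd hq (δ := δ), ← h2 _ rfl, SLD.lin_pol (SLD.σ_Om h1), h.dm_pd]

omit hk in
theorem dm_eq (h1 : Cor C hq δ s γ) (v : V) (α : F) :
    γ • ((v, α, 0) : V × F × F) = (C.act s v, (γ • ((v, α, 0) : V × F × F)).2.1, 0) :=
  Prod.ext (h1.act v α) (Prod.ext rfl (h.dm_third h1.mem v α))

theorem cor_one : Cor C hq δ 1 1 := 
  ⟨one_mem _, fun v α => by rw [one_smul, C.one_apply]⟩

theorem cor_mul (h1 : Cor C hq δ s γ) (h2 : Cor C hq δ s' γ') : Cor C hq δ (s * s') (γ * γ') := 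
  ⟨mul_mem h1.mem h2.mem, fun v α => by rw [mul_smul, h.dm_eq h2, h1.act, C.mul_apply]⟩

theorem cor_inv (h1 : Cor C hq δ s γ) : Cor C hq δ s⁻¹ γ⁻¹ := by
  refine ⟨inv_mem h1.mem, fun v α => ?_⟩
  have e : γ⁻¹ • ((v, α, 0) : V × F × F) =
      ((γ⁻¹ • ((v, α, 0) : V × F × F)).1, (γ⁻¹ • ((v, α, 0) : V × F × F)).2.1, 0) :=
    Prod.ext rfl (Prod.ext rfl (h.dm_third (inv_mem h1.mem) v α))
  have e2 := h1.act (γ⁻¹ • ((v, α, 0) : V × F × F)).1 (γ⁻¹ • ((v, α, 0) : V × F × F)).2.1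
  rw [← e, smul_inv_smul] at e2
  exact (C.inv_apply_eq e2.symm).symm

omit hk in
theorem dm_smul (h1 : Cor C hq δ s γ) (v : V) (α : F) :
    ∃ β : F, γ • ((v, α, 0) : V × F × F) = (C.act s v, β, 0) ∧ β * β + Q (C.act s v) = α * α + Q v := by
  refine ⟨_, h.dm_eq h1 v α, ?_⟩
  have e := SLD.lin_map (SLD.σ_Om (SLD.mem_Fx.1 h1.mem).1) ((v, α, 0) : V × F × F)
  rw [h.dm_eq h1, Qh_apply, Qh_apply] at e
  simp only [mul_zero, add_zero] at e
  linear_combination e

theorem dm_one (h1 : Cor C hq δ 1 γ) : γ = 1 := by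
  have O := h.od (δ := δ) hq hk
  obtain ⟨hO, hd⟩ := SLD.mem_Fx.1 h1.mem
  have hσ := SLD.σ_Om hO
  have a1 : ∀ v α, γ • ((v, α, 0) : V × F × F) = (v, α, 0) := fun v α => by
    obtain ⟨β, e1, e2⟩ := h.dm_smul h1 v α
    rw [C.one_apply] at e1 e2
    have : (β + α) * (β + α) = 0 := by linear_combination e2 + (α * α + α * β) * h.two
    have : β = α := by linear_combination mul_self_eq_zero.1 this - α * h.two
    rw [e1, this]
  obtain ⟨⟨w, l, m⟩, hx⟩ : ∃ x, γ • ((0, 0, 1) : V × F × F) = x := ⟨_, rfl⟩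
  have hw : w = 0 := C.nondeg w fun v => by
    have := SLD.lin_pol hσ ((0, 0, 1) : V × F × F) (v, 0, 0)
    rw [a1, hx] at this
    simpa [h.polar_Qh] using this
  have hm : m = 1 := by
    have := SLD.lin_pol hσ ((0, 0, 1) : V × F × F) (dd F V)
    rwa [hd _ rfl, hx, h.dm_pd, h.dm_pd] at this
  have hl : l * (l + 1) = 0 := by
    have := SLD.lin_map hσ ((0, 0, 1) : V × F × F)
    rw [hx, hw, hm, Qh_apply, Qh_apply] at this
    simp only at this
    linear_combination this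
  have a2 : ∀ p : V × F × F, γ • p = (p.1, p.2.1 + p.2.2 * l, p.2.2) := fun p => by
    have : p = (p.1, p.2.1, 0) + p.2.2 • ((0, 0, 1) : V × F × F) := by ext <;> simp
    rw [this, smul_add, a1, SLD.lin_smul hσ, hx, hw, hm]
    ext <;> simp
  rcases mul_eq_zero.1 hl with e | e
  · refine SLD.lin_ext hσ SLD.σ_one fun p => ?_
    rw [a2, e, one_smul, mul_zero, add_zero]
  · refine absurd ?_ O.rf_not
    have : l = 1 := by linear_combination e - h.two
    rw [show rf (Qh hq δ) (dd F V) = γ from SLD.lin_ext (SLD.σ_rf _) hσ fun p => by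
      rw [a2, this, O.rf_smul, O.qd, h.dm_pd]
      ext <;> simp [dd]]
    exact hO

theorem cor_uniq (h1 : Cor C hq δ s γ) (h2 : Cor C hq δ s γ') : γ = γ' := by
  have h3 := h.cor_mul hk (h.cor_inv hk h2) h1
  rw [inv_mul_cancel] at h3
  exact (inv_mul_eq_one.1 (h.dm_one hk h3)).symm

theorem cor_smul (h1 : Cor C hq δ s γ) (v : V) (α : F) :
    ∃ β : F, γ • ((v, α, 0) : V × F × F) = (C.act s v, β, 0) ∧ β * β + Q (C.act s v) = α * α + Q v := 
  h.dm_smul h1 v α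

theorem cor_T {e a : V} (he : Q e = 0) (hp : P.B e a = 0) (α : F) :
    Cor C hq δ (C.T e a (α * α + Q a)) (ρ (Qh hq δ) (e, 0, 0) (a, α, 0)) := by
  have O := h.od (δ := δ) hq hk
  refine ⟨SLD.mem_Fx.2 ⟨SLD.ρ_mem _ _ _, fun x hx => ?_⟩, fun v β => ?_⟩
  · rw [Set.mem_singleton_iff.1 hx]
    exact SLD.ρ_fix (by rw [polar_comm, h.dm_pd]) (by rw [polar_comm, h.dm_pd])
  · rw [O.ρ_smul (by simp [Qh_apply, he]) (by simp [h.polar_Qh, hp]), h.d_apply hp]
    simp only [h.polar_Qh, Qh_apply, Prod.fst_add, Prod.smul_fst, mul_zero, zero_mul, add_zero,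
      h.d_symm v]
    module

theorem cor_z {v : V} {r : F} (hr : r * r = Q v) :
    Cor C hq δ (C.T v 0 1) (ρ (Qh hq δ) (v, r, 0) (dd F V)) := by
  have O := h.od (δ := δ) hq hk
  have hu : Sd (Qh hq δ) (dd F V) (v, r, 0) := ⟨by
    simp only [Qh_apply, mul_zero, add_zero]; linear_combination (r * r) * h.two - hr, h.dm_pd hq _⟩
  refine ⟨O.ρd_mem' hu, fun w β => ?_⟩
  rw [O.ρ_smul hu.q hu.p, h.dm_z, O.qd, h.dm_pd]
  simp only [h.polar_Qh, Prod.fst_add, Prod.smul_fst, mul_zero, zero_mul, add_zero, h.d_symm w, dd,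
    zero_smul, smul_zero, one_mul]

theorem exists_cor (s : S) : ∃ γ, Cor C hq δ s γ := by
  let K : Subgroup S :=
    { carrier := {s | ∃ γ, Cor C hq δ s γ}
      one_mem' := ⟨1, h.cor_one hk⟩
      mul_mem' := fun ⟨_, a⟩ ⟨_, b⟩ => ⟨_, h.cor_mul hk a b⟩
      inv_mem' := fun ⟨_, a⟩ => ⟨_, h.cor_inv hk a⟩ }
  have : K = ⊤ := h.d_genz fun v => by
    obtain ⟨r, hr⟩ := (h.od (δ := δ) hq hk).sqrt (Q v)
    exact ⟨_, h.cor_z hk hr⟩
  exact (this ▸ mem_top s : s ∈ K)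

theorem exists_cor' (hγ : γ ∈ Fx (Qh hq δ) {dd F V}) : ∃ s, Cor C hq δ s γ := by
  obtain ⟨hO, hd⟩ := SLD.mem_Fx.1 hγ
  have hσ := SLD.σ_Om hO
  obtain ⟨s, hs⟩ := h.full (LinearMap.fst F V (F × F) ∘ₗ (SLD.toL γ hσ).toLinearMap ∘ₗ
    LinearMap.inl F V (F × F)) fun u v => by
      show P.B (γ • ((u, 0, 0) : V × F × F)).1 (γ • ((v, 0, 0) : V × F × F)).1 = _
      have := SLD.lin_pol hσ ((u, 0, 0) : V × F × F) (v, 0, 0)
      rw [h.polar_Qh, h.polar_Qh, h.dm_third hγ, h.dm_third hγ] at this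
      simpa using this
  refine ⟨s, hγ, fun v α => ?_⟩
  have : ((v, α, 0) : V × F × F) = (v, 0, 0) + α • dd F V := by ext <;> simp [dd]
  rw [hs, this, smul_add, SLD.lin_smul hσ, hd _ rfl]
  show (γ • ((v, 0, 0) : V × F × F)).1 + α • (0 : V) = (γ • ((v, 0, 0) : V × F × F)).1
  rw [smul_zero, add_zero]

theorem sd_iff {u : V × F × F} :
    Sd (Qh hq δ) (dd F V) u ↔ ∃ v r, r * r = Q v ∧ u = (v, r, 0) := by
  constructor
  · rintro ⟨h1, h2⟩
    rw [h.dm_pd] at h2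
    rw [Qh_apply, h2] at h1
    exact ⟨u.1, u.2.1, by linear_combination h1 - Q u.1 * h.two, Prod.ext rfl (Prod.ext rfl h2)⟩
  · rintro ⟨v, r, hr, rfl⟩
    exact ⟨by simp only [Qh_apply, mul_zero, add_zero]; linear_combination (r * r) * h.two - hr,
      h.dm_pd hq _⟩

end Mod

end CfsgLib.SPC
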