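import Cfsg.Agent.Lib.SPC.DFld
import Cfsg.Agent.Lib.UFP.Tr
import Cfsg.Agent.Lib.SLE.NG

/-! Type D: the unique fixed point -/

set_option autoImplicit false
set_option linter.unusedSectionVars false

namespace CfsgLib.SPC.D

open Subgroup QuadraticMap CfsgLib.OrthE CfsgLib.SLD Module
open scoped commutatorElement Pointwise

universe u

variable {F V : Type} [Field F] [Finite F] [AddCommGroup V] [Module F V] [Finite V] {Q : QuadraticForm F V}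
  {k : ℕ} {d : V} {G : Type u} [Group G] [Finite G] {ψ : Om Q →* G} {t : G}

theorem DD.dnat0 (h : DD Q k ψ t d) {g : G} {γ : SI Q} (h1 : Ac ψ (g * t * g⁻¹) γ) (h2 : γ ∉ Om Q)
    (h3 : γ • d = d) : g ∈ N0 ψ := by
  have s2 : g * t * g⁻¹ * (g * t * g⁻¹) = 1 := by rw [conj_mul, h.t2, mul_one, mul_inv_cancel]
  have hp := h1.mul h.ac
  have pO : γ * rf Q d ∈ Om Q := h.toOS0.mul_mem_of_not (h.fx h1) (σ_rf d) h2 h.toOD.rf_not
  have p2 := hp.mul hp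
  rw [(h.toOD.comm_r h3).symm.mul_mul_mul_comm, h.ac_sq h1 s2, rf_sq, one_mul] at p2
  obtain ⟨j, hj⟩ := UFP.odd_orderOf h.cent_odd (ac_one.1 p2)
  have ti := h.t_inv
  have e0 : g * t * g⁻¹ = g * t * g⁻¹ * t * t := by rw [mul_assoc _ t t, h.t2, mul_one]
  have e1 : t * (g * t * g⁻¹ * t) * t⁻¹ = (g * t * g⁻¹ * t)⁻¹ := (UFP.inv_of_sq s2 h.t2).2
  generalize g * t * g⁻¹ * t = p at hp hj e0 e1
  have w2 : p ^ (2 * j + 1) * p ^ (2 * j + 1) = 1 := by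
    rw [← (Commute.refl p).mul_pow, ← hj, pow_orderOf_eq_one]
  have hw := h.eq_ph (hp.pow (2 * j + 1)) (pow_mem pO _) (UFP.pgroup_zpowers_of_sq w2)
  have wt : Commute t (p ^ (2 * j + 1)) := mul_inv_eq_iff_eq_mul.1 (by
    rw [UFP.conj_pow_of_inv e1, inv_eq_of_mul_eq_one_right w2])
  have e2 : p ^ j * g * t * (p ^ j * g)⁻¹ = t * p ^ (2 * j + 1) := by
    calc _ = p ^ j * (g * t * g⁻¹) * (p ^ j)⁻¹ := by group
      _ = p ^ j * p * t * (t * p ^ j * t⁻¹) := by rw [e0, UFP.conj_pow_of_inv e1]; group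
      _ = p ^ j * p * (t * t) * p ^ j * t⁻¹ := by group
      _ = p ^ (2 * j + 1) * t := by rw [h.t2, ti]; group
      _ = _ := wt.eq.symm
  obtain ⟨u, hu, e3⟩ := h.cls ((γ * rf Q d) ^ (2 * j + 1))
    (mem_Fx.2 ⟨pow_mem pO _, by rintro _ rfl; exact h.fixd (hp.pow _) wt.symm⟩)
    (isConj_iff.2 ⟨_, by rw [e2, ← hw]⟩)
  obtain ⟨y, hy, e4⟩ := h.mv' hu
  have h4 : y⁻¹ * (p ^ j * g) ∈ N0 ψ := h.cN (mem_centralizer_singleton_iff.2 (mul_inv_eq_iff_eq_mul.1 (by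
    calc _ = y⁻¹ * (p ^ j * g * t * (p ^ j * g)⁻¹) * y := by group
      _ = t := by rw [e2, hw, e3, ← xx, ← e4]; group)))
  exact (mul_mem_cancel_left (pow_mem (show p ∈ N0 ψ from ⟨_, hp⟩) j)).1
    ((mul_mem_cancel_left (inv_mem (L_le_N0 (im_le_L _ hy)))).1 h4)

/-- outer conjugates are native -/
theorem DD.nat (h : DD Q k ψ t d) {g : G} {γ : SI Q} (h1 : Ac ψ (g * t * g⁻¹) γ) (h2 : γ ∉ Om Q) :
    g ∈ N0 ψ := by
  obtain ⟨v, hv, e⟩ := h.toOD.nsf (h.fx h1) (h.ac_sq h1 (by rw [conj_mul, h.t2, mul_one, mul_inv_cancel])) h2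
  obtain ⟨a, ha, e'⟩ := h.toOD.tr1 hv
  have h3 := ((ac_ph (φ := ψ) ha).mul h1).mul (ac_ph ha).inv
  rw [show ph ψ a * (g * t * g⁻¹) * (ph ψ a)⁻¹ = ph ψ a * g * t * (ph ψ a * g)⁻¹ by group] at h3
  refine (mul_mem_cancel_left (L_le_N0 (ph_mem a))).1 (h.dnat0 h3 (fun h4 => h2 ?_) ?_)
  · simpa [mul_assoc] using Om_normal.conj_mem _ h4 a⁻¹
  · rw [mul_smul, mul_smul, ← e', inv_smul_smul, e]

theorem DD.du (h : DD Q k ψ t d) {Gs : Subgroup G} (hG : SLE.Glob Gs t) (hL : im ψ (Fx Q {d}) ≤ Gs) :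
    DU Q k ψ t d Gs := by
  have h4 := h.four
  have := hG.nrm
  obtain ⟨e, f, fr⟩ := h.toOD.afr
  have s0 : Sd Q d (e 0) := fr.sd (e_mem_Tn (by omega))
  have le : ψ.range ≤ Gs := h.le_of_norm (by rw [normalizer_eq_top]; exact le_top) (hL (h.xx_L s0)) (xx_mem _ _)
    (h.xx_ne s0 (fr.toFr.rp (i := 0) (j := 1) (by omega) (by omega) (by omega)).u0)
  obtain ⟨κ, hκ⟩ := h.exists_kap
  have hl : ∀ x, (Abelianization.of.comp κ) x = 1 ↔ κ x ∈ Om Q := fun x => by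
    rw [← h.toOD.comm_eq, ← Abelianization.ker_of]; rfl
  have nm : t ∉ Gs := hG.not_mem (UFP.not_mem_commutator h.t2 h.t_mem (Abelianization.of.comp κ)
    (fun e => h.toOD.rf_not (h.ac_uniq (hκ ⟨t, h.t_mem⟩) h.ac ▸ (hl _).1 e))
    fun g hg e => h.nat (hκ ⟨_, hg⟩) fun e' => e ((hl _).2 e'))
  refine ⟨h, hG, le, nm, h.t2, h.t_mem, ?_⟩
  rintro g ⟨γ, hγ⟩
  refine h.nat hγ fun h1 => nm ?_
  have h2 := h.eq_ph hγ h1 (UFP.pgroup_zpowers_of_sq (by rw [conj_mul, h.t2, mul_one, mul_inv_cancel]))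
  have h3 := this.conj_mem (g * t * g⁻¹) (by rw [h2]; exact le (ph_mem γ)) g⁻¹
  rwa [show g⁻¹ * (g * t * g⁻¹) * g⁻¹⁻¹ = t by group] at h3

theorem DU.odd_pow {Gs : Subgroup G} (h : DU Q k ψ t d Gs) {g : G} {γ : SI Q} (h1 : Ac ψ g γ)
    (h2 : g ∈ Gs) : ∃ m, Odd m ∧ γ ^ m ∈ Om Q := by
  have D := h.toDD
  obtain ⟨κ, hκ⟩ := D.exists_kap
  obtain ⟨A, _, _, l₀, hA, hl₀⟩ := SLE.exists_two_hom (G1 := ⊤) (N0 := Om Q) le_top
    fun a _ b _ => h.toOS0.comm_mem a b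
  let l : N0 ψ →* A := l₀.comp (topEquiv.symm.toMonoidHom.comp κ)
  have hl : ∀ x, l x = 1 ↔ ∃ m, Odd m ∧ κ x ^ m ∈ Om Q := fun x => hl₀ _
  rw [D.ac_uniq h1 (hκ ⟨g, γ, h1⟩), ← hl]
  refine h.u.ker_of_cover (h.glob.index h.nmem) h.nmem h.glob.perf l hA (fun x hx => ?_) (fun x => ?_) _ h2
  · obtain ⟨m, hm, e⟩ := (hl x).1 hx
    obtain ⟨c, hc, e'⟩ := ((hκ x).pow m).split e
    refine h.glob.mem_of_odd hm (e' ▸ mul_mem (h.le (ph_mem _))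
      (h.glob.mem_of_odd (UFP.odd_orderOf D.cent_odd hc) ?_))
    rw [pow_orderOf_eq_one]; exact one_mem _
  · obtain ⟨a, ha, e⟩ := h.toOD.tr1 (v := κ x • d) (by rw [SI.map, h.qd, map_one])
    obtain ⟨c, hc, e'⟩ := D.adj ((ac_ph ha).mul (hκ x)) (by rw [mul_smul, e])
    let c' : N0 ψ := ⟨c, C_le_N0 hc⟩
    let a' : N0 ψ := ⟨ph ψ a, L_le_N0 (ph_mem a)⟩
    refine ⟨c' * (a' * x), e'.symm, ?_⟩
    rw [map_mul, map_mul, (hl c').2 ⟨1, odd_one, by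
        rw [D.ac_uniq (hκ c') (ac_one.2 hc), pow_one]; exact one_mem _⟩,
      (hl a').2 ⟨1, odd_one, by rw [D.ac_uniq (hκ a') (ac_ph ha), pow_one]; exact ha⟩, one_mul, one_mul]

/-- 2-elements act linearly -/
theorem DU.two_lin {Gs : Subgroup G} (h : DU Q k ψ t d Gs) {g : G} {γ : SI Q} (h1 : Ac ψ g γ)
    (h2 : IsPGroup 2 (zpowers g)) : γ.σ = 1 := by
  have h3 := h.toDD.ac_two h1 h2
  rcases h.glob.gen g with e | e
  · obtain ⟨m, hm, e'⟩ := h.odd_pow h1 e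
    exact mem_Lin.1 (SLE.mem_of_odd_pow h3 hm (Om_le_Lin e'))
  · obtain ⟨m, hm, e'⟩ := h.odd_pow (h1.mul h.ac) e
    refine mem_Lin.1 (SLE.mem_of_odd_pow h3 hm (mem_Lin.2 ?_))
    have h4 := σ_Om e'
    rwa [SI.σ, map_pow, map_mul, show σh Q (rf Q d) = 1 from σ_rf d, mul_one, ← map_pow] at h4

end CfsgLib.SPC.D
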