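import Cfsg.Agent.Lib.SPC.DMod

/-! Type D: the relations between the elements `Xh` -/

set_option autoImplicit false
set_option linter.unusedSectionVars false

namespace CfsgLib.SPC

open Subgroup Module CfsgLib.Forms CfsgLib.LieMult QuadraticMap
open CfsgLib.UN (Rg Yg)
open CfsgLib.ClSys (II)
open CfsgLib.SLD (Om Fx ρ rf xx ph im Ac)
open CfsgLib.SPC.D (Sd AFr OD DD)
open Submodule (span)
open scoped commutatorElement

universe u

variable {F : Type} [Field F] [Finite F] {V : Type} [AddCommGroup V] [Module F V] [Finite V]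
  {P : PQ (RingHom.id F) V} {S : Type} [Group S] [Finite S] {C : CG P S} {Q : V → F} {δ : F} {k : ℕ}
  {G : Type u} [Group G] [Finite G] {φ : S →* G} {t : G} {Fr : Frame P k} {y : II k → F → G}

namespace HD

variable (h : HD C φ t Fr Q y δ) (hk : finrank F V = 2 * k)
include h hk

omit hk in
theorem dr_m : Mod C := h.toMZ.toSit.toEmb.toMod

omit hk in
theorem dr_Q0 : Q 0 = 0 := by
  have := h.qf.smul 0 0
  simpa using this

omit hk in
theorem dr_Qv (a : II k) (l : F) : Q (l • Fr.v a) = 0 := by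
  rw [h.qf.smul, h.qv, mul_zero]

omit hk in
theorem dr_y0 (a : II k) : y a 0 = 1 := by
  have := h.add a 0 0
  rw [add_zero] at this
  exact mul_eq_left.1 this.symm

omit hk in
theorem dr_addF (c : F) : c + c = 0 := by
  rw [← two_mul, h.dr_m.two, zero_mul]

omit hk in
theorem dr_yy (a : II k) (σ : F) : y a σ * y a σ = 1 := by
  rw [← h.add, h.dr_addF, h.dr_y0]

omit hk in
theorem dr_T0 (e : V) : C.T e 0 0 = 1 :=
  C.T_zero (h.dr_m.d_tok (e := e) (a := 0) (map_zero _) 0).sing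

omit hk in
theorem dr_cy (a : II k) (σ : F) {w : V} (hw : P.B (Fr.v a) w = 0) (c : F) :
    τ C φ (Fr.v a) w c * y a σ = y a σ * τ C φ (Fr.v a) w c :=
  h.cQ a σ _ (mem_map_of_mem φ (h.dr_m.d_rad hw c))

omit hk in
theorem dr_τmul {e w w' : V} (hw : P.B e w = 0) (hw' : P.B e w' = 0) (c c' : F) :
    τ C φ e w c * τ C φ e w' c' = τ C φ e (w + w') (c + c' + P.B w' w) := by
  rw [τ, τ, τ, ← map_mul, C.T_mul (h.dr_m.d_tok hw c) (h.dr_m.d_tok hw' c')]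

theorem X_add (a : II k) {p p' : V × F × F} (hp : P.B (Fr.v a) p.1 = 0) (hp' : P.B (Fr.v a) p'.1 = 0) :
    Xh Fr C φ Q y a (p + p') = Xh Fr C φ Q y a p * Xh Fr C φ Q y a p' := by
  have two := h.dr_m.two
  simp only [Xh, Prod.fst_add, Prod.snd_add]
  rw [mul_assoc, ← mul_assoc (y a p.2.2), ← h.dr_cy a _ hp', ← mul_assoc, ← mul_assoc,
    h.dr_τmul hp hp', mul_assoc, ← h.add, h.qf.add, h.dr_m.d_symm p'.1]
  congr 2
  linear_combination (p.2.1 * p'.2.1) * two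

omit hk in
theorem dr_X0 (a : II k) (w : V) (α : F) :
    Xh Fr C φ Q y a (w, α, 0) = τ C φ (Fr.v a) w (α * α + Q w) := by
  simp only [Xh, h.dr_y0, mul_one]

omit hk in
theorem dr_Xy (a : II k) (σ : F) : Xh Fr C φ Q y a (0, 0, σ) = y a σ := by
  simp only [Xh, h.dr_Q0, mul_zero, add_zero, τ, h.dr_T0, map_one, one_mul]

omit h hk in
theorem dr_smul (a : II k) (l : F) : l • vh Fr a = (l • Fr.v a, 0, 0) := by
  simp [vh]

omit hk in
theorem dr_Xv (a b : II k) (l : F) :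
    Xh Fr C φ Q y a (l • vh Fr b) = x C φ (Fr.v a) (l • Fr.v b) := by
  rw [dr_smul, h.dr_X0, h.dr_Qv, mul_zero, add_zero]; rfl

theorem X_self (a : II k) (l : F) : Xh Fr C φ Q y a (l • vh Fr a) = 1 := by
  have two := h.dr_m.two
  have hp : P.B (Fr.v a) (l • Fr.v a) = 0 := by rw [map_smul, Fr.B_self, smul_zero]
  have : C.T (Fr.v a) (l • Fr.v a) 0 = 1 := by
    refine C.ext fun v => ?_
    rw [h.dr_m.d_apply hp, C.one_apply, P.B_smul_left, RingHom.id_apply]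
    match_scalars
    · rfl
    · linear_combination (l * P.B (Fr.v a) v) * two
  rw [h.dr_Xv, x, this, map_one]

theorem X_swap {a b : II k} (hab : a ≠ b.swap) (l : F) :
    Xh Fr C φ Q y a (l • vh Fr b) = Xh Fr C φ Q y b (l • vh Fr a) := by
  have h1 := Fr.B_ne hab
  have h2 : P.B (Fr.v b) (Fr.v a) = 0 := by rw [h.dr_m.d_symm, h1]
  rw [h.dr_Xv, h.dr_Xv, x, x]
  congr 1
  refine C.ext fun v => ?_
  rw [h.dr_m.d_apply (by rw [map_smul, h1, smul_zero]),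
    h.dr_m.d_apply (by rw [map_smul, h2, smul_zero]), P.B_smul_left, P.B_smul_left]
  simp only [RingHom.id_apply]
  module

theorem dr_Xcomm (a : II k) {p p' : V × F × F} (hp : P.B (Fr.v a) p.1 = 0)
    (hp' : P.B (Fr.v a) p'.1 = 0) :
    Xh Fr C φ Q y a p * Xh Fr C φ Q y a p' = Xh Fr C φ Q y a p' * Xh Fr C φ Q y a p := by
  rw [← h.X_add hk a hp hp', ← h.X_add hk a hp' hp, add_comm]

theorem dr_os : SLD.OS0 (Qh h.qf δ) (k + 1) := (h.dr_m.od (δ := δ) h.qf hk).toOS0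

theorem dr_Xsq (a : II k) {p : V × F × F} (hp : P.B (Fr.v a) p.1 = 0) :
    Xh Fr C φ Q y a p * Xh Fr C φ Q y a p = 1 := by
  rw [← h.X_add hk a hp hp, (h.dr_os hk).addV]
  have := h.dr_Xy a 0
  rw [h.dr_y0] at this
  exact this

omit hk in
theorem dr_pol (a : II k) (p : V × F × F) :
    polar (Qh h.qf δ) (vh Fr a) p = P.B (Fr.v a) p.1 := by
  rw [h.dr_m.polar_Qh]; simp [vh]

omit hk in
theorem dr_pol' (a : II k) (p : V × F × F) :
    polar (Qh h.qf δ) p (vh Fr a) = P.B (Fr.v a) p.1 := by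
  rw [polar_comm, h.dr_pol]

omit hk in
theorem dr_Qvh (a : II k) : Qh h.qf δ (vh Fr a) = 0 := by
  rw [Qh_apply]; simp [vh, h.qv]

theorem dr_perp_of_fix (b : II k) {γ : SLD.SI (Qh h.qf δ)} (hγ : γ ∈ Om (Qh h.qf δ))
    (hf : γ • vh Fr b = vh Fr b) {p : V × F × F} (hp : P.B (Fr.v b) p.1 = 0) :
    P.B (Fr.v b) (γ • p).1 = 0 := by
  rw [← h.dr_pol, ← hf, SLD.lin_pol (SLD.σ_Om hγ), h.dr_pol, hp]

theorem dr_cor_fix (b : II k) {s : S} (hs : C.act s (Fr.v b) = Fr.v b)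
    {γ : SLD.SI (Qh h.qf δ)} (hγ : Cor C h.qf δ s γ) : γ • vh Fr b = vh Fr b := by
  obtain ⟨β, e1, e2⟩ := h.dr_m.cor_smul hk hγ (Fr.v b) 0
  rw [hs, h.qv, add_zero, add_zero, mul_zero, mul_self_eq_zero] at e2
  rw [vh, e1, hs, e2]

theorem dr_conj_tau (b : II k) {s : S} (hs : C.act s (Fr.v b) = Fr.v b)
    {γ : SLD.SI (Qh h.qf δ)} (hγ : Cor C h.qf δ s γ) {w : V} (hw : P.B (Fr.v b) w = 0) (α : F) :
    φ s * Xh Fr C φ Q y b (w, α, 0) * (φ s)⁻¹ =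
      Xh Fr C φ Q y b (γ • ((w, α, 0) : V × F × F)) := by
  obtain ⟨β, e1, e2⟩ := h.dr_m.cor_smul hk hγ w α
  rw [e1, h.dr_X0, h.dr_X0, e2, τ, τ, ← map_inv, ← map_mul, ← map_mul,
    C.T_conj s (h.dr_m.d_tok hw _), hs]

/-- the elements of `S` which act correctly on `Xh b` -/
def DrG (b : II k) (s : S) : Prop :=
  C.act s (Fr.v b) = Fr.v b ∧ ∀ γ : SLD.SI (Qh h.qf δ), Cor C h.qf δ s γ → ∀ p : V × F × F,
    P.B (Fr.v b) p.1 = 0 → φ s * Xh Fr C φ Q y b p * (φ s)⁻¹ = Xh Fr C φ Q y b (γ • p)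

theorem dr_mul {b : II k} {s s' : S} (g1 : h.DrG b s) (g2 : h.DrG b s') : h.DrG b (s * s') := by
  refine ⟨by rw [C.mul_apply, g2.1, g1.1], fun γ hγ p hp => ?_⟩
  obtain ⟨γ1, c1⟩ := h.dr_m.exists_cor (hq := h.qf) (δ := δ) hk s
  obtain ⟨γ2, c2⟩ := h.dr_m.exists_cor (hq := h.qf) (δ := δ) hk s'
  rw [h.dr_m.cor_uniq hk hγ (h.dr_m.cor_mul hk c1 c2), mul_smul,
    ← g1.2 γ1 c1 _ (h.dr_perp_of_fix hk b (SLD.Fx_le _ c2.mem) (h.dr_cor_fix hk b g2.1 c2) hp),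
    ← g2.2 γ2 c2 p hp, map_mul]
  group

omit hk in
theorem dr_T3 {e v : V} (hv : P.B e v = 0) (σ r : F) :
    C.T v 0 1 * (C.T (v + (σ * r) • e) 0 1 * C.T v (σ • e) 0) =
      C.T e ((σ * (1 + r)) • v) (σ * σ * (r * r)) := by
  have two := h.dr_m.two
  have hv' : P.B v e = 0 := by rw [h.dr_m.d_symm, hv]
  refine C.ext fun x => ?_
  rw [C.mul_apply, C.mul_apply, h.dr_m.d_apply (e := v) (a := 0) (map_zero _),
    h.dr_m.d_apply (a := 0) (map_zero _),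
    h.dr_m.d_apply (e := v) (a := σ • e) (by rw [map_smul, hv', smul_zero]),
    h.dr_m.d_apply (e := e) (by rw [map_smul, hv, smul_zero])]
  simp only [map_add, map_smul, map_zero, P.B_add_left, P.B_smul_left, RingHom.id_apply,
    LinearMap.zero_apply, LinearMap.add_apply, LinearMap.smul_apply, map_smulₛₗ, smul_eq_mul, hv,
    hv', h.dr_m.d_alt, smul_zero]
  match_scalars
  · rfl
  · linear_combination (P.B v x) * two
  · ring

theorem dr_z (b : II k) {v : V} (hv : P.B (Fr.v b) v = 0) : h.DrG b (C.T v 0 1) := by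
  have two := h.dr_m.two
  have hv' : P.B v (Fr.v b) = 0 := by rw [h.dr_m.d_symm, hv]
  have hs : C.act (C.T v 0 1) (Fr.v b) = Fr.v b :=
    C.T_fix (h.dr_m.d_tok (map_zero _) 1) hv' (by simp)
  refine ⟨hs, fun γ hγ p hp => ?_⟩
  obtain ⟨r, hr⟩ := (h.dr_os hk).sqrt (Q v)
  have hfix := h.dr_cor_fix hk b hs hγ
  have hO := SLD.Fx_le _ hγ.mem
  obtain ⟨w, α, σ⟩ := p
  have e0 : ((w, α, σ) : V × F × F) = (w, α, 0) + (0, 0, σ) := by simp
  have z0 : P.B (Fr.v b) ((0, 0, σ) : V × F × F).1 = 0 := map_zero _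
  have w0 : P.B (Fr.v b) ((w, α, 0) : V × F × F).1 = 0 := hp
  rw [e0, smul_add, h.X_add hk b w0 z0,
    h.X_add hk b (h.dr_perp_of_fix hk b hO hfix w0) (h.dr_perp_of_fix hk b hO hfix z0),
    ← h.dr_conj_tau hk b hs hγ hp, h.dr_Xy]
  have key : φ (C.T v 0 1) * y b σ * (φ (C.T v 0 1))⁻¹ =
      Xh Fr C φ Q y b (γ • ((0, 0, σ) : V × F × F)) := by
    have hq : Qh h.qf δ (v, r, 0) = 0 := by
      rw [Qh_apply]; simp only [← hr]; linear_combination (r * r) * two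
    have hd : Qh h.qf δ (dd F V) = 1 := (h.dr_m.od (δ := δ) h.qf hk).qd
    have e1 : γ • ((0, 0, σ) : V × F × F) = ((σ * (1 + r)) • v, σ * (r * r), σ) := by
      rw [h.dr_m.cor_uniq hk hγ (h.dr_m.cor_z hk hr),
        (h.dr_os hk).ρ_smul hq (by rw [h.dr_m.polar_Qh]; simp [dd]), hd, h.dr_m.polar_Qh,
        h.dr_m.polar_Qh]
      ext
      · simp [dd]; module
      · simp [dd]; linear_combination (σ * r) * two
      · simp [dd]
    have zz : φ (C.T v 0 1) * φ (C.T v 0 1) = 1 := by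
      rw [← map_mul, C.T_mul (h.dr_m.d_tok (map_zero _) 1) (h.dr_m.d_tok (map_zero _) 1)]
      simp only [add_zero, map_zero, h.dr_addF, h.dr_T0, map_one]
    have e2 := h.yz b σ v r hv hr
    rw [z, z, x, ← map_mul] at e2
    rw [e1, Xh, h.qf.smul, ← hr]
    have e3 : σ * (r * r) * (σ * (r * r)) + σ * (1 + r) * (σ * (1 + r)) * (r * r) =
        σ * σ * (r * r) := by
      linear_combination (σ * σ * r * r * r * r + σ * σ * r * r * r) * two
    rw [e3, τ, ← h.dr_T3 hv, map_mul, ← e2, inv_eq_of_mul_eq_one_right zz]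
    simp only [mul_assoc, h.dr_yy, mul_one]
  rw [← key]
  group

/-- the action of the stabiliser of `v b` in `L` -/
theorem X_cor (b : II k) {a : V} {e : V} (c : F) (h1 : P.B e a = 0) (h2 : P.B (Fr.v b) e = 0)
    (h3 : P.B (Fr.v b) a = 0) {γ : SLD.SI (Qh h.qf δ)} (hγ : Cor C h.qf δ (C.T e a c) γ) {p : V × F × F}
    (hp : P.B (Fr.v b) p.1 = 0) :
    τ C φ e a c * Xh Fr C φ Q y b p * (τ C φ e a c)⁻¹ = Xh Fr C φ Q y b (γ • p) := by
  obtain ⟨r, rfl⟩ := (h.dr_os hk).sqrt c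
  have g : h.DrG b (C.T e a (r * r)) := by
    rw [h.dr_m.d_fac h1]
    exact h.dr_mul hk (h.dr_mul hk (h.dr_mul hk (h.dr_z hk b (by rw [map_add, h2, h3, add_zero]))
      (h.dr_z hk b h2)) (h.dr_z hk b h3)) (h.dr_z hk b (by rw [map_smul, h2, smul_zero]))
  exact g.2 γ hγ p hp

theorem dr_tau_conj {a b : II k} (hab : a ≠ b.swap) {w : V} (α : F) (h1 : P.B (Fr.v a) w = 0)
    (h2 : P.B (Fr.v b) w = 0) {p' : V × F × F} (h3 : P.B (Fr.v b) p'.1 = 0) :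
    Xh Fr C φ Q y a (w, α, 0) * Xh Fr C φ Q y b p' * (Xh Fr C φ Q y a (w, α, 0))⁻¹ =
      Xh Fr C φ Q y b (ρ (Qh h.qf δ) (vh Fr a) (w, α, 0) • p') := by
  rw [h.dr_X0]
  exact h.X_cor hk b _ h1 (by rw [h.dr_m.d_symm, Fr.B_ne hab]) h2
    (h.dr_m.cor_T hk (h.qv a) h1 α) h3

theorem dr_ρ_perp {a b : II k} (hab : a ≠ b.swap) {p p' : V × F × F}
    (h2 : P.B (Fr.v b) p.1 = 0) (h3 : P.B (Fr.v b) p'.1 = 0) :
    P.B (Fr.v b) (ρ (Qh h.qf δ) (vh Fr a) p • p').1 = 0 :=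
  h.dr_perp_of_fix hk b (SLD.ρ_mem _ _ _)
    (SLD.ρ_fix (by rw [h.dr_pol']; exact Fr.B_ne hab) (by rw [h.dr_pol, h2])) h3

theorem dr_y_conj {a b : II k} (hab : Ap a b) (σ : F) {p' : V × F × F}
    (h3 : P.B (Fr.v b) p'.1 = 0) :
    y a σ * Xh Fr C φ Q y b p' * (y a σ)⁻¹ =
      Xh Fr C φ Q y b (ρ (Qh h.qf δ) (vh Fr a) (0, 0, σ) • p') := by
  have two := h.dr_m.two
  have os := h.dr_os hk
  have z0 : ∀ (c : II k) (σ : F), P.B (Fr.v c) ((0, 0, σ) : V × F × F).1 = 0 :=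
    fun _ _ => map_zero _
  have hv : ∀ {c c' : II k}, c ≠ c'.swap → ∀ l : F, P.B (Fr.v c) (l • vh Fr c').1 = 0 := by
    intro c c' hc l
    rw [dr_smul]; simp only [map_smul, Fr.B_ne hc, smul_zero]
  have hu : polar (Qh h.qf δ) (vh Fr a) (0, 0, σ) = 0 := by rw [h.dr_pol, z0]
  have yi : (y a σ)⁻¹ = y a σ := inv_eq_of_mul_eq_one_right (h.dr_yy a σ)
  have add : ∀ {q q' : V × F × F}, P.B (Fr.v b) q.1 = 0 → P.B (Fr.v b) q'.1 = 0 →
      y a σ * Xh Fr C φ Q y b q * (y a σ)⁻¹ =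
        Xh Fr C φ Q y b (ρ (Qh h.qf δ) (vh Fr a) (0, 0, σ) • q) →
      y a σ * Xh Fr C φ Q y b q' * (y a σ)⁻¹ =
        Xh Fr C φ Q y b (ρ (Qh h.qf δ) (vh Fr a) (0, 0, σ) • q') →
      y a σ * Xh Fr C φ Q y b (q + q') * (y a σ)⁻¹ =
        Xh Fr C φ Q y b (ρ (Qh h.qf δ) (vh Fr a) (0, 0, σ) • (q + q')) := by
    intro q q' g1 g2 e1 e2
    rw [smul_add, h.X_add hk b g1 g2, h.X_add hk b (h.dr_ρ_perp hk hab.ne_swap (z0 _ _) g1)
      (h.dr_ρ_perp hk hab.ne_swap (z0 _ _) g2), ← e1, ← e2]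
    group
  obtain ⟨w, β, σ'⟩ := p'
  set l := P.B (Fr.v a) w with hl
  have hba : b ≠ a.swap.swap := by rw [Sum.swap_swap]; exact hab.symm.ne
  have wa : P.B (Fr.v a) (w + l • Fr.v a.swap) = 0 := by
    rw [map_add, map_smul, Fr.B_swap, smul_eq_mul, mul_one, ← hl, h.dr_addF]
  have wb : P.B (Fr.v b) (w + l • Fr.v a.swap) = 0 := by
    rw [map_add, map_smul, Fr.B_ne hba, smul_zero, add_zero]; exact h3
  have e0 : ((w, β, σ') : V × F × F) =
      (w + l • Fr.v a.swap, β, 0) + l • vh Fr a.swap + (0, 0, σ') := by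
    rw [dr_smul]
    ext
    · simp only [Prod.fst_add, add_zero, add_assoc, h.dr_m.d_addV]
    · simp
    · simp
  generalize w + l • Fr.v a.swap = w0 at wa wb e0
  have wb' : P.B (Fr.v b) ((w0, β, 0) : V × F × F).1 = 0 := wb
  rw [e0]
  refine add (by rw [Prod.fst_add, map_add, wb', hv hba, add_zero]) (z0 _ _)
    (add wb' (hv hba l) ?_ ?_) ?_
  · have e1 := h.dr_tau_conj hk hab.symm.ne_swap β wb wa (z0 a σ)
    rw [SLD.ρ_left (h.dr_Qvh b) (by rw [h.dr_pol, wb]) (by rw [h.dr_pol', z0]),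
      h.X_add hk a (z0 _ _) (hv hab.ne_swap _), h.X_swap hk hab.ne_swap, h.dr_Xy,
      polar_comm] at e1
    rw [SLD.ρ_left (h.dr_Qvh a) hu (by rw [h.dr_pol', wa]),
      h.X_add hk b wb' (hv hab.symm.ne_swap _), h.dr_Xcomm hk b wb' (hv hab.symm.ne_swap _), yi]
    have sq := h.dr_Xsq hk b wb'
    rw [inv_eq_of_mul_eq_one_right sq] at e1
    generalize Xh Fr C φ Q y b (w0, β, 0) = T at e1 sq
    generalize Xh Fr C φ Q y b (polar (Qh h.qf δ) (w0, β, 0) (0, 0, σ) • vh Fr a) = m at e1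
    calc y a σ * T * y a σ = y a σ * (T * y a σ * T) * T := by
          simp only [mul_assoc, sq, mul_one]
      _ = m * T := by rw [e1, ← mul_assoc, h.dr_yy, one_mul]
  · have e1 := h.xy b a l σ hab.symm
    rw [← h.dr_Xv, ← h.dr_Xv, ← h.dr_Xy b] at e1
    have e2 : ρ (Qh h.qf δ) (vh Fr a) (0, 0, σ) • (l • vh Fr a.swap) =
        (0, 0, l * σ) + (δ * l * σ * σ) • vh Fr a + l • vh Fr a.swap := by
      rw [os.ρ_smul (h.dr_Qvh a) hu, h.dr_pol', h.dr_m.polar_Qh, Qh_apply]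
      simp only [dr_smul, map_smul, Fr.B_swap, h.dr_Q0, map_zero]
      ext
      · simp; module
      · simp
      · simp
    have sq := h.dr_Xsq hk b (hv hba l)
    rw [e2, h.X_add hk b (by rw [Prod.fst_add, map_add, z0, hv hab.symm.ne_swap, add_zero])
      (hv hba l), h.X_add hk b (z0 _ _) (hv hab.symm.ne_swap _), yi]
    generalize Xh Fr C φ Q y b (l • vh Fr a.swap) = T at e1 sq
    calc y a σ * T * y a σ = y a σ * (T * y a σ * T) * T := by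
          simp only [mul_assoc, sq, mul_one]
      _ = _ := by rw [e1, ← mul_assoc, ← mul_assoc, h.dr_yy, one_mul]
  · rw [SLD.ρ_fix (by rw [h.dr_pol', z0]) (by rw [h.dr_m.polar_Qh]; simp), h.dr_Xy,
      (h.com a b σ σ' hab).eq, mul_inv_cancel_right]

theorem X_conj {a b : II k} (hab : a ≠ b.swap) {p p' : V × F × F} (h1 : P.B (Fr.v a) p.1 = 0)
    (h2 : P.B (Fr.v b) p.1 = 0) (h3 : P.B (Fr.v b) p'.1 = 0) :
    Xh Fr C φ Q y a p * Xh Fr C φ Q y b p' * (Xh Fr C φ Q y a p)⁻¹ =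
      Xh Fr C φ Q y b (ρ (Qh h.qf δ) (vh Fr a) p • p') := by
  by_cases e : a = b
  · subst e
    rw [h.dr_Xcomm hk a h1 h3, mul_inv_cancel_right,
      SLD.ρ_left (h.dr_Qvh a) (by rw [h.dr_pol, h1]) (by rw [h.dr_pol', h3]),
      h.X_add hk a h3 (by rw [dr_smul]; simp only [map_smul, Fr.B_self, smul_zero]),
      h.X_self hk, mul_one]
  · have hap := ap_of_ne e hab
    obtain ⟨w, α, σ⟩ := p
    have e0 : ((w, α, σ) : V × F × F) = (w, α, 0) + (0, 0, σ) := by simp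
    have z0 : ∀ c : II k, P.B (Fr.v c) ((0, 0, σ) : V × F × F).1 = 0 := fun _ => map_zero _
    have w0 : P.B (Fr.v a) ((w, α, 0) : V × F × F).1 = 0 := h1
    rw [e0, h.X_add hk a w0 (z0 a),
      ← SLD.ρ_mul (h.dr_Qvh a) (by rw [h.dr_pol, w0]) (by rw [h.dr_pol, z0]), mul_smul,
      ← h.dr_tau_conj hk hab α h1 h2 (h.dr_ρ_perp hk hab (z0 b) h3),
      ← h.dr_y_conj hk hap σ h3, h.dr_Xy]
    group

theorem X_t (a : II k) {p : V × F × F} (hp : P.B (Fr.v a) p.1 = 0) :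
    t * Xh Fr C φ Q y a p * t⁻¹ = Xh Fr C φ Q y a (rf (Qh h.qf δ) (dd F V) • p) := by
  have hd : Qh h.qf δ (dd F V) = 1 := (h.dr_m.od (δ := δ) h.qf hk).qd
  have e1 : rf (Qh h.qf δ) (dd F V) • p = p + (0, p.2.2, 0) := by
    rw [(h.dr_os hk).rf_smul, hd, h.dr_m.polar_Qh]
    simp [dd]
  have tc : ∀ s, φ s * t = t * φ s := fun s => h.tC _ ⟨s, rfl⟩
  have e2 : z C φ (p.2.2 • Fr.v a) 1 = Xh Fr C φ Q y a (0, p.2.2, 0) := by
    rw [h.dr_X0, h.dr_Q0, z, τ, C.T_smul_left (h.dr_m.d_tok (map_zero _) 1)]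
    simp
  have e3 := (h.pz a p.2.2).pt
  rw [e2] at e3
  have z0 : P.B (Fr.v a) ((0, p.2.2, 0) : V × F × F).1 = 0 := map_zero _
  have ti : t⁻¹ = t := inv_eq_of_mul_eq_one_right h.t2
  have e4 : t * y a p.2.2 * t⁻¹ = Xh Fr C φ Q y a (0, p.2.2, 0) * y a p.2.2 := by
    rw [ti]
    calc t * y a p.2.2 * t = t * (y a p.2.2 * t * (y a p.2.2)⁻¹) * y a p.2.2 := by group
      _ = _ := by rw [e3, ← mul_assoc t t, h.t2, one_mul]
  have e5 : Xh Fr C φ Q y a (0, p.2.2, 0) * y a p.2.2 = y a p.2.2 * Xh Fr C φ Q y a (0, p.2.2, 0) := by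
    rw [h.dr_X0]; exact h.dr_cy a _ (map_zero _) _
  rw [e1, h.X_add hk a hp z0]
  calc t * Xh Fr C φ Q y a p * t⁻¹ =
        τ C φ (Fr.v a) p.1 (p.2.1 * p.2.1 + Q p.1) * (t * y a p.2.2 * t⁻¹) := by
          rw [Xh, τ, ← mul_assoc, ← tc]; group
    _ = _ := by rw [e4, e5, ← mul_assoc]; rfl

end HD

end CfsgLib.SPC
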