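import Cfsg.Agent.Lib.SPC.DBas
import Cfsg.Agent.Lib.UFP.Z

/-! Type D: invariant subgroups of odd order -/

set_option autoImplicit false
set_option linter.unusedSectionVars false

namespace CfsgLib.SPC.D

open Subgroup QuadraticMap CfsgLib.OrthE CfsgLib.SLD Module
open scoped commutatorElement Pointwise

universe u

variable {F V : Type} [Field F] [Finite F] [AddCommGroup V] [Module F V] [Finite V] {Q : QuadraticForm F V}
  {k : ℕ} {d : V} {G : Type u} [Group G] [Finite G] {ψ : Om Q →* G} {t : G}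

theorem duw_one {H : Type*} [Group H] {z : H} (h : z * z = 1) {n : ℕ} (hn : Odd n) (h' : z ^ n = 1) : z = 1 := by
  obtain ⟨k, rfl⟩ := hn
  rwa [pow_succ, pow_mul, pow_two, h, one_pow, one_mul] at h'

theorem duw_eq {H : Type*} [Group H] {W : Subgroup H} (hW : Odd (Nat.card W)) {a b : H} (ha : a * a = 1)
    (hb : b * b = 1) (hc : Commute a b) (h : a * b⁻¹ ∈ W) : a = b :=
  mul_inv_eq_one.1 (duw_one (by rw [hc.inv_right.symm.mul_mul_mul_comm, ha, ← mul_inv_rev, hb, inv_one, mul_one])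
    (UFP.odd_orderOf hW h) (pow_orderOf_eq_one _))

theorem Sd.duw_smul {u : V} (hu : Sd Q d u) (s : F) : Sd Q d (s • u) :=
  ⟨by rw [QuadraticMap.map_smul, hu.q, smul_zero], by rw [polar_smul_left, hu.p, smul_zero]⟩

theorem Sd.duw_xx {u : V} (hu : Sd Q d u) (s : F) : xx ψ u (s • d) = xx ψ (s • u) d := by
  rw [xx, xx, ρ_smul_left s hu.q hu.p]

theorem duw_mem (u : V) (s : F) : xx ψ u (s • d) ∈ im ψ (Z Q u d) := ph_mem_im (ρ_mem_Z u d s)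

theorem duw_mem1 (u : V) : xx ψ u d ∈ im ψ (Z Q u d) := by simpa using duw_mem (ψ := ψ) (d := d) u 1

theorem duw_cent {u : V} {g : G} (hu : Sd Q d u) (hg : ∀ s : F, Commute (xx ψ u (s • d)) g) :
    g ∈ centralizer (im ψ (Z Q u d) : Set G) := fun e he => by
  obtain ⟨γ, h1, -, rfl⟩ := mem_im.1 he
  obtain ⟨s, rfl⟩ := (mem_Z hu.q hu.p).1 h1
  exact hg s

namespace DD

variable (h : DD Q k ψ t d)
include h

variable {u v : V} {δ : G}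

theorem duw_two (hu : Sd Q d u) : IsPGroup 2 (im ψ (Z Q u d)) :=
  pg_im fun g => ⟨1, Subtype.ext ((pow_two g.1).trans (h.toOS0.A_sq hu.q (Z_le_A u d g.2)))⟩

theorem duw_t (hu : Sd Q d u) : t ∈ centralizer (im ψ (Z Q u d) : Set G) :=
  duw_cent hu fun s => (h.tl (h.toOD.ρd_mem hu s)).symm

theorem duw_fix (hu : Sd Q d u) (u0 : u ≠ 0) {γ : SI Q} (hγ : Ac ψ δ γ)
    (hc : δ ∈ centralizer (im ψ (Z Q u d) : Set G)) : γ • u = u ∧ ∃ s : F, γ • d = d + s • u :=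
  h.toOD.fix_of_comm hu u0 ((Ac.comm_iff h.inj hγ (ρ_mem Q u d)).1 (hc _ (duw_mem1 u)).symm)

theorem iso (hu : Sd Q d u) (u0 : u ≠ 0) : UFP.Iso (N0 ψ) t (im ψ (Z Q u d)) := by
  rintro m ⟨γ, hγ⟩ hc P hP - ht hm
  obtain ⟨-, s, hs⟩ := h.duw_fix hu u0 hγ hc
  have h1 := h.ac.inv.mul ((hγ.mul h.ac).mul hγ.inv)
  rw [conj_rf, hs, h.toOD.rf_shift hu, inv_mul_cancel_left] at h1
  rw [h.eq_ph h1 (ρ_mem Q _ _) (hP.to_le (zpowers_le.2 (mul_mem (inv_mem ht) hm)))]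
  exact duw_mem u s

theorem oc_N0 (hu : Sd Q d u) (u0 : u ≠ 0) :
    UFP.OC (im ψ (Z Q u d)) ⊓ N0 ψ ≤ centralizer (ψ.range : Set G) := by
  rintro w ⟨hw, γ, hγ⟩
  obtain ⟨e, -⟩ := h.duw_fix hu u0 hγ (UFP.OC_le _ hw)
  have h1 : γ ∈ A Q u := h.toOS0.cA hu.q u0 fun v => by
    refine ((Ac.comm_iff h.inj hγ (ρ_mem Q u v)).1 (mul_inv_eq_iff_eq_mul.1 ?_)).symm
    have h2 : xx ψ u v ∈ normalizer (UFP.OC (im ψ (Z Q u d)) : Set G) :=
      UFP.cent_le_norm_OC _ (duw_cent hu fun s => xx_comm u _ _)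
    have h3 := mul_mem hw (UFP.conj_mem h2 (inv_mem hw))
    rw [← mul_assoc, ← mul_assoc, hγ.conj_xx, e] at h3
    show w * xx ψ u v * w⁻¹ = xx ψ u v
    rw [hγ.conj_xx, e]
    exact duw_eq (UFP.OC_odd _) (h.toOS0.xx_sq _ _) (h.toOS0.xx_sq _ _) (xx_comm u _ _) h3
  obtain rfl : γ = 1 := duw_one (h.toOS0.A_sq hu.q h1) (UFP.odd_orderOf (UFP.OC_odd _) hw)
    (h.ac_pow hγ (pow_orderOf_eq_one w))
  exact ac_one.1 hγ

theorem oc_le (hU : UFP.U (N0 ψ) t) (hu : Sd Q d u) (u0 : u ≠ 0) (hv : Sd Q d v) (huv : polar Q u v = 0) :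
    UFP.OC (im ψ (Z Q u d)) ≤ centralizer {xx ψ v d} := by
  by_cases v0 : v = 0
  · intro w _
    rw [UFP.mem_cent1, v0, xx, ρ_zero_left, ph_one, one_mul, mul_one]
  have k1 : ∀ w ∈ UFP.OC (im ψ (Z Q u d)), w ∈ N0 ψ → w ∈ centralizer {xx ψ v d} := fun w h1 h2 =>
    UFP.mem_cent1.2 (h.oc_N0 hu u0 ⟨h1, h2⟩ _ (xx_mem v d))
  obtain ⟨y, hy, e⟩ := h.mv' hv
  refine UFP.le_of_four (UFP.OC_odd _) h.t2 (h.toOS0.xx_sq v d) (h.tl (h.toOD.ρd_mem' hv)) h.t1 (h.xx_ne hv v0)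
    (fun e => h.t_not_mem (by rw [eq_inv_of_mul_eq_one_left e]; exact inv_mem (xx_mem v d)))
    (UFP.cent_le_norm_OC _ (h.duw_t hu)) (UFP.cent_le_norm_OC _ (duw_cent hu fun s => ?_))
    (fun w hw => k1 w hw.1 (h.cN hw.2)) inf_le_right fun w hw => k1 w hw.1 ?_
  · have := h.toOD.comm_ρd hu hv huv s 1
    rw [one_smul] at this
    exact ph_comm (ρ_mem Q _ _) (ρ_mem Q _ _) this
  · refine (hU.conj (L_le_N0 (im_le_L _ hy))).centralizer_le ?_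
    rw [e]
    exact (UFP.mem_cent1.1 hw.2).symm

theorem inv_L (hU : UFP.U (N0 ψ) t) (hu : Sd Q d u) (u0 : u ≠ 0) (ho : Odd (orderOf δ))
    (hc : δ ∈ centralizer (im ψ (Z Q u d) : Set G)) (hi : t * δ * t⁻¹ = δ⁻¹) :
    δ ∈ centralizer (im ψ (Fx Q {d}) : Set G) := by
  have k1 : ∀ {u v : V}, Sd Q d u → u ≠ 0 → δ ∈ centralizer (im ψ (Z Q u d) : Set G) → Sd Q d v →
      polar Q u v = 0 → Commute (xx ψ v d) δ := fun {u v} hu u0 hc hv huv =>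
    UFP.mem_cent1.1 (h.oc_le hU hu u0 hv huv (hU.mem_OC (h.duw_two hu) (centralizer_le_normalizer _ (h.duw_t hu))
      (fun e => h.t_not_mem (im_le_L _ e)) (h.iso hu u0) hc ho hi))
  have k2 := h.gen (centralizer {δ}) fun w hw => by
    obtain ⟨v, hv, v0, h1, h2⟩ := h.toOD.ex_perp hu hw
    refine UFP.mem_cent1.2 (k1 hv v0 (duw_cent hv fun s => ?_) hw h2).symm
    rw [hv.duw_xx]
    exact k1 hu u0 hc (hv.duw_smul s) (by rw [polar_smul_right, h1, smul_zero])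
  exact fun e he => (UFP.mem_cent1.1 (k2 he)).symm

theorem inv_C (hU : UFP.U (N0 ψ) t) (hu : Sd Q d u) (u0 : u ≠ 0) (ho : Odd (orderOf δ))
    (hc : δ ∈ centralizer (im ψ (Z Q u d) : Set G)) (hi : t * δ * t⁻¹ = δ⁻¹) :
    δ ∈ centralizer (ψ.range : Set G) := by
  obtain ⟨w, hw, h1⟩ := h.toOD.ex_w hu
  have e := h.mv hu hw
  rw [h1, one_smul] at e
  have ad : ρ Q u w • d = d + u := by
    rw [ρ_left hu.q hw (by rw [polar_comm]; exact hu.p), polar_comm, h1, one_smul]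
  have yc : xx ψ u w ∈ centralizer (im ψ (Z Q u d) : Set G) := duw_cent hu fun s => xx_comm u _ _
  have k1 := h.inv_L hU hu u0 ho hc hi
  have k2 := h.inv_L (δ := (xx ψ u w)⁻¹ * δ * (xx ψ u w)⁻¹⁻¹) hU hu u0
    (by rwa [← MulAut.conj_apply, MulEquiv.orderOf_eq]) (mul_mem (mul_mem (inv_mem yc) hc) (inv_mem (inv_mem yc))) (by
      calc _ = (xx ψ u w)⁻¹ * (xx ψ u w * t * (xx ψ u w)⁻¹ * δ * (xx ψ u w * t * (xx ψ u w)⁻¹)⁻¹) * xx ψ u w := by group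
        _ = (xx ψ u w)⁻¹ * (t * (xx ψ u d * δ) * (xx ψ u d)⁻¹ * t⁻¹) * xx ψ u w := by rw [e]; group
        _ = (xx ψ u w)⁻¹ * (t * δ * t⁻¹) * xx ψ u w := by rw [hc _ (duw_mem1 u)]; group
        _ = _ := by rw [hi]; group)
  have k3 : Om Q ≤ pre ψ (centralizer {δ}) := (h.toOD.gen2 hu u0).trans (sup_le
    (fun γ hγ => mem_pre.2 ⟨hγ.1, UFP.mem_cent1.2 (k1 _ (ph_mem_im hγ)).symm⟩) fun γ hγ => mem_pre.2 ⟨hγ.1, by
      have a1 := inv_mem (ρ_mem Q u w)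
      have h2 : (ρ Q u w)⁻¹ * γ * (ρ Q u w)⁻¹⁻¹ ∈ Fx Q {d} := mem_Fx.2 ⟨Om_normal.conj_mem _ hγ.1 _, by
        rintro _ rfl
        rw [inv_inv, mul_smul, mul_smul, ad, (mem_Fx.1 hγ).2 _ rfl, ← ad, inv_smul_smul]⟩
      have h3 := k2 _ (ph_mem_im h2)
      rw [← ph_conj a1 hγ.1, ph_inv (ρ_mem Q u w), ← xx, conj_mul, conj_mul] at h3
      exact UFP.mem_cent1.2 (mul_left_cancel (mul_right_cancel h3)).symm⟩)
  intro e he
  obtain ⟨γ, hγ, rfl⟩ := mem_L.1 he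
  exact (UFP.mem_cent1.1 (mem_pre.1 (k3 hγ)).2).symm

theorem duw_rp {e f : ℕ → V} (fr : AFr Q k d e f) : RP Q (e 0) (e 1) :=
  have := h.four
  fr.toFr.rp (by omega) (by omega) (by omega)

theorem duw_sd {e f : ℕ → V} (fr : AFr Q k d e f) {i : ℕ} (hi : i < 2) : Sd Q d (e i) :=
  have := h.four
  fr.sd (e_mem_Tn (by omega))

theorem hat {e f : ℕ → V} (fr : AFr Q k d e f) (s : F) :
    UFP.Hat t (im ψ (U0 Q k d e)) (xx ψ (e 0) (s • d)) := by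
  have o := h.toOS0
  have h4 := h.four
  have r := h.duw_rp fr
  have s0 := h.duw_sd fr (i := 0) (by omega)
  have s1 := h.duw_sd fr (i := 1) (by omega)
  obtain ⟨w, hw, h1⟩ := h.toOD.ex_w s0
  have xB : xx ψ (e 0) (s • d) ∈ im ψ (A Q (e 0) ⊓ Fx Q {d}) := ph_mem_im ⟨ρ_mem_A _ _, h.toOD.ρd_mem s0 s⟩
  refine ⟨xx ψ (e 0) (s • w), im ψ (A Q (e 0) ⊓ Fx Q {d}), ?_, xB, im_mono (inf_le_inf_right _ (A_le fun v _ hv =>
    ρ_mem_UF (by omega) ?_)), im_le.2 fun γ hγ h2 => UFP.mem_cent1.2 (ph_comm (ρ_mem Q _ _) h2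
      (A_comm (ρ_mem_A _ _) hγ.1)), fun W hW hc hn v hv => ?_⟩
  · rw [h.mv s0 (by rw [polar_smul_right, hw, smul_zero]), polar_smul_left, h1, smul_eq_mul, mul_one]
  · rw [mem_pp_Tn]
    intro i hi
    obtain rfl : i = 0 := by omega
    rw [polar_comm]; exact hv
  obtain ⟨γ, hγ⟩ := h.cN (hc hv)
  have γd := h.fixd hγ (UFP.mem_cent1.1 (hc hv)).symm
  have k1 : ∀ {a b : V}, Sd Q d a → Sd Q d b → polar Q a b = 0 → xx ψ a d * (xx ψ b d)⁻¹ ∈ W → a = b :=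
    fun {a b} ha hb hab hm => h.toOD.ρd_inj ha hb (ph_inj h.inj (ρ_mem Q _ _) (ρ_mem Q _ _)
      (duw_eq hW (o.xx_sq _ _) (o.xx_sq _ _) (ph_comm (ρ_mem Q _ _) (ρ_mem Q _ _)
        (by simpa using h.toOD.comm_ρd ha hb hab 1 1)) hm))
  have k2 : ∀ (β : SI Q) {a : V}, β • d = d → Sd Q d a → Sd Q d (β • a) := fun β a hβ ha =>
    ⟨β.map_eq_zero.2 ha.q, by rw [← hβ]; exact β.pol_eq_zero.2 ha.p⟩
  rw [s0.duw_xx] at xB ⊢
  have su := s0.duw_smul s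
  have su' := k2 γ γd su
  have z1 := mul_mem hv (UFP.conj_mem (hn xB) (inv_mem hv))
  rw [← mul_assoc, ← mul_assoc, hγ.conj_xx, γd] at z1
  have nd : ρ Q (e 0) (e 1) • d = d := ρ_fix (by rw [polar_comm]; exact s0.p) (by rw [polar_comm]; exact s1.p)
  have nB : ph ψ (ρ Q (e 0) (e 1)) ∈ im ψ (A Q (e 0) ⊓ Fx Q {d}) :=
    ph_mem_im ⟨ρ_mem_A _ _, mem_Fx.2 ⟨ρ_mem Q _ _, by rintro _ rfl; exact nd⟩⟩
  have z2 := mul_mem (UFP.conj_mem (hn nB) z1) (inv_mem z1)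
  rw [← conj_mul, ← conj_inv, conj_xx (ρ_mem Q _ _), conj_xx (ρ_mem Q _ _), nd, lin_smul (σ_ρ _ _), ρ_fix_self,
    mul_inv_rev, inv_inv, mul_assoc, inv_mul_cancel_left] at z2
  generalize hγ' : γ • s • e 0 = u' at su' z1 z2
  have e1 := o.ρ_smul r.qu r.uv u'
  rw [r.qv, zero_mul, zero_smul, add_zero] at e1
  have e2 := k1 (k2 _ nd su') su' (by
    rw [e1, polar_add_left, polar_add_left, polar_smul_left, polar_smul_left, o.pol_self, zero_add,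
      polar_comm Q (e 0), polar_comm Q (e 1), smul_eq_mul, smul_eq_mul, mul_comm, o.addF]) z2
  rw [e1, add_assoc, add_eq_left] at e2
  have e3 := k1 su' su (by rw [polar_smul_right, (r.eq_zero e2).2, smul_zero]) z1
  refine UFP.mem_cent1.2 (mul_inv_eq_iff_eq_mul.1 ?_).symm
  rw [hγ.conj_xx, γd, hγ', e3]

theorem uw (hU : UFP.U (N0 ψ) t) {e f : ℕ → V} (fr : AFr Q k d e f) :
    UFP.UW (N0 ψ) t (im ψ (U0 Q k d e)) := by
  intro W hW ht hn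
  have s0 := h.duw_sd fr (i := 0) (by omega)
  have h1 : ∀ s : F, W ≤ centralizer {xx ψ (e 0) (s • d)} := fun s =>
    (h.hat fr s).cent h.t2 (im_le.2 fun γ hγ _ => UFP.mem_cent1.2 (h.tl hγ.2)) hW ht hn
  exact UFP.le_of_inv h.t2 hW ht (inf_le_right.trans h.cN) fun w hw hi =>
    C_le_N0 (h.inv_C hU s0 (h.duw_rp fr).u0 (UFP.odd_orderOf hW hw)
      (duw_cent s0 fun s => UFP.mem_cent1.1 (h1 s hw)) hi)

end DD

end CfsgLib.SPC.D
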