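import Cfsg.Agent.Lib.SPC.DNat
import Cfsg.Agent.Lib.SPC.DFlg
import Cfsg.Agent.Lib.SPC.DUw

/-! Type D: the Sylow subgroup -/

set_option autoImplicit false
set_option linter.unusedSectionVars false

namespace CfsgLib.SPC.D

open Subgroup QuadraticMap CfsgLib.OrthE CfsgLib.SLD Module
open scoped commutatorElement Pointwise

universe u

variable {F V : Type} [Field F] [Finite F] [AddCommGroup V] [Module F V] [Finite V] {Q : QuadraticForm F V}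
  {k : ℕ} {d : V} {G : Type u} [Group G] [Finite G] {ψ : Om Q →* G} {t : G}
  {Gs : Subgroup G}

theorem DD.dsyl_norm (h : DD Q k ψ t d) {y : G} (hy : y ∈ ψ.range) : t⁻¹ * (y * t * y⁻¹) ∈ ψ.range := by
  have := mul_mem (UFP.conj_mem' h.ac.norm hy) (inv_mem hy)
  rwa [show t⁻¹ * y * t * y⁻¹ = t⁻¹ * (y * t * y⁻¹) by group] at this

theorem DD.dsyl_mem (h : DD Q k ψ t d) {g : G} {γ : SI Q} (hg : g ∈ ψ.range) (ha : Ac ψ g γ)
    {H : Subgroup (SI Q)} : g ∈ im ψ H ↔ γ ∈ H := by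
  obtain ⟨γ', h1, rfl⟩ := mem_L.1 hg
  rw [h.ac_uniq ha (ac_ph h1), ph_mem_iff h.inj h1]

theorem DD.dsyl_fix (h : DD Q k ψ t d) {m : G} {γ : SI Q} (ha : Ac ψ m γ) (hd : γ • d = d)
    (hr : t⁻¹ * (m * t * m⁻¹) ∈ ψ.range) : m * t = t * m := by
  have h1 := (ha.mul h.ac).mul ha.inv
  rw [conj_rf, hd] at h1
  have h2 := h.eq_of_ac h.ac h1 hr
  calc m * t = m * t * m⁻¹ * m := by group
    _ = t * m := by rw [← h2]

theorem DU.dsyl_two (h : DU Q k ψ t d Gs) {e f : ℕ → V} (fr : AFr Q k d e f) {P : Subgroup G}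
    (hP : IsPGroup 2 P) (h0 : im ψ (U0 Q k d e) ≤ P) (ht : t ∈ P) {p : G} (hp : p ∈ P) {γ : SI Q}
    (ha : Ac ψ p γ) (hγ : γ ∈ Om Q) : p ∈ im ψ (UF Q e (k - 1)) := by
  obtain ⟨κ, hκ⟩ := h.toDD.exists_kap
  have hN := h.u.le_of_pgroup hP ht
  have h1 : ∀ p ∈ P, ∀ γ, Ac ψ p γ → γ ∈ (P.subgroupOf (N0 ψ)).map κ := fun p hp γ ha =>
    ⟨⟨p, hN hp⟩, hp, h.toDD.ac_uniq (hκ _) ha⟩
  have h2 : IsPGroup 2 ((P.subgroupOf (N0 ψ)).map κ) := (hP.comap_subtype).map κ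
  have h3 := h.toOD.flg_of fr h2 (fun δ hδ => h1 _ (h0 (ph_mem_im hδ)) δ (ac_ph (UF_le_Om _ _ hδ.1))) γ
    (h1 p hp γ ha) hγ
  rw [h.toDD.eq_ph ha hγ (hP.to_le (zpowers_le.2 hp))]
  exact ph_mem_im h3

theorem DU.sylD (h : DU Q k ψ t d Gs) {e f : ℕ → V} (fr : AFr Q k d e f) :
    UFP.SylD (N0 ψ) t (im ψ (UF Q e (k - 1))) (im ψ (U0 Q k d e)) := by
  have o := h.toOD
  have o0 := o.toOS0
  have qd : Q d ≠ 0 := by rw [o.qd]; exact one_ne_zero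
  have tU : t ∈ normalizer (im ψ (UF Q e (k - 1)) : Set G) :=
    h.ac.norm_im (o0.UF_conj fr.toFr fun i hi => by
      rw [o.r_e fr hi]; exact e_mem_Tn (Nat.lt_succ_self i))
  have pg : IsPGroup 2 (im ψ (UF Q e (k - 1))) := pg_im (o0.UF_two fr.toFr)
  have U0U : im ψ (U0 Q k d e) ≤ im ψ (UF Q e (k - 1)) := im_mono inf_le_left
  refine ⟨h.t2, tU, pg, (im_le_L _).trans L_le_N0, U0U,
    im_le.2 fun γ hγ _ => UFP.mem_cent1.2 (h.toDD.tl hγ.2), h.toDD.cN, fun P hP h0 ht p hp => ?_, fun g hg => ?_⟩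
  · obtain ⟨γ, ha⟩ := h.u.le_of_pgroup hP ht hp
    rcases o0.lin_cases (h.two_lin ha (hP.to_le (zpowers_le.2 hp))) qd with h1 | h1
    · exact mem_sup_left (h.dsyl_two fr hP h0 ht hp ha h1)
    · have h2 := h.dsyl_two fr hP h0 ht (mul_mem hp ht) (ha.mul h.ac) h1
      rw [show p = p * t * t by rw [mul_assoc, h.t2, mul_one]]
      exact mul_mem (mem_sup_left h2) (mem_sup_right (mem_zpowers t))
  · have hP : IsPGroup 2 (im ψ (UF Q e (k - 1)) ⊔ zpowers t : Subgroup G) := by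
      rw [sup_comm]
      exact (UFP.pgroup_zpowers_of_sq h.t2).to_sup_of_normal_right' pg (zpowers_le.2 tU)
    have ht : t ∈ im ψ (UF Q e (k - 1)) ⊔ zpowers t := mem_sup_right (mem_zpowers t)
    obtain ⟨γ, ha⟩ := h.u.uniq g (h.u.le_of_pgroup hP ht hg)
    have h1 := (ha.mul h.ac).mul ha.inv
    rw [conj_rf] at h1
    have q1 : Q (γ • d) = 1 := by rw [SI.map, o.qd, map_one]
    have h2 : rf Q (γ • d) * rf Q d ∈ Om Q := o0.mul_mem_of_not (σ_rf _) (σ_rf _)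
      (o0.rf_not_mem (by rw [q1]; exact one_ne_zero)) o.rf_not
    have h3 := h.dsyl_two fr hP (U0U.trans le_sup_left) ht (mul_mem hg ht) (h1.mul h.ac) h2
    have h4 := (h.toDD.dsyl_mem (im_le_L _ h3) (h1.mul h.ac)).1 h3
    obtain ⟨n, hn, hnd⟩ := o.cj_m fr q1 h4
    have hn' := UF_le_Om _ _ hn
    refine ⟨ph ψ n, ph_mem_im hn, ?_⟩
    have h5 := ((ac_ph (φ := ψ) hn').mul h.ac).mul (ac_ph hn').inv
    rw [conj_rf, hnd] at h5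
    refine h.toDD.eq_of_ac h1 h5 ?_
    have h6 := mul_mem (UFP.conj_mem' h.ac.norm (inv_mem (im_le_L _ h3))) (h.toDD.dsyl_norm (ph_mem n))
    have h7 : t⁻¹ * (g * t * g⁻¹ * t)⁻¹ * t * (t⁻¹ * (ph ψ n * t * (ph ψ n)⁻¹)) =
        (t * t)⁻¹ * ((g * t * g⁻¹)⁻¹ * (ph ψ n * t * (ph ψ n)⁻¹)) := by group
    rwa [h7, h.t2, inv_one, one_mul] at h6

theorem DU.u_root (h : DU Q k ψ t d Gs) {u v : V} (r : RP Q u v) (hu : polar Q u d = 0)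
    (hv : polar Q v d = 0) : UFP.U (N0 ψ) (xx ψ u v * t) := by
  have o := h.toOD
  have o0 := o.toOS0
  obtain ⟨e, f, fr, rfl, rfl⟩ := o.afr_rp r hu hv
  have h4 := o0.four
  have := h.glob.nrm
  refine (h.sylD fr).u_of (Gs := Gs) ((im_le_L _).trans h.le) h.nmem (h.toDD.uw h.u fr)
    (ph_mem_im ⟨ρ_mem_UF (by omega) (fr.toFr.e_pp (by omega) (by omega)), mem_Fx.2 ⟨ρ_mem Q _ _, ?_⟩⟩)
    (fun e1 => o0.ρ_ne_one r (ph_eq_one h.inj (ρ_mem Q _ _) e1)) (o0.xx_sq _ _) ?_ ?_ ?_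
  · rintro _ rfl
    exact ρ_fix (by rw [polar_comm, hu]) (by rw [polar_comm, hv])
  · intro x hx
    obtain ⟨γ, h1, h2, rfl⟩ := mem_im.1 hx
    have h3 := (mem_Yf.1 (o0.UF_le_Yf fr.toFr h1.1)).2 1
    rw [one_smul] at h3
    exact ph_comm h2 (ρ_mem Q _ _) h3
  · intro m hm x hx e1
    have hx' := im_le_L _ hx
    obtain ⟨γ, ha⟩ := h.u.uniq m (by
      rw [e1]; exact mul_mem (mul_mem (L_le_N0 hx') h.u.mem) (inv_mem (L_le_N0 hx')))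
    have h1 := h.toDD.ac_comm ha ((ac_ph (ρ_mem Q (e 0) (e 1))).mul h.ac) hm
    exact h.toDD.dsyl_fix ha (o.fix_of_root r hu hv h1) (by rw [e1]; exact h.toDD.dsyl_norm hx')
  · intro x hx h2
    obtain ⟨n, -, hn, rfl⟩ := mem_im.1 hx
    have ha := (ac_ph (φ := ψ) hn).mul h.ac
    obtain ⟨w, hw, hfix⟩ := o.nsf (γ := n * rf Q d) (by rw [σ_mul, σ_Om hn, σ_rf, one_mul]) (h.toDD.ac_sq ha h2)
      (fun hm => o.rf_not ((mul_mem_cancel_left hn).1 hm))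
    obtain ⟨a, haO, haw⟩ := o.tr1 hw
    refine ⟨ph ψ a, L_le_N0 (ph_mem a), UFP.mem_cent1.2 (Eq.symm ?_)⟩
    refine h.toDD.dsyl_fix (((ac_ph haO).mul ha).mul (ac_ph haO).inv) ?_ ?_
    · rw [mul_smul, inv_smul_eq_iff.2 haw.symm, mul_smul, hfix, haw]
    · have h5 : ph ψ a * ph ψ n * (t * (ph ψ a)⁻¹ * t⁻¹) ∈ ψ.range :=
        mul_mem (mul_mem (ph_mem a) (ph_mem n)) (UFP.conj_mem h.ac.norm (inv_mem (ph_mem a)))
      have h6 := h.toDD.dsyl_norm h5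
      rwa [show ph ψ a * ph ψ n * (t * (ph ψ a)⁻¹ * t⁻¹) * t * (ph ψ a * ph ψ n * (t * (ph ψ a)⁻¹ * t⁻¹))⁻¹ =
        ph ψ a * (ph ψ n * t) * (ph ψ a)⁻¹ * t * (ph ψ a * (ph ψ n * t) * (ph ψ a)⁻¹)⁻¹ by group] at h6

end CfsgLib.SPC.D
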