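import Cfsg.Agent.Lib.SPC.DSyl
import Cfsg.Agent.Lib.SPC.DLnm
import Cfsg.Agent.Lib.SLD.Wrp
import Cfsg.Agent.Lib.UFP.NU

/-! Type D: the end of the global argument -/

set_option autoImplicit false
set_option linter.unusedSectionVars false

namespace CfsgLib.SPC.D

open Subgroup QuadraticMap CfsgLib.OrthE CfsgLib.SLD Module
open scoped commutatorElement Pointwise

universe u

variable {F V : Type} [Field F] [Finite F] [AddCommGroup V] [Module F V] [Finite V] {Q : QuadraticForm F V}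
  {k : ℕ} {d : V} {G : Type u} [Group G] [Finite G] {ψ : Om Q →* G} {t : G}
  {Gs : Subgroup G}

theorem DD.dtop_t (h : DD Q k ψ t d) {x : G} {γ : SI Q} (hx : x ∈ ψ.range) (ha : Ac ψ x γ)
    {H : Subgroup (SI Q)} : t * x * t⁻¹ * x⁻¹ ∈ im ψ H ↔ rf Q d * γ * (rf Q d)⁻¹ * γ⁻¹ ∈ H :=
  h.dsyl_mem (mul_mem (UFP.conj_mem h.ac.norm hx) (inv_mem hx)) (((h.ac.mul ha).mul h.ac.inv).mul ha.inv)

theorem DU.grData (h : DU Q k ψ t d Gs) {e f : ℕ → V} (fr : AFr Q k d e f) :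
    UFP.GrData (N0 ψ) Gs t (im ψ (UF Q e (k - 1))) (im ψ (U0 Q k d e)) (2 * k * (k - 1))
      fun i => im ψ (Ch e k i) := by
  have o := h.toOD
  have o0 := o.toOS0
  have D := h.toDD
  have s := o.ser fr
  have hO : ∀ {i : ℕ}, i ≤ 2 * k * (k - 1) → ∀ {x : SI Q}, x ∈ Ch e k i → x ∈ Om Q := fun hi _ hx =>
    UF_le_Om _ _ (Ch_le e hi hx)
  have ser : UFP.Ser t (im ψ (UF Q e (k - 1))) (2 * k * (k - 1)) fun i => im ψ (Ch e k i) := by
    refine ⟨h.t2, ?_, congrArg (im ψ) s.top, fun i hi => im_mono (s.mono i hi),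
      fun i hi => h.ac.norm_im fun x hx => UFP.conj_mem (s.tn i hi) hx, fun i hi u hu x hx => ?_,
      fun i hi x hx => ?_⟩
    · rw [eq_bot_iff]
      refine im_le.2 fun γ hγ _ => ?_
      rw [s.zero, mem_bot] at hγ
      rw [hγ, ph_one]
      exact one_mem _
    · obtain ⟨a, ha, ha', rfl⟩ := mem_im.1 hu
      obtain ⟨b, hb, hb', rfl⟩ := mem_im.1 hx
      exact (D.dsyl_mem (mul_mem (mul_mem (mul_mem (ph_mem a) (ph_mem b)) (inv_mem (ph_mem a))) (inv_mem (ph_mem b)))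
        ((((ac_ph ha').mul (ac_ph hb')).mul (ac_ph ha').inv).mul (ac_ph hb').inv)).2 (s.cen i hi a ha b hb)
    · obtain ⟨b, hb, hb', rfl⟩ := mem_im.1 hx
      rw [← ph_mul hb' hb']
      exact ph_mem_im (s.sq i hi b hb)
  refine { ser, h.sylD fr with
    Us := (im_le_L _).trans h.le
    fix := fun i hi x hx h1 => ?_
    lin := fun i hi x hx h1 j hj a ha _ h3 h4 => ?_
    lin2 := fun i hi x hx h1 m u hu h2 _ h4 => ?_
    uw := D.uw h.u fr }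
  · obtain ⟨b, hb, hb', rfl⟩ := mem_im.1 hx
    obtain ⟨m, hm, hc⟩ := o.fix_m fr i hi b hb ((D.dtop_t (ph_mem b) (ac_ph hb')).1 h1)
    refine ⟨ph ψ m, ph_mem_im hm, ?_⟩
    rw [← ph_mul hb' (hO hi.le hm)]
    rcases hc with ⟨u, hu, e1⟩ | ⟨u, v, r, hu, hv, e1⟩
    · obtain ⟨y, -, hy⟩ := D.mv' hu
      rw [e1, ← (D.tl (o.ρd_mem' hu)).eq]
      exact Or.inl (isConj_iff.2 ⟨y, hy⟩)
    · rw [e1]
      exact Or.inr (h.u_root r hu hv)
  · obtain ⟨b, hb, hb', rfl⟩ := mem_im.1 hx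
    obtain ⟨c, hc, hc', rfl⟩ := mem_im.1 ha
    have Ab := ac_ph (φ := ψ) hb'
    have Ac' := ac_ph (φ := ψ) hc'
    have h5 : ph ψ c * t * (ph ψ c)⁻¹ * t⁻¹ ∈ ψ.range := by
      have := mul_mem (ph_mem (φ := ψ) c) (UFP.conj_mem h.ac.norm (inv_mem (ph_mem c)))
      rwa [← mul_assoc, ← mul_assoc] at this
    refine (D.dsyl_mem h5 (((Ac'.mul h.ac).mul Ac'.inv).mul h.ac.inv)).2
      (o.lin_m fr i hi b hb (fun h6 => h1 ((D.dtop_t (ph_mem b) Ab).2 h6)) j hj c hc (fun y hy h6 => ?_) ?_)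
    · have hy' := hO hi hy
      have Ay := ac_ph (φ := ψ) hy'
      exact (D.dsyl_mem (mul_mem (mul_mem (mul_mem (ph_mem c) (ph_mem y)) (inv_mem (ph_mem c))) (inv_mem (ph_mem y)))
        (((Ac'.mul Ay).mul Ac'.inv).mul Ay.inv)).1 (h3 _ (ph_mem_im hy) ((D.dtop_t (ph_mem y) Ay).2 h6))
    · refine (D.dsyl_mem ?_ (((Ac'.mul (Ab.mul h.ac)).mul Ac'.inv).mul (Ab.mul h.ac).inv)).1 h4
      have := mul_mem (mul_mem (mul_mem (ph_mem (φ := ψ) c) (ph_mem b))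
        (UFP.conj_mem h.ac.norm (inv_mem (ph_mem c)))) (inv_mem (ph_mem b))
      rwa [show ph ψ c * ph ψ b * (t * (ph ψ c)⁻¹ * t⁻¹) * (ph ψ b)⁻¹ =
        ph ψ c * (ph ψ b * t) * (ph ψ c)⁻¹ * (ph ψ b * t)⁻¹ by group] at this
  · obtain ⟨b, hb, hb', rfl⟩ := mem_im.1 hx
    have hu' := im_le_L _ hu
    obtain ⟨γ, ha⟩ := h.u.uniq m (by
      rw [h4]; exact mul_mem (mul_mem (L_le_N0 hu') h.u.mem) (inv_mem (L_le_N0 hu')))
    refine (D.dsyl_mem (by rw [h4]; exact D.dsyl_norm hu') (h.ac.inv.mul ((ha.mul h.ac).mul ha.inv))).2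
      (o.lin2_m fr i hi b hb (fun h6 => h1 ((D.dtop_t (ph_mem b) (ac_ph hb')).2 h6)) γ (fun y hy h6 => ?_))
    have Ay := ac_ph (φ := ψ) (hO hi hy)
    exact D.ac_comm Ay ha (h2 _ (ph_mem_im hy) ((D.dtop_t (ph_mem y) Ay).2 h6))

theorem DU.top (h : DU Q k ψ t d Gs) : Gs = ψ.range := by
  obtain ⟨e, f, fr⟩ := h.toOD.afr
  have h4 := h.four
  have hu : Sd Q d (e 0) := fr.sd (e_mem_Tn (by omega))
  have u0 : e 0 ≠ 0 := (fr.toFr.rp (i := 0) (j := 1) (by omega) (by omega) (by omega)).u0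
  have h1 : Gs ≤ N0 ψ := UFP.le_of_invol h.glob.simple (h.le (xx_mem (e 0) d)) (h.toDD.xx_ne hu u0)
    (h.toOD.toOS0.xx_sq _ _) fun u hu u2 => (h.grData fr).mem (h.glob.index h.nmem) h.nmem hu u2
  exact (h.glob.eq_of_norm h.le (h1.trans N0_le) (xx_mem (e 0) d) (h.toDD.xx_ne hu u0)).symm

theorem pomega {m : ℕ} (h : OS0 Q (m + 1)) :
    Nonempty (Om Q ≃* Cfsg.POmega F (Cfsg.quadFormPlus (m + 1) F)) ∨
      ∃ a b : F, (∀ z₁ z₂ : F, z₁ ^ 2 + a * z₁ * z₂ + b * z₂ ^ 2 = 0 → z₁ = 0 ∧ z₂ = 0) ∧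
        Nonempty (Om Q ≃* Cfsg.POmega F (Cfsg.quadFormMinus m F a b)) := by
  obtain ⟨a, b, hab⟩ := exists_anisotropic F
  have h4 := h.four
  rcases exists_equiv_or h.nd h.dim hab with ⟨θ, hθ⟩ | ⟨θ, hθ⟩
  · obtain ⟨i⟩ := equiv_plus h.two h4
    exact Or.inl ⟨(((omE Q).symm.trans (h.eCongr (wr_plus h.two h4) θ hθ).symm).trans (omE _)).trans i.symm⟩
  · obtain ⟨i⟩ := equiv_minus h.two h4 hab
    exact Or.inr ⟨a, b, hab,
      ⟨(((omE Q).symm.trans (h.eCongr (wr_minus h.two h4 hab) θ hθ).symm).trans (omE _)).trans i.symm⟩⟩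

end CfsgLib.SPC.D
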