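import Cfsg.Agent.Lib.SPC.MzB

/-! Type D: the quadratic form -/

set_option autoImplicit false
set_option linter.unusedSectionVars false

namespace CfsgLib.SPC

open Subgroup Module CfsgLib.Forms CfsgLib.LieMult
open CfsgLib.HX (Std CO Two Mv M2)
open CfsgLib.UN (AV SI TI HH Rad Stb Yg Rg Eg Act nu)
open CfsgLib.ClSys (II)
open Submodule (span)
open scoped commutatorElement Pointwise

universe u

variable {F : Type} [Field F] [Finite F] {V : Type} [AddCommGroup V] [Module F V]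
  [FiniteDimensional F V] {P : PQ (RingHom.id F) V} {S : Type} [Group S] [Finite S] {G : Type u}
  [Group G] [Finite G] {C : CG P S} {φ : S →* G} {t : G}

theorem Mod.dha_two (h : Mod C) (H : Submodule F V) {a a' : V} (k : a ∉ H) (k' : a' ∉ H) :
    ∃ u ∈ P.perp H, P.B a u ≠ 0 ∧ P.B a' u ≠ 0 := by
  have e1 : ∀ x, x ∉ H → ∃ u ∈ P.perp H, P.B x u ≠ 0 := by
    intro x hx
    by_contra hc
    push Not at hc
    exact hx (h.loc_mem H fun w hw => by rw [h.B_comm]; exact hc w hw)
  obtain ⟨u, hu, h1⟩ := e1 a k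
  obtain ⟨u', hu', h1'⟩ := e1 a' k'
  by_cases h2 : P.B a' u = 0
  · by_cases h3 : P.B a u' = 0
    · refine ⟨u + u', Submodule.add_mem _ hu hu', ?_, ?_⟩
      · rw [map_add, h3, add_zero]; exact h1
      · rw [map_add, h2, zero_add]; exact h1'
    · exact ⟨u', hu', h3, h1'⟩
  · exact ⟨u, hu, h1, h2⟩

theorem Mod.dha_nm (h : Mod C) {e u v : V} (hv : P.B e v = 0) (k : P.B u v ≠ 0) :
    u ∉ span F {e} := by
  intro hu
  obtain ⟨a, rfl⟩ := Submodule.mem_span_singleton.1 hu
  exact k (by rw [h.B_smul_left, hv, mul_zero])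

theorem Mod.dha_nm2 (h : Mod C) {e s u v : V} (hv : P.B e v = 0) (hs : P.B s v = 0)
    (k : P.B u v ≠ 0) : u ∉ span F {e, s} := by
  intro hu
  obtain ⟨a, b, rfl⟩ := Submodule.mem_span_pair.1 hu
  exact k (by rw [map_add, LinearMap.add_apply, h.B_smul_left, h.B_smul_left, hv, hs, mul_zero,
    mul_zero, add_zero])

theorem dha_smul_nm {e v : V} (hv : v ∉ span F {e}) {μ : F} (hμ : μ ≠ 0) : μ • v ∉ span F {e} :=
  fun k => hv ((Submodule.smul_mem_iff _ hμ).1 k)

theorem Emb.dha_zc (h : Emb C φ) {e v : V} (hv : P.B e v = 0) (m c : F) :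
    Commute (z C φ v 1) (τ C φ e (m • v) c) := by
  have k : P.B e (m • v) = 0 := by rw [map_smul, hv, smul_zero]
  have e1 := h.z_τ (u := v) 1 k c
  rw [h.B_comm v e, hv, map_smul, h.B_self, smul_zero, mul_zero, zero_smul, add_zero,
    add_zero] at e1
  have e2 := h.z_sq v 1
  calc z C φ v 1 * τ C φ e (m • v) c
      = z C φ v 1 * τ C φ e (m • v) c * (z C φ v 1 * z C φ v 1) := by rw [e2, mul_one]
    _ = τ C φ e (m • v) c * z C φ v 1 := by rw [← mul_assoc, e1]

/-- extension by zero on the point -/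
theorem Mod.dha_ext (h : Mod C) {e : V} {f : V → F} {β : F}
    (h1 : ∀ v (μ : F), P.B e v = 0 → v ∉ span F {e} → f (v + μ • e) = f v)
    (h2 : ∀ u v, P.B e u = 0 → P.B e v = 0 → u ∉ span F {e} → v ∉ span F {e} →
      u + v ∉ span F {e} → f (u + v) = f u + f v + β * P.B u v) :
    ∃ g : V → F, (∀ v ∈ span F {e}, g v = 0) ∧ (∀ v, v ∉ span F {e} → g v = f v) ∧
      ∀ u v, P.B e u = 0 → P.B e v = 0 → g (u + v) = g u + g v + β * P.B u v := by
  classical
  let g : V → F := fun v => if v ∈ span F {e} then 0 else f v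
  have g0 : ∀ v ∈ span F {e}, g v = 0 := fun v hv => if_pos hv
  have g1 : ∀ v, v ∉ span F {e} → g v = f v := fun v hv => if_neg hv
  have g2 : ∀ u v, P.B e u = 0 → v ∈ span F {e} → g (u + v) = g u + g v + β * P.B u v := by
    intro u v hu hv
    obtain ⟨a, rfl⟩ := Submodule.mem_span_singleton.1 hv
    rw [g0 _ hv, map_smul, h.B_comm u e, hu, smul_zero, mul_zero, add_zero, add_zero]
    by_cases k : u ∈ span F {e}
    · rw [g0 _ k, g0 _ (Submodule.add_mem _ k hv)]
    · rw [g1 _ k, g1 _ (fun k' => k ((Submodule.add_mem_iff_left _ hv).1 k')), h1 u a hu k]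
  refine ⟨g, g0, g1, fun u v hu hv => ?_⟩
  by_cases k1 : v ∈ span F {e}
  · exact g2 u v hu k1
  by_cases k2 : u ∈ span F {e}
  · rw [add_comm u v, g2 v u hv k2, h.B_comm v u]; ring
  by_cases k3 : u + v ∈ span F {e}
  · have e1 : v = u + (u + v) := by rw [← add_assoc, h.vadd_self, zero_add]
    have e2 := g2 u (u + v) hu k3
    rw [← e1, g0 _ k3, map_add, h.B_self, zero_add] at e2
    rw [g0 _ k3, e2]
    linear_combination (-(g u) - β * P.B u v) * h.two
  · rw [g1 _ k1, g1 _ k2, g1 _ k3, h2 u v hu hv k2 k1 k3]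

namespace MZ0

variable (h : MZ0 C φ t) (ha : ¬ Ta C φ t) {e : V} {p : G} {l c : V → F}
include h ha

theorem coc_sq (h0 : e ≠ 0) (hp : Pz0 C φ t e p) (k : Coc C φ e p l c) {v : V} (hv : P.B e v = 0)
    (hv' : v ∉ span F {e}) : l v * l v = c v + 1 := by
  have v0 : v ≠ 0 := fun e1 => hv' (e1 ▸ Submodule.zero_mem _)
  have k1 : InT t (z C φ v 1) := (h.tz_iff v0 one_ne_zero).1 h.tz
  rw [InT.move hp.pt, k.act v hv hv'] at k1
  obtain ⟨r, hr⟩ := h.exists_sqrt (c v + 1)
  by_contra hne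
  have hlr : l v + r ≠ 0 := fun e1 => hne (by rw [h.eq_of_add e1, hr])
  have ln : Ln P e v := ⟨h0, hv', hv⟩
  have hd : r * 0 + (l v + r) * 1 ≠ 0 := by rw [mul_zero, zero_add, mul_one]; exact hlr
  have ln' := h.toEmb.loc_ln ln hd
  have hb : ∀ m : F, P.B e (m • v) = 0 := fun m => by rw [map_smul, hv, smul_zero]
  have hb0 : P.B e 0 = 0 := map_zero _
  have hre : P.B (r • e) ((1 : F) • v) = 0 := by rw [h.B_smul_left, hb, mul_zero]
  apply ha
  rw [← h.tc_iff, h.toSit.tc_iff ln' one_ne_zero]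
  convert k1 using 1
  rw [h.τ_eq ln'.perp, h.toEmb.loc_x hv, h.z_line hre, h.z_smul, h.x_smul (by simpa using hv)]
  simp only [one_smul, mul_zero, zero_add, mul_one]
  have c1 := (h.toEmb.dha_zc hv (l v + r) 0).eq
  have c2 := (h.z_comm hv (r * r) 1).eq
  have c3 := (h.z_comm hv 1 1).eq
  have m1 := h.τ_mul (hb (l v + r)) hb0 0 (r * r)
  have m2 := h.τ_mul (k := show P.B e ((l v + r) • v + 0) = 0 by rw [add_zero]; exact hb _) (hb r)
    (0 + r * r + P.B ((l v + r) • v) 0) 0
  have m3 := h.τ_mul hb0 (hb (l v)) 1 (c v)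
  change τ C φ e ((l v + r) • v) 0 * (z C φ e (r * r) * z C φ v 1 * τ C φ e (r • v) 0) = _
  rw [c2, ← mul_assoc, ← mul_assoc, ← mul_assoc, ← c1, c3, mul_assoc,
    mul_assoc, mul_assoc]
  congr 1
  change τ C φ e ((l v + r) • v) 0 * (τ C φ e 0 (r * r) * τ C φ e (r • v) 0) =
    τ C φ e 0 1 * τ C φ e (l v • v) (c v)
  rw [← mul_assoc, m1, m2, m3]
  congr 1
  · rw [add_zero, zero_add, ← add_smul, add_assoc, h.add_self, add_zero]
  · simp only [map_zero, add_zero, zero_add, LinearMap.zero_apply, map_smul, LinearMap.smul_apply,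
      h.B_self, smul_zero, hr]
    ring

theorem coc_smul (h0 : e ≠ 0) (hp : Pz0 C φ t e p) (k : Coc C φ e p l c) {v : V} (hv : P.B e v = 0)
    (hv' : v ∉ span F {e}) {μ : F} (hμ : μ ≠ 0) : c (μ • v) = μ * μ * c v := by
  by_cases h1 : μ + 1 = 0
  · rw [h.eq_of_add h1, one_smul, one_mul, one_mul]
  have hb : ∀ m : F, P.B e (m • v) = 0 := fun m => by rw [map_smul, hv, smul_zero]
  obtain ⟨e1, e2⟩ := k.line v μ 1 hv hv' hμ one_ne_zero h1
  have e3 := h.coc_sq ha h0 hp k hv hv'
  have e4 := h.coc_sq ha h0 hp k (hb μ) (dha_smul_nm hv' hμ)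
  have e5 := h.coc_sq ha h0 hp k (hb (μ + 1)) (dha_smul_nm hv' h1)
  rw [one_smul] at e1 e2
  have two := h.two
  generalize l ((μ + 1) • v) = d at *
  generalize l (μ • v) = a at *
  generalize l v = b at *
  have e6 : d = a + b + 1 := h.sq_inj (by
    linear_combination e5 + e2 - e3 - e4 - (1 + a * b + a + b) * two)
  have e7 : a + 1 = μ * (b + 1) := by
    rw [e6] at e1
    linear_combination e1 - (μ * (b + 1)) * two
  have e8 : (a + 1) * (a + 1) = μ * (b + 1) * (μ * (b + 1)) := by rw [e7]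
  linear_combination e8 - e4 + μ * μ * e3 + (μ * μ * (b + 1) - a - 1) * two

theorem dha_add (h0 : e ≠ 0) (hp : Pz0 C φ t e p) (k : Coc C φ e p l c) {u v : V}
    (hu : P.B e u = 0) (hv : P.B e v = 0) (huv : P.B u v ≠ 0) :
    c (u + v) = c u + c v + P.B u v := by
  obtain ⟨β, hβ⟩ := h.exists_sqrt (P.B u v)
  have β0 : β ≠ 0 := fun e1 => huv (by rw [← hβ, e1, mul_zero])
  have hu' := h.toMod.dha_nm hv huv
  have h1 : P.B e (β⁻¹ • u) = 0 := by rw [map_smul, hu, smul_zero]
  have h2 : P.B (β⁻¹ • u) v = β := by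
    rw [h.B_smul_left, ← hβ, ← mul_assoc, inv_mul_cancel₀ β0, one_mul]
  have h3 := dha_smul_nm hu' (inv_ne_zero β0)
  have e1 := (k.tv _ v h1 hv (by rw [h2]; exact β0)).2
  have e2 := h.coc_smul ha h0 hp k h1 h3 β0
  rw [h2, h.coc_sq ha h0 hp k h1 h3] at e1
  rw [smul_inv_smul₀ β0] at e1 e2
  rw [add_comm u v, e1, e2, ← hβ]
  ring

theorem dha_small (hs : Small F) (h0 : e ≠ 0) (hp : Pz0 C φ t e p) (k : Coc C φ e p l c) {u v : V}
    (hu : P.B e u = 0) (hv : P.B e v = 0) (huv : P.B u v = 0) (hu' : u ∉ span F {e})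
    (hv' : v ∉ span F {e, u}) : c (u + v) = c u + c v := by
  have two := h.two
  have one : ∀ x : F, x ≠ 0 → x = 1 := fun x hx => (hs x).resolve_left hx
  have hadd : ∀ a b, P.B e a = 0 → P.B e b = 0 → P.B e (a + b) = 0 := fun a b h1 h2 => by
    rw [map_add, h1, h2, add_zero]
  have A : ∀ s a b, P.B e s = 0 → P.B e a = 0 → P.B e b = 0 → P.B s a = 0 → P.B s b = 0 →
      P.B a b ≠ 0 → c (s + a) + c a = c (s + b) + c b := by
    intro s a b h1 h2 h3 h4 h5 h6
    have b1 : P.B a (s + b) = P.B a b := by rw [map_add, h.B_comm a s, h4, zero_add]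
    have b2 : P.B (s + a) b = P.B a b := by rw [map_add, LinearMap.add_apply, h5, zero_add]
    have e1 := h.dha_add ha h0 hp k h2 (hadd _ _ h1 h3) (by rw [b1]; exact h6)
    have e2 := h.dha_add ha h0 hp k (hadd _ _ h1 h2) h3 (by rw [b2]; exact h6)
    rw [b1] at e1
    rw [b2, show s + a + b = a + (s + b) by abel, e1] at e2
    linear_combination (c a - c b) * two - e2
  have B : ∀ s a b, P.B e s = 0 → P.B e a = 0 → P.B e b = 0 → P.B s a = 0 → P.B s b = 0 →
      a ∉ span F {e, s} → b ∉ span F {e, s} → c (s + a) + c a = c (s + b) + c b := by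
    intro s a b h1 h2 h3 h4 h5 h6 h7
    obtain ⟨w, hw, w1, w2⟩ := h.toMod.dha_two _ h6 h7
    rw [h.mem_perp_span] at hw
    have w3 := hw e (by simp)
    have w4 := hw s (by simp)
    rw [A s a w h1 h2 w3 h4 w4 w1, A s b w h1 h3 w3 h5 w4 w2]
  let D : V → Prop := fun s => ∀ a, P.B e a = 0 → P.B s a = 0 → a ∉ span F {e, s} →
    c (s + a) + c a = c s + 1
  have step : ∀ s s', P.B e s = 0 → P.B e s' = 0 → P.B s s' ≠ 0 → D s → D s' := by
    intro s s' h1 h2 h3 hD a' a1 a2 a3
    obtain ⟨a, b, ab, ea, eb, sa, sb, sa', sb'⟩ := h.exists_hp3 h3 h1 h2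
    have ab' : P.B a b ≠ 0 := by rw [ab]; exact one_ne_zero
    have e1 := hD a ea sa (h.toMod.dha_nm2 eb sb ab')
    have e2 := A a s s' ea h1 h2 (by rw [h.B_comm]; exact sa) (by rw [h.B_comm]; exact sa') h3
    have e3 := B s' a' a h2 a1 ea a2 sa' a3 (h.toMod.dha_nm2 eb sb' ab')
    rw [add_comm a s, add_comm a s'] at e2
    linear_combination e3 + e1 - e2 + (c s + c a - c s' - c a) * two - 0 * two
  by_contra hne
  have e0 : c (u + v) + c v = c u + 1 := by
    have := one (c (u + v) + (c u + c v)) fun e1 => hne (h.eq_of_add e1)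
    linear_combination this - c u * two + 0 * two
  have Du : D u := fun a a1 a2 a3 => by rw [B u a v hu a1 hv a2 huv a3 hv', e0]
  have Dall : ∀ s, P.B e s = 0 → s ∉ span F {e} → D s := by
    intro s h1 h2
    obtain ⟨w, hw, w1, w2⟩ := h.toMod.dha_two _ hu' h2
    rw [h.mem_perp_span] at hw
    have w3 := hw e (by simp)
    exact step w s w3 h1 (by rw [h.B_comm]; exact w2) (step u w hu w3 w1 Du)
  have sq : ∀ x : F, x * x = x := fun x => by rcases hs x with rfl | rfl <;> simp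
  have lc : ∀ a, P.B e a = 0 → a ∉ span F {e} → l a = c a + 1 := fun a h1 h2 => by
    rw [← h.coc_sq ha h0 hp k h1 h2, sq]
  obtain ⟨g, g0, g1, g2⟩ := h.toMod.dha_ext (e := e) (f := l) (β := 0)
    (fun a μ h1 h2 => (k.shift a μ h1 h2).1) (by
      intro a b h1 h2 h3 h4 h5
      rw [lc _ h1 h3, lc _ h2 h4, lc _ (hadd _ _ h1 h2) h5]
      by_cases h6 : P.B a b = 0
      · have h7 : b ∉ span F {e, a} := by
          intro h8
          obtain ⟨x, y, rfl⟩ := Submodule.mem_span_pair.1 h8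
          rcases hs y with rfl | rfl
          · exact h4 (by rw [zero_smul, add_zero]; exact Submodule.smul_mem _ _ (by simp))
          · apply h5
            rw [one_smul, add_comm (x • e), ← add_assoc, h.vadd_self, zero_add]
            exact Submodule.smul_mem _ _ (by simp)
        linear_combination Dall a h1 h3 b h2 h6 h7 - c b * two
      · rw [h.dha_add ha h0 hp k h1 h2 h6, one _ h6]
        ring)
  obtain ⟨b, hb, hb'⟩ := h.exists_form (h.ti_pt e) (f := g) (by
      intro a h1 b h2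
      rw [h.mem_perp_span] at h1 h2
      rw [g2 a b (h1 e rfl) (h2 e rfl), zero_mul, add_zero]) (by
      intro a _ x
      rcases hs x with rfl | rfl
      · rw [zero_smul, zero_mul, g0 _ (Submodule.zero_mem _)]
      · rw [one_smul, one_mul]) g0
  rw [h.mem_perp_span] at hb
  obtain ⟨q1, q2⟩ := h.toSit.coc_adj h0 hp k (hb e rfl)
  refine h.toSit.exo hs h0 q1 fun w w1 w2 => ?_
  have e1 := hb' w (by rw [h.mem_perp_span]; rintro _ rfl; exact w1)
  rw [g1 _ w2] at e1
  rw [q2.act w w1 w2, ← e1, h.add_self, zero_smul, sq, lc _ w1 w2, ← add_assoc, h.add_self, zero_add]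
  rfl

theorem coc_add (h0 : e ≠ 0) (hp : Pz0 C φ t e p) (k : Coc C φ e p l c) {u v : V} (hu : P.B e u = 0)
    (hv : P.B e v = 0) (hu' : u ∉ span F {e}) (hv' : v ∉ span F {e}) (huv : u + v ∉ span F {e}) :
    c (u + v) = c u + c v + P.B u v := by
  by_cases h1 : P.B u v ≠ 0
  · exact h.dha_add ha h0 hp k hu hv h1
  push Not at h1
  rw [h1, add_zero]
  have two := h.two
  by_cases h2 : v ∈ span F {e, u}
  · obtain ⟨x, y, rfl⟩ := Submodule.mem_span_pair.1 h2
    have hb : ∀ m : F, P.B e (m • u) = 0 := fun m => by rw [map_smul, hu, smul_zero]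
    have y0 : y ≠ 0 := by
      rintro rfl
      exact hv' (by rw [zero_smul, add_zero]; exact Submodule.smul_mem _ _ (by simp))
    have e1 : u + (x • e + y • u) = (1 + y) • u + x • e := by module
    have y1 : 1 + y ≠ 0 := by
      intro e2
      apply huv
      rw [e1, e2, zero_smul, zero_add]
      exact Submodule.smul_mem _ _ (by simp)
    rw [e1, add_comm (x • e), (k.shift _ x (hb _) (dha_smul_nm hu' y1)).2,
      (k.shift _ x (hb _) (dha_smul_nm hu' y0)).2, h.coc_smul ha h0 hp k hu hu' y0,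
      h.coc_smul ha h0 hp k hu hu' y1]
    linear_combination (y * c u) * two
  by_cases hs : Small F
  · exact h.dha_small ha hs h0 hp k hu hv h1 hu' h2
  obtain ⟨θ, θ0, θ1⟩ := h.exists_big hs
  have li : LinearIndependent F ![v, u, e] := by
    refine linearIndependent_finCons.2 ⟨LinearIndependent.pair_iff.2 fun a b hab => ?_, ?_⟩
    · have a0 : a = 0 := by
        by_contra a0
        apply dha_smul_nm hu' a0
        rw [eq_neg_of_add_eq_zero_left hab]
        exact Submodule.neg_mem _ (Submodule.smul_mem _ _ (by simp))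
      rw [a0, zero_smul, zero_add] at hab
      exact ⟨a0, (smul_eq_zero.1 hab).resolve_right h0⟩
    · rw [Matrix.range_cons, Matrix.range_cons, Matrix.range_empty, Set.union_empty,
        Set.singleton_union, Set.pair_comm]
      exact h2
  obtain ⟨w, hw⟩ := h.exists_dual li ![θ, 1, 0]
  have w1 : P.B v w = θ := hw 0
  have w2 : P.B u w = 1 := hw 1
  have w3 : P.B e w = 0 := hw 2
  have b1 : P.B (u + v) w = 1 + θ := by rw [map_add, LinearMap.add_apply, w1, w2]
  have b2 : P.B u (v + w) = 1 := by rw [map_add, h1, w2, zero_add]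
  have e1 := h.dha_add ha h0 hp k (u := u + v) (by rw [map_add, hu, hv, add_zero]) w3
    (by rw [b1]; exact fun e1 => θ1 (h.eq_of_add e1).symm)
  have e2 := h.dha_add ha h0 hp k (v := v + w) hu (by rw [map_add, hv, w3, add_zero])
    (by rw [b2]; exact one_ne_zero)
  have e3 := h.dha_add ha h0 hp k hv w3 (by rw [w1]; exact θ0)
  rw [b1, add_assoc u v w, e2, e3, b2, w1] at e1
  linear_combination -e1

theorem md {Q : V → F} (hQ : QF P Q) : MD C φ t Q := by
  refine ⟨h, hQ, fun e σ he => ?_⟩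
  by_cases h1 : e = 0 ∨ σ = 0
  · refine ⟨1, one_mem _, ?_, fun v r _ _ => ?_⟩
    · rw [h.z_eq_one.2 (h1.imp id fun e1 => by rw [e1, mul_zero])]; simp
    · have : τ C φ e ((σ * (1 + r)) • v) (σ * σ * (r * r)) = 1 := by
        rcases h1 with rfl | rfl
        · unfold τ; rw [h.T_zero', map_one]
        · simp only [zero_mul, zero_smul]; exact h.x_zero e
      rw [this]; simp
  push Not at h1
  obtain ⟨e0, σ0⟩ := h1
  have h0 : σ • e ≠ 0 := smul_ne_zero σ0 e0
  have hsp : span F {σ • e} = span F {e} := Submodule.span_singleton_smul_eq σ0.isUnit e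
  obtain ⟨p, hp⟩ := h.mv (σ • e)
  obtain ⟨l, c, k⟩ := h.toSit.coc h0 hp
  have two := h.two
  have Q0 : ∀ v ∈ span F {σ • e}, Q v = 0 := by
    intro v hv
    rw [hsp] at hv
    obtain ⟨a, rfl⟩ := Submodule.mem_span_singleton.1 hv
    rw [hQ.smul, he, mul_zero]
  obtain ⟨g, g0, g1, g2⟩ := h.toMod.dha_ext (e := σ • e) (f := c) (β := 1)
    (fun a μ h1 h2 => (k.shift a μ h1 h2).2) (by
      intro a b h1 h2 h3 h4 h5
      rw [one_mul, h.coc_add ha h0 hp k h1 h2 h3 h4 h5])
  choose sq hsq using h.exists_sqrt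
  obtain ⟨b, hb, hb'⟩ := h.exists_form (h.ti_pt (σ • e)) (f := fun v => sq (g v + Q v)) (by
      intro a h1 b h2
      rw [h.mem_perp_span] at h1 h2
      apply h.sq_inj
      rw [hsq, g2 a b (h1 _ rfl) (h2 _ rfl), hQ.add]
      linear_combination (P.B a b - sq (g a + Q a) * sq (g b + Q b)) * two - hsq (g a + Q a) -
        hsq (g b + Q b)) (by
      intro a h1 x
      rw [h.mem_perp_span] at h1
      apply h.sq_inj
      have e1 : g (x • a) = x * x * g a := by
        by_cases x0 : x = 0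
        · rw [x0, zero_smul, g0 _ (Submodule.zero_mem _), zero_mul, zero_mul]
        by_cases a0 : a ∈ span F {σ • e}
        · rw [g0 _ a0, g0 _ (Submodule.smul_mem _ _ a0), mul_zero]
        · rw [g1 _ a0, g1 _ (dha_smul_nm a0 x0), h.coc_smul ha h0 hp k (h1 _ rfl) a0 x0]
      rw [hsq, e1, hQ.smul]
      linear_combination (-(x * x)) * hsq (g a + Q a)) (by
      intro a h1
      apply h.sq_inj
      rw [hsq, g0 _ h1, Q0 _ h1, add_zero, mul_zero])
  rw [h.mem_perp_span] at hb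
  obtain ⟨q1, q2⟩ := h.toSit.coc_adj h0 hp k (hb _ rfl)
  refine ⟨_, hsp ▸ q1.cQ, by rw [q1.pt, h.z_smul, mul_one], fun v r hv hr => ?_⟩
  have hv1 : P.B (σ • e) v = 0 := by rw [h.B_smul_left, hv, mul_zero]
  by_cases hv' : v ∈ span F {σ • e}
  · have r0 : r = 0 := mul_self_eq_zero.1 (by rw [hr, Q0 _ hv'])
    have m1 : z C φ v 1 ∈ Rg C φ (span F {σ • e}) :=
      h.τ_mem_R (h.ti_pt _) hv' (Submodule.zero_mem _) 1
    have e1 := q1.cQ _ m1
    rw [hsp] at hv'
    obtain ⟨a, rfl⟩ := Submodule.mem_span_singleton.1 hv'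
    rw [← e1, r0, mul_zero, mul_zero, smul_smul]
    have e2 : τ C φ e ((σ * (1 + 0) * a) • e) 0 = 1 := h.x_self e _
    rw [e2, mul_one, mul_inv_cancel_right]
  · have e1 := hb' v (by rw [h.mem_perp_span]; rintro _ rfl; exact hv1)
    have e2 := hsq (g v + Q v)
    rw [e1, g1 _ hv'] at e2
    have e3 := h.coc_sq ha h0 q1 q2 hv1 hv'
    have e4 : c v + P.B b v * P.B b v = r * r := by linear_combination e2 - hr + c v * two
    have e5 : l v + P.B b v = 1 + r := h.sq_inj (by linear_combination e3 + e4 - r * two)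
    rw [q2.act v hv1 hv', e4, e5, h.τ_smul (by rw [map_smul, hv, smul_zero]), smul_smul]

end MZ0

end CfsgLib.SPC
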