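import Cfsg.Agent.Lib.SPC.MzB

/-! Type D: the elements PD -/

set_option autoImplicit false
set_option linter.unusedSectionVars false

namespace CfsgLib.SPC

open Subgroup Module CfsgLib.Forms CfsgLib.LieMult
open CfsgLib.HX (Std CO Two Mv M2)
open CfsgLib.UN (AV SI TI HH Rad Stb Yg Rg Eg Act nu)
open CfsgLib.ClSys (II)
open Submodule (span)
open scoped commutatorElement Pointwise

universe u

variable {F : Type} [Field F] [Finite F] {V : Type} [AddCommGroup V] [Module F V]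
  [FiniteDimensional F V] {P : PQ (RingHom.id F) V} {S : Type} [Group S] [Finite S] {G : Type u}
  [Group G] [Finite G] {C : CG P S} {φ : S →* G} {t : G}

theorem QF.x_act (h : Mod C) {Q : V → F} (hQ : QF P Q) {a b : V} (k : P.B a b = 0) (ha : Q a = 0)
    (hb : Q b = 0) (v : V) : Q (C.act (C.T a b 0) v) = Q v := by
  rw [h.x_app k, hQ.add, hQ.add, hQ.smul, hQ.smul, ha, hb]
  simp only [P.B_add_left, h.B_smul_left, P.B_smul_right, k, h.B_comm v]
  linear_combination (P.B b v * P.B a v) * h.two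

theorem dhb_inv {p a b : G} (h1 : p * a * p⁻¹ = a * b) (h2 : Commute p b) (h3 : b * b = 1) :
    p⁻¹ * a * p⁻¹⁻¹ = a * b := by
  have : p * (a * b) * p⁻¹ = a := by
    rw [mul_assoc, mul_assoc, ← h2.inv_left.eq, ← mul_assoc, ← mul_assoc, h1, mul_assoc, h3, mul_one]
  nth_rw 1 [← this]
  group

theorem dhb_odd {o : G} (s : o * o = 1) (h : Odd (orderOf o)) : o = 1 := by
  rcases (Nat.dvd_prime Nat.prime_two).1 (orderOf_dvd_of_pow_eq_one ((pow_two o).trans s)) with e | e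
  · exact orderOf_eq_one_iff.1 e
  · exact absurd (e ▸ h) (by decide)

theorem dhb_comm {p q a : G} (h1 : p * a * p⁻¹ = q * a * q⁻¹) : Commute (p⁻¹ * q) a := by
  rw [Commute, SemiconjBy, ← mul_inv_eq_iff_eq_mul,
    show p⁻¹ * q * a * (p⁻¹ * q)⁻¹ = p⁻¹ * (q * a * q⁻¹) * p by group, ← h1]
  group

theorem Emb.dhb_pp (h : Emb C φ) {e v : V} : v ∈ P.perp (span F {e}) ↔ P.B e v = 0 :=
  h.mem_perp_span.trans (by simp)

theorem Emb.dhb_pl (h : Emb C φ) {e a v : V} :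
    v ∈ P.perp (span F {e, a}) ↔ P.B e v = 0 ∧ P.B a v = 0 :=
  h.mem_perp_span.trans (by simp)

theorem Emb.dhb_cm (h : Emb C φ) {p a q b : V} (k : P.B p a = 0) (k' : P.B q b = 0)
    (h1 : P.B p q = 0) (h2 : P.B p b = 0) (h3 : P.B a q = 0) (h4 : P.B a b = 0) (c d : F) :
    Commute (τ C φ p a c) (τ C φ q b d) := by
  have := h.τ_conj (C.T p a c) k' d
  rw [h.T_app k, h.T_app k, h1, h2, h3, h4, mul_inv_eq_iff_eq_mul] at this
  simp only [mul_zero, add_zero, zero_smul] at this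
  exact this

theorem Emb.dhb_z (h : Emb C φ) (v : V) (c : F) : ∃ r : F, z C φ v c = z C φ (r • v) 1 := by
  obtain ⟨r, rfl⟩ := h.exists_sqrt c
  exact ⟨r, by rw [h.z_smul, mul_one]⟩

theorem PD.dhb_τ (h : Emb C φ) {Q : V → F} {e : V} {σ : F} {p : G} (hp : PD C φ t Q e σ p) {a : V}
    (k : P.B e a = 0) (c : F) : Commute p (τ C φ e a c) :=
  (hp.cQ _ (h.τ_mem_R (h.ti_pt e) (Submodule.mem_span_singleton_self e) (h.dhb_pp.2 k) c)).symm

theorem PD.dhb_ze (h : Emb C φ) {Q : V → F} {e : V} {σ : F} {p : G} (hp : PD C φ t Q e σ p) (c : F) :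
    Commute p (z C φ e c) := hp.dhb_τ h (a := 0) (by simp) c

theorem PD.dhb_mul (h : Emb C φ) {Q : V → F} {e : V} {σ : F} {p : G} (hp : PD C φ t Q e σ p) {g : G}
    (h1 : g ∈ centralizer (Yg C φ (span F {e}) : Set G)) (h2 : g * t = t * g) :
    PD C φ t Q e σ (p * g) := by
  refine ⟨mul_mem hp.cQ (centralizer_le h.R_le_Y h1), ?_, fun v r k hr => ?_⟩
  · rw [← hp.pt, mul_assoc p, h2]; group
  · have := h1 _ (h.τ_mem_Y (a := 0) (by simp) (h.dhb_pp.2 k) (zero_mem _) 1)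
    rw [← hp.yz v r k hr, mul_assoc p, show g * z C φ v 1 = z C φ v 1 * g from this.symm]; group

/-- `g` acts on `Y` like `y` modulo `R` -/
def DhbA (Y R : Subgroup G) (g y : G) : Prop :=
  y ∈ Y ∧ ∀ w ∈ Y, ∃ ρ ∈ R, g * w * g⁻¹ = y * w * y⁻¹ * ρ

theorem DhbA.mul {Y R : Subgroup G} (hn : Y ≤ normalizer (R : Set G)) (hR : R ≤ Y) {g y g' y' : G}
    (h1 : DhbA Y R g y) (h2 : DhbA Y R g' y') : DhbA Y R (g * g') (y * y') := by
  refine ⟨mul_mem h1.1 h2.1, fun w hw => ?_⟩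
  obtain ⟨ρ', k', e'⟩ := h2.2 w hw
  obtain ⟨ρ, k, e⟩ := h1.2 _ (mul_mem (mul_mem (mul_mem h2.1 hw) (inv_mem h2.1)) (hR k'))
  refine ⟨_, mul_mem ((mem_normalizer_iff.1 (hn h1.1) _).1 k') k, ?_⟩
  rw [show g * g' * w * (g * g')⁻¹ = g * (g' * w * g'⁻¹) * g⁻¹ by group, e', e]; group

theorem DhbA.self {Y R : Subgroup G} {y : G} (h : y ∈ Y) : DhbA Y R y y :=
  ⟨h, fun _ _ => ⟨1, one_mem _, (mul_one _).symm⟩⟩

theorem DhbA.rad {Y R : Subgroup G} (hn : Y ≤ normalizer (R : Set G)) {ρ : G} (h : ρ ∈ R) :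
    DhbA Y R ρ 1 :=
  ⟨one_mem _, fun w hw => ⟨_, mul_mem ((mem_normalizer_iff.1 (hn (inv_mem hw)) _).1 h) (inv_mem h),
    by group⟩⟩

theorem Emb.dhb_YR (h : Emb C φ) (U : Submodule F V) : Yg C φ U ≤ normalizer (Rg C φ U : Set G) := by
  rintro _ ⟨s, hs, rfl⟩
  exact mem_normalizer_fintype fun g hg => (h.conj_Y s (fix_le_stb U hs)).2.1.2 hg

theorem Emb.dhb_k (h : Emb C φ) {k : ℕ} (Fr : Frame P k) : 3 ≤ k := by
  have a2 : span F (Set.range Fr.v) = ⊤ := eq_top_iff.2 fun x _ => by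
    rw [h.g2_decomp Fr x]
    exact Submodule.sum_mem _ fun b _ => Submodule.smul_mem _ _ (Submodule.subset_span ⟨b, rfl⟩)
  have a3 := finrank_range_le_card (R := F) Fr.v
  rw [Set.finrank, a2, finrank_top, Fintype.card_sum, Fintype.card_fin] at a3
  have := h.d6
  omega

namespace MD

variable {Q : V → F} (h : MD C φ t Q) {e : V} {σ σ' : F} {p p' : G}
include h

theorem pd_uniq (h0 : e ≠ 0) (hp : PD C φ t Q e σ p) (hp' : PD C φ t Q e σ p') :
    ∃ r, ∃ c ∈ centralizer (φ.range : Set G), c * t = t * c ∧ p' = p * z C φ e r * c := by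
  have k1 : Commute (p⁻¹ * p') t := dhb_comm (hp.pt.trans hp'.pt.symm)
  obtain ⟨ε, hε, c, hc, e1⟩ := h.cY (h.ti_pt e) (h.norm_of k1) (h.cent_Y (h.ti_pt e) fun v hv c => by
    obtain ⟨r, e1⟩ := h.dhb_z v c
    obtain ⟨s, hs⟩ := h.exists_sqrt (Q (r • v))
    have k := h.dhb_pp.1 (Submodule.smul_mem _ r hv)
    rw [e1]
    exact dhb_comm ((hp.yz _ s k hs).trans (hp'.yz _ s k hs).symm))
  obtain ⟨r, rfl⟩ := h.mem_Z.1 hε
  exact ⟨r, c, hc, h.ct_of ⟨_, rfl⟩ (e1 ▸ k1), by rw [mul_assoc, ← e1, mul_inv_cancel_left]⟩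
theorem pd_mul (he : Q e = 0) (hp : PD C φ t Q e σ p) (hp' : PD C φ t Q e σ' p') :
    PD C φ t Q e (σ + σ') (p * p') := by
  have e1 : ∀ a b : G, Commute p b → p * (a * b) * p⁻¹ = p * a * p⁻¹ * b := fun a b k => by
    rw [mul_assoc (p * a), k.inv_left.eq]; group
  have e2 : ∀ a : G, p * p' * a * (p * p')⁻¹ = p * (p' * a * p'⁻¹) * p⁻¹ := fun a => by group
  refine ⟨mul_mem hp.cQ hp'.cQ, ?_, fun v r k hr => ?_⟩
  · rw [e2, hp'.pt, e1 _ _ (hp.dhb_ze h.toEmb _), hp.pt, mul_assoc, ← h.z_add]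
    congr 2
    linear_combination (-σ * σ') * h.two
  · have k1 : ∀ c : F, P.B e (c • v) = 0 := fun c => by rw [P.B_smul_right, k, mul_zero]
    rw [e2, hp'.yz v r k hr, e1 _ _ (hp.dhb_τ h.toEmb (k1 _) _), hp.yz v r k hr, mul_assoc,
      h.τ_mul (k1 _) (k1 _), ← add_smul, h.B_smul_left, P.B_smul_right, h.B_self]
    congr 3
    · ring
    · linear_combination (-σ * σ' * r * r) * h.two
theorem pd_inv (he : Q e = 0) (hp : PD C φ t Q e σ p) : PD C φ t Q e σ p⁻¹ :=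
  ⟨inv_mem hp.cQ, dhb_inv hp.pt (hp.dhb_ze h.toEmb _) (h.z_sq _ _), fun v r k hr =>
    have k1 : P.B e ((σ * (1 + r)) • v) = 0 := by rw [P.B_smul_right, k, mul_zero]
    dhb_inv (hp.yz v r k hr) (hp.dhb_τ h.toEmb k1 _) (h.τ_sq k1 _)⟩
theorem pd_zc (hp : PD C φ t Q e σ p) (r : F) {c : G} (hc : c ∈ centralizer (φ.range : Set G))
    (hc' : c * t = t * c) : PD C φ t Q e σ (p * z C φ e r * c) :=
  (hp.dhb_mul h.toEmb (h.E_cent (h.ti_pt e) (h.mem_Z.2 ⟨r, rfl⟩)) (h.tl _)).dhb_mul h.toEmb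
    (centralizer_le h.Y_le_L hc) hc'
theorem pd_smul {l : F} (hl : l ≠ 0) : PD C φ t Q (l • e) σ p ↔ PD C φ t Q e (l * σ) p := by
  have e1 : span F {l • e} = span F {e} := Submodule.span_singleton_smul_eq hl.isUnit e
  have e2 : z C φ (l • e) (σ * σ) = z C φ e (l * σ * (l * σ)) := by rw [h.z_smul]; congr 1; ring
  have e3 : ∀ v, P.B (l • e) v = 0 ↔ P.B e v = 0 := fun v => by
    rw [h.B_smul_left, mul_eq_zero, or_iff_right hl]
  have e4 : ∀ v (r : F), P.B e v = 0 → τ C φ (l • e) ((σ * (1 + r)) • v) (σ * σ * (r * r)) =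
      τ C φ e ((l * σ * (1 + r)) • v) (l * σ * (l * σ) * (r * r)) := fun v r k => by
    rw [h.τ_smul (by rw [P.B_smul_right, k, mul_zero]), smul_smul, ← mul_assoc l]; congr 1; ring
  exact ⟨fun hp => ⟨e1 ▸ hp.cQ, e2 ▸ hp.pt, fun v r k hr => e4 v r k ▸ hp.yz v r ((e3 v).2 k) hr⟩,
    fun hp => ⟨e1 ▸ hp.cQ, e2 ▸ hp.pt, fun v r k hr =>
      e4 v r ((e3 v).1 k) ▸ hp.yz v r ((e3 v).1 k) hr⟩⟩
theorem pd_conj (hp : PD C φ t Q e σ p) {l : S} (hl : ∀ v, Q (C.act l v) = Q v) :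
    PD C φ t Q (C.act l e) σ (φ l * p * (φ l)⁻¹) := by
  have e1 : ∀ a : G, φ l * p * (φ l)⁻¹ * (φ l * a * (φ l)⁻¹) * (φ l * p * (φ l)⁻¹)⁻¹ =
      φ l * (p * a * p⁻¹) * (φ l)⁻¹ := fun a => by group
  refine ⟨h.cent_R (h.ti_pt _) fun w hw a ha c => ?_, ?_, fun v r k hr => ?_⟩
  · obtain ⟨μ, rfl⟩ := Submodule.mem_span_singleton.1 hw
    obtain ⟨a, rfl⟩ := (C.act l).surjective a
    have k := h.dhb_pp.1 ha
    rw [C.B_act] at k
    rw [← map_smul, ← h.τ_conj l (by rw [h.B_smul_left, k, mul_zero]), h.τ_smul k]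
    exact (hp.dhb_τ h.toEmb (by rw [P.B_smul_right, k, mul_zero]) _).map (MulAut.conj (φ l))
  · have : φ l * t * (φ l)⁻¹ = t := by rw [h.tl, mul_inv_cancel_right]
    nth_rw 1 [← this]
    rw [e1, hp.pt, ← conj_mul, this, h.z_conj]
  · obtain ⟨v, rfl⟩ := (C.act l).surjective v
    rw [C.B_act] at k
    rw [← h.z_conj, e1, hp.yz v r k (hr.trans (hl v)), ← conj_mul,
      h.τ_conj l (by rw [P.B_smul_right, k, mul_zero]), map_smul]
theorem pd_nY (h0 : e ≠ 0) (hp : PD C φ t Q e σ p) :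
    p ∈ normalizer (Yg C φ (span F {e}) : Set G) := by
  refine mem_normalizer_fintype ?_
  rintro _ ⟨s, hs, rfl⟩
  refine h.fix_gen (h.ti_pt e)
    (H := ((Yg C φ (span F {e})).comap (MulAut.conj p).toMonoidHom).comap φ) (fun v hv c => ?_) hs
  obtain ⟨r, e1⟩ := h.dhb_z v c
  obtain ⟨s, hs⟩ := h.exists_sqrt (Q (r • v))
  have hv' := Submodule.smul_mem _ r hv
  have k := h.dhb_pp.1 hv'
  change p * z C φ v c * p⁻¹ ∈ Yg C φ (span F {e})
  rw [e1, hp.yz _ s k hs]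
  exact mul_mem (h.τ_mem_Y (a := 0) (by simp) hv' (zero_mem _) 1)
    (h.τ_mem_Y (by rw [P.B_smul_right, k, mul_zero]) (h.dhb_pp.2 (h.B_self e))
      (Submodule.smul_mem _ _ hv') _)
/-- the action on the short root elements -/
theorem pd_x (hp : PD C φ t Q e σ p) {u a : V} (hu : P.B e u = 0) (ha : P.B e a = 0) (k : P.B u a = 0)
    {r s : F} (hr : r * r = Q u) (hs : s * s = Q a) :
    p * x C φ u a * p⁻¹ = x C φ u a * x C φ e (σ • (s • u + r • a)) := by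
  have e0 : z C φ a 1 * z C φ u 1 * z C φ (u + a) 1 = x C φ u a := by
    rw [h.z_line k, one_smul, mul_assoc (z C φ a 1), ← mul_assoc (z C φ u 1),
      ← mul_assoc (z C φ u 1), h.z_sq, one_mul, ← mul_assoc, h.z_sq, one_mul]
  have hua : P.B e (u + a) = 0 := by rw [P.B_add_right, hu, ha, add_zero]
  have hrs : (r + s) * (r + s) = Q (u + a) := by
    rw [h.qf.add, k, ← hr, ← hs]; linear_combination (r * s) * h.two
  have cm : ∀ (v w : V) (μ c : F), P.B e v = 0 → P.B e w = 0 → P.B v w = 0 →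
      Commute (τ C φ e (μ • v) c) (z C φ w 1) := fun v w μ c k1 k2 k3 =>
    h.dhb_cm (by rw [P.B_smul_right, k1, mul_zero]) (by simp) k2 (by simp)
      (by rw [h.B_smul_left, k3, mul_zero]) (by simp) _ _
  have k' : P.B a u = 0 := by rw [h.B_comm, k]
  have sm : ∀ (v : V) (μ : F), P.B e v = 0 → P.B e (μ • v) = 0 := fun v μ k => by
    rw [P.B_smul_right, k, mul_zero]
  rw [← e0, ← conj_mul, ← conj_mul, hp.yz a s ha hs, hp.yz u r hu hr, hp.yz _ _ hua hrs,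
    (cm a u _ _ ha hu k').mul_mul_mul_comm, h.τ_mul (sm _ _ ha) (sm _ _ hu),
    Commute.mul_mul_mul_comm, h.τ_mul (by rw [P.B_add_right, sm _ _ ha, sm _ _ hu, add_zero])
      (sm _ _ hua)]
  · simp only [P.B_add_left, P.B_add_right, h.B_smul_left, P.B_smul_right, h.B_self, k, k', mul_zero,
      add_zero]
    congr 2
    · linear_combination (norm := module) (σ * (1 + s)) • h.vadd_self a + (σ * (1 + r)) • h.vadd_self u
    · linear_combination (σ * σ * (r * r + r * s + s * s)) * h.two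
  · refine h.dhb_cm (by rw [P.B_add_right, sm _ _ ha, sm _ _ hu, add_zero]) (by simp) hua (by simp) ?_
      (by simp) _ _
    simp only [P.B_add_left, P.B_add_right, h.B_smul_left, h.B_self, k, k', mul_zero, add_zero]
theorem jd_uniq (h0 : e ≠ 0) (hσ : σ ≠ 0) (hp : JD C φ t Q e σ p) (hp' : JD C φ t Q e σ p') :
    ∃ r, p' = p * z C φ e r := by
  obtain ⟨r, c, hc, ct, e1⟩ := h.pd_uniq h0 hp.toPD hp'.toPD
  have hz : ∀ r, z C φ e r ∈ φ.range := fun r => ⟨_, rfl⟩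
  obtain ⟨o, h1, h2, h3, e2⟩ := h.dec h.two' (one_mem _) hc (by rwa [one_mul])
  have c1 : Commute p (z C φ e r) := hp.toPD.dhb_ze h.toEmb r
  have c2 : Commute p o := hp.co o h1 h2 h3
  have c3 : Commute (z C φ e r) o := h1 _ (hz r)
  have s := hp'.sq
  rcases e2 with rfl | rfl
  · rw [e1, (c2.mul_left c3).symm.mul_mul_mul_comm, c1.symm.mul_mul_mul_comm, hp.sq, h.z_sq, one_mul,
      one_mul] at s
    exact ⟨r, by rw [e1, dhb_odd s h3, mul_one]⟩
  · have c4 : Commute (z C φ e r) t := h.tL (hz r)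
    have pt := hp.pt
    rw [inv_eq_of_mul_eq_one_right hp.sq] at pt
    rw [e1, ← mul_assoc _ t, ((c2.mul_left c3).mul_left (Commute.symm h2)).symm.mul_mul_mul_comm,
      show p * z C φ e r * t * (p * z C φ e r * t) = z C φ e (σ * σ) by
        nth_rw 1 [c1.eq]
        rw [show ∀ a b c : G, a * b * c * (b * a * c) = a * (b * c * b) * a * c from fun a b c => by group,
          pt, ← h.tL (hz _), mul_assoc, mul_assoc, mul_assoc, ← mul_assoc t, ← c4.eq, mul_assoc, h.t2,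
          mul_one, ← h.z_add, ← h.z_add, add_comm (σ * σ), ← add_assoc, h.add_self, zero_add]] at s
    have := (h.dec_inj (hz _) (one_mem _) (mul_mem h1 h1) (one_mem _) (s.trans (one_mul 1).symm)).1
    exact absurd (h.z_eq_one.1 this) (not_or.2 ⟨h0, mul_ne_zero hσ hσ⟩)
theorem jd_z (hp : JD C φ t Q e σ p) (r : F) : JD C φ t Q e σ (p * z C φ e r) :=
  ⟨by simpa using h.pd_zc hp.toPD r (one_mem _) (by simp), hp.co.mul (.of_mem ⟨_, rfl⟩), by
    have c1 : Commute p (z C φ e r) := hp.toPD.dhb_ze h.toEmb r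
    rw [c1.symm.mul_mul_mul_comm, hp.sq, h.z_sq, one_mul]⟩
theorem jd_conj (hp : JD C φ t Q e σ p) {l : S} (hl : ∀ v, Q (C.act l v) = Q v) :
    JD C φ t Q (C.act l e) σ (φ l * p * (φ l)⁻¹) :=
  ⟨h.pd_conj hp.toPD hl, h.co_conj' (h.tl l) hp.co, by rw [conj_mul, hp.sq, mul_one, mul_inv_cancel]⟩

/-- the commutator with a root element, first form -/
theorem n_dec {u u' f : V} (k : Ln P u u') (hu : Q u = 0) (hu' : Q u' = 0) (hf : Q f = 0)
    (h1 : P.B u' f = 1) (h2 : P.B u f = 0) (hp' : PD C φ t Q u' σ p') (l : F) :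
    ∃ p, ∃ κ r : F, PD C φ t Q u (l * σ) p ∧
      x C φ u (l • f) * p' * x C φ u (l • f) * p'⁻¹ = p * x C φ u (κ • u') * z C φ u' r := by
  have kp := k.perp
  have kf : P.B u (l • f) = 0 := by rw [P.B_smul_right, h2, mul_zero]
  have hU := h.ti_pair kp
  obtain ⟨p, hp⟩ := h.pd u (l * σ) hu
  have q2 := h.pd_conj hp' (QF.x_act h.toMod h.qf kf hu (by rw [h.qf.smul, hf, mul_zero]))
  rw [h.x_app kf, kp, zero_smul, add_zero, h.B_smul_left, h.B_comm f, h1, mul_one,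
    show (φ (C.T u (l • f) 0))⁻¹ = x C φ u (l • f) from h.τ_inv kf 0] at q2
  change PD C φ t Q (u' + l • u) σ (x C φ u (l • f) * p' * x C φ u (l • f)) at q2
  set p'' := x C φ u (l • f) * p' * x C φ u (l • f)
  have q1 := h.pd_inv hu' hp'
  have sm : ∀ c : F, P.B u (c • u') = 0 := fun c => by rw [P.B_smul_right, kp, mul_zero]
  have Bl : ∀ α β γ δ : F, P.B (α • u + β • u') (γ • u + δ • u') = 0 := fun α β γ δ => by
    simp only [P.B_add_left, P.B_add_right, h.B_smul_left, P.B_smul_right, h.B_self, kp,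
      h.B_comm u' u, mul_zero, add_zero]
  have Ql : ∀ α β : F, 0 * 0 = Q (α • u + β • u') := fun α β => by
    rw [h.qf.add, h.qf.smul, h.qf.smul, hu, hu', h.B_smul_left, sm]; ring
  have eu : u = (1 : F) • u + (0 : F) • u' := by simp
  have eu' : u' = (0 : F) • u + (1 : F) • u' := by simp
  have eu'' : u' + l • u = l • u + (1 : F) • u' := by rw [one_smul, add_comm]
  have xa : ∀ c d : F, x C φ u (c • u') * x C φ u (d • u') = x C φ u ((c + d) • u') := fun c d => by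
    rw [add_smul, h.x_add (sm _) (sm _) (by rw [h.B_smul_left, P.B_smul_right, h.B_self]; ring)]
  have fx : ∀ c : F, Commute p'' (x C φ u (c • u')) := fun c => by
    have := h.pd_x q2 (u := u) (a := c • u') (r := 0) (s := 0) (by rw [eu'']; nth_rw 2 [eu]; exact Bl ..)
      (by simpa [add_comm] using Bl l 1 0 c) (sm c) (by rw [hu, mul_zero]) (by simpa using Ql 0 c)
    rwa [zero_smul, zero_smul, add_zero, smul_zero, h.x_zero, mul_one, mul_inv_eq_iff_eq_mul] at this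
  have key : ∀ (y : G) (s α β : F),
      (∀ (γ δ μ : F) (q : G), PD C φ t Q (γ • u + δ • u') μ q →
        q * y * q⁻¹ = y * x C φ (γ • u + δ • u') (μ • s • (α • u + β • u'))) →
      Commute (p⁻¹ * (p'' * p'⁻¹)) y := fun y s α β H => by
    refine dhb_comm ?_
    rw [show p'' * p'⁻¹ * y * (p'' * p'⁻¹)⁻¹ = p'' * (p'⁻¹ * y * p'⁻¹⁻¹) * p''⁻¹ by group,
      H 1 0 _ p (eu ▸ hp), H 0 1 _ _ (eu' ▸ q1), ← conj_mul, H l 1 _ _ (eu'' ▸ q2)]
    simp only [smul_add, smul_smul, h.loc_x kp]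
    rw [(fx _).eq, mul_inv_cancel_right, mul_assoc y, xa]
    congr 3
    linear_combination (-σ * s * α) * h.two
  have kt : Commute (p⁻¹ * (p'' * p'⁻¹)) t := by
    refine dhb_comm ?_
    have e1 : z C φ u' (σ * σ) = z C φ (σ • u') 1 := by rw [h.z_smul, mul_one]
    have e2 := q2.yz (σ • u') 0 (by simpa [add_comm] using Bl l 1 0 σ) (by simpa using Ql 0 σ)
    have e3 := h.loc_x kp l 1 0 (σ * σ)
    have c1 : Commute (z C φ u' (σ * σ)) (x C φ u ((l * (σ * σ)) • u')) :=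
      h.dhb_cm (by simp) (sm _) (by rw [h.B_comm, kp]) (by rw [P.B_smul_right, h.B_self, mul_zero])
        (by simp) (by simp) _ _
    rw [zero_smul, zero_add, zero_mul, add_zero, ← eu''] at e3
    rw [add_zero, mul_one, mul_zero, mul_zero, smul_smul] at e2
    rw [show p'' * p'⁻¹ * t * (p'' * p'⁻¹)⁻¹ = p'' * (p'⁻¹ * t * p'⁻¹⁻¹) * p''⁻¹ by group, q1.pt,
      ← conj_mul, q2.pt, e1, e2, ← e1, show τ C φ (u' + l • u) ((σ * σ) • u') 0 = _ from e3, hp.pt,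
      add_comm u', h.z_line (by rw [h.B_smul_left, kp, mul_zero]), h.x_smul (sm _), smul_smul,
      h.z_smul, mul_assoc t, mul_assoc (z C φ u _), mul_assoc (z C φ u _), c1.symm.mul_mul_mul_comm,
      h.z_sq, h.x_sq (sm _), mul_one, mul_one]
    congr 2
    ring
  obtain ⟨ε, hε, c, hc, e1⟩ := h.cR hU (by
    rw [show ({u, u'} : Set V) = Set.range ![u, u'] by simp [Set.pair_comm], finrank_span_eq_card
      (LinearIndependent.pair_iff.2 fun a b e => h.ln_inj k (e.trans (by simp)))]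
    simp) (h.norm_of kt) (h.cent_R hU fun w hw a ha c => by
      obtain ⟨α, β, rfl⟩ := Submodule.mem_span_pair.1 hw
      obtain ⟨a1, a2⟩ := h.dhb_pl.1 ha
      have Ba : ∀ γ δ : F, P.B (γ • u + δ • u') a = 0 := fun γ δ => by
        rw [P.B_add_left, h.B_smul_left, h.B_smul_left, a1, a2]; ring
      obtain ⟨s, hs⟩ := h.exists_sqrt (Q a)
      obtain ⟨r, e1⟩ := h.dhb_z (α • u + β • u') c
      rw [h.τ_eq (Ba _ _), e1, smul_add, smul_smul, smul_smul]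
      refine (key _ s α β fun γ δ μ q hq => ?_).mul_right (key _ 1 (r * α) (r * β) fun γ δ μ q hq => ?_)
      · rw [h.pd_x hq (Bl ..) (Ba ..) (Ba ..) (Ql ..) hs, zero_smul, add_zero]
      · rw [hq.yz _ 0 (Bl ..) (Ql ..), add_zero, mul_one, mul_zero, mul_zero, one_smul]; rfl)
  obtain ⟨r, v, r', rfl⟩ := (h.mem_El k).1 hε
  refine ⟨_, v, r', h.pd_zc hp r hc (h.ct_of (h.Y_le_L (h.R_le_Y (h.E_le_R hU hε))) (e1 ▸ kt)), ?_⟩
  have c1 : c * (x C φ u (v • u') * z C φ u' r') = x C φ u (v • u') * z C φ u' r' * c := (hc _ (mul_mem ⟨_, rfl⟩ ⟨_, rfl⟩)).symm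
  rw [mul_assoc (p * _ * c), mul_assoc _ c, c1, ← mul_inv_cancel_left p (p'' * p'⁻¹), e1]
  simp only [mul_assoc]

/-- elements of `PD` act trivially on `Y_U / R_U` -/
theorem dhb_A {U : Submodule F V} (hU : TI P U) (he : e ∈ U) (hp : PD C φ t Q e σ p) :
    DhbA (Yg C φ U) (Rg C φ U) p 1 := by
  refine ⟨one_mem _, ?_⟩
  rintro _ ⟨s, hs, rfl⟩
  have hn := h.dhb_YR U
  let H : Subgroup G :=
    { carrier := {w | w ∈ Yg C φ U ∧ w⁻¹ * (p * w * p⁻¹) ∈ Rg C φ U}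
      one_mem' := ⟨one_mem _, by simp⟩
      mul_mem' := fun {a b} ha hb => ⟨mul_mem ha.1 hb.1, by
        have := mul_mem ((mem_normalizer_iff.1 (hn (inv_mem hb.1)) _).1 ha.2) hb.2
        convert this using 1; group⟩
      inv_mem' := fun {a} ha => ⟨inv_mem ha.1, by
        have := (mem_normalizer_iff.1 (hn ha.1) _).1 (inv_mem ha.2)
        convert this using 1; group⟩ }
  refine ⟨_, (h.fix_gen hU (H := H.comap φ) (fun v hv c => ?_) hs).2, by group⟩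
  obtain ⟨r, e1⟩ := h.dhb_z v c
  obtain ⟨s, hs⟩ := h.exists_sqrt (Q (r • v))
  have hv' := Submodule.smul_mem _ r hv
  change z C φ v c ∈ H
  rw [e1]
  refine ⟨h.τ_mem_Y (a := 0) (by simp) hv' (zero_mem _) 1, ?_⟩
  rw [hp.yz _ s (hv' e he) hs, inv_mul_cancel_left]
  exact h.τ_mem_R hU he (Submodule.smul_mem _ _ hv') _

theorem dhb_uniq {U : Submodule F V} {u' f : V} (h1 : P.B u' f = 1) (hu : u' ∈ P.perp U)
    (hf : f ∈ P.perp U) {g : G} {r r' : F} (k : DhbA (Yg C φ U) (Rg C φ U) g (z C φ u' r))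
    (k' : DhbA (Yg C φ U) (Rg C φ U) g (z C φ u' r')) : r = r' := by
  have hw : z C φ f 1 ∈ Yg C φ U := h.τ_mem_Y (a := 0) (by simp) hf (zero_mem _) 1
  obtain ⟨_, ⟨s, hs, rfl⟩, e1⟩ := k.2 _ hw
  obtain ⟨_, ⟨s', hs', rfl⟩, e2⟩ := k'.2 _ hw
  have zc : ∀ c, z C φ u' c * z C φ f 1 * (z C φ u' c)⁻¹ = φ (C.T (C.act (C.T u' 0 c) f) 0 1) :=
    fun c => h.z_conj _ _ _
  rw [e1, zc, zc, ← map_mul, ← map_mul] at e2
  have e3 := congrArg (fun s => P.B f (C.act s u')) (h.inj e2)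
  have e4 : ∀ s ∈ Rad C U, ∀ c : F, P.B f (C.act (C.T (C.act (C.T u' 0 c) f) 0 1 * s) u') = 1 + c :=
    fun s hs c => by
      have k1 := hs.2 u' hu
      have k2 : P.B f (C.act s u' - u') = 0 := by rw [h.B_comm]; exact hf _ k1
      have k3 : P.B u' (C.act s u' - u') = 0 := by rw [h.B_comm]; exact hu _ k1
      rw [map_sub, sub_eq_zero] at k2 k3
      rw [C.mul_apply, h.z_app, h.z_app]
      simp only [P.B_add_left, P.B_add_right, h.B_smul_left, P.B_smul_right, h.B_self, k2, k3, h1,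
        h.B_comm f u']
      ring
  simp only [e4 s hs, e4 s' hs'] at e3
  exact add_left_cancel e3

theorem dhb_cj {u u' f a b : V} {l r : F} (k : P.B a b = 0) (ha : Q a = 0) (hb : Q b = 0)
    (h1 : P.B u' a = 0) (h2 : P.B u' b = 0) (h3 : P.B f a = 0) (h4 : P.B f b = 0) (h5 : P.B u f = 0)
    (h6 : P.B u u' = 0) (hp' : PD C φ t Q u' σ p') (H : ∃ p, ∃ κ : F, PD C φ t Q u σ' p ∧
      x C φ u (l • f) * p' * x C φ u (l • f) * p'⁻¹ = p * x C φ u (κ • u') * z C φ u' r) {w : V}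
    (hw : C.act (C.T a b 0) u = w) : ∃ p, ∃ κ : F, PD C φ t Q w σ' p ∧
      x C φ w (l • f) * p' * x C φ w (l • f) * p'⁻¹ = p * x C φ w (κ • u') * z C φ u' r := by
  obtain ⟨p, κ, hp, e1⟩ := H
  have e2 := h.pd_x hp' h1 h2 k (r := 0) (s := 0) (by rw [ha, mul_zero]) (by rw [hb, mul_zero])
  rw [zero_smul, zero_smul, add_zero, smul_zero, h.x_zero, mul_one, mul_inv_eq_iff_eq_mul] at e2
  have e3 : φ (C.T a b 0) * p' * (φ (C.T a b 0))⁻¹ = p' := mul_inv_eq_iff_eq_mul.2 e2.symm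
  have f1 : ∀ v, P.B v a = 0 → P.B v b = 0 → C.act (C.T a b 0) v = v := fun v k1 k2 => by
    rw [h.x_app k, h.B_comm b, h.B_comm a, k1, k2, zero_smul, zero_smul, add_zero, add_zero]
  refine ⟨_, κ, hw ▸ h.pd_conj hp (QF.x_act h.toMod h.qf k ha hb), ?_⟩
  have e4 := congrArg (MulAut.conj (φ (C.T a b 0))) e1
  rw [map_mul, map_mul, map_mul, map_mul, map_mul, map_inv] at e4
  simp only [MulAut.conj_apply] at e4
  rwa [e3, h.x_conj _ (by rw [P.B_smul_right, h5, mul_zero]),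
    h.x_conj _ (by rw [P.B_smul_right, h6, mul_zero]), h.z_conj, map_smul, map_smul, hw, f1 f h3 h4,
    f1 u' h1 h2] at e4

/-- the commutator with a root element -/
theorem n_jd {k : ℕ} (Fr : Frame P k) (hv : ∀ a, Q (Fr.v a) = 0) {a b : II k} (hab : Ap a b)
    (hp' : PD C φ t Q (Fr.v b) σ p') (l : F) : ∃ p, ∃ κ : F, JD C φ t Q (Fr.v a) (l * σ) p ∧
      x C φ (Fr.v a) (l • Fr.v b.swap) * p' * x C φ (Fr.v a) (l • Fr.v b.swap) * p'⁻¹ =
        p * x C φ (Fr.v a) (κ • Fr.v b) := by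
  have ln : ∀ {a b : II k}, Ap a b → Ln P (Fr.v a) (Fr.v b) := fun {a b} hab =>
    ⟨h.hp_ne (Fr.B_swap a), fun e => by
      obtain ⟨μ, e⟩ := Submodule.mem_span_singleton.1 e
      have := Fr.B_swap' b
      rw [← e, P.B_smul_right, Fr.B_ap hab.symm.sl, mul_zero] at this
      exact zero_ne_one this, Fr.B_ap hab⟩
  obtain ⟨c, hc⟩ := exists_ap [a, b] (h.dhb_k Fr)
  have hca := hc a (by simp)
  have hcb := hc b (by simp)
  obtain ⟨p, κ, r, hp, e1⟩ := h.n_dec (ln hab) (hv a) (hv b) (hv b.swap) (Fr.B_swap b)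
    (Fr.B_ap hab.sr) hp' l
  obtain ⟨p₂, κ₂, r₂, hp₂, e2⟩ := h.n_dec (ln hcb) (hv c) (hv b) (hv b.swap) (Fr.B_swap b)
    (Fr.B_ap hcb.sr) hp' l
  have cj : ∀ {a c : II k} {r : F}, Ap c a → Ap a b → Ap c b → _ → ∃ p, ∃ κ : F,
      PD C φ t Q (Fr.v a + Fr.v c) (l * σ) p ∧ x C φ (Fr.v a + Fr.v c) (l • Fr.v b.swap) * p' *
        x C φ (Fr.v a + Fr.v c) (l • Fr.v b.swap) * p'⁻¹ =
          p * x C φ (Fr.v a + Fr.v c) (κ • Fr.v b) * z C φ (Fr.v b) r := fun {a c r} hca hab hcb H =>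
    h.dhb_cj (Fr.B_ap hca.sr) (hv _) (hv _) (Fr.B_ap hcb.symm) (Fr.B_ap hab.symm.sr)
      (Fr.B_ap hcb.symm.sl) (Fr.B_ap hab.symm.sl.sr) (Fr.B_ap hab.sr) (Fr.B_ap hab) hp' H (by
        rw [h.x_app (Fr.B_ap hca.sr), Fr.B_swap', Fr.B_ap hca, one_smul, zero_smul, add_zero])
  obtain ⟨p₃, κ₃, hp₃, e3⟩ := cj hca hab hcb ⟨p, κ, hp, e1⟩
  obtain ⟨p₄, κ₄, hp₄, e4⟩ := cj hca.symm hcb hab ⟨p₂, κ₂, hp₂, e2⟩
  rw [add_comm] at hp₄ e4
  have kac := Fr.B_ap hca.symm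
  have hU := h.ti_pair kac
  have hb : Fr.v b ∈ P.perp (span F {Fr.v a, Fr.v c}) := h.dhb_pl.2 ⟨Fr.B_ap hab, Fr.B_ap hcb⟩
  have hb' : Fr.v b.swap ∈ P.perp (span F {Fr.v a, Fr.v c}) :=
    h.dhb_pl.2 ⟨Fr.B_ap hab.sr, Fr.B_ap hcb.sr⟩
  have ma : Fr.v a ∈ span F {Fr.v a, Fr.v c} := Submodule.subset_span (by simp)
  have mc : Fr.v c ∈ span F {Fr.v a, Fr.v c} := Submodule.subset_span (by simp)
  have hn := h.dhb_YR (span F {Fr.v a, Fr.v c})
  have xA : ∀ w ∈ span F {Fr.v a, Fr.v c}, ∀ v ∈ P.perp (span F {Fr.v a, Fr.v c}), ∀ κ : F,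
      DhbA (Yg C φ _) (Rg C φ _) (x C φ w (κ • v)) 1 := fun w hw v hv κ =>
    .rad hn (h.τ_mem_R hU hw (Submodule.smul_mem _ _ hv) 0)
  have A : ∀ w ∈ span F {Fr.v a, Fr.v c}, ∀ (p : G) (κ r : F), PD C φ t Q w (l * σ) p →
      DhbA (Yg C φ _) (Rg C φ _) (p * x C φ w (κ • Fr.v b) * z C φ (Fr.v b) r) (z C φ (Fr.v b) r) :=
    fun w hw p κ r hp => by
      simpa only [one_mul] using ((h.dhb_A hU hw hp).mul hn h.R_le_Y (xA w hw _ hb κ)).mul hn h.R_le_Y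
        (.self (y := z C φ (Fr.v b) r) (h.τ_mem_Y (a := 0) (by simp) hb (zero_mem _) r))
  have kf : ∀ {a : II k}, Ap a b → P.B (Fr.v a) (l • Fr.v b.swap) = 0 := fun hab => by
    rw [P.B_smul_right, Fr.B_ap hab.sr, mul_zero]
  have A3 := A _ (add_mem ma mc) _ κ₃ r hp₃
  obtain rfl : r = r₂ := h.dhb_uniq (Fr.B_swap b) hb hb' A3 (by
    rw [← e3, e4]; exact A _ (add_mem ma mc) _ _ _ hp₄)
  have X2 := h.x_sq (kf hab)
  have cX : Commute (x C φ (Fr.v a) (l • Fr.v b.swap)) (x C φ (Fr.v c) (l • Fr.v b.swap)) :=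
    h.dhb_cm (kf hab) (kf hcb) kac (kf hab) (by rw [h.B_comm, kf hcb]) (h.B_self _) _ _
  obtain rfl : r = 0 := h.dhb_uniq (Fr.B_swap b) hb hb' A3 (by
    have := (((xA _ ma _ hb' l).mul hn h.R_le_Y (A _ mc _ κ₂ r hp₂)).mul hn h.R_le_Y
      (xA _ ma _ hb' l)).mul hn h.R_le_Y (A _ ma _ κ r hp)
    rw [one_mul, mul_one, h.z_sq, ← e1, ← e2] at this
    rw [← e3, h.z_zero, h.x_symm (by rw [P.B_add_left, kf hab, kf hcb, add_zero]),
      h.x_add (by rw [h.B_comm, kf hab]) (by rw [h.B_comm, kf hcb]) kac, ← h.x_symm (kf hab),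
      ← h.x_symm (kf hcb)]
    convert this using 1
    nth_rw 2 [cX.eq]
    generalize x C φ (Fr.v a) (l • Fr.v b.swap) = X at X2 ⊢
    rw [mul_assoc _ X, ← mul_assoc X (X * p' * X), ← mul_assoc X (X * p'), ← mul_assoc X X, X2]
    group)
  rw [h.z_zero, mul_one] at e1
  have kb : P.B (Fr.v a) (κ • Fr.v b) = 0 := by rw [P.B_smul_right, Fr.B_ap hab, mul_zero]
  have c1 : Commute p (x C φ (Fr.v a) (κ • Fr.v b)) := hp.dhb_τ h.toEmb kb 0
  have c2 : Commute (x C φ (Fr.v a) (l • Fr.v b.swap)) (p * x C φ (Fr.v a) (κ • Fr.v b)) :=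
    (hp.dhb_τ h.toEmb (kf hab) 0).symm.mul_right (h.τ_comm (kf hab) kb 0 0)
  refine ⟨p, κ, ⟨hp, ?_, ?_⟩, e1⟩
  · have nY := h.pd_nY (h.hp_ne (Fr.B_swap b)) hp'
    have co := (CO.of_mem (t := t) (⟨_, rfl⟩ : x C φ (Fr.v a) (l • Fr.v b.swap) ∈ φ.range)).mul
      (h.co_conj (h.ti_pt (Fr.v b)) (g := p') (mem_normalizer_fintype fun g hg => ?_)
        (⟨_, rfl⟩ : x C φ (Fr.v a) (l • Fr.v b.swap) ∈ φ.range))
    · rw [← mul_assoc, ← mul_assoc, e1] at co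
      simpa only [mul_inv_cancel_right] using co.mul (CO.of_mem (inv_mem
        (⟨_, rfl⟩ : x C φ (Fr.v a) (κ • Fr.v b) ∈ φ.range)))
    rcases (h.mem_sup_t h.Y_le_L).1 hg with hg | hg
    · exact mem_sup_left ((mem_normalizer_iff.1 nY _).1 hg)
    · have := mul_mem (inv_mem (mul_mem (mem_sup_right (mem_zpowers t)) (mem_sup_left
        (h.τ_mem_Y (a := 0) (by simp) (h.dhb_pp.2 (h.B_self _)) (zero_mem _) (σ * σ)))))
        (mem_sup_left (T := zpowers t) ((mem_normalizer_iff.1 nY _).1 hg))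
      rwa [show t * τ C φ (Fr.v b) 0 (σ * σ) = _ from hp'.pt.symm, ← conj_mul, inv_mul_cancel_left] at this
  · have : p * x C φ (Fr.v a) (κ • Fr.v b) * (p * x C φ (Fr.v a) (κ • Fr.v b)) = 1 := by
      nth_rw 1 [← mul_inv_cancel_right (p * _) (x C φ (Fr.v a) (l • Fr.v b.swap)), ← c2.eq]
      rw [← e1]
      generalize x C φ (Fr.v a) (l • Fr.v b.swap) = X at X2 ⊢
      rw [← mul_assoc, ← mul_assoc, ← mul_assoc X, ← mul_assoc X, ← mul_assoc X, X2]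
      calc _ = p' * (X * X) * p'⁻¹ := by group
        _ = 1 := by rw [X2, mul_one, mul_inv_cancel]
    rwa [c1.symm.mul_mul_mul_comm, h.x_sq kb, mul_one] at this

end MD

end CfsgLib.SPC
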