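import Cfsg.Agent.Lib.SPC.DhB

/-! Type D: the frame family -/

set_option autoImplicit false
set_option linter.unusedSectionVars false

namespace CfsgLib.SPC

open Subgroup Module CfsgLib.Forms CfsgLib.LieMult
open CfsgLib.HX (Std CO Two Mv M2)
open CfsgLib.UN (AV SI TI HH Rad Stb Yg Rg Eg Act nu)
open CfsgLib.ClSys (II)
open Submodule (span)
open scoped commutatorElement Pointwise

universe u

variable {F : Type} [Field F] [Finite F] {V : Type} [AddCommGroup V] [Module F V]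
  [FiniteDimensional F V] {P : PQ (RingHom.id F) V} {S : Type} [Group S] [Finite S] {G : Type u}
  [Group G] [Finite G] {C : CG P S} {φ : S →* G} {t : G}

theorem dc_odd {g y : G} (ho : Odd (orderOf g)) (hc : Commute (g * g) y) : Commute g y := by
  obtain ⟨m, hm⟩ := ho
  have : g = (g * g) ^ (m + 1) := by
    rw [← pow_two, ← pow_mul, show 2 * (m + 1) = orderOf g + 1 by omega, pow_succ, pow_orderOf_eq_one, one_mul]
  rw [this]
  exact hc.pow_left _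

theorem dc_cj (g w : G) : (MulAut.conj g).toMonoidHom w = g * w * g⁻¹ := rfl

theorem dc_calc {α β : G →* G} {y y' za zb : G} {A : F → G} {δ δ' c μ : F}
    (AA : ∀ κ κ', A κ * A κ' = A (κ + κ')) (c1 : ∀ κ, Commute (A κ) y) (c2 : ∀ κ, Commute (A κ) y')
    (c3 : ∀ κ, Commute (A κ) za) (c4 : ∀ κ, Commute (A κ) zb) (c5 : Commute y zb) (c6 : Commute za zb)
    (yy : y * y = 1) (yy' : y' * y' = 1) (yz : y * za * y = za * A μ)
    (a1 : α y = y' * A δ * y) (a2 : α y' = y') (a3 : α zb = zb * za * A c) (a4 : ∀ κ, α (A κ) = A κ)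
    (b1 : β y' = y * zb * A δ' * y') (b2 : β y = y) (b3 : ∀ κ, β (A κ) = A κ) :
    α (β (α y)) = y' * (za * A (μ + (δ + (c + (δ + (δ' + δ))))) * zb) := by
  have m1 : ∀ κ w, A κ * (y * w) = y * (A κ * w) := fun κ w => (c1 κ).left_comm w
  have m2 : ∀ κ w, A κ * (y' * w) = y' * (A κ * w) := fun κ w => (c2 κ).left_comm w
  have m3 : ∀ κ w, A κ * (za * w) = za * (A κ * w) := fun κ w => (c3 κ).left_comm w
  have m4 : ∀ κ w, A κ * (zb * w) = zb * (A κ * w) := fun κ w => (c4 κ).left_comm w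
  have m5 : ∀ w, y' * (y' * w) = w := fun w => by rw [← mul_assoc, yy', one_mul]
  have m6 : ∀ w, y * (zb * (za * (y * w))) = za * (zb * (A μ * w)) := fun w => by
    calc y * (zb * (za * (y * w))) = (y * zb) * (za * (y * w)) := by group
      _ = zb * (y * za * y) * w := by rw [c5.eq]; group
      _ = (zb * za) * (A μ * w) := by rw [yz]; group
      _ = _ := by rw [← c6.eq]; group
  have m7 : ∀ κ, A κ * y = y * A κ := fun κ => (c1 κ).eq
  rw [a1]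
  simp only [map_mul, b1, b2, b3, a1, a2, a3, a4, mul_assoc, m1, m2, m3, m4, m5, m7, AA, m6]
  rw [(c4 _).eq]

section
variable (C φ) {k : ℕ} (Fr : Frame P k)

/-- the Weyl element interchanging `a` and `b` -/
def dcN (a b : II k) : S :=
  C.T (Fr.v a) (Fr.v b.swap) 0 * C.T (Fr.v b) (Fr.v a.swap) 0 * C.T (Fr.v a) (Fr.v b.swap) 0

/-- the basic relation -/
def dcR (a b : II k) (y y' : G) (δ : F) : Prop :=
  x C φ (Fr.v a) (Fr.v b.swap) * y * x C φ (Fr.v a) (Fr.v b.swap) * y = y' * x C φ (Fr.v a) (δ • Fr.v b)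

/-- consistency -/
def dcC (a b : II k) (y' y : G) : Prop := y' = φ (dcN C Fr a b) * y * (φ (dcN C Fr a b))⁻¹

end

namespace Mod

variable (h : Mod C) {k : ℕ} (Fr : Frame P k) {a b c : II k}
include h

theorem dc_ne (a : II k) : Fr.v a ≠ 0 := h.hp_ne (Fr.B_swap a)

theorem dc_ln (hab : Ap a b) : Ln P (Fr.v a) (Fr.v b) := by
  refine ⟨h.dc_ne Fr a, fun hm => ?_, Fr.B_ap hab⟩
  obtain ⟨c, hc⟩ := Submodule.mem_span_singleton.1 hm
  have := Fr.B_swap' b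
  rw [← hc, map_smul, Fr.B_ap hab.symm.sl, smul_zero] at this
  exact zero_ne_one this

include Fr in
theorem dc_three : 3 ≤ k := by
  have h1 : (⊤ : Submodule F V) ≤ span F (Set.range Fr.v) := fun v _ => by
    rw [h.g2_decomp Fr v]
    exact Submodule.sum_mem _ fun b _ => Submodule.smul_mem _ _ (Submodule.subset_span ⟨b, rfl⟩)
  have h2 := Submodule.finrank_mono h1
  have h3 : finrank F (span F (Set.range Fr.v)) ≤ Fintype.card (II k) := finrank_range_le_card Fr.v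
  rw [finrank_top] at h2
  have h4 := h.d6
  simp only [Fintype.card_sum, Fintype.card_fin] at h3
  omega

theorem dc_x1 (hab : Ap a b) : C.act (C.T (Fr.v a) (Fr.v b.swap) 0) (Fr.v b) = Fr.v b + Fr.v a := by
  rw [h.x_app (Fr.B_ap hab.sr), Fr.B_swap', Fr.B_ap hab]; simp

theorem dc_x2 (hab : Ap a b) : C.act (C.T (Fr.v a) (Fr.v b.swap) 0) (Fr.v a) = Fr.v a := by
  rw [h.x_app (Fr.B_ap hab.sr), Fr.B_self, Fr.B_ap hab.symm.sl]; simp

theorem dc_x3 (hab : Ap a b) :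
    C.act (C.T (Fr.v a) (Fr.v b.swap) 0) (Fr.v a.swap) = Fr.v a.swap + Fr.v b.swap := by
  rw [h.x_app (Fr.B_ap hab.sr), Fr.B_swap, Fr.B_ap hab.symm.sl.sr]; simp

theorem dc_x4 (hab : Ap a b) : C.act (C.T (Fr.v a) (Fr.v b.swap) 0) (Fr.v b.swap) = Fr.v b.swap := by
  rw [h.x_app (Fr.B_ap hab.sr), Fr.B_self, Fr.B_ap hab.sr]; simp

theorem dc_x5 (hab : Ap a b) (hca : Ap c a) (hcb : Ap c b) :
    C.act (C.T (Fr.v a) (Fr.v b.swap) 0) (Fr.v c) = Fr.v c := by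
  rw [h.x_app (Fr.B_ap hab.sr), Fr.B_ap hca.symm, Fr.B_ap hcb.symm.sl]; simp

theorem dc_n1 (hab : Ap a b) : C.act (dcN C Fr a b) (Fr.v b) = Fr.v a := by
  rw [dcN, C.mul_apply, C.mul_apply, h.dc_x1 Fr hab, map_add, h.dc_x1 Fr hab.symm, h.dc_x2 Fr hab.symm,
    show Fr.v b + (Fr.v a + Fr.v b) = Fr.v a + (Fr.v b + Fr.v b) by abel, h.vadd_self, add_zero, h.dc_x2 Fr hab]

theorem dc_n2 (hab : Ap a b) : C.act (dcN C Fr a b) (Fr.v a) = Fr.v b := by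
  rw [dcN, C.mul_apply, C.mul_apply, h.dc_x2 Fr hab, h.dc_x1 Fr hab.symm, map_add, h.dc_x2 Fr hab, h.dc_x1 Fr hab,
    show Fr.v a + (Fr.v b + Fr.v a) = Fr.v b + (Fr.v a + Fr.v a) by abel, h.vadd_self, add_zero]

theorem dc_n3 (hab : Ap a b) : C.act (dcN C Fr a b) (Fr.v b.swap) = Fr.v a.swap := by
  rw [dcN, C.mul_apply, C.mul_apply, h.dc_x4 Fr hab, h.dc_x3 Fr hab.symm, map_add, h.dc_x4 Fr hab, h.dc_x3 Fr hab,
    show Fr.v b.swap + (Fr.v a.swap + Fr.v b.swap) = Fr.v a.swap + (Fr.v b.swap + Fr.v b.swap) by abel,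
    h.vadd_self, add_zero]

theorem dc_n5 (hab : Ap a b) (hca : Ap c a) (hcb : Ap c b) : C.act (dcN C Fr a b) (Fr.v c) = Fr.v c := by
  rw [dcN, C.mul_apply, C.mul_apply, h.dc_x5 Fr hab hca hcb, h.dc_x5 Fr hab.symm hcb hca, h.dc_x5 Fr hab hca hcb]

theorem dc_nsq (hab : Ap a b) : dcN C Fr a b * dcN C Fr a b = 1 := by
  have e1 := h.T_sq (Fr.B_ap hab.sr) 0
  have e2 := h.T_sq (Fr.B_ap hab.symm.sr) 0
  rw [dcN]
  generalize C.T (Fr.v a) (Fr.v b.swap) 0 = X at e1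
  generalize C.T (Fr.v b) (Fr.v a.swap) 0 = W at e2
  calc X * W * X * (X * W * X) = X * (W * (X * X) * W) * X := by group
    _ = 1 := by rw [e1, mul_one, e2, mul_one, e1]

theorem dc_tri (hab : Ap a b) (hac : Ap a c) (hbc : Ap b c) :
    dcN C Fr a b * dcN C Fr b c * (dcN C Fr a b)⁻¹ = dcN C Fr a c := by
  have e1 := h.T_conj (dcN C Fr a b) (Fr.B_ap hbc.sr) 0
  have e2 := h.T_conj (dcN C Fr a b) (Fr.B_ap hbc.symm.sr) 0
  rw [h.dc_n1 Fr hab, h.dc_n5 Fr hab hac.symm.sl hbc.symm.sl] at e1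
  rw [h.dc_n3 Fr hab, h.dc_n5 Fr hab hac.symm hbc.symm] at e2
  rw [dcN.eq_1 C Fr b c, dcN.eq_1 C Fr a c, ← e1, ← e2]
  group

theorem dc_Q {Q : V → F} (hQ : QF P Q) (hv : ∀ a, Q (Fr.v a) = 0) (hab : Ap a b) (v : V) :
    Q (C.act (dcN C Fr a b) v) = Q v := by
  rw [dcN, C.mul_apply, C.mul_apply, QF.x_act h hQ (Fr.B_ap hab.sr) (hv _) (hv _),
    QF.x_act h hQ (Fr.B_ap hab.symm.sr) (hv _) (hv _), QF.x_act h hQ (Fr.B_ap hab.sr) (hv _) (hv _)]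

theorem dc_diag {Q : V → F} (hQ : QF P Q) (hv : ∀ a, Q (Fr.v a) = 0) (a : II k) (l : F) :
    ∃ s, l ≠ 0 → Odd (orderOf s) ∧ C.act s (Fr.v a) = l • Fr.v a ∧ C.act s (Fr.v a.swap) = l⁻¹ • Fr.v a.swap ∧
      (∀ b, Ap b a → C.act s (Fr.v b) = Fr.v b) ∧ ∀ v, Q (C.act s v) = Q v := by
  by_cases h0 : l = 0
  · exact ⟨1, fun h1 => absurd h0 h1⟩
  obtain ⟨s, so, s1, s2, s3⟩ := h.exists_diag1 (Fr.B_swap a) h0
  refine ⟨s, fun _ => ⟨so, s1, s2, fun b hb => s3 _ (Fr.B_ap hb.symm) (Fr.B_ap hb.symm.sl), fun v => ?_⟩⟩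
  obtain ⟨w, w1, w2, hw⟩ := h.hp_decomp (Fr.B_swap a) v
  have key : ∀ p q : F, Q (w + p • Fr.v a + q • Fr.v a.swap) = Q w + p * q := by
    intro p q
    rw [hQ.add, hQ.add, hQ.smul, hQ.smul, hv, hv, map_smul, map_smul, map_add, LinearMap.add_apply,
      h.B_smul_left, Fr.B_swap, h.B_comm w, h.B_comm w, w1, w2]
    simp [mul_comm]
  generalize P.B (Fr.v a.swap) v = p at hw
  generalize P.B (Fr.v a) v = q at hw
  rw [hw, map_add, map_add, map_smul, map_smul, s1, s2, s3 w w1 w2, smul_smul, smul_smul, key, key]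
  congr 1
  field_simp

end Mod

namespace MD

variable {Q : V → F} (h : MD C φ t Q) {k : ℕ} {Fr : Frame P k} (hv : ∀ a, Q (Fr.v a) = 0)
include h

theorem dc_cq {e w : V} {σ : F} {p : G} (hp : PD C φ t Q e σ p) (h0 : e ≠ 0) (k : P.B e w = 0) (c : F) :
    Commute p (τ C φ e w c) :=
  (mem_centralizer_iff.1 hp.cQ _ ((h.mem_Q h0).2 ⟨w, c, k, rfl⟩)).symm

theorem dc_cx {e w : V} {σ : F} {p : G} (hp : PD C φ t Q e σ p) (h0 : e ≠ 0) (k : P.B e w = 0) :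
    Commute p (x C φ e w) := h.dc_cq hp h0 k 0

theorem dc_cz {e : V} {σ : F} {p : G} (hp : PD C φ t Q e σ p) (h0 : e ≠ 0) (c : F) :
    Commute p (z C φ e c) := h.dc_cq hp h0 (map_zero _) c

theorem dc_B {a b : II k} (hab : Ap a b) (l : F) : P.B (Fr.v a) (l • Fr.v b) = 0 := by
  rw [map_smul, Fr.B_ap hab, smul_zero]

theorem dc_A {a b : II k} (hab : Ap a b) (l : F) :
    x C φ (Fr.v b) (l • Fr.v a) = x C φ (Fr.v a) (l • Fr.v b) := by
  rw [← h.x_smul (Fr.B_ap hab.symm), h.x_symm (by rw [h.B_comm]; exact h.dc_B hab l)]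

theorem dc_AA {a b : II k} (hab : Ap a b) (l m : F) :
    x C φ (Fr.v a) (l • Fr.v b) * x C φ (Fr.v a) (m • Fr.v b) = x C φ (Fr.v a) ((l + m) • Fr.v b) := by
  rw [add_smul, h.x_add (h.dc_B hab l) (h.dc_B hab m)]
  rw [h.B_smul_left, map_smul, Fr.B_self]; simp

include hv

theorem three (a b : II k) (hab : Ap a b) : ∃ c, Ap c a ∧ Ap c b := exists_ap2 (h.dc_three Fr) a b

theorem dc_comm {a b c : II k} (hab : Ap a b) (hac : Ap a c) (hbc : Ap b c) {σ : F} {y : G}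
    (hy : PD C φ t Q (Fr.v a) σ y) (l : F) : Commute (x C φ (Fr.v c) (l • Fr.v b.swap)) y := by
  have := h.pd_x hy (Fr.B_ap hac) (h.dc_B hab.sr l) (h.dc_B hbc.symm.sr l) (r := 0) (s := 0)
    (by rw [hv, mul_zero]) (by rw [h.qf.smul, hv, mul_zero, mul_zero])
  rw [zero_smul, zero_smul, add_zero, smul_zero, h.x_zero, mul_one] at this
  exact (mul_inv_eq_iff_eq_mul.1 this).symm

/-- **(F)** -/
theorem jd_comm {a b c : II k} (hab : Ap a b) (hac : Ap a c) (hbc : Ap b c) {σ : F} (hσ : σ ≠ 0) {y : G}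
    (hy : JD C φ t Q (Fr.v a) σ y) (l : F) : Commute (x C φ (Fr.v c) (l • Fr.v b.swap)) y :=
  h.dc_comm hv hab hac hbc hy.toPD l

theorem dc_ncomm {a b c : II k} (hab : Ap a b) (hac : Ap a c) (hbc : Ap b c) {σ : F} {y : G}
    (hy : PD C φ t Q (Fr.v c) σ y) : Commute (φ (dcN C Fr a b)) y := by
  have e1 := h.dc_comm hv hbc.symm hac.symm hab.symm hy 1
  have e2 := h.dc_comm hv hac.symm hbc.symm hab hy 1
  rw [one_smul] at e1 e2
  rw [dcN, map_mul, map_mul]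
  exact (e1.mul_left e2).mul_left e1

theorem dc_ex {a b : II k} (hab : Ap a b) {y : G} (hy : JD C φ t Q (Fr.v b) 1 y) :
    ∃ y' δ, JD C φ t Q (Fr.v a) 1 y' ∧ dcR C φ Fr a b y y' δ := by
  obtain ⟨p, κ, hp, e⟩ := h.n_jd Fr hv hab hy.toPD 1
  rw [one_smul, inv_eq_of_mul_eq_one_right hy.sq] at e
  rw [mul_one] at hp
  exact ⟨p, κ, hp, e⟩

theorem dc_uniq {a b : II k} (hab : Ap a b) {y y₁ y₂ : G} {δ₁ δ₂ : F} (h1 : JD C φ t Q (Fr.v a) 1 y₁)
    (h2 : JD C φ t Q (Fr.v a) 1 y₂) (r1 : dcR C φ Fr a b y y₁ δ₁) (r2 : dcR C φ Fr a b y y₂ δ₂) :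
    y₁ = y₂ ∧ δ₁ = δ₂ := by
  obtain ⟨r, rfl⟩ := h.jd_uniq (h.dc_ne Fr a) one_ne_zero h1 h2
  have e := r1.symm.trans r2
  rw [mul_assoc, mul_right_inj] at e
  have := h.line_inj (h.dc_ln Fr hab) (r := 0) (v := δ₁) (r' := 0) (s := r) (u := δ₂) (s' := 0)
    (by rw [h.z_zero, h.z_zero, one_mul, mul_one, mul_one, e])
  rw [← this.1, h.z_zero, mul_one]
  exact ⟨rfl, this.2.1⟩

theorem dc_jn {a b : II k} (hab : Ap a b) {σ : F} {y : G} (hy : JD C φ t Q (Fr.v b) σ y) :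
    JD C φ t Q (Fr.v a) σ (φ (dcN C Fr a b) * y * (φ (dcN C Fr a b))⁻¹) := by
  have := h.jd_conj hy (h.dc_Q Fr h.qf hv hab)
  rwa [h.dc_n1 Fr hab] at this

theorem dc_E {a b : II k} (hab : Ap a b) {y y' : G} {δ : F} (hy : JD C φ t Q (Fr.v b) 1 y)
    (hy' : JD C φ t Q (Fr.v a) 1 y') (r1 : dcR C φ Fr a b y y' δ) :
    dcC C φ Fr a b y' y ∧ dcR C φ Fr b a y' y δ := by
  obtain ⟨y'', δ', hy'', r2⟩ := h.dc_ex hv hab.symm hy'
  obtain ⟨c, rfl⟩ := h.jd_uniq (h.dc_ne Fr b) one_ne_zero hy hy''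
  obtain ⟨μ, rfl⟩ := h.exists_sqrt c
  obtain ⟨r, hr⟩ := h.jd_uniq (h.dc_ne Fr a) one_ne_zero hy' (h.dc_jn hv hab hy)
  have na := h.dc_ne Fr a
  have nb := h.dc_ne Fr b
  have XX := h.x_sq (Fr.B_ap hab.sr)
  have WW := h.x_sq (Fr.B_ap hab.symm.sr)
  have Xi := inv_eq_of_mul_eq_one_right XX
  have Wi := inv_eq_of_mul_eq_one_right WW
  have key := dc_calc (α := (MulAut.conj (x C φ (Fr.v a) (Fr.v b.swap))).toMonoidHom)
    (β := (MulAut.conj (x C φ (Fr.v b) (Fr.v a.swap))).toMonoidHom) (y := y) (y' := y')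
    (za := z C φ (Fr.v a) (μ * μ)) (zb := z C φ (Fr.v b) (μ * μ)) (A := fun κ => x C φ (Fr.v a) (κ • Fr.v b))
    (δ := δ) (δ' := δ') (c := μ * μ) (μ := μ) (h.dc_AA hab)
    (fun κ => by
      rw [← h.dc_A hab]; exact (h.dc_cx hy.toPD nb (h.dc_B hab.symm κ)).symm)
    (fun κ => (h.dc_cx hy'.toPD na (h.dc_B hab κ)).symm)
    (fun κ => h.τ_comm (h.dc_B hab κ) (map_zero _) 0 _)
    (fun κ => by
      rw [← h.dc_A hab]; exact h.τ_comm (h.dc_B hab.symm κ) (map_zero _) 0 _)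
    (h.dc_cz hy.toPD nb _) (h.z_comm (Fr.B_ap hab) _ _) hy.sq hy'.sq
    (by
      have := hy.yz (μ • Fr.v a) 0 (h.dc_B hab.symm μ) (by rw [h.qf.smul, hv, mul_zero, mul_zero])
      rw [h.z_smul, mul_one, inv_eq_of_mul_eq_one_right hy.sq, add_zero, mul_one, one_smul, mul_zero, mul_zero] at this
      rw [this, ← h.dc_A hab]; rfl)
    (by
      rw [dc_cj]
      rw [Xi, ← r1, mul_assoc _ y y, hy.sq, mul_one])
    (by
      rw [dc_cj]
      rw [← (h.dc_cx hy'.toPD na (Fr.B_ap hab.sr)).eq, mul_inv_cancel_right])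
    (by
      rw [dc_cj]
      have := h.z_conj (C.T (Fr.v a) (Fr.v b.swap) 0) (Fr.v b) (μ * μ)
      rw [h.dc_x1 Fr hab, h.z_line (Fr.B_ap hab.symm), h.dc_A hab] at this
      exact this)
    (fun κ => by
      rw [dc_cj]
      have : Commute (x C φ (Fr.v a) (Fr.v b.swap)) (x C φ (Fr.v a) (κ • Fr.v b)) :=
        h.τ_comm (Fr.B_ap hab.sr) (h.dc_B hab κ) 0 0
      rw [this.eq, mul_inv_cancel_right])
    (by
      rw [dc_cj]
      rw [Wi, ← h.dc_A hab, ← r2, mul_assoc _ y' y', hy'.sq, mul_one])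
    (by
      rw [dc_cj]
      rw [← (h.dc_cx hy.toPD nb (Fr.B_ap hab.symm.sr)).eq, mul_inv_cancel_right])
    (fun κ => by
      rw [dc_cj]
      have : Commute (x C φ (Fr.v b) (Fr.v a.swap)) (x C φ (Fr.v b) (κ • Fr.v a)) :=
        h.τ_comm (Fr.B_ap hab.symm.sr) (h.dc_B hab.symm κ) 0 0
      rw [← h.dc_A hab, this.eq, mul_inv_cancel_right])
  have e1 : φ (dcN C Fr a b) * y * (φ (dcN C Fr a b))⁻¹ = y' * (z C φ (Fr.v a) (μ * μ) *
      x C φ (Fr.v a) ((μ + (δ + (μ * μ + (δ + (δ' + δ))))) • Fr.v b) * z C φ (Fr.v b) (μ * μ)) := by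
    rw [← key, dcN, map_mul, map_mul]
    simp only [dc_cj, x]
    group
  rw [hr, mul_right_inj] at e1
  obtain ⟨e2, e3, e4⟩ := h.line_inj (h.dc_ln Fr hab) (r := r) (v := 0) (r' := 0)
    (Eq.trans (by rw [zero_smul, h.x_zero, h.z_zero, mul_one, mul_one]) e1)
  have m0 : μ = 0 := mul_self_eq_zero.1 e4.symm
  subst m0
  have dd : δ = δ' := h.eq_of_add (by linear_combination -e3 - h.add_self δ)
  subst dd
  rw [mul_zero, h.z_zero, mul_one] at r2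
  refine ⟨?_, r2⟩
  rw [dcC, hr, e2, mul_zero, h.z_zero, mul_one]

theorem dc_R {a b : II k} (hab : Ap a b) {y y' : G} (hy : JD C φ t Q (Fr.v b) 1 y)
    (c : dcC C φ Fr a b y' y) : ∃ δ, dcR C φ Fr a b y y' δ := by
  obtain ⟨y₁, δ, h1, r⟩ := h.dc_ex hv hab hy
  have := (h.dc_E hv hab hy h1 r).1
  exact ⟨δ, by rw [c, ← this]; exact r⟩

theorem dc_S {a b : II k} (hab : Ap a b) {y y' : G} (hy : JD C φ t Q (Fr.v b) 1 y)
    (hy' : JD C φ t Q (Fr.v a) 1 y') (c : dcC C φ Fr a b y' y) : dcC C φ Fr b a y y' := by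
  obtain ⟨δ, r⟩ := h.dc_R hv hab hy c
  exact (h.dc_E hv hab.symm hy' hy (h.dc_E hv hab hy hy' r).2).1

theorem dc_T {a b c : II k} (hab : Ap a b) (hac : Ap a c) (hbc : Ap b c) {ya yb yc : G}
    (hy : JD C φ t Q (Fr.v c) 1 yc) (c1 : dcC C φ Fr a b ya yb) (c2 : dcC C φ Fr b c yb yc) :
    dcC C φ Fr a c ya yc := by
  have e := (h.dc_ncomm hv hab hac hbc hy.toPD).inv_left.eq
  rw [dcC, c1, c2, ← h.dc_tri Fr hab hac hbc, map_mul, map_mul, map_inv]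
  generalize φ (dcN C Fr a b) = n at e
  calc _ = n * φ (dcN C Fr b c) * (yc * n⁻¹) * n * (φ (dcN C Fr b c))⁻¹ * n⁻¹ := by group
    _ = _ := by rw [← e]; group

theorem dc_fam : ∃ y : II k → G, (∀ a, JD C φ t Q (Fr.v a) 1 (y a)) ∧ ∀ a b, Ap a b → dcC C φ Fr a b (y a) (y b) := by
  classical
  have h3 := h.dc_three Fr
  obtain ⟨a₀, -⟩ := exists_ap (m := k) [] (by simp; omega)
  obtain ⟨b₀, hb₀, -⟩ := exists_ap2 h3 a₀ a₀
  obtain ⟨p, hp⟩ := h.pd (Fr.v b₀) 1 (hv _)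
  obtain ⟨y₀, -, hy₀, -⟩ := h.n_jd Fr hv hb₀.symm hp 1
  rw [mul_one] at hy₀
  let y1 : II k → G := fun a => φ (dcN C Fr a a₀) * y₀ * (φ (dcN C Fr a a₀))⁻¹
  let y : II k → G := fun a => if a = a₀ then y₀ else if a = a₀.swap then
    φ (dcN C Fr a₀.swap b₀) * y1 b₀ * (φ (dcN C Fr a₀.swap b₀))⁻¹ else y1 a
  have ns : a₀.swap ≠ a₀ := by rcases a₀ with i | i <;> simp
  have e0 : y a₀ = y₀ := if_pos rfl
  have e1 : ∀ a, Ap a a₀ → y a = y1 a := fun a ha => by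
    simp only [y, if_neg ha.ne, if_neg ha.ne_swap]
  have e2 : y a₀.swap = φ (dcN C Fr a₀.swap b₀) * y b₀ * (φ (dcN C Fr a₀.swap b₀))⁻¹ := by
    rw [e1 b₀ hb₀]; simp only [y, if_neg ns, if_true]
  have J1 : ∀ a, Ap a a₀ → JD C φ t Q (Fr.v a) 1 (y a) := fun a ha => by
    rw [e1 a ha]; exact h.dc_jn hv ha hy₀
  have J : ∀ a, JD C φ t Q (Fr.v a) 1 (y a) := by
    intro a
    rcases ap_cases a₀ a with (rfl | rfl) | ha
    · rw [e0]; exact hy₀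
    · rw [e2]; exact h.dc_jn hv hb₀.symm.sl (J1 b₀ hb₀)
    · exact J1 a ha
  have c1 : ∀ a, Ap a a₀ → dcC C φ Fr a a₀ (y a) (y a₀) := fun a ha => by rw [dcC, e0, e1 a ha]
  have c3 : ∀ a b, Ap a a₀ → Ap b a₀ → Ap a b → dcC C φ Fr a b (y a) (y b) := fun a b ha hb hab =>
    h.dc_T hv ha hab hb.symm (J b) (c1 a ha) (h.dc_S hv hb (J _) (J _) (c1 b hb))
  have c4 : ∀ b, Ap b a₀ → Ap b b₀ → dcC C φ Fr a₀.swap b (y a₀.swap) (y b) := fun b hb hb' =>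
    h.dc_T hv hb₀.symm.sl hb.symm.sl hb'.symm (J b) e2 (c3 b₀ b hb₀ hb hb'.symm)
  have c5 : ∀ b, Ap b a₀ → dcC C φ Fr a₀.swap b (y a₀.swap) (y b) := by
    intro b hb
    rcases ap_cases b₀ b with (rfl | rfl) | hb'
    · exact e2
    · obtain ⟨d, d1, d2⟩ := exists_ap2 h3 a₀ b₀
      exact h.dc_T hv d1.symm.sl hb.symm.sl d2.sr (J _) (c4 d d1 d2) (c3 d _ d1 hb d2.sr)
    · exact c4 b hb hb'
  refine ⟨y, J, fun a b hab => ?_⟩
  rcases ap_cases a₀ a with (rfl | rfl) | ha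
  · exact h.dc_S hv hab.symm (J _) (J _) (c1 b hab.symm)
  · exact c5 b (by simpa using hab.symm.sr)
  · rcases ap_cases a₀ b with (rfl | rfl) | hb
    · exact c1 a ha
    · exact h.dc_S hv hab.symm (J _) (J _) (c5 a ha)
    · exact c3 a b ha hb hab

/-- a consistent family for `σ = 1` -/
theorem family : ∃ (y : II k → G) (δ : F), (∀ a, JD C φ t Q (Fr.v a) 1 (y a)) ∧ ∀ a b, Ap a b →
    x C φ (Fr.v a) (Fr.v b.swap) * y b * x C φ (Fr.v a) (Fr.v b.swap) * y b =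
      y a * x C φ (Fr.v a) (δ • Fr.v b) := by
  obtain ⟨y, J, c⟩ := h.dc_fam hv
  have h3 := h.dc_three Fr
  obtain ⟨a₀, -⟩ := exists_ap (m := k) [] (by simp; omega)
  obtain ⟨b₀, hb₀, -⟩ := exists_ap2 h3 a₀ a₀
  obtain ⟨δ, r₀⟩ := h.dc_R hv hb₀.symm (J b₀) (c _ _ hb₀.symm)
  have s1 : ∀ a b, Ap a b → dcR C φ Fr a b (y b) (y a) δ → dcR C φ Fr b a (y a) (y b) δ := fun a b hab r =>
    (h.dc_E hv hab (J b) (J a) r).2
  have s2 : ∀ a b d, Ap a b → Ap d a → Ap d b → dcR C φ Fr a b (y b) (y a) δ → dcR C φ Fr d b (y b) (y d) δ := by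
    intro a b d hab hda hdb r
    have e1 := h.x_conj (dcN C Fr d a) (Fr.B_ap hab.sr)
    have e2 := h.x_conj (dcN C Fr d a) (h.dc_B (Fr := Fr) hab δ)
    rw [h.dc_n1 Fr hda, h.dc_n5 Fr hda hdb.symm.sl hab.symm.sl] at e1
    rw [h.dc_n1 Fr hda, map_smul, h.dc_n5 Fr hda hdb.symm hab.symm] at e2
    have e3 := (h.dc_ncomm hv hda hdb hab (J b).toPD).eq
    rw [dcR, ← e1, ← e2, c d a hda]
    rw [dcR] at r
    generalize φ (dcN C Fr d a) = n at e3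
    have e4 : y b = n * y b * n⁻¹ := by rw [e3, mul_inv_cancel_right]
    calc _ = n * x C φ (Fr.v a) (Fr.v b.swap) * n⁻¹ * (n * y b * n⁻¹) * (n * x C φ (Fr.v a) (Fr.v b.swap) * n⁻¹) *
          (n * y b * n⁻¹) := by rw [← e4]
      _ = n * (x C φ (Fr.v a) (Fr.v b.swap) * y b * x C φ (Fr.v a) (Fr.v b.swap) * y b) * n⁻¹ := by group
      _ = _ := by rw [r]; group
  have s3 : ∀ a b d, Ap a b → Ap d b → dcR C φ Fr a b (y b) (y a) δ → dcR C φ Fr d b (y b) (y d) δ := by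
    intro a b d hab hdb r
    rcases ap_cases a d with (rfl | rfl) | hda
    · exact r
    · obtain ⟨e, e1, e2⟩ := exists_ap2 h3 a b
      exact s2 e b _ e2 e1.symm.sl hdb (s2 a b e hab e1 e2 r)
    · exact s2 a b d hab hda hdb r
  refine ⟨y, δ, J, fun a b hab => ?_⟩
  obtain ⟨e, e1, e2⟩ := exists_ap2 h3 b₀ a
  exact s1 b a hab.symm (s3 e a b e2 hab.symm (s1 a e e2.symm (s3 b₀ e a e1.symm e2.symm
    (s1 e b₀ e1 (s3 a₀ b₀ e hb₀.symm e1 r₀)))))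

theorem dc_one (e : V) : JD C φ t Q e 0 1 := by
  refine ⟨⟨one_mem _, ?_, fun v r _ _ => ?_⟩, fun o _ _ _ => by rw [one_mul, mul_one], mul_one _⟩
  · rw [mul_zero, h.z_zero]; group
  · rw [zero_mul, zero_mul, zero_mul, zero_smul]
    have : τ C φ e 0 0 = 1 := h.z_zero e
    rw [this]; group

theorem dc_hc {a : II k} {σ : F} {y : G} (hy : JD C φ t Q (Fr.v a) σ y) (hσ : σ ≠ 0) {s : S} (so : Odd (orderOf s))
    (s1 : C.act s (Fr.v a) = Fr.v a) (s2 : ∀ v, Q (C.act s v) = Q v) : φ s * y * (φ s)⁻¹ = y := by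
  have j := h.jd_conj hy s2
  rw [s1] at j
  obtain ⟨r, hr⟩ := h.jd_uniq (h.dc_ne Fr a) hσ hy j
  have e := h.z_conj s (Fr.v a) r
  rw [s1] at e
  have : Commute (φ s) y := by
    apply dc_odd (by rwa [orderOf_injective φ h.inj])
    show φ s * φ s * y = y * (φ s * φ s)
    calc φ s * φ s * y = φ s * (φ s * y * (φ s)⁻¹) * (φ s)⁻¹ * (φ s * φ s) := by group
      _ = (φ s * y * (φ s)⁻¹) * (φ s * z C φ (Fr.v a) r * (φ s)⁻¹) * (φ s * φ s) := by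
        nth_rewrite 1 [hr]; group
      _ = _ := by rw [e, hr, mul_assoc y, h.z_sq, mul_one]
  rw [this.eq, mul_inv_cancel_right]

/-- all `σ` -/
theorem family2 : ∃ (y : II k → F → G) (δ : F), (∀ a σ, JD C φ t Q (Fr.v a) σ (y a σ)) ∧
    (∀ a σ σ', y a (σ + σ') = y a σ * y a σ') ∧ ∀ a b (l σ : F), Ap a b →
      x C φ (Fr.v a) (l • Fr.v b.swap) * y b σ * x C φ (Fr.v a) (l • Fr.v b.swap) * y b σ =
        y a (l * σ) * x C φ (Fr.v a) ((δ * l * σ * σ) • Fr.v b) := by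
  classical
  obtain ⟨y, δ, J, R⟩ := h.family hv
  choose s hs using h.dc_diag Fr h.qf hv
  let Y : II k → F → G := fun a σ => if σ = 0 then 1 else φ (s a σ) * y a * (φ (s a σ))⁻¹
  have Y0 : ∀ a, Y a 0 = 1 := fun a => if_pos rfl
  have Y1 : ∀ a σ, σ ≠ 0 → Y a σ = φ (s a σ) * y a * (φ (s a σ))⁻¹ := fun a σ h0 => if_neg h0
  have JY : ∀ a σ, JD C φ t Q (Fr.v a) σ (Y a σ) := by
    intro a σ
    by_cases h0 : σ = 0
    · rw [h0, Y0]; exact h.dc_one hv _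
    · rw [Y1 a σ h0]
      have j := h.jd_conj (J a) (hs a σ h0).2.2.2.2
      rw [(hs a σ h0).2.1] at j
      have := (h.pd_smul h0).1 j.toPD
      rw [mul_one] at this
      exact ⟨this, j.co, j.sq⟩
  have cj : ∀ (n X X' u u' w w' A A' : G), n * X * n⁻¹ = X' → n * u * n⁻¹ = u' → n * w * n⁻¹ = w' →
      n * A * n⁻¹ = A' → X * u * X * u = w * A → X' * u' * X' * u' = w' * A' := by
    rintro n X _ u _ w _ A _ rfl rfl rfl rfl e
    calc _ = n * (X * u * X * u) * n⁻¹ := by group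
      _ = _ := by rw [e]; group
  have N1 : ∀ a b (l : F), Ap a b → x C φ (Fr.v a) (l • Fr.v b.swap) * y b * x C φ (Fr.v a) (l • Fr.v b.swap) * y b =
      Y a l * x C φ (Fr.v a) ((δ * l) • Fr.v b) := by
    intro a b l hab
    by_cases h0 : l = 0
    · rw [h0, Y0, mul_zero, zero_smul, zero_smul, h.x_zero, one_mul, mul_one, mul_one, (J b).sq]
    obtain ⟨so, s1, -, s3, s4⟩ := hs a l h0
    refine cj (φ (s a l)) _ _ _ _ _ _ _ _ ?_ (h.dc_hc hv (J b) one_ne_zero so (s3 b hab.symm) s4) (Y1 a l h0).symm ?_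
      (R a b hab)
    · rw [h.x_conj _ (Fr.B_ap hab.sr), s1, s3 _ hab.symm.sl, h.x_smul (Fr.B_ap hab.sr)]
    · rw [h.x_conj _ (h.dc_B hab δ), s1, map_smul, s3 _ hab.symm, h.x_smul (h.dc_B hab δ), smul_smul, mul_comm l]
  refine ⟨Y, δ, JY, fun a σ σ' => ?_, fun a b l σ hab => ?_⟩
  · obtain ⟨b, hb, -⟩ := exists_ap2 (h.dc_three Fr) a a
    have hab := hb.symm
    have n1 := N1 a b σ hab
    have n2 := N1 a b σ' hab
    have n3 := N1 a b (σ + σ') hab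
    have na := h.dc_ne Fr a
    have c1 : Commute (x C φ (Fr.v a) (σ' • Fr.v b.swap)) (Y a σ * x C φ (Fr.v a) ((δ * σ) • Fr.v b)) :=
      (h.dc_cx (JY a σ).toPD na (h.dc_B hab.sr σ')).symm.mul_right (h.τ_comm (h.dc_B hab.sr σ') (h.dc_B hab _) 0 0)
    have c2 := (h.dc_cx (JY a σ').toPD na (h.dc_B hab (δ * σ))).eq
    have c3 : Commute (x C φ (Fr.v a) (σ • Fr.v b.swap)) (x C φ (Fr.v a) (σ' • Fr.v b.swap)) :=
      h.τ_comm (h.dc_B hab.sr σ) (h.dc_B hab.sr σ') 0 0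
    have yy := (J b).sq
    rw [← h.dc_AA hab.sr, mul_add, ← h.dc_AA hab] at n3
    rw [← n1] at c1
    apply mul_right_cancel (b := x C φ (Fr.v a) ((δ * σ) • Fr.v b) * x C φ (Fr.v a) ((δ * σ') • Fr.v b))
    rw [← n3]
    generalize x C φ (Fr.v a) (σ • Fr.v b.swap) = X at *
    generalize x C φ (Fr.v a) (σ' • Fr.v b.swap) = X' at *
    calc X * X' * y b * (X * X') * y b = (X * X') * y b * X * (y b * y b) * X' * y b := by rw [yy]; group
      _ = (X' * (X * y b * X * y b)) * y b * X' * y b := by rw [c3.eq]; group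
      _ = (X * y b * X * y b) * (X' * y b * X' * y b) := by rw [c1.eq]; group
      _ = Y a σ * (x C φ (Fr.v a) ((δ * σ) • Fr.v b) * Y a σ') * x C φ (Fr.v a) ((δ * σ') • Fr.v b) := by
        rw [n1, n2]; group
      _ = _ := by rw [← c2]; group
  · by_cases h0 : σ = 0
    · rw [h0, mul_zero, mul_zero, Y0, Y0, zero_smul, h.x_zero, mul_one, mul_one, mul_one, h.x_sq (h.dc_B hab.sr l)]
    obtain ⟨so, s1, s2, s3, s4⟩ := hs b σ h0
    refine cj (φ (s b σ)) _ _ _ _ _ _ _ _ ?_ (Y1 b σ h0).symm ?_ ?_ (N1 a b (l * σ) hab)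
    · rw [h.x_conj _ (h.dc_B hab.sr _), s3 _ hab, map_smul, s2, smul_smul, mul_inv_cancel_right₀ h0]
    · by_cases h1 : l * σ = 0
      · rw [h1, Y0, mul_one, mul_inv_cancel]
      · exact h.dc_hc hv (JY a _) h1 so (s3 a hab) s4
    · rw [h.x_conj _ (h.dc_B hab _), s3 _ hab, map_smul, s1, smul_smul, ← mul_assoc]

end MD

end CfsgLib.SPC
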