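import Cfsg.Agent.Lib.SPC.Max
import Cfsg.Agent.Lib.SPC.Loc

/-! Involutions acting on E(M) -/

set_option autoImplicit false
set_option linter.unusedSectionVars false

namespace CfsgLib.SPC

open Subgroup Module CfsgLib.Forms CfsgLib.LieMult
open CfsgLib.HX (Std CO Two Mv M2)
open CfsgLib.UN (AV SI TI HH Rad Stb Yg Rg Eg Act nu)
open CfsgLib.ClSys (II)
open Submodule (span)
open scoped commutatorElement Pointwise

universe u

variable {F : Type} [Field F] [Finite F] {V : Type} [AddCommGroup V] [Module F V]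
  [FiniteDimensional F V] {P : PQ (RingHom.id F) V} {S : Type} [Group S] [Finite S] {G : Type u}
  [Group G] [Finite G] {C : CG P S} {φ : S →* G} {t : G}

theorem tc_add {A : Type} [AddCommGroup A] (ψ : A → G) (H : ∀ a b, ψ (a + b) = ψ a * ψ b) :
    Nat.card A = Nat.card (Set.range ψ) * Nat.card {a | ψ a = 1} := by
  let f : Multiplicative A →* G := MonoidHom.mk' (fun a => ψ a.toAdd) fun a b => H _ _
  exact (index_mul_card f.ker).symm.trans (by rw [index_ker]; rfl)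

theorem tc_hom {E : Subgroup G} (hE : ∀ a ∈ E, ∀ b ∈ E, a * b = b * a) (h2 : ∀ a ∈ E, a * a = 1) {g : G}
    (hn : ∀ a ∈ E, g * a * g⁻¹ ∈ E) :
    Nat.card E = Nat.card {d | ∃ ε ∈ E, d = g * ε * g⁻¹ * ε} *
      Nat.card (E ⊓ centralizer {g} : Subgroup G) := by
  let f : E →* G := MonoidHom.mk' (fun a => g * a * g⁻¹ * a) fun a b => by
    have := hE _ a.2 _ (hn _ b.2)
    rw [coe_mul]
    calc _ = g * a * g⁻¹ * (g * b * g⁻¹ * a) * b := by group
      _ = _ := by rw [← this]; group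
  have e1 : f.ker = (E ⊓ centralizer {g}).subgroupOf E := by
    ext a
    rw [MonoidHom.mem_ker, mem_subgroupOf, mem_inf, mem_centralizer_singleton_iff]
    change g * a * g⁻¹ * a = 1 ↔ _
    rw [← h2 _ a.2, mul_left_inj, mul_inv_eq_iff_eq_mul, eq_comm]
    exact ⟨fun k => ⟨a.2, k⟩, fun k => k.2⟩
  have e2 : (f.range : Set G) = {d | ∃ ε ∈ E, d = g * ε * g⁻¹ * ε} :=
    Set.ext fun d => ⟨fun ⟨a, k⟩ => ⟨a, a.2, k.symm⟩, fun ⟨a, ha, k⟩ => ⟨⟨a, ha⟩, k.symm⟩⟩
  rw [← index_mul_card f.ker, index_ker, e1, Nat.card_congr (subgroupOfEquivOfLe inf_le_left).toEquiv, ← e2]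
  rfl

namespace Emb

variable (h : Emb C φ) {M : Submodule F V} {k : ℕ}
include h

theorem tc_com (hM : Lag P M) : ∀ a ∈ Eg C φ M, ∀ b ∈ Eg C φ M, a * b = b * a := fun _ ha _ hb =>
  (h.E_cent (h.lag_ti hM) ha _ (h.E_le_Y (h.lag_ti hM) hb)).symm

theorem tc_cardM (hM : Lag P M) (hk : finrank F V = 2 * k) : Nat.card M = Nat.card F ^ k := by
  have := h.lag_rank hM
  rw [Module.natCard_eq_pow_finrank (K := F), show finrank F M = k by omega]

theorem card_tv (hM : Lag P M) (hk : finrank F V = 2 * k) {p f : V} (hp : p ∈ M) (h0 : p ≠ 0)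
    (hf : f ∉ M) (e : P.B p f = 0) : Nat.card (Eg C φ M) =
      Nat.card F ^ (k - 1) * Nat.card (Eg C φ M ⊓ centralizer {x C φ p f} : Subgroup G) := by
  have hT := h.lag_ti hM
  have bm : ∀ {u v : V}, u ∈ M → v ∈ M → P.B u v = 0 := Mod.g2_B hM
  have xi : (x C φ p f)⁻¹ = x C φ p f := h.τ_inv e 0
  have key : ∀ s ∈ C.fixG (P.perp M), x C φ p f * φ s * (x C φ p f)⁻¹ * φ s =
      τ C φ p (nu C s f) (P.B f (nu C s f)) := fun s hs => by
    rw [xi, x, ← map_mul, ← map_mul, ← map_mul, h.comm_tv hM hp e hs, τ]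
  have hn : ∀ a ∈ Eg C φ M, x C φ p f * a * (x C φ p f)⁻¹ ∈ Eg C φ M := by
    rintro _ ⟨s, hs, rfl⟩
    refine (mul_mem_cancel_right (mem_map_of_mem φ hs)).1 ?_
    rw [key s hs]
    exact h.τ_mem_E hT hp (h.E_range hs f) _
  obtain ⟨w, hw, w1⟩ : ∃ w ∈ M, P.B w f = 1 := by
    by_contra! H
    refine hf (Mod.g2_mem hM fun u hu => by_contra fun k => H ((P.B u f)⁻¹ • u) (M.smul_mem _ hu) ?_)
    rw [h.B_smul_left, inv_mul_cancel₀ k]
  let ψ : M → G := fun m => τ C φ p m (P.B f m)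
  have e1 : {d | ∃ ε ∈ Eg C φ M, d = x C φ p f * ε * (x C φ p f)⁻¹ * ε} = Set.range ψ := by
    ext d
    constructor
    · rintro ⟨_, ⟨s, hs, rfl⟩, rfl⟩
      exact ⟨⟨_, h.E_range hs f⟩, (key s hs).symm⟩
    · rintro ⟨m, rfl⟩
      have hs := h.T_mem_E hT hw m.2 (P.B m f)
      refine ⟨_, mem_map_of_mem φ hs, ?_⟩
      have : nu C (C.T w m (P.B m f)) f = m := by
        rw [mx_nu, h.T_app (bm hw m.2), w1, mul_one, h.add_self, zero_smul, one_smul, add_zero, add_sub_cancel_left]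
      rw [key _ hs, this]
  have e2 := tc_add ψ fun a b => by
    simp only [ψ]
    rw [h.τ_mul (bm hp a.2) (bm hp b.2), bm a.2 b.2, add_zero, Submodule.coe_add, map_add]
  have e3 : Nat.card {a | ψ a = 1} = Nat.card F := by
    refine (Nat.card_congr (Equiv.ofBijective (fun c : F => (⟨⟨c • p, M.smul_mem c hp⟩, ?_⟩ : {a | ψ a = 1}))
      ⟨fun c d k => ?_, fun ⟨a, ha⟩ => ?_⟩)).symm
    · exact (h.τ_eq_one h0 (bm hp (M.smul_mem c hp))).2 ⟨Submodule.smul_mem _ _ (Submodule.mem_span_singleton_self p),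
        by rw [map_smul, h.B_comm, e, smul_zero]⟩
    · exact smul_left_injective F h0 (congrArg (fun a => a.1.1) k)
    · obtain ⟨c, hc⟩ := Submodule.mem_span_singleton.1 ((h.τ_eq_one h0 (bm hp a.2)).1 ha).1
      exact ⟨c, Subtype.ext (Subtype.ext hc)⟩
  have k3 : k = k - 1 + 1 := by have := h.d6; omega
  rw [h.tc_cardM hM hk, e3, k3, pow_succ] at e2
  rw [tc_hom (h.tc_com hM) (fun _ => h.E_sq hT) hn, e1, ← Nat.eq_of_mul_eq_mul_right Nat.card_pos e2]

/-- **TC** -/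
theorem tc (hM : Lag P M) (hk : finrank F V = 2 * k) {g : G} (hg : g ∈ normalizer (φ.range : Set G))
    (hn : g ∈ normalizer (Eg C φ M : Set G)) (h2 : g * g ∈ centralizer (Eg C φ M : Set G)) :
    (∃ p ∈ M, ∃ f, P.B p f = 0 ∧ ∀ ε ∈ Eg C φ M, g * ε * g⁻¹ = x C φ p f * ε * x C φ p f) ∨
      Nat.card F ^ k * Nat.card (Eg C φ M ⊓ centralizer {g} : Subgroup G) ≤ Nat.card (Eg C φ M) := by
  have hT := h.lag_ti hM
  have bm : ∀ {u v : V}, u ∈ M → v ∈ M → P.B u v = 0 := Mod.g2_B hM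
  have zm : ∀ u ∈ M, ∀ c, z C φ u c ∈ Eg C φ M := fun u hu c => h.τ_mem_E hT hu M.zero_mem c
  have hn' : ∀ a ∈ Eg C φ M, g * a * g⁻¹ ∈ Eg C φ M := fun a ha => (mem_normalizer_iff.1 hn a).1 ha
  obtain ⟨α, γ, ha⟩ := h.exists_act hg
  by_cases h1 : α = 1
  swap
  · have e1 := h.card_fld hT ha h1 (X := Eg C φ M ⊓ centralizer {g}) inf_le_left inf_le_right
    have e2 : Nat.card F ^ (2 * k) ≤ Nat.card (Eg C φ M) := by
      rw [h.card_EM hk hM]
      refine Nat.pow_le_pow_right Nat.card_pos ((Nat.le_div_iff_mul_le two_pos).2 ?_)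
      have := h.d6
      nlinarith
    refine .inr ((Nat.pow_le_pow_iff_left two_ne_zero).1 ?_)
    rw [mul_pow, ← pow_mul, mul_comm k, pow_two (Nat.card (Eg C φ M))]
    exact Nat.mul_le_mul e2 e1
  subst h1
  have sm : ∀ (c : F) v, γ (c • v) = c • γ v := ha.semi
  have gm : ∀ u ∈ M, γ u ∈ M := fun u hu => by
    obtain ⟨s, hs, e⟩ := hn' _ (zm u hu 1)
    rw [h.act_z ha] at e
    by_cases u0 : γ u = 0
    · rw [u0]; exact M.zero_mem
    obtain ⟨v, hv⟩ := h.exists_hp u0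
    have := h.E_range hs v
    rwa [h.inj e, h.z_app, hv, map_one, mul_one, one_smul, add_sub_cancel_left] at this
  have gg : ∀ u ∈ M, γ (γ u) = u := fun u hu => by
    have := h.act_z (h.act_mul ha ha) u 1
    rw [← h2 _ (zm u hu 1), mul_inv_cancel_right, map_one] at this
    exact (h.z_one_inj this).symm
  by_cases hr : ∃ u ∈ M, ∀ m ∈ M, γ m + m ∈ span F {γ u + u}
  · obtain ⟨u, hu, H⟩ := hr
    obtain ⟨b, b1, b2⟩ := Mod.g2_bas M rfl
    have bM : ∀ i, b i ∈ M := fun i => b2 ▸ Submodule.subset_span ⟨i, rfl⟩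
    choose c hc using fun i => Submodule.mem_span_singleton.1 (H _ (bM i))
    obtain ⟨f, hf⟩ := h.exists_dual b1 c
    have e1 : ∀ m ∈ M, γ m + m = P.B f m • (γ u + u) := fun m hm => by
      rw [← b2] at hm
      induction hm using Submodule.span_induction with
      | mem _ k => obtain ⟨i, rfl⟩ := k; rw [h.B_comm, hf, hc]
      | zero => simp
      | add a b _ _ k k' => rw [map_add, map_add, add_smul, ← k, ← k']; abel
      | smul r a _ k => rw [sm, map_smul, ← smul_add, k, smul_assoc]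
    have pM := M.add_mem (gm u hu) hu
    have e2 : P.B (γ u + u) f = 0 := by
      have := e1 _ pM
      rw [map_add, gg u hu, add_comm u, h.vadd_self, eq_comm, smul_eq_zero] at this
      rcases this with k | k
      · rw [h.B_comm, k]
      · rw [k, map_zero, LinearMap.zero_apply]
    refine .inl ⟨_, pM, f, e2, ?_⟩
    rintro _ ⟨s, hs, rfl⟩
    have := h.E_gen hT (H := ((MulAut.conj g).toMonoidHom.comp φ).eqLocus
      ((MulAut.conj (x C φ (γ u + u) f)).toMonoidHom.comp φ)) (fun p hp c => ?_) hs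
    · exact this.trans (congrArg _ (h.τ_inv e2 0))
    · change g * z C φ p c * g⁻¹ = _ * τ C φ p 0 c * (τ C φ (γ u + u) f 0)⁻¹
      rw [h.τ_inv e2, h.act_z ha]
      refine Eq.trans ?_ (h.x_τ e2 (map_zero _) c).symm
      rw [← e1 p hp, bm pM hp]
      simp only [map_zero, zero_smul, add_zero]
      rw [add_comm (γ p), ← add_assoc, h.vadd_self, zero_add]
      rfl
  push Not at hr
  obtain ⟨u, hu, u0⟩ := hr 0 M.zero_mem
  replace u0 : γ u + u ≠ 0 := fun k => u0 (by rw [k]; exact zero_mem _)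
  obtain ⟨u', hu', u1⟩ := hr u hu
  have l1 : Ln P (γ u + u) (γ u' + u') := ⟨u0, u1, bm (M.add_mem (gm u hu) hu) (M.add_mem (gm u' hu') hu')⟩
  have l2 : Ln P u (γ u) := ⟨fun k => u0 (by rw [k, map_zero, add_zero]), fun k => ?_, bm hu (gm u hu)⟩
  swap
  · obtain ⟨c, hc⟩ := Submodule.mem_span_singleton.1 k
    have := gg u hu
    rw [← hc, sm, ← hc, smul_smul, ← sub_eq_zero, ← one_smul F u, smul_smul, mul_one, ← sub_smul,
      smul_eq_zero, sub_eq_zero, ← mul_one (1 : F)] at this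
    rcases this with k | k
    · rw [h.sq_inj k, one_smul] at hc
      exact u0 (by rw [← hc, h.vadd_self])
    · exact u0 (by rw [k, map_zero, add_zero])
  obtain ⟨f, f', k⟩ := h.hh_of_ln l2
  obtain ⟨D, -, d1, d2⟩ := h.exists_D hT
  let ε : M × F × F → G := fun a => τ C φ u a.1 (a.2.1 * a.2.1) * z C φ u' (a.2.2 * a.2.2)
  have em : ∀ a, ε a ∈ Eg C φ M := fun a => mul_mem (h.τ_mem_E hT hu a.1.2 _) (zm _ hu' _)
  have sq : ∀ r s : F, (r + s) * (r + s) = r * r + s * s := fun r s => by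
    linear_combination (r * s) * h.two
  have ea : ∀ a b, ε (a + b) = ε a * ε b := fun a b => by
    simp only [ε, Prod.fst_add, Prod.snd_add, Submodule.coe_add]
    rw [mul_assoc, ← mul_assoc (z ..), h.tc_com hM _ (zm _ hu' _) _ (h.τ_mem_E hT hu b.1.2 _), mul_assoc,
      ← h.z_add, ← mul_assoc, h.τ_mul (bm hu a.1.2) (bm hu b.1.2), bm a.1.2 b.1.2, add_zero, sq, sq]
  have e2 := tc_add (fun a => g * ε a * g⁻¹ * ε a) fun a b => by
    have := h.tc_com hM _ (em a) _ (hn' _ (em b))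
    rw [ea]
    calc _ = g * ε a * g⁻¹ * (g * ε b * g⁻¹ * ε a) * ε b := by group
      _ = _ := by rw [← this]; group
  have e3 : Nat.card {a | g * ε a * g⁻¹ * ε a = 1} ≤ Nat.card (F × F) := by
    refine mx_card_le (fun c => (⟨c.1 • u + c.2 • γ u, M.add_mem (M.smul_mem _ hu) (M.smul_mem _ (gm u hu))⟩, 0, 0)) ?_
    rintro ⟨m, r, s⟩ e
    have e4 : g * ε (m, r, s) * g⁻¹ = ε (m, r, s) := mul_right_cancel (e.trans (h.E_sq hT (em _)).symm)
    have e5 : C.T (γ u) (γ m) (r * r) * C.T (γ u') 0 (s * s) = C.T u m (r * r) * C.T u' 0 (s * s) := by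
      refine h.inj ?_
      rw [map_mul, map_mul]
      refine Eq.trans ?_ e4
      have := congrArg₂ (· * ·) (h.act_τ ha (bm hu m.2) (r * r)) (h.act_z ha u' (s * s))
      refine Eq.trans this.symm ?_
      simp only [ε]
      group
    have e6 := congrArg D e5
    rw [d1 _ (h.T_mem_E hT (gm u hu) (gm _ m.2) _) _ (h.T_mem_E hT (gm _ hu') M.zero_mem _),
      d1 _ (h.T_mem_E hT hu m.2 _) _ (h.T_mem_E hT hu' M.zero_mem _), d2 _ (gm u hu) _ (gm _ m.2),
      d2 _ (gm _ hu') _ M.zero_mem, d2 _ hu _ m.2, d2 _ hu' _ M.zero_mem] at e6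
    obtain ⟨rfl, rfl⟩ := h.ln_inj l1 (c := r) (d := s) (c' := 0) (d' := 0) (by
      linear_combination (norm := module) e6 + h.vadd_self (r • u + s • u'))
    have e7 := congrArg (fun s => C.act s f) e5
    simp only [C.mul_apply, mul_zero, h.z_app, zero_mul, zero_smul, add_zero] at e7
    rw [h.x_app (bm (gm u hu) (gm _ m.2)), h.x_app (bm hu m.2), h.hp_iff.1 k.h₁, h.B_comm (γ u), k.fe] at e7
    refine ⟨(P.B m f, P.B (γ m) f), Prod.ext (Subtype.ext ?_) rfl⟩
    linear_combination (norm := module) e7 + h.vadd_self (P.B m f • u)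
  have e8 : Nat.card (Set.range fun a => g * ε a * g⁻¹ * ε a) ≤
      Nat.card {d | ∃ ε ∈ Eg C φ M, d = g * ε * g⁻¹ * ε} :=
    Nat.card_mono (Set.toFinite _) fun _ ⟨a, k⟩ => ⟨_, em a, k.symm⟩
  rw [Nat.card_prod, h.tc_cardM hM hk] at e2
  refine .inr ?_
  conv_rhs => rw [tc_hom (h.tc_com hM) (fun _ => h.E_sq hT) hn']
  exact Nat.mul_le_mul_right _ (Nat.le_of_mul_le_mul_right (e2.le.trans (Nat.mul_le_mul e8 e3)) Nat.card_pos)

end Emb

end CfsgLib.SPC
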