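import Cfsg.Agent.Lib.SPC.NcA
import Cfsg.Agent.Lib.SPC.Tc

/-! Alternating elements of T -/

set_option autoImplicit false
set_option linter.unusedSectionVars false

namespace CfsgLib.SPC

open Subgroup Module CfsgLib.Forms CfsgLib.LieMult
open CfsgLib.HX (Std CO Two Mv M2)
open CfsgLib.UN (AV SI TI HH Rad Stb Yg Rg Eg Act nu)
open CfsgLib.ClSys (II)
open Submodule (span)
open scoped commutatorElement Pointwise

universe u

variable {F : Type} [Field F] [Finite F] {V : Type} [AddCommGroup V] [Module F V]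
  [FiniteDimensional F V] {P : PQ (RingHom.id F) V} {S : Type} [Group S] [Finite S] {G : Type u}
  [Group G] [Finite G] {C : CG P S} {φ : S →* G} {t : G}

namespace Mod

variable (h : Mod C) {M : Submodule F V} {s : S}
include h

theorem ncb_surj (hM : Lag P M) (hs : s ∈ AltE C M) (nd : ∀ v, nu C s v = 0 → v ∈ M) {m : V} (hm : m ∈ M) :
    ∃ f, nu C s f = m :=
  h.loc_mem (LinearMap.range (nu C s)) fun w hw => Mod.g2_B hM (nd w (h.nd fun u => by
    rw [h.E_adj (h.lag_ti hM) hs.1, h.B_comm]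
    exact hw _ ⟨u, rfl⟩)) hm

theorem ncb_zero (hM : Lag P M) (hs : s ∈ C.fixG (P.perp M)) {m : V} (hm : m ∈ M) : nu C s m = 0 := by
  rw [h.loc_nu', hs m (h.lag_ti hM hm), sub_self]

theorem ncb_dual {U : Submodule F V} {f : V} (hf : f ∉ U) : ∃ w ∈ P.perp U, P.B w f = 1 := by
  obtain ⟨w, hw, e⟩ : ∃ w ∈ P.perp U, P.B w f ≠ 0 := by
    by_contra! h1
    exact hf (h.loc_mem U h1)
  exact ⟨(P.B w f)⁻¹ • w, Submodule.smul_mem _ _ hw, by rw [h.B_smul_left, inv_mul_cancel₀ e]⟩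

theorem ncb_one (hM : Lag P M) {f : V} (hf : f ∉ M) : ∃ m ∈ M, P.B m f = 1 := by
  obtain ⟨w, hw, e⟩ := h.ncb_dual hf
  exact ⟨w, hM.le hw, e⟩

theorem ncb_ex (hM : Lag P M) (g v : V) : ∃ m ∈ M, P.B g m = 0 ∧ m ∉ span F {v} := by
  by_contra! h1
  have h2 : M ⊓ P.perp (span F {g}) ≤ span F {v} := fun m hm =>
    h1 m hm.1 (hm.2 g (Submodule.mem_span_singleton_self g))
  have h3 := Submodule.finrank_mono h2
  have h4 := Submodule.finrank_sup_add_finrank_inf_eq M (P.perp (span F {g}))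
  have h5 := h.rank_perp (span F {g})
  have h6 : ∀ u : V, finrank F (span F {u}) ≤ 1 := fun u => by
    simpa using finrank_span_le_card (R := F) ({u} : Set V)
  have h7 := Submodule.finrank_le (M ⊔ P.perp (span F {g}))
  have := h6 g
  have := h6 v
  have := h.lag_rank hM
  have := h.d6
  omega

theorem ncb_eps (hM : Lag P M) {f m : V} (hf : f ∉ M) (hm : m ∈ M) :
    ∃ ε ∈ C.fixG (P.perp M), nu C ε f = m := by
  obtain ⟨u, hu, e⟩ := h.ncb_one hM hf
  exact ⟨_, h.T_mem_E (h.lag_ti hM) hu hm (P.B m f), by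
    rw [h.nca_nu (Mod.g2_B hM hu hm), e, mul_one, h.add_self, zero_smul, one_smul, zero_add]⟩

/-- `E(M)` is generated by the commutator spaces of the transvections fixing `s` -/
theorem nb_gen (hM : Lag P M) (hs : s ∈ AltE C M) (nd : ∀ v, nu C s v = 0 → v ∈ M) {H : Subgroup S}
    (hH : ∀ f, f ∉ M → ∀ l : F, l ≠ 0 → ∀ m ∈ M, C.T (nu C s f) m (l * P.B f m) ∈ H) :
    C.fixG (P.perp M) ≤ H := by
  refine h.E_gen (h.lag_ti hM) fun v hv c => ?_
  by_cases hc : c = 0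
  · rw [hc, C.T_zero (h.sing v)]; exact one_mem H
  obtain ⟨g, rfl⟩ := h.ncb_surj hM hs nd hv
  by_cases hg : g ∈ M
  · rw [h.ncb_zero hM hs.1 hg, h.T_zero']; exact one_mem H
  obtain ⟨m, hm, m1, m2⟩ := h.ncb_ex hM g (nu C s g)
  obtain ⟨f, f1, f2⟩ := h.ncb_dual m2
  have f3 : P.B (nu C s g) f = 0 := f1 _ (Submodule.mem_span_singleton_self _)
  have hf : f ∉ M := fun e => by rw [Mod.g2_B hM e hm] at f2; exact zero_ne_one f2
  have f4 : P.B (f + g) m = 1 := by rw [P.B_add_left, f2, m1, add_zero]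
  have hu := h.nca_range hs.1 f
  have h1 := hH f hf c hc m hm
  have h2 := hH (f + g) (fun e => by rw [Mod.g2_B hM e hm] at f4; exact zero_ne_one f4) c hc m hm
  have h3 := hH g hg 1 one_ne_zero m hm
  have h4 := hH f hf 1 one_ne_zero _ (M.smul_mem c hv)
  rw [f2, mul_one] at h1
  rw [f4, mul_one, map_add] at h2
  rw [m1, mul_zero] at h3
  rw [P.B_smul_right, h.B_comm f, f3, mul_zero, mul_zero] at h4
  generalize nu C s f = u at *
  generalize nu C s g = v at *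
  have b := fun {x y : V} (hx : x ∈ M) (hy : y ∈ M) => Mod.g2_B hM hx hy
  have e1 : C.T (u + v) m c = C.T v m 0 * C.T u m c * C.T v 0 c * C.T u (c • v) 0 := by
    have e2 : ∀ w ∈ M, C.T w m c = C.T m w 0 * C.T w 0 c := fun w hw => by
      rw [← h.T_symm (b hw hm), h.T_mul (b hw hm) (by simp)]; simp
    rw [e2 _ (add_mem hu hv), e2 u hu, h.T_line (b hu hv), h.T_symm (b hv hm), ← mul_assoc (C.T m v 0),
      h.T_mul (b hm hv) (b hm hu), b hv hu, add_comm v u]
    simp [mul_assoc]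
  rwa [e1, mul_mem_cancel_right h4, mul_mem_cancel_left (mul_mem h3 h1)] at h2

/-- the index of `A₀` -/
theorem nb_card (hM : Lag P M) (hs : s ∈ AltE C M) (nd : ∀ v, nu C s v = 0 → v ∈ M) {A H : Subgroup S}
    (hA : (A : Set S) = AltE C M)
    (hH : ∀ f f', P.B (nu C s f) f' = 0 → C.T (nu C s f) (nu C s f') 0 ∈ H) :
    Nat.card A ≤ Nat.card F * Nat.card (A ⊓ H : Subgroup S) := by
  have hT := h.lag_ti hM
  have mem : ∀ {s : S}, s ∈ A ↔ s ∈ AltE C M := fun {s} => by rw [← hA]; rfl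
  have r := h.nca_range hs.1
  have b : ∀ f g, P.B (nu C s f) (nu C s g) = 0 := fun f g => Mod.g2_B hM (r f) (r g)
  have hc : ∀ x y : A, x * y = y * x := fun x y => Subtype.ext
    (h.E_cent hT (mem.1 y.2).1 x (fix_anti hT (mem.1 x.2).1))
  have : (H.subgroupOf A).Normal := ⟨fun x hx y => by rwa [hc y x, mul_inv_cancel_right]⟩
  let Y : V → V → A ⧸ H.subgroupOf A := fun f g => QuotientGroup.mk' _
    ⟨C.T (nu C s f) (nu C s g) 0, mem.2 ⟨h.T_mem_E hT (r f) (r g) 0, h.nca_alt (b f g)⟩⟩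
  have y1 : ∀ f g g', Y f (g + g') = Y f g * Y f g' := fun f g g' => by
    rw [← map_mul]
    refine congrArg _ (Subtype.ext ?_)
    show C.T _ _ _ = C.T _ _ _ * C.T _ _ _
    rw [h.T_mul (b f g) (b f g'), b g g', map_add]
    simp
  have y2 : ∀ f g, Y f g = Y g f := fun f g => congrArg _ (Subtype.ext (h.T_symm (b f g)))
  have y3 : ∀ f g (c : F), Y (c • f) g = Y f (c • g) := fun f g c => congrArg _ (Subtype.ext (by
    show C.T _ _ _ = C.T _ _ _
    rw [map_smul, map_smul, h.T_smul (b f g), mul_zero]))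
  have y4 : ∀ f g g', P.B (nu C s f) g = P.B (nu C s f) g' → Y f g = Y f g' := fun f g g' e => by
    have e1 : Y f (g + g') = 1 := (QuotientGroup.eq_one_iff _).2 (hH _ _ (by
      rw [P.B_add_right, e, h.add_self]))
    have e2 := y1 f (g + g') g'
    rwa [e1, one_mul, add_assoc, h.vadd_self, add_zero] at e2
  have ω : ∀ f g, P.B (nu C s f) g = P.B (nu C s g) f := fun f g => by rw [h.E_adj hT hs.1, h.B_comm]
  obtain ⟨f₀, g₀, e₀⟩ : ∃ f₀ g₀, P.B (nu C s f₀) g₀ = 1 := h.nca_pair fun e => by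
    have h1 : M = ⊤ := eq_top_iff.2 fun v _ => nd v (by rw [e, h.loc_nu', C.one_apply, sub_self])
    have h2 := h.lag_rank hM
    have := h.d6
    rw [h1, finrank_top] at h2
    omega
  have y5 : ∀ f g, P.B (nu C s f) g₀ ≠ 0 → Y f g = Y f₀ (P.B (nu C s f) g • g₀) := fun f g e => by
    rw [y4 f g ((P.B (nu C s f) g / P.B (nu C s f) g₀) • g₀) (by rw [P.B_smul_right, div_mul_cancel₀ _ e]),
      y2, y3, y4 g₀ _ (P.B (nu C s f) g • f₀) (by
        rw [P.B_smul_right, P.B_smul_right, ω g₀ f, ω g₀ f₀, e₀, mul_one, div_mul_cancel₀ _ e]), ← y3, y2]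
  have y6 : ∀ f g, ∃ c : F, Y f g = Y f₀ (c • g₀) := fun f g => by
    by_cases e : P.B (nu C s f) g₀ = 0
    · have e1 : Y f g = Y (f + f₀) g * Y f₀ g := by
        rw [y2 (f + f₀), y2 f₀, ← y1, add_assoc, h.vadd_self, add_zero, y2]
      rw [e1, y5 (f + f₀) g (by rw [map_add, P.B_add_left, e, e₀]; simp), y5 f₀ g (by rw [e₀]; simp), ← y1,
        ← add_smul]
      exact ⟨_, rfl⟩
    · exact ⟨_, y5 f g e⟩
  let ψ : Multiplicative F →* A ⧸ H.subgroupOf A := MonoidHom.mk' (fun c => Y f₀ (c.toAdd • g₀))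
    fun c d => by rw [toAdd_mul, add_smul, y1]
  have hψ : Function.Surjective ψ := by
    obtain ⟨A', h1, h2⟩ := h.exists_AltE hT
    obtain rfl : A' = A := SetLike.coe_injective (h1.trans hA.symm)
    intro q
    obtain ⟨a, rfl⟩ := QuotientGroup.mk'_surjective _ q
    obtain ⟨a', h3, e⟩ := h2 ((ψ.range.comap (QuotientGroup.mk' _)).map A'.subtype) (fun p hp m hm => by
      obtain ⟨f, rfl⟩ := h.ncb_surj hM hs nd hp
      obtain ⟨g, rfl⟩ := h.ncb_surj hM hs nd hm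
      obtain ⟨c, hc⟩ := y6 f g
      exact ⟨_, ⟨Multiplicative.ofAdd c, hc.symm⟩, rfl⟩) a.2
    exact Subtype.ext e ▸ h3
  rw [card_eq_card_quotient_mul_card_subgroup (H.subgroupOf A), ← inf_subgroupOf_left,
    Nat.card_congr (subgroupOfEquivOfLe (inf_le_left : A ⊓ H ≤ A)).toEquiv, inf_subgroupOf_left]
  exact Nat.mul_le_mul_right _ (Nat.card_le_card_of_surjective ψ hψ)

theorem ncb_alt (hM : Lag P M) {p f p' f' : V} (hp : p ∈ M) (hp' : p' ∈ M) (k : P.B p f = 0) (k' : P.B p' f' = 0)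
    (hc : ∀ m ∈ M, C.act (C.T p f 0) (C.act (C.T p' f' 0) m) = C.act (C.T p' f' 0) (C.act (C.T p f 0) m))
    {ε : S} (hε : ε ∈ C.fixG (P.perp M)) :
    Alt C (C.T p' f' 0 * (C.T p f 0 * ε * C.T p f 0 * ε) * C.T p' f' 0 * (C.T p f 0 * ε * C.T p f 0 * ε)) := by
  have hm := h.nca_range hε f
  have a1 : Alt C 1 := fun v => by rw [h.loc_nu', C.one_apply, sub_self]; simp
  by_cases h1 : p' = 0
  · rw [h1, h.T_zero', one_mul, mul_one, h.comm_tv hM hp k hε, h.T_sq (Mod.g2_B hM hp hm)]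
    exact a1
  by_cases h2 : P.B p f' = 0
  · rw [h.comm_tv hM hp k hε, h.comm_tv hM hp' k' (h.T_mem_E (h.lag_ti hM) hp hm _),
      h.nca_nu (Mod.g2_B hM hp hm), h2, zero_smul, add_zero, P.B_smul_right, h.B_comm f', h2, mul_zero, mul_zero]
    exact h.nca_alt (Mod.g2_B hM hp' (M.smul_mem _ hp))
  have a : ∀ {p f : V}, p ∈ M → P.B p f = 0 → ∀ m ∈ M, C.act (C.T p f 0) m = m + P.B f m • p := by
    intro p f hp k m hm
    rw [h.x_app k, Mod.g2_B hM hp hm, zero_smul F f, add_zero]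
  have key : ∀ m ∈ M, (P.B f m * P.B f' p) • p' = (P.B f' m * P.B f p') • p := fun m hm => by
    have := hc m hm
    rw [a hp' k' m hm, a hp k m hm, a hp k _ (add_mem hm (M.smul_mem _ hp')),
      a hp' k' _ (add_mem hm (M.smul_mem _ hp)), P.B_add_right, P.B_add_right, P.B_smul_right,
      P.B_smul_right] at this
    linear_combination (norm := module) (-1 : F) • this
  have h3 : P.B f' p ≠ 0 := by rwa [h.B_comm]
  have h4 : P.B f p' = 0 := by
    have := key p hp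
    rw [h.B_comm f, k, zero_mul, zero_smul, eq_comm, smul_eq_zero, mul_eq_zero] at this
    rcases this with (e | e) | e
    · exact absurd e h3
    · exact e
    · exact absurd (by rw [e]; simp) h3
  have h5 : f ∈ M := Mod.g2_mem hM fun m hm => by
    have := key m hm
    rw [h4, mul_zero, zero_smul, smul_eq_zero, mul_eq_zero] at this
    rw [h.B_comm]
    exact (this.resolve_right h1).resolve_right h3
  rw [h.comm_tv hM hp k hε, h.ncb_zero hM hε h5, map_zero, C.T_zero (h.sing p), mul_one, mul_one, h.T_sq k']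
  exact a1

end Mod

theorem ncb_conj {H : Subgroup G} {g x : G} (hg : g ∈ normalizer (H : Set G)) : g⁻¹ * x * g ∈ H ↔ x ∈ H := by
  rw [mem_normalizer_iff.1 hg]; simp [mul_assoc]

namespace Sit

variable (h : Sit C φ t)
include h

theorem ncb_card {E : Subgroup G} (hE : E ≤ φ.range) {τ : G} (hτ : τ * t = t * τ) :
    Nat.card ((E ⊔ zpowers t) ⊓ centralizer {τ} : Subgroup G) = 2 * Nat.card (E ⊓ centralizer {τ} : Subgroup G) := by
  have ht : t ∈ centralizer ({τ} : Set G) := mem_centralizer_singleton_iff.2 hτ.symm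
  rw [← h.card_sup_t (inf_le_left.trans hE)]
  congr 2
  refine le_antisymm (fun x hx => (h.mem_sup_t (inf_le_left.trans hE)).2 ?_)
    (sup_le (inf_le_inf_right _ le_sup_left) (zpowers_le.2 (mem_inf.2 ⟨mem_sup_right (mem_zpowers t), ht⟩)))
  exact ((h.mem_sup_t hE).1 hx.1).imp (fun e => ⟨e, hx.2⟩) fun e => ⟨e, mul_mem ht hx.2⟩

theorem ncb_tv {M : Submodule F V} (hM : Lag P M) {s : S} (hs : s ∈ AltE C M)
    (nd : ∀ v, UN.nu C s v = 0 → v ∈ M) {g : G}
    (hg : g ∈ normalizer ((Eg C φ M ⊔ zpowers t : Subgroup G) : Set G)) (e : g * t * g⁻¹ = t * φ s)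
    {f : V} (hf : f ∉ M) {l : F} (hl : l ≠ 0) :
    (∀ b ∈ Eg C φ M ⊔ zpowers t, g⁻¹ * x C φ (UN.nu C s f) (l • f) * g * b *
      (g⁻¹ * x C φ (UN.nu C s f) (l • f) * g) * b ∈ Eg C φ M) ∧
    ∃ p ∈ M, ∃ f', P.B p f' = 0 ∧ ∀ ε ∈ Eg C φ M, g⁻¹ * x C φ (UN.nu C s f) (l • f) * g * ε *
      (g⁻¹ * x C φ (UN.nu C s f) (l • f) * g) = x C φ p f' * ε * x C φ p f' := by
  have hT := h.lag_ti hM
  have hp := h.nca_range hs.1 f
  have k : P.B (UN.nu C s f) (l • f) = 0 := by rw [P.B_smul_right, hs.2, mul_zero]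
  have hE : Eg C φ M ≤ φ.range := map_le_range φ _
  have h1 : C.T (UN.nu C s f) (l • f) 0 * s * C.T (UN.nu C s f) (l • f) 0 * s = 1 := by
    rw [h.comm_tv hM hp k hs.1, map_smul, P.B_smul_right, h.B_comm (l • f), k, mul_zero,
      ← zero_add (l • UN.nu C s f), h.T_shift (by simp), C.T_zero (h.sing _)]
  have x2 := h.x_sq (φ := φ) k
  have hN : x C φ (UN.nu C s f) (l • f) ∈ normalizer (Eg C φ M : Set G) :=
    le_normalizer_map φ ⟨_, (h.stb_norm M (h.loc_T_stb hT hp k)).2, rfl⟩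
  have hL : x C φ (UN.nu C s f) (l • f) ∈ φ.range := ⟨_, rfl⟩
  have hcard := fun n hk => h.card_tv hM (k := n) hk hp (f := l • f) (fun e => hf (nd f e))
    (fun e => hf (by simpa [hl] using M.smul_mem l⁻¹ e)) k
  have h2 : x C φ (UN.nu C s f) (l • f) * φ s = φ s * x C φ (UN.nu C s f) (l • f) := by
    have e1 := congrArg φ h1
    have e2 := congrArg φ (h.toMod.E_sq hT hs.1)
    rw [map_mul, map_mul, map_mul, map_one] at e1
    rw [map_mul, map_one] at e2
    rw [mul_assoc] at e1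
    unfold x at x2 ⊢
    rw [← inv_eq_of_mul_eq_one_right e1, mul_inv_rev, inv_eq_of_mul_eq_one_right e2,
      inv_eq_of_mul_eq_one_right x2]
  generalize x C φ (UN.nu C s f) (l • f) = τ at x2 hN hL hcard h2
  have h3 : g⁻¹ * τ * g * t = t * (g⁻¹ * τ * g) := by
    have e1 : τ * (g * t * g⁻¹) = g * t * g⁻¹ * τ := by rw [e, ← mul_assoc, h.tL hL, mul_assoc, h2, mul_assoc]
    calc _ = g⁻¹ * (τ * (g * t * g⁻¹)) * g := by group
      _ = _ := by rw [e1]; group
  have h4 : g⁻¹ * τ * g * (g⁻¹ * τ * g) = 1 := by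
    calc _ = g⁻¹ * (τ * τ) * g := by group
      _ = _ := by rw [x2]; group
  have hB : τ ∈ normalizer ((Eg C φ M ⊔ zpowers t : Subgroup G) : Set G) :=
    nca_sup hN (by rw [h.tL hL, mul_inv_cancel_right]; exact mem_sup_right (mem_zpowers t))
  have h5 : g⁻¹ * τ * g ∈ normalizer (Eg C φ M : Set G) := nca_norm fun y hy => by
    refine ((h.mem_sup_t hE).1 ((mem_normalizer_iff.1 (mul_mem (mul_mem (inv_mem hg) hB) hg) y).1
      (mem_sup_left hy))).resolve_right fun e1 => h.t_not_mem ?_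
    exact (mul_mem_cancel_right ((mem_normalizer_iff.1 (h.norm_of h3) y).1 (hE hy))).1 (hE e1)
  have h6 := inv_eq_of_mul_eq_one_right h4
  refine ⟨fun b hb => ?_, ?_⟩
  · have key : ∀ b ∈ Eg C φ M, g⁻¹ * τ * g * b * (g⁻¹ * τ * g) * b ∈ Eg C φ M := fun b hb =>
      mul_mem (h6 ▸ (mem_normalizer_iff.1 h5 b).1 hb :) hb
    rcases (h.mem_sup_t hE).1 hb with e1 | e1
    · exact key b e1
    · have := key _ e1
      have e2 : t * b * t = b := by rw [h.tL (hE e1), ← mul_assoc, h.t2, one_mul]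
      generalize g⁻¹ * τ * g = σ at this h3
      rwa [show σ * (t * b) * σ * (t * b) = σ * (t * b * (σ * t)) * b by group, h3, ← mul_assoc (t * b), e2,
        ← mul_assoc] at this
  obtain ⟨n, n3, hn⟩ := h.even_rank
  rcases h.tc hM hn (h.norm_of h3) h5 (by rw [h4]; exact one_mem _) with h7 | h7
  · rwa [h6] at h7
  exfalso
  have h8 : Nat.card ((Eg C φ M ⊔ zpowers t) ⊓ centralizer {g⁻¹ * τ * g} : Subgroup G) =
      Nat.card ((Eg C φ M ⊔ zpowers t) ⊓ centralizer {τ} : Subgroup G) := by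
    refine Nat.card_congr ((MulAut.conj g).toEquiv.subtypeEquiv fun y => and_congr
      (mem_normalizer_iff.1 hg y) ?_)
    show y ∈ centralizer {g⁻¹ * τ * g} ↔ g * y * g⁻¹ ∈ centralizer {τ}
    rw [mem_centralizer_singleton_iff, mem_centralizer_singleton_iff]
    constructor
    · intro e1
      calc _ = g * (y * (g⁻¹ * τ * g)) * g⁻¹ := by group
        _ = _ := by rw [e1]; group
    · intro e1
      calc _ = g⁻¹ * (g * y * g⁻¹ * τ) * g := by group
        _ = _ := by rw [e1]; group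
  rw [h.ncb_card hE h3, h.ncb_card hE (h.tL hL)] at h8
  rw [hcard n hn, Nat.eq_of_mul_eq_mul_left two_pos h8] at h7
  have h9 := (Nat.pow_le_pow_iff_right (Finite.one_lt_card (α := F))).1
    (Nat.le_of_mul_le_mul_right h7 Nat.card_pos)
  omega

theorem nb_norm {M : Submodule F V} (hM : Lag P M) {A : Subgroup S} (hA : (A : Set S) = AltE C M)
    {s : S} (hs : s ∈ A) (nd : ∀ v, UN.nu C s v = 0 → v ∈ M) {g : G}
    (hg : g ∈ normalizer ((Eg C φ M ⊔ zpowers t : Subgroup G) : Set G)) (e : g * t * g⁻¹ = t * φ s) :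
    g ∈ normalizer (A.map φ : Set G) := by
  have hT := h.lag_ti hM
  have mem : ∀ {s : S}, s ∈ A ↔ s ∈ AltE C M := fun {s} => by rw [← hA]; rfl
  have hs' := mem.1 hs
  have r := h.nca_range hs'.1
  have k : ∀ f (l : F), P.B (UN.nu C s f) (l • f) = 0 := fun f l => by rw [P.B_smul_right, hs'.2, mul_zero]
  let ψ : S →* G := (MulAut.conj g⁻¹).toMonoidHom.comp φ
  have hψ : ∀ a, ψ a = g⁻¹ * φ a * g := fun a => by simp [ψ]
  have tv := fun f hf l hl => h.ncb_tv hM hs' nd hg e (f := f) hf (l := l) hl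
  simp only [x, ← hψ] at tv
  have ha : C.fixG (P.perp M) ≤ (Eg C φ M).comap ψ := h.nb_gen hM hs' nd fun f hf l hl m hm => by
    obtain ⟨ε, hε, rfl⟩ := h.ncb_eps hM (f := l • f) (fun e => hf (by simpa [hl] using M.smul_mem l⁻¹ e)) hm
    rw [← h.B_smul_left, ← h.comm_tv hM (r f) (k f l) hε, mem_comap, map_mul, map_mul, map_mul]
    exact (tv f hf l hl).1 _ (hψ ε ▸ (ncb_conj hg).2 (mem_sup_left ⟨ε, hε, rfl⟩))
  have hgE : g ∈ normalizer (Eg C φ M : Set G) := inv_mem_iff.1 (nca_norm (by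
    rintro _ ⟨a, ha', rfl⟩
    rw [inv_inv, ← hψ]
    exact ha ha'))
  have hb : ∀ f f', P.B (UN.nu C s f) f' = 0 →
      C.T (UN.nu C s f) (UN.nu C s f') 0 ∈ (A.map φ).comap ψ := by
    intro f f₁ e1
    by_cases hf : f ∈ M
    · rw [h.ncb_zero hM hs'.1 hf, h.T_zero']; exact one_mem _
    by_cases hf₁ : f₁ ∈ M
    · rw [h.ncb_zero hM hs'.1 hf₁, C.T_zero (h.sing _)]; exact one_mem _
    obtain ⟨f', hf', e2, e3, e4⟩ : ∃ f', f' ∉ M ∧ UN.nu C s f' = UN.nu C s f₁ ∧ P.B (UN.nu C s f) f' = 0 ∧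
        P.B f f' = 0 := by
      obtain ⟨u, hu, e2⟩ := h.ncb_one hM hf
      have h1 := M.smul_mem (P.B f f₁) hu
      exact ⟨f₁ + P.B f f₁ • u, fun e => hf₁ ((M.add_mem_iff_left h1).1 e),
        by rw [map_add, h.ncb_zero hM hs'.1 h1, add_zero],
        by rw [P.B_add_right, e1, Mod.g2_B hM (r f) h1, add_zero],
        by rw [P.B_add_right, P.B_smul_right, h.B_comm f u, e2, mul_one, h.add_self]⟩
    rw [← e2]
    obtain ⟨p, hp, u, k1, a1⟩ := (tv f hf 1 one_ne_zero).2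
    obtain ⟨p', hp', u', k2, a2⟩ := (tv f' hf' 1 one_ne_zero).2
    have k3 := hs'.2 f
    have k4 := hs'.2 f'
    rw [one_smul] at a1 a2
    have c1 : C.T (UN.nu C s f) f 0 * C.T (UN.nu C s f') f' 0 =
        C.T (UN.nu C s f') f' 0 * C.T (UN.nu C s f) f 0 := by
      rw [← mul_inv_eq_iff_eq_mul, h.T_conj _ k4, C.T_fix (h.tok.2 k3) (Mod.g2_B hM (r f) (r f')) (by
        rw [← h.toMod.E_adj hT hs'.1, e3]), C.T_fix (h.tok.2 k3) e3 e4]
    obtain ⟨m, hm, e5⟩ := h.ncb_one hM hf'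
    obtain ⟨ε, hε, rfl⟩ := h.ncb_eps hM hf hm
    have e6 := h.comm_tv hM (r f') k4 (h.T_mem_E hT (r f) hm (P.B f (UN.nu C ε f)))
    rw [h.nca_nu (Mod.g2_B hM (r f) hm), e3, e5, zero_smul, mul_zero, add_zero, add_zero, one_smul, h.B_comm f',
      e3, ← h.comm_tv hM (r f) k3 hε] at e6
    obtain ⟨ε', hε', e7⟩ := ha hε
    have st : ∀ {p u : V}, p ∈ M → P.B p u = 0 → ∀ y ∈ C.fixG (P.perp M),
        C.T p u 0 * y * C.T p u 0 ∈ C.fixG (P.perp M) := fun hp k y hy => by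
      have := (h.conj_fix _ (h.loc_T_stb hT hp k)).2.2.2 hy
      rwa [h.r2_inv k] at this
    have h1 := mul_mem (st hp k1 _ hε') hε'
    refine ⟨_, mem.2 ⟨mul_mem (st hp' k2 _ h1) h1, h.ncb_alt hM hp hp' k1 k2 (fun v hv => ?_) hε'⟩, ?_⟩
    · have z1 := h.T_mem_E hT hv (zero_mem _) 1
      have b1 := a1 _ ⟨_, st hp' k2 _ z1, rfl⟩
      have b2 := a2 _ ⟨_, st hp k1 _ z1, rfl⟩
      rw [map_mul φ, map_mul φ] at b1 b2
      rw [← a2 _ ⟨_, z1, rfl⟩] at b1
      rw [← a1 _ ⟨_, z1, rfl⟩] at b2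
      have b3 : ∀ a b y : G, a * (b * y * b) * a = a * b * y * (b * a) := fun a b y => by group
      rw [b3, ← map_mul ψ, ← map_mul ψ, c1] at b1
      rw [b3, ← map_mul ψ, ← map_mul ψ, c1, b1, a2 _ ⟨_, z1, rfl⟩, a1 _ ⟨_, z1, rfl⟩] at b2
      have b4 : ∀ {p u : V}, P.B p u = 0 → ∀ v, φ (C.T p u 0) * φ (C.T v 0 1) * φ (C.T p u 0) =
          φ (C.T (C.act (C.T p u 0) v) 0 1) := fun {p u} k v => by
        have := h.T_conj (C.T p u 0) (e := v) (a := 0) (by simp) 1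
        rw [h.r2_inv k, map_zero] at this
        rw [← map_mul, ← map_mul, this]
      rw [b4 k1, b4 k2, b4 k1, b4 k2] at b2
      exact h.z_one_inj b2
    · rw [h.T_symm (Mod.g2_B hM (r f) (r f')), ← e6]
      have b1 := a2 _ ⟨_, h1, rfl⟩
      simp only [map_mul] at b1 ⊢
      rw [← b1, ← a1 _ ⟨_, hε', rfl⟩, e7]
  obtain ⟨D, D1, D2, D3⟩ := h.exists_D hT
  have hle : (A.map φ).comap ψ ≤ C.fixG (P.perp M) := fun a ha' => by
    obtain ⟨b, hb', e1⟩ := (ncb_conj hgE).1 (hψ a ▸ map_mono (fun x hx => (mem.1 hx).1) ha')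
    exact h.inj e1 ▸ hb'
  have hc : ∀ b ∈ (A.map φ).comap ψ, D b = 0 := by
    intro b hb'
    by_contra h0
    let δ : (A.map φ).comap ψ →* Multiplicative M := MonoidHom.mk'
      (fun a => Multiplicative.ofAdd ⟨D a, (D1 a (hle a.2)).1⟩)
      fun a a' => congrArg Multiplicative.ofAdd (Subtype.ext (D2 a (hle a.2) a' (hle a'.2)))
    have key : ∀ f, P.B (D b) f ≠ 0 → Multiplicative.ofAdd (⟨_, r f⟩ : M) ∈ δ.range := fun f hf => by
      have hf' : f ∉ M := fun e => hf (Mod.g2_B hM (D1 b (hle hb')).1 e)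
      obtain ⟨p, hp, u, k1, a1⟩ := (tv f hf' _ (inv_ne_zero hf)).2
      have h1 : C.T (UN.nu C s f) ((P.B (D b) f)⁻¹ • f) 0 * b * C.T (UN.nu C s f) ((P.B (D b) f)⁻¹ • f) 0 ∈
          (A.map φ).comap ψ := by
        obtain ⟨a, ha', e1⟩ := hb'
        rw [mem_comap, map_mul, map_mul, ← e1, a1 _ ⟨a, (mem.1 ha').1, rfl⟩, ← map_mul, ← map_mul]
        have := h.nca_stb hA (h.loc_T_stb hT hp k1) ha'
        rw [h.r2_inv k1] at this
        exact ⟨_, this, rfl⟩
      refine ⟨⟨_, mul_mem h1 hb'⟩, congrArg Multiplicative.ofAdd (Subtype.ext ?_)⟩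
      show D (C.T (UN.nu C s f) ((P.B (D b) f)⁻¹ • f) 0 * b * C.T (UN.nu C s f) ((P.B (D b) f)⁻¹ • f) 0 * b) =
        UN.nu C s f
      rw [h.comm_tv hM (r f) (k f _) (hle hb'), h.B_comm (_ • f), (D1 b (hle hb')).2,
        D3 _ (r f) _ (h.nca_range (hle hb') _), P.B_smul_right, inv_mul_cancel₀ hf, one_smul]
    have hδ : δ.range = ⊤ := eq_top_iff.2 fun v _ => by
      obtain ⟨f, hf⟩ := h.ncb_surj hM hs' nd v.toAdd.2
      by_cases h1 : P.B (D b) f = 0
      · obtain ⟨f₀, h2⟩ := h.exists_hp h0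
        have := mul_mem (key (f + f₀) (by rw [P.B_add_right, h1, h2]; simp)) (key f₀ (by rw [h2]; simp))
        convert this using 1
        refine congrArg Multiplicative.ofAdd (Subtype.ext ?_)
        show (v.toAdd : V) = UN.nu C s (f + f₀) + UN.nu C s f₀
        rw [map_add, add_assoc, h.vadd_self, add_zero, hf]
      · convert key f h1 using 1
        exact congrArg Multiplicative.ofAdd (Subtype.ext hf.symm)
    have h1 := h.nb_card hM hs' nd hA hb
    have h2 : Nat.card ((A.map φ).comap ψ) ≤ Nat.card A := by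
      rw [← h.card_map A]
      exact Nat.card_le_card_of_injective (ψ.subgroupComap _) fun a a' e1 =>
        Subtype.ext (h.inj ((MulAut.conj g⁻¹).injective (congrArg Subtype.val e1)))
    have h3 : δ.ker = (A ⊓ (A.map φ).comap ψ).subgroupOf _ := by
      rw [inf_subgroupOf_right]
      ext a
      rw [mem_subgroupOf, mem, MonoidHom.mem_ker]
      have h4 := D1 a (hle a.2)
      refine ⟨fun e1 => ⟨hle a.2, fun v => ?_⟩, fun e1 => congrArg Multiplicative.ofAdd (Subtype.ext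
        (h.nd fun v => mul_self_eq_zero.1 ((h4.2 v).symm.trans (e1.2 v))))⟩
      have e2 : D a = 0 := congrArg Subtype.val (congrArg Multiplicative.toAdd e1)
      rw [h4.2, e2]; simp
    have h4 := δ.ker.card_mul_index
    rw [index_ker, hδ, card_top, h3, Nat.card_congr (subgroupOfEquivOfLe inf_le_right).toEquiv,
      Nat.card_congr Multiplicative.toAdd, Module.natCard_eq_pow_finrank (K := F) (V := M), mul_comm] at h4
    have h5 := Nat.le_of_mul_le_mul_right (h4.le.trans (h2.trans h1)) Nat.card_pos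
    have h6 := (Nat.pow_le_pow_iff_right (Finite.one_lt_card (α := F))).1 (h5.trans (pow_one _).ge)
    have := h.lag_rank hM
    have := h.d6
    omega
  refine nca_norm fun y hy => ?_
  obtain ⟨a, ha', e1⟩ := (mem_normalizer_iff.1 hgE y).1 (map_mono (fun x hx => (mem.1 hx).1) hy)
  have h1 : a ∈ (A.map φ).comap ψ := by
    rw [mem_comap, hψ, e1]
    simpa [mul_assoc] using hy
  exact ⟨a, mem.2 ⟨ha', fun v => by rw [(D1 a ha').2, hc a h1]; simp⟩, e1⟩

/-- **NC** -/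
theorem nc (ha : ¬ Ta C φ t) {s : S} (s2 : s * s = 1) (hs : Alt C s) (e : InT t (φ s)) : s = 1 := by
  obtain ⟨M, hM, h1⟩ := h.invol_mem_E s2
  have hT := h.lag_ti hM
  by_cases nd : ∀ v, UN.nu C s v = 0 → v ∈ M
  · obtain ⟨g, e⟩ := e
    obtain ⟨n, hn, e1⟩ := h.nu hT (g := g) (by
      rw [e]; exact mul_mem (mem_sup_right (mem_zpowers t)) (mem_sup_left ⟨s, h1, rfl⟩))
    obtain ⟨A, hA, -⟩ := h.exists_AltE hT
    have h2 : s ∈ A := by rw [← SetLike.mem_coe, hA]; exact ⟨h1, hs⟩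
    exact h.nc_end ha hT hA (h.nb_norm hM hA h2 nd (h.norm_E hT hn) (e1.trans e)) h2 (e1.trans e)
  push Not at nd
  obtain ⟨v, v1, v2⟩ := nd
  have h2 : LinearMap.range (UN.nu C s) ≤ M := by
    rintro _ ⟨u, rfl⟩
    exact h.nca_range h1 u
  refine h.nc_sub ha (h2.trans (hT.trans (P.perp_anti h2))) (fun e1 => v2 (h2 (e1.le ?_)))
    ⟨h.mx_fix fun u => ⟨u, h.loc_nu' s u⟩, hs⟩ e
  rintro _ ⟨u, rfl⟩
  rw [h.toMod.E_adj hT h1, v1, map_zero]

end Sit

end CfsgLib.SPC
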