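import Cfsg.Agent.Lib.SPC.DhA
import Cfsg.Agent.Lib.SPC.DhC
import Cfsg.Agent.Lib.SPC.NcB

/-! Type D: the structure HD -/

set_option autoImplicit false
set_option linter.unusedSectionVars false

namespace CfsgLib.SPC

open Subgroup Module CfsgLib.Forms CfsgLib.LieMult
open CfsgLib.HX (Std CO Two Mv M2)
open CfsgLib.UN (AV SI TI HH Rad Stb Yg Rg Eg Act nu)
open CfsgLib.ClSys (II)
open Submodule (span)
open scoped commutatorElement Pointwise

universe u

variable {F : Type} [Field F] [Finite F] {V : Type} [AddCommGroup V] [Module F V]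
  [FiniteDimensional F V] {P : PQ (RingHom.id F) V} {S : Type} [Group S] [Finite S] {G : Type u}
  [Group G] [Finite G] {C : CG P S} {φ : S →* G} {t : G}

theorem dhd_zero {m : ℕ} {y : II m → F → G} (h2 : ∀ a σ σ', y a (σ + σ') = y a σ * y a σ') (a : II m) :
    y a 0 = 1 := by
  have := h2 a 0 0
  rw [add_zero] at this
  exact left_eq_mul.1 this

theorem dhd_B {m : ℕ} (Fr : Frame P m) {a b : II m} (hab : Ap a b) : P.B (Fr.v a) (Fr.v b) = 0 := by
  rw [Fr.B_v, if_neg hab.ne_swap]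

theorem dhd_B' {m : ℕ} (Fr : Frame P m) {a b : II m} (hab : Ap a b) : P.B (Fr.v a) (Fr.v b.swap) = 0 := by
  rw [Fr.B_v, Sum.swap_swap, if_neg hab.ne]

theorem Emb.dhd_ne (h : Emb C φ) {m : ℕ} (Fr : Frame P m) (a : II m) : Fr.v a ≠ 0 :=
  h.toMod.hp_ne (f := Fr.v a.swap) (by rw [Fr.B_v, Sum.swap_swap, if_pos rfl])

theorem Emb.dhd_comm (h : Emb C φ) {e a : V} (k : P.B e a = 0) {p : G}
    (hp : p ∈ centralizer (Rg C φ (span F {e}) : Set G)) : Commute (x C φ e a) p :=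
  mem_centralizer_iff.1 hp _ (h.τ_mem_R (h.toMod.ti_pt e) (Submodule.mem_span_singleton_self e)
    (h.toMod.mem_perp_span.2 (by simpa using k)) 0)

theorem Emb.dhd_comm' (h : Emb C φ) {e a : V} (k : P.B e a = 0) (c : F) {p : G}
    (hp : p ∈ centralizer (Rg C φ (span F {a}) : Set G)) : Commute (x C φ e (c • a)) p := by
  rw [← h.x_smul k, h.x_symm (by rw [h.toMod.B_smul_left, k, mul_zero])]
  exact h.dhd_comm (by rw [h.toMod.B_comm, h.toMod.B_smul_left, k, mul_zero]) hp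

theorem Mod.dhd_lag (h : Mod C) {m : ℕ} (Fr : Frame P m) :
    Lag P (span F (Set.range fun i => Fr.v (Sum.inl i))) := by
  refine le_antisymm (fun w hw => ?_) (ti_span.2 ?_)
  · rw [h.g2_decomp Fr w]
    refine Submodule.sum_mem _ fun b _ => ?_
    rcases b with i | i
    · exact Submodule.smul_mem _ _ (Submodule.subset_span ⟨i, rfl⟩)
    · rw [Sum.swap_inr, h.mem_perp_span.1 hw _ ⟨i, rfl⟩, zero_smul]
      exact Submodule.zero_mem _
  · rintro _ ⟨i, rfl⟩ _ ⟨j, rfl⟩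
    rw [Fr.B_v, if_neg (by simp)]

theorem Sit.dhd_pz0 (h : Sit C φ t) : Pz C φ t 0 1 :=
  ⟨one_mem _, one_mem _, by rw [h.toEmb.z_zero']; simp, fun o _ _ _ => by simp⟩

namespace MD

variable {Q : V → F} (h : MD C φ t Q) {k : ℕ} {Fr : Frame P k} (hv : ∀ a, Q (Fr.v a) = 0)
include h hv

theorem com {y : II k → F → G} {δ : F} (h1 : ∀ a σ, JD C φ t Q (Fr.v a) σ (y a σ))
    (h2 : ∀ a σ σ', y a (σ + σ') = y a σ * y a σ') (h3 : ∀ a b (l σ : F), Ap a b →
      x C φ (Fr.v a) (l • Fr.v b.swap) * y b σ * x C φ (Fr.v a) (l • Fr.v b.swap) * y b σ =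
        y a (l * σ) * x C φ (Fr.v a) ((δ * l * σ * σ) • Fr.v b)) {a b : II k} (hab : Ap a b) (σ σ' : F) :
    Commute (y a σ) (y b σ') := by
  have E : Emb C φ := h.toEmb
  by_cases h0 : σ' = 0
  · rw [h0, dhd_zero h2]
    exact Commute.one_right _
  have k := dhd_B Fr hab
  have e := h3 a b (σ / σ') σ' hab
  rw [div_mul_cancel₀ σ h0] at e
  have k1 : ∀ c : F, P.B (Fr.v a) (c • Fr.v b) = 0 := fun c => by rw [map_smul, k, smul_zero]
  have X2 := E.x_sq (e := Fr.v a) (a := (σ / σ') • Fr.v b.swap) (by rw [map_smul, dhd_B' Fr hab, smul_zero])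
  have A2 := E.x_sq (k1 (δ * (σ / σ') * σ' * σ'))
  have c1 := E.dhd_comm (k1 (δ * (σ / σ') * σ' * σ')) (h1 a σ).cQ
  have c2 := E.dhd_comm' k (δ * (σ / σ') * σ' * σ') (h1 b σ').cQ
  have a2 := (h1 a σ).sq
  have b2 := (h1 b σ').sq
  set X := x C φ (Fr.v a) ((σ / σ') • Fr.v b.swap)
  set A := x C φ (Fr.v a) ((δ * (σ / σ') * σ' * σ') • Fr.v b)
  set u := y a σ
  set w := y b σ'
  have e1 : X * w * X = u * A * w := by
    rw [← e, mul_assoc _ w w, b2, mul_one]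
  have e2 : u * A * w * (u * A * w) = 1 := by
    rw [← e1]
    calc X * w * X * (X * w * X) = X * w * (X * X) * w * X := by group
      _ = 1 := by rw [X2, mul_one, mul_assoc X w w, b2, mul_one, X2]
  have e3 : u * w * (u * w) = 1 := by
    rw [mul_assoc u A w, c2.eq, ← mul_assoc u w A, (c1.mul_right c2).symm.symm.mul_mul_mul_comm, A2,
      mul_one] at e2
    exact e2
  have iu : u⁻¹ = u := inv_eq_of_mul_eq_one_right a2
  have iw : w⁻¹ = w := inv_eq_of_mul_eq_one_right b2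
  have := eq_inv_of_mul_eq_one_left e3
  rw [mul_inv_rev, iu, iw] at this
  exact this

theorem cls (ha : ¬ Ta C φ t) {l : G} (hl : l ∈ φ.range) (e : InT t l) : ∃ v, l = z C φ v 1 := by
  have E : Emb C φ := h.toEmb
  have H : Sit C φ t := h.toSit
  have M : Mod C := E.toMod
  have l2 := H.InT_sq hl e
  obtain ⟨s, rfl⟩ := hl
  have s2 : s * s = 1 := E.inj (by rw [map_mul, l2, map_one])
  obtain ⟨M₁, hM₁, hs⟩ := M.invol_mem_E s2
  have hM := M.dhd_lag Fr
  set M₀ := span F (Set.range fun i => Fr.v (Sum.inl i)) with hM₀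
  have ti := M.lag_ti hM
  have Q0 : ∀ v ∈ M₀, Q v = 0 := fun v hv' => by
    induction hv' using Submodule.span_induction with
    | mem v hv' =>
      obtain ⟨i, rfl⟩ := hv'
      exact hv _
    | zero => simpa using h.qf.smul 0 0
    | add u v hu hv' ihu ihv => rw [h.qf.add, ihu, ihv, Mod.g2_B hM hu hv', add_zero, add_zero]
    | smul c v _ ih => rw [h.qf.smul, ih, mul_zero]
  obtain ⟨g, hg⟩ := M.trans_lag hM₁ hM
  have hs' : g * s * g⁻¹ ∈ C.fixG (P.perp M₀) := (M.conj_fix g hg).2.2.2 hs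
  have e' : InT t (φ (g * s * g⁻¹)) := by
    rw [map_mul, map_mul, map_inv]
    exact e.conj (H.tl g)
  suffices ∃ v, φ (g * s * g⁻¹) = z C φ v 1 by
    obtain ⟨v, hv'⟩ := this
    refine ⟨C.act g⁻¹ v, ?_⟩
    rw [← E.z_conj, ← hv', map_mul, map_mul, map_inv]
    group
  generalize g * s * g⁻¹ = s' at hs' e'
  obtain ⟨D, D1, D2, D3⟩ := M.exists_D ti
  have dM := (D1 s' hs').1
  set d := D s' with hd
  obtain ⟨p, hp⟩ := h.pd d 1 (Q0 d dM)
  have xE : ∀ ε ∈ C.fixG (P.perp M₀), x C φ d (D ε) ∈ Eg C φ M₀ := fun ε hε =>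
    E.τ_mem_E ti dM (D1 ε hε).1 0
  have cE : ∀ ε ∈ C.fixG (P.perp M₀), ∀ u ∈ Eg C φ M₀, Commute (φ ε) u := fun ε hε u hu =>
    mem_centralizer_iff.1 (E.E_cent ti hu) _ (E.R_le_Y (E.E_le_R ti ⟨ε, hε, rfl⟩))
  have D0 : D 1 = 0 := by
    have := D2 1 (one_mem _) 1 (one_mem _)
    rw [mul_one] at this
    exact left_eq_add.1 this
  let K : Subgroup S :=
    { carrier := {ε | ε ∈ C.fixG (P.perp M₀) ∧ p * φ ε * p⁻¹ = φ ε * x C φ d (D ε)}
      one_mem' := ⟨one_mem _, by rw [D0, E.x_zero, map_one]; group⟩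
      mul_mem' := fun {a b} ha hb => ⟨mul_mem ha.1 hb.1, by
        rw [D2 a ha.1 b hb.1, E.x_add (Mod.g2_B hM dM (D1 a ha.1).1) (Mod.g2_B hM dM (D1 b hb.1).1)
          (Mod.g2_B hM (D1 a ha.1).1 (D1 b hb.1).1), map_mul, ← conj_mul, ha.2, hb.2,
          (cE b hb.1 _ (xE a ha.1)).mul_mul_mul_comm]⟩
      inv_mem' := fun {a} ha => by
        rw [inv_eq_of_mul_eq_one_right (M.E_sq ti ha.1)]
        exact ha }
  have hK : C.fixG (P.perp M₀) ≤ K := M.E_gen ti fun q hq c => by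
    obtain ⟨r, rfl⟩ := M.exists_sqrt c
    refine ⟨M.T_mem_E ti hq M₀.zero_mem _, ?_⟩
    have qM : r • q ∈ M₀ := M₀.smul_mem r hq
    have := hp.yz (r • q) 0 (Mod.g2_B hM dM qM) (by rw [Q0 _ qM, mul_zero])
    rw [E.z_smul, mul_one] at this
    rw [D3 q hq 0 M₀.zero_mem r]
    simpa [x, τ, z] using this
  have e1 := (hK hs').2
  have e2 : x C φ d d = 1 := by simpa using E.x_self d 1
  rw [← hd, e2, mul_one] at e1
  have e3 := (InT.move hp.pt).1 e'
  rw [e1] at e3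
  have tE : C.T d 0 (1 * 1) ∈ C.fixG (P.perp M₀) := M.T_mem_E ti dM M₀.zero_mem _
  have e4 := H.nc ha (s := C.T d 0 (1 * 1) * s') (M.E_sq ti (mul_mem tE hs')) (fun v => by
    rw [(D1 _ (mul_mem tE hs')).2, D2 _ tE _ hs', D3 d dM 0 M₀.zero_mem 1, one_smul, M.vadd_self]
    simp) (by rw [map_mul]; exact e3)
  refine ⟨d, ?_⟩
  rw [eq_inv_of_mul_eq_one_right e4, inv_eq_of_mul_eq_one_right (M.E_sq ti tE), mul_one]
  rfl

end MD

theorem MZ0.hd (h : MZ0 C φ t) (ha : ¬ Ta C φ t) {k : ℕ} (hk : finrank F V = 2 * k) :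
    ∃ (Fr : Frame P k) (Q : V → F) (y : II k → F → G) (δ : F), HD C φ t Fr Q y δ := by
  have E : Emb C φ := h.toEmb
  have H : Sit C φ t := h.toSit
  have M : Mod C := E.toMod
  obtain ⟨Fr⟩ := M.exists_frame hk
  obtain ⟨Q, hQ, hv⟩ := M.exists_qf Fr
  have md := h.md ha hQ
  obtain ⟨y, δ, h1, h2, h3⟩ := md.family2 hv
  have pz : ∀ a σ, Pz C φ t (σ • Fr.v a) (y a σ) := fun a σ => by
    by_cases h0 : σ = 0
    · rw [h0, zero_smul, dhd_zero h2]
      exact H.dhd_pz0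
    · refine ⟨?_, ?_, ?_, (h1 a σ).co⟩
      · rw [Submodule.span_singleton_smul_eq (IsUnit.mk0 σ h0)]
        exact (h1 a σ).cQ
      · rw [Submodule.span_singleton_smul_eq (IsUnit.mk0 σ h0)]
        exact md.pd_nY (E.dhd_ne Fr a) (h1 a σ).toPD
      · rw [E.z_smul, mul_one]
        exact (h1 a σ).pt
  refine ⟨Fr, Q, y, δ, ⟨H, h.two', fun e => ?_⟩, hQ, hv, pz, fun a σ => (h1 a σ).cQ, h2,
    fun a σ v r k hr => ?_, fun a b l σ hab => ?_, fun a b σ σ' hab => md.com hv h1 h2 h3 hab σ σ',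
    fun l hl e => md.cls hv ha hl e⟩
  · by_cases h0 : e = 0
    · exact ⟨1, h0 ▸ H.dhd_pz0⟩
    · have := M.d6
      let a : II k := Sum.inl ⟨0, by omega⟩
      obtain ⟨s, rfl⟩ := M.trans (E.dhd_ne Fr a) h0
      have p := pz a 1
      rw [one_smul] at p
      have q := H.pz0_conj ⟨p.cQ, p.nY, p.pt⟩ s
      exact ⟨_, q.cQ, q.nY, q.pt, H.co_conj' (H.tl s) p.co⟩
  · have e := (h1 a σ).yz v r k hr
    rw [inv_eq_of_mul_eq_one_right (h1 a σ).sq] at e
    have k' : P.B v (Fr.v a) = 0 := by rw [M.B_comm, k]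
    have k1 : ∀ c : F, P.B v (c • Fr.v a) = 0 := fun c => by rw [map_smul, k', smul_zero]
    have k2 : ∀ c : F, P.B (Fr.v a) (c • v) = 0 := fun c => by rw [map_smul, k, smul_zero]
    have k3 : P.B (Fr.v a) 0 = 0 := map_zero _
    rw [e, E.z_line (k1 _), one_smul, mul_assoc _ (x C φ v _), ← E.x_add (k1 _) (k1 _)
      (by rw [M.B_smul_left, map_smul, M.B_self, smul_zero, mul_zero]), ← add_smul, E.z_smul,
      ← E.x_smul k', ← E.x_symm (k2 _), E.τ_eq (k2 _), mul_assoc (z C φ v 1)]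
    congr 1
    rw [show σ * r + σ = σ * (1 + r) by ring, show σ * r * (σ * r) * 1 = σ * σ * (r * r) by ring]
    exact (E.τ_comm (k2 _) k3 0 _).eq
  · have e := h3 a b l σ hab
    have c2 := E.dhd_comm' (dhd_B Fr hab) (δ * l * σ * σ) (h1 b σ).cQ
    rw [← (md.com hv h1 h2 h3 hab (l * σ) σ).eq, mul_assoc (y a (l * σ)), ← c2.eq, ← mul_assoc, ← e,
      mul_assoc _ (y b σ) (y b σ), (h1 b σ).sq, mul_one]

end CfsgLib.SPC
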