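import Cfsg.Agent.Lib.SPC.Rad
import Cfsg.Agent.Lib.UN.Syl

/-! Local facts: the lemmas END, O2, classes, transvections of GL(M) -/

set_option autoImplicit false
set_option linter.unusedSectionVars false

namespace CfsgLib.SPC

open Subgroup Module CfsgLib.Forms CfsgLib.LieMult
open CfsgLib.HX (Std CO Two Mv M2)
open CfsgLib.UN (AV SI TI HH Rad Stb Yg Rg Eg Act nu)
open CfsgLib.ClSys (II)
open Submodule (span)
open scoped commutatorElement Pointwise

universe u

variable {F : Type} [Field F] [Finite F] {V : Type} [AddCommGroup V] [Module F V]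
  [FiniteDimensional F V] {P : PQ (RingHom.id F) V} {S : Type} [Group S] [Finite S] {G : Type u}
  [Group G] [Finite G] {C : CG P S} {φ : S →* G} {t : G}

namespace Mod

variable (h : Mod C) {U : Submodule F V}
include h

theorem loc_nu (s : S) (a : V) : C.act s a = a + nu C s a := by simp [nu]

theorem loc_nu' (s : S) (a : V) : nu C s a = C.act s a - a := by simp [nu]

theorem loc_step (H : Submodule F V) {u u' : V} (hu : u ∉ H) (hu' : u' ∉ H)
    (hB : ∀ x ∈ H, P.B x u' = P.B x u) : ∃ s ∈ C.fixG H, C.act s u = u' := by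
  obtain ⟨g, hg, h1, h2⟩ := P.witt_step C.nondeg H hu hu' hB (by rw [h.lam]; trivial)
  obtain ⟨s, hs⟩ := h.full g.toLinearMap hg.B_eq
  exact ⟨s, fun x hx => (hs x).trans (h1 x hx), (hs u).trans h2⟩

theorem loc_perp {s : S} (hs : s ∈ Stb C U) {v : V} (hv : v ∈ P.perp U) : C.act s v ∈ P.perp U :=
  P.mem_perp.2 fun w hw => by
    rw [← C.apply_inv s w, C.B_act]
    exact P.mem_perp.1 hv _ ((hs _).1 (by rwa [C.apply_inv]))

theorem loc_trans {a b : V} (ha : a ∈ P.perp U) (hb : b ∈ P.perp U) (ha' : a ∉ U)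
    (hb' : b ∉ U) : ∃ s ∈ C.fixG U, C.act s a = b :=
  h.loc_step U ha' hb' fun x hx => by rw [P.mem_perp.1 ha x hx, P.mem_perp.1 hb x hx]

theorem loc_mem (H : Submodule F V) {v : V} (hv : ∀ w ∈ P.perp H, P.B w v = 0) : v ∈ H :=
  (h.perp_perp H).le (P.mem_perp.2 hv)

theorem loc_inv {s : S} (e : s * s = 1) : s⁻¹ = s := inv_eq_of_mul_eq_one_right e

theorem loc_T_stb (hU : TI P U) {p f : V} (hp : p ∈ U) (k : P.B p f = 0) : C.T p f 0 ∈ Stb C U := by
  have a1 : ∀ v ∈ U, C.act (C.T p f 0) v ∈ U := fun v hv => by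
    rw [h.x_app k, P.mem_perp.1 (hU hv) p hp, zero_smul, add_zero]
    exact add_mem hv (U.smul_mem _ hp)
  refine fun v => ⟨fun hv => ?_, a1 v⟩
  have := a1 _ hv
  rwa [← C.mul_apply, h.T_sq k, C.one_apply] at this

theorem loc_exists (hU : TI P U) (hM : P.perp U ≠ U) : ∃ a ∈ P.perp U, a ∉ U := by
  by_contra! h1
  exact hM (le_antisymm h1 hU)

/-- **O2** -/
theorem o2 (hU : TI P U) {H : Subgroup S} (h2 : IsPGroup 2 H) (h1 : H ≤ Stb C U)
    (hn : C.fixG U ≤ normalizer (H : Set S)) {s : S} (hs : s ∈ H) {v : V} (hv : v ∈ P.perp U) :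
    C.act s v - v ∈ U := by
  have hst : ∀ g ∈ H, ∀ v ∈ U, C.act g v ∈ U := fun g hg v hv => (h1 hg v).2 hv
  by_cases hvU : v ∈ U
  · exact sub_mem (hst s hs v hvU) hvU
  have : Finite (V ⧸ U) := Module.finite_of_finite F
  let W : Submodule F (V ⧸ U) := (P.perp U).map U.mkQ
  let _ : MulAction H W :=
    { smul := fun g q => ⟨U.mapQ U (C.act g.1).toLinearMap (hst g g.2) q.1, by
        obtain ⟨_, w, hw, rfl⟩ := q
        exact ⟨C.act g.1 w, h.loc_perp (h1 g.2) hw, rfl⟩⟩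
      one_smul := fun q => by
        obtain ⟨_, w, hw, rfl⟩ := q
        exact Subtype.ext (congrArg U.mkQ (C.one_apply w))
      mul_smul := fun g g' q => by
        obtain ⟨_, w, hw, rfl⟩ := q
        exact Subtype.ext (congrArg U.mkQ (C.mul_apply g.1 g'.1 w)) }
  obtain ⟨q, hq, hq'⟩ := h2.exists_fixed_point_of_prime_dvd_card_of_fixed_point W (a := 0) (by
    rw [← addOrderOf_eq_prime (x := (⟨U.mkQ v, v, hv, rfl⟩ : W)) (p := 2)
      (by rw [← ofNat_smul_eq_nsmul F, h.two, zero_smul])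
      fun e => hvU ((Submodule.Quotient.mk_eq_zero U).1 (congrArg Subtype.val e))]
    exact addOrderOf_dvd_natCard _)
    fun g => Subtype.ext (map_zero (U.mapQ U (C.act g.1).toLinearMap (hst g g.2)))
  obtain ⟨_, w, hw, rfl⟩ := q
  have w0 : w ∉ U := fun e => hq' (Subtype.ext ((Submodule.Quotient.mk_eq_zero U).2 e).symm)
  have w1 : ∀ g ∈ H, C.act g w - w ∈ U := fun g hg =>
    (Submodule.Quotient.eq U).1 (congrArg Subtype.val (hq ⟨g, hg⟩))
  obtain ⟨y, hy, rfl⟩ := h.loc_trans hw hv w0 hvU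
  have a1 : y⁻¹ * s * y ∈ H := by
    have := (mem_normalizer_iff.1 (inv_mem (hn hy)) s).1 hs
    rwa [inv_inv] at this
  have a2 := w1 _ a1
  rwa [← hy _ a2, map_sub, ← C.mul_apply, ← mul_assoc, ← mul_assoc, mul_inv_cancel, one_mul,
    C.mul_apply] at a2

/-- **END**: an additive map modulo `U` which commutes with the transvections is a scalar -/
theorem scalar (hU : TI P U) {θ : V → V} (h0 : ∀ a ∈ P.perp U, θ a ∈ P.perp U)
    (h1 : ∀ a ∈ P.perp U, ∀ b ∈ P.perp U, θ (a + b) + θ a + θ b ∈ U) (h1' : ∀ a ∈ U, θ a ∈ U)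
    (h2 : ∀ p ∈ P.perp U, ∀ a ∈ P.perp U, ∀ c : F,
      θ (a + (c * P.B p a) • p) + (θ a + (c * P.B p (θ a)) • p) ∈ U) :
    ∃ μ : F, ∀ a ∈ P.perp U, θ a + μ • a ∈ U := by
  by_cases hM : P.perp U = U
  · exact ⟨0, fun a ha => by rw [zero_smul, add_zero]; exact h1' a (hM.le ha)⟩
  obtain ⟨a0, ha0, ha0'⟩ := h.loc_exists hU hM
  have key : ∀ p ∈ P.perp U, ∀ a ∈ P.perp U, ∀ μ : F, θ a + μ • a ∈ U → P.B p a ≠ 0 →
      θ p + μ • p ∈ U := fun p hp a ha μ e1 e2 => by
    have a1 : P.B p (θ a) = μ * P.B p a := by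
      have := P.mem_perp'.1 hp _ e1
      rw [map_add, map_smul, smul_eq_mul] at this
      exact h.eq_of_add this
    have a2 := h2 p hp a ha (P.B p a)⁻¹
    rw [a1, inv_mul_cancel₀ e2, one_smul, mul_left_comm, inv_mul_cancel₀ e2, mul_one] at a2
    have a3 := add_mem a2 (h1 a ha p hp)
    convert a3 using 1
    linear_combination (norm := abel1) -h.vadd_self (θ (a + p)) - h.vadd_self (θ a)
  have a1 : θ a0 ∈ U ⊔ span F {a0} := h.loc_mem _ fun p hp => by
    rw [P.perp_sup] at hp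
    have b1 : P.B p a0 = 0 := by rw [h.B_comm]; exact P.mem_perp_span_singleton.1 hp.2
    by_cases hpU : p ∈ U
    · exact P.mem_perp.1 (h0 a0 ha0) p hpU
    have b2 := h2 p hp.1 a0 ha0 1
    rw [b1, mul_zero, zero_smul, add_zero, ← add_assoc, h.vadd_self, zero_add, one_mul] at b2
    by_contra b3
    exact hpU ((U.smul_mem_iff b3).1 b2)
  obtain ⟨u, hu, _, hz, e⟩ := Submodule.mem_sup.1 a1
  obtain ⟨μ, rfl⟩ := Submodule.mem_span_singleton.1 hz
  have a2 : θ a0 + μ • a0 ∈ U := by rw [← e, add_assoc, h.vadd_self, add_zero]; exact hu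
  refine ⟨μ, fun a ha => ?_⟩
  by_cases haU : a ∈ U
  · exact add_mem (h1' a haU) (U.smul_mem _ haU)
  obtain ⟨w, w1, w2, w3⟩ := P.exists_not_orth_two C.nondeg U haU ha0'
  have hw : w ∈ P.perp U := P.mem_perp'.2 w3
  exact key a ha w hw μ (key w hw a0 ha0 μ a2 w2) (by rwa [h.B_comm])

/-- an isometry of `U^⊥ / U` is induced by `Y_U` -/
theorem exists_Y (hU : TI P U) {θ : V → V} (h0 : ∀ a ∈ P.perp U, θ a ∈ P.perp U)
    (h1 : ∀ a ∈ P.perp U, ∀ b ∈ P.perp U, θ (a + b) + θ a + θ b ∈ U)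
    (h2 : ∀ a ∈ P.perp U, ∀ c : F, θ (c • a) + c • θ a ∈ U)
    (h3 : ∀ a ∈ P.perp U, ∀ b ∈ P.perp U, P.B (θ a) (θ b) = P.B a b) :
    ∃ s ∈ C.fixG U, ∀ a ∈ P.perp U, C.act s a + θ a ∈ U := by
  let θ' : P.perp U →ₗ[F] V ⧸ U :=
    { toFun := fun a => U.mkQ (θ a)
      map_add' := fun a b => by
        rw [← map_add]
        refine (Submodule.Quotient.eq U).2 ?_
        rw [h.vsub_eq, ← add_assoc]
        exact h1 a a.2 b b.2
      map_smul' := fun c a => by
        rw [RingHom.id_apply, ← map_smul]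
        refine (Submodule.Quotient.eq U).2 ?_
        rw [h.vsub_eq]
        exact h2 a a.2 c }
  obtain ⟨L, hL⟩ := Module.projective_lifting_property U.mkQ θ' U.mkQ_surjective
  have L1 : ∀ a, L a - θ a ∈ U := fun a => (Submodule.Quotient.eq U).1 (LinearMap.congr_fun hL a)
  obtain ⟨π, hπ⟩ := LinearMap.exists_extend (LinearMap.id : U →ₗ[F] U)
  have π1 : ∀ u (hu : u ∈ U), (π u : V) = u := fun u hu =>
    congrArg Subtype.val (LinearMap.congr_fun hπ ⟨u, hu⟩)
  let r : P.perp U →ₗ[F] P.perp U :=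
    LinearMap.id - (Submodule.inclusion hU).comp (π.comp (P.perp U).subtype)
  have r1 : ∀ a : P.perp U, (r a : V) = a - π a := fun a => rfl
  let ψ : P.perp U →ₗ[F] V := L.comp r + U.subtype.comp (π.comp (P.perp U).subtype)
  have ψ1 : ∀ a : P.perp U, ψ a = L (r a) + π a := fun a => rfl
  have ψ2 : ∀ a : P.perp U, ψ a - θ (r a) ∈ U := fun a => by
    rw [ψ1, add_sub_right_comm]; exact add_mem (L1 _) (π a).2
  have B1 : ∀ x ∈ P.perp U, ∀ y y', y - y' ∈ U → P.B x y = P.B x y' := fun x hx y y' e => by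
    have := P.mem_perp'.1 hx _ e
    rwa [map_sub, sub_eq_zero] at this
  have r2 : ∀ a : P.perp U, (r a : V) - a ∈ U := fun a => by
    rw [r1, sub_sub_cancel_left]; exact neg_mem (π a).2
  have ψ3 : ∀ x ∈ P.perp U, ∀ b : P.perp U, P.B (θ x) (ψ b) = P.B x b := fun x hx b => by
    rw [B1 _ (h0 x hx) _ _ (ψ2 b), h3 x hx _ (r b).2, B1 x hx _ _ (r2 b)]
  have ψ4 : ∀ a : P.perp U, ψ a ∈ P.perp U := fun a => by
    have := add_mem (hU (ψ2 a)) (h0 _ (r a).2)
    rwa [sub_add_cancel] at this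
  have ψ5 : ∀ a b : P.perp U, P.B (ψ a) (ψ b) = P.B a b := fun a b => by
    rw [h.B_comm, B1 _ (ψ4 b) _ _ (ψ2 a), h.B_comm, ψ3 _ (r a).2, h.B_comm, B1 _ b.2 _ _ (r2 a),
      h.B_comm]
  have ψ6 : ∀ a : P.perp U, (a : V) ∈ U → ψ a = a := fun a ha => by
    have : r a = 0 := Subtype.ext (by rw [r1, π1 _ ha, sub_self]; rfl)
    rw [ψ1, this, map_zero, zero_add, π1 _ ha]
  obtain ⟨g, hg, e⟩ := P.witt C.nondeg (P.perp U) ψ
    ((injective_iff_map_eq_zero ψ).2 fun a ha => by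
      have : (a : V) ∈ U := h.loc_mem U fun w hw => by
        rw [← ψ5 ⟨w, hw⟩ a, ha, map_zero]
      exact Subtype.ext ((ψ6 a this).symm.trans ha)) ψ5 fun _ => by rw [h.lam]; trivial
  obtain ⟨s, hs⟩ := h.full g.toLinearMap hg.B_eq
  have s1 : ∀ a : P.perp U, C.act s a = ψ a := fun a => (hs a).trans (e a)
  have s2 : s ∈ C.fixG U := fun u hu => (s1 ⟨u, hU hu⟩).trans (ψ6 ⟨u, hU hu⟩ hu)
  refine ⟨s, s2, fun a ha => h.loc_mem U fun w hw => ?_⟩
  have w1 := h.loc_perp (inv_mem (fix_le_stb U s2)) hw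
  rw [← C.apply_inv s w, map_add, C.B_act, s1 ⟨_, w1⟩, h.B_comm (ψ _), ψ3 a ha, h.B_comm a]
  exact h.add_self _

/-- a linear form on `U^⊥ / U` -/
theorem exists_form (hU : TI P U) {f : V → F}
    (h1 : ∀ a ∈ P.perp U, ∀ b ∈ P.perp U, f (a + b) = f a + f b)
    (h2 : ∀ a ∈ P.perp U, ∀ c : F, f (c • a) = c * f a) (h3 : ∀ a ∈ U, f a = 0) :
    ∃ b ∈ P.perp U, ∀ a ∈ P.perp U, f a = P.B b a := by
  let f' : P.perp U →ₗ[F] F :=
    { toFun := fun a => f a
      map_add' := fun a b => h1 a a.2 b b.2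
      map_smul' := fun c a => h2 a a.2 c }
  obtain ⟨g, hg⟩ := LinearMap.exists_extend f'
  obtain ⟨b, hb⟩ := P.exists_B_eq C.nondeg g
  have a1 : ∀ a ∈ P.perp U, f a = P.B b a := fun a ha => by
    rw [hb]; exact (LinearMap.congr_fun hg ⟨a, ha⟩).symm
  exact ⟨b, P.mem_perp'.2 fun w hw => by rw [← a1 w (hU hw), h3 w hw], a1⟩

/-- `Y_U` is transitive on the vectors of `U^⊥ \ U` -/
theorem trans_Y (hU : TI P U) {a b : V} (ha : a ∈ P.perp U) (hb : b ∈ P.perp U) (ha' : a ∉ U)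
    (hb' : b ∉ U) : ∃ s ∈ C.fixG U, C.act s a = b := h.loc_trans ha hb ha' hb'

theorem trans_Y2 (hU : TI P U) {a b a' b' : V} (ha : a ∈ P.perp U) (hb : b ∈ P.perp U)
    (ha' : a' ∈ P.perp U) (hb' : b' ∈ P.perp U) (i1 : a ∉ U) (i2 : b ∉ U ⊔ span F {a}) (i3 : a' ∉ U)
    (i4 : b' ∉ U ⊔ span F {a'}) (e1 : P.B a' b' = P.B a b) :
    ∃ s ∈ C.fixG U, C.act s a = a' ∧ C.act s b = b' := by
  obtain ⟨s, hs, rfl⟩ := h.loc_trans ha ha' i1 i3
  obtain ⟨s', hs', e⟩ := h.loc_step (U ⊔ span F {C.act s a}) (u := C.act s b) (u' := b')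
    (fun hh => by
      obtain ⟨u, hu, _, hz, e⟩ := Submodule.mem_sup.1 hh
      obtain ⟨c, rfl⟩ := Submodule.mem_span_singleton.1 hz
      rw [← hs u hu, ← map_smul, ← map_add] at e
      exact i2 ((C.act s).injective e ▸ Submodule.add_mem_sup hu
        (Submodule.smul_mem _ c (Submodule.mem_span_singleton_self a)))) i4 fun x hx => by
      obtain ⟨u, hu, _, hz, rfl⟩ := Submodule.mem_sup.1 hx
      obtain ⟨c, rfl⟩ := Submodule.mem_span_singleton.1 hz
      rw [P.B_add_left, P.B_add_left, h.B_smul_left, h.B_smul_left, e1, C.B_act, P.mem_perp.1 hb' u hu,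
        P.mem_perp.1 (h.loc_perp (fix_le_stb U hs) hb) u hu]
  refine ⟨s' * s, mul_mem (fix_anti le_sup_left hs') hs, ?_, by rw [C.mul_apply, e]⟩
  rw [C.mul_apply]
  exact hs' _ (Submodule.mem_sup_right (Submodule.mem_span_singleton_self _))

/-- for `q > 2` the stabilisers are perfect -/
theorem fix_perf (hs : ¬ Small F) (hU : TI P U) (hM : P.perp U ≠ U) :
    C.fixG U ≤ ⁅C.fixG U, C.fixG U⁆ := by
  obtain ⟨l, l0, l1⟩ := h.exists_big hs
  have l2 : l + 1 ≠ 0 := fun e => l1 (h.eq_of_add e)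
  have mv : ∀ p ∈ P.perp U, p ∉ U → ∃ y ∈ C.fixG U, C.act y p = l • p := fun p hp hp' =>
    h.loc_trans hp (Submodule.smul_mem _ _ hp) hp' fun e => hp' ((U.smul_mem_iff l0).1 e)
  have k1 : ∀ p ∈ P.perp U, p ∉ U → ∀ c, C.T p 0 c ∈ ⁅C.fixG U, C.fixG U⁆ := fun p hp hp' c => by
    obtain ⟨y, hy, e⟩ := mv p hp hp'
    have a1 := commutator_mem_commutator hy
      (h.T_mem_fix (p := p) (a := 0) (map_zero _) hp (zero_mem _) (c / ((l + 1) * (l + 1))))
    rw [commutatorElement_def, h.T_conj y (map_zero _), e, map_zero, h.T_smul (map_zero _), smul_zero,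
      h.loc_inv (h.T_sq (map_zero _) _), h.T_mul (map_zero _) (map_zero _), add_zero, map_zero,
      add_zero] at a1
    convert a1 using 2
    field_simp
    linear_combination (c * l) * h.two
  refine h.fix_gen hU fun p hp c => ?_
  by_cases hp' : p ∈ U
  swap
  · exact k1 p hp hp' c
  obtain ⟨a, ha, ha'⟩ := h.loc_exists hU hM
  obtain ⟨y, hy, e⟩ := mv a ha ha'
  have k0 : ∀ d : F, P.B p (d • a) = 0 := fun d => P.mem_perp.1 (Submodule.smul_mem _ d ha) p hp'
  have k2 : C.T p (c • a) 0 ∈ ⁅C.fixG U, C.fixG U⁆ := by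
    have a1 := commutator_mem_commutator hy
      (h.T_mem_fix (k0 (c / (l + 1))) hp (Submodule.smul_mem _ _ ha) 0)
    rw [commutatorElement_def, h.T_conj y (k0 _), hy p hp', map_smul, e, smul_smul,
      h.loc_inv (h.T_sq (k0 _) _), h.T_mul (k0 _) (k0 _), ← add_smul, h.B_smul_left, map_smul,
      h.B_self, smul_zero, mul_zero, add_zero, add_zero] at a1
    convert a1 using 3
    field_simp
  have k3 := h.T_line (e := p) (a := a) (P.mem_perp.1 ha p hp') c
  have k4 := k1 (p + a) (add_mem hp ha) (fun e => ha' ((Submodule.add_mem_iff_right U hp').1 e)) c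
  rw [k3] at k4
  exact (mul_mem_cancel_right (k1 a ha ha' c)).1 ((mul_mem_cancel_right k2).1 k4)

/-- the commutator of an element of `E(M)` with the transvection `x p f` of `GL(M)` -/
theorem comm_tv {M : Submodule F V} (hM : Lag P M) {p f : V} (hp : p ∈ M) (k : P.B p f = 0) {s : S}
    (hs : s ∈ C.fixG (P.perp M)) : C.T p f 0 * s * C.T p f 0 * s =
      C.T p (nu C s f) (P.B f (nu C s f)) := by
  have hT := h.lag_ti hM
  have n1 : ∀ v, nu C s v ∈ M := fun v => by rw [h.loc_nu']; exact h.E_range hs v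
  have n2 : ∀ v ∈ M, C.act s v = v := fun v hv => hs v (hT hv)
  have n3 : ∀ v, P.B p (nu C s v) = 0 := fun v => P.mem_perp.1 (hT (n1 v)) p hp
  have n4 : ∀ v, C.act s (C.act s v) = v := fun v => by
    rw [← C.mul_apply, h.E_sq hT hs, C.one_apply]
  have k' : P.B f p = 0 := by rw [h.B_comm, k]
  refine C.ext fun v => ?_
  rw [C.mul_apply, C.mul_apply, C.mul_apply, h.x_app k (C.act s v), (C.act s).map_add,
    (C.act s).map_add, (C.act s).map_smul, (C.act s).map_smul, n4, n2 p hp, h.T_app (n3 f),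
    h.E_adj hT hs, h.x_app k, h.loc_nu s v, h.loc_nu s f]
  simp only [map_add, map_smul, smul_eq_mul, n3, k, k', h.B_self, mul_zero, add_zero]
  linear_combination (norm := module) (P.B f v * h.two) • p + (P.B p v * h.two) • f

/-- an element of `E(U)` commuting with enough transvections of `GL(U)` is trivial -/
theorem eq_one_of_tv {ι : Type} [Fintype ι] [DecidableEq ι] (h3 : 3 ≤ Fintype.card ι) {b f : ι → V}
    (hb : ∀ i j, P.B (b i) (b j) = 0) (hf : ∀ i j, P.B (b i) (f j) = if i = j then 1 else 0) {s : S}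
    (hs : s ∈ C.fixG (P.perp (span F (Set.range b))))
    (hc : ∀ i j, i ≠ j → Commute s (C.T (b i) (f j) 0)) : s = 1 := by
  have hT : TI P (span F (Set.range b)) := ti_span.2 (by
    rintro _ ⟨i, rfl⟩ _ ⟨j, rfl⟩; exact hb i j)
  obtain ⟨M, hM, hle⟩ := h.exists_lag hT
  have hs' : s ∈ C.fixG (P.perp M) := fix_anti (P.perp_anti hle) hs
  have bm : ∀ i, b i ∈ M := fun i => hle (Submodule.subset_span ⟨i, rfl⟩)
  have b0 : ∀ i, b i ≠ 0 := fun i => h.hp_ne (f := f i) (by rw [hf, if_pos rfl])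
  have k1 : ∀ i j, i ≠ j → nu C s (f j) ∈ span F {b i} := fun i j hij => by
    have k : P.B (b i) (f j) = 0 := by rw [hf, if_neg hij]
    have a1 := h.comm_tv hM (bm i) k hs'
    rw [mul_assoc (C.T _ _ _), (hc i j hij).eq, ← mul_assoc, h.T_sq k, one_mul,
      h.E_sq (h.lag_ti hM) hs'] at a1
    refine ((h.T_eq_one (b0 i) ?_).1 a1.symm).1
    rw [h.loc_nu']
    exact P.mem_perp.1 (h.lag_ti hM (h.E_range hs' _)) _ (bm i)
  have k2 : ∀ j, C.act s (f j) = f j := fun j => by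
    obtain ⟨i, i', h1, h2, h4⟩ : ∃ i i', i ≠ i' ∧ i ≠ j ∧ i' ≠ j := by
      have : 1 < (Finset.univ.erase j).card := by
        rw [Finset.card_erase_of_mem (Finset.mem_univ j), Finset.card_univ]; omega
      obtain ⟨i, hi, i', hi', e⟩ := Finset.one_lt_card.1 this
      exact ⟨i, i', e, Finset.ne_of_mem_erase hi, Finset.ne_of_mem_erase hi'⟩
    obtain ⟨x, hx⟩ := Submodule.mem_span_singleton.1 (k1 i j h2)
    obtain ⟨y, hy⟩ := Submodule.mem_span_singleton.1 (k1 i' j h4)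
    have a1 := congrArg (fun v => P.B v (f i)) (hx.trans hy.symm)
    simp only [h.B_smul_left, hf, if_true, if_neg h1.symm, mul_one, mul_zero] at a1
    rw [h.loc_nu, ← hx, a1, zero_smul, add_zero]
  refine C.ext fun v => ?_
  have a1 := hs (v - ∑ j, P.B (b j) v • f j) (P.mem_perp_span.2 (by
    rintro _ ⟨i, rfl⟩
    simp [hf]))
  rw [map_sub, map_sum] at a1
  simp only [map_smul, k2] at a1
  rw [C.one_apply, sub_left_inj.1 a1]

/-- the stabiliser has no fixed point in `E(U)` -/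
theorem eq_one_of_stb (hU : TI P U) (h3 : 3 ≤ finrank F U) {s : S} (hs : s ∈ C.fixG (P.perp U))
    (hc : ∀ l ∈ Stb C U, Commute l s) : s = 1 := by
  let b := finBasis F U
  have hb : LinearIndependent F fun i => (b i : V) := b.linearIndependent.map' U.subtype U.ker_subtype
  have hsp : span F (Set.range fun i => (b i : V)) = U := by
    have := congrArg (Submodule.map U.subtype) b.span_eq
    rwa [Submodule.map_span, ← Set.range_comp, Submodule.map_subtype_top] at this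
  have h0 : ∀ i j, P.B (b i : V) (b j : V) = 0 := fun i j => P.mem_perp.1 (hU (b j).2) _ (b i).2
  obtain ⟨f, -, hf⟩ := h.exists_partners hb h0
  exact h.eq_one_of_tv (by rwa [Fintype.card_fin]) h0 hf (by rwa [hsp]) fun i j hij =>
    (hc _ (h.loc_T_stb hU (b i).2 (by rw [hf, if_neg hij]))).symm

/-- the stabiliser has no invariant linear form on `E(M)` -/
theorem form_zero {M : Submodule F V} (hM : Lag P M) {χ : S → ZMod 2}
    (h1 : ∀ s ∈ C.fixG (P.perp M), ∀ s' ∈ C.fixG (P.perp M), χ (s * s') = χ s + χ s')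
    (h2 : ∀ l ∈ Stb C M, ∀ s ∈ C.fixG (P.perp M), χ (l * s * l⁻¹) = χ s) :
    ∀ s ∈ C.fixG (P.perp M), χ s = 0 := by
  have hT := h.lag_ti hM
  have z2 : ∀ x : ZMod 2, x + x = 0 := by decide
  have k0 : ∀ p ∈ M, ∀ f, P.B p f = 0 → ∀ s ∈ C.fixG (P.perp M),
      χ (C.T p (nu C s f) (P.B f (nu C s f))) = 0 := fun p hp f k s hs => by
    have a1 := h.loc_T_stb hT hp k
    have a2 : C.T p f 0 * s * (C.T p f 0)⁻¹ ∈ C.fixG (P.perp M) :=
      (mem_normalizer_iff.1 (h.stb_norm M a1).2 s).1 hs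
    have a3 := h1 _ a2 s hs
    rwa [h2 _ a1 s hs, z2, h.loc_inv (h.T_sq k 0), h.comm_tv hM hp k hs] at a3
  have ex : ∀ p w : V, ∃ u ∈ M, ∃ f, P.B f u = 1 ∧ P.B f p = 0 ∧ P.B f w = 0 := fun p w => by
    obtain ⟨u, hu, hu'⟩ : ∃ u ∈ M, u ∉ span F {p, w} := by
      by_contra! hh
      have a1 := Submodule.finrank_mono (show M ≤ span F {p, w} from hh)
      have a2 : finrank F (span F {p, w}) ≤ 2 := by
        classical
        have := finrank_span_finset_le_card (R := F) ({p, w} : Finset V)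
        rw [Set.finrank, Finset.coe_pair] at this
        exact this.trans Finset.card_le_two
      have a3 := h.lag_rank hM
      have a4 := h.d6
      omega
    obtain ⟨f, f1, f2⟩ := P.exists_dual_vec C.nondeg _ hu'
    exact ⟨u, hu, f, f1, f2 p (Submodule.subset_span (by simp)), f2 w (Submodule.subset_span (by simp))⟩
  have BM : ∀ p ∈ M, ∀ w ∈ M, P.B p w = 0 := fun p hp w hw => P.mem_perp.1 (hT hw) p hp
  have k1 : ∀ p ∈ M, ∀ w ∈ M, χ (C.T p w 0) = 0 := fun p hp w hw => by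
    obtain ⟨u, hu, f, f1, f2, f3⟩ := ex p w
    have a1 := k0 p hp f (by rw [h.B_comm, f2]) _ (h.T_mem_E hT hu hw 0)
    have a2 : nu C (C.T u w 0) f = w := by
      rw [h.loc_nu', h.x_app (BM u hu w hw), h.B_comm w, h.B_comm u, f1, f3]; simp
    rwa [a2, f3] at a1
  have k2 : ∀ p ∈ M, ∀ c, χ (C.T p 0 c) = 0 := fun p hp c => by
    obtain ⟨u, hu, f, f1, f2, -⟩ := ex p p
    have a1 := k0 p hp f (by rw [h.B_comm, f2]) _ (h.T_mem_E hT hu (zero_mem _) c)
    have a2 : nu C (C.T u 0 c) f = c • u := by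
      rw [h.loc_nu', h.z_app, h.B_comm u, f1]; simp
    have hc := M.smul_mem c hu
    have a3 := h1 _ (h.T_mem_E hT hp hc 0) _ (h.T_mem_E hT hp (zero_mem _) c)
    rw [h.T_mul (BM p hp _ hc) (map_zero _), k1 p hp _ hc, map_zero, add_zero, add_zero, zero_add,
      zero_add] at a3
    rwa [a2, map_smul, f1, smul_eq_mul, mul_one, a3] at a1
  let K : Subgroup S :=
    { carrier := {s | s ∈ C.fixG (P.perp M) ∧ χ s = 0}
      one_mem' := ⟨one_mem _, by
        have := h1 1 (one_mem _) 1 (one_mem _)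
        rwa [one_mul, z2] at this⟩
      mul_mem' := fun a b => ⟨mul_mem a.1 b.1, by rw [h1 _ a.1 _ b.1, a.2, b.2, add_zero]⟩
      inv_mem' := fun a => by rw [h.loc_inv (h.E_sq hT a.1)]; exact a }
  exact fun s hs => (h.E_gen hT (H := K)
    (fun p hp c => ⟨h.T_mem_E hT hp (zero_mem _) c, k2 p hp c⟩) hs).2

/-- `R_U'` is the alternating part of `E(U)` -/
theorem comm_rad (hU : TI P U) (hM : P.perp U ≠ U) {s : S} : s ∈ ⁅Rad C U, Rad C U⁆ ↔
    s ∈ C.fixG (P.perp U) ∧ ∀ v, P.B (nu C s v) v = 0 := by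
  refine ⟨fun hs => ?_, fun ⟨hs, hs'⟩ => ?_⟩
  · let A : Subgroup S :=
      { carrier := {s | s ∈ C.fixG (P.perp U) ∧ ∀ v, P.B (nu C s v) v = 0}
        one_mem' := ⟨one_mem _, fun v => by rw [h.loc_nu', C.one_apply, sub_self]; simp⟩
        mul_mem' := fun a b => ⟨mul_mem a.1 b.1, fun v => by
          rw [h.E_nu_mul hU a.1 b.1, LinearMap.add_apply, P.B_add_left, a.2, b.2, add_zero]⟩
        inv_mem' := fun a => by rw [h.loc_inv (h.E_sq hU a.1)]; exact a }
    refine (commutator_le (H₃ := A)).2 (fun x hx y hy => ?_) hs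
    have key : ∀ w, C.act ⁅x, y⁆ (C.act y (C.act x w)) - C.act y (C.act x w) =
        (C.act x (C.act y w - w) - (C.act y w - w)) - (C.act y (C.act x w - w) - (C.act x w - w)) :=
      fun w => by
        rw [← C.mul_apply, ← C.mul_apply, show ⁅x, y⁆ * y * x = x * y by group, C.mul_apply, map_sub,
          map_sub]
        abel
    have sj : ∀ v, ∃ w, C.act y (C.act x w) = v := fun v =>
      ⟨C.act x⁻¹ (C.act y⁻¹ v), by rw [C.apply_inv, C.apply_inv]⟩
    refine ⟨fun v hv => ?_, fun v => ?_⟩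
    · have hw : C.act x⁻¹ (C.act y⁻¹ v) ∈ P.perp U :=
        h.loc_perp (inv_mem (fix_le_stb U (rad_le_fix U hx)))
          (h.loc_perp (inv_mem (fix_le_stb U (rad_le_fix U hy))) hv)
      have := key (C.act x⁻¹ (C.act y⁻¹ v))
      rwa [hx.1 _ (hy.2 _ hw), hy.1 _ (hx.2 _ hw), sub_self, sub_self, sub_self, C.apply_inv,
        C.apply_inv, sub_eq_zero] at this
    · obtain ⟨w, rfl⟩ := sj v
      have ha := h.fix_range (rad_le_fix U hx) w
      have hb := h.fix_range (rad_le_fix U hy) w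
      have iso : ∀ z ∈ Rad C U, ∀ b ∈ P.perp U,
          P.B (C.act z b - b) w + P.B b (C.act z w - w) = 0 := fun z hz b hb => by
        have a1 := P.mem_perp.1 (h.fix_range (rad_le_fix U hz) w) _ (hz.2 b hb)
        have a2 := C.B_act z b w
        rw [P.B_sub_left, P.B_sub_right, P.B_sub_right] at a1
        rw [P.B_sub_left, P.B_sub_right]
        linear_combination a2 - a1
      have hv : C.act y (C.act x w) - w ∈ P.perp U := by
        have := add_mem (h.fix_range (rad_le_fix U hy) (C.act x w)) ha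
        rwa [sub_add_sub_cancel] at this
      have a1 := P.mem_perp.1 hv _ (sub_mem (hx.2 _ hb) (hy.2 _ ha))
      rw [map_sub, sub_eq_zero] at a1
      rw [h.loc_nu', key, a1, P.B_sub_left]
      have a2 := iso x hx _ hb
      have a3 := iso y hy _ ha
      rw [h.B_comm (C.act x w - w)] at a3
      linear_combination a2 - a3
  · obtain ⟨a, ha, ha'⟩ := h.loc_exists hU hM
    obtain ⟨b, b1, b2⟩ := P.exists_dual_vec C.nondeg U ha'
    have hb : b ∈ P.perp U := P.mem_perp'.2 b2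
    have BU : ∀ p ∈ U, ∀ w ∈ P.perp U, P.B p w = 0 := fun p hp w hw => P.mem_perp.1 hw p hp
    have k1 : ∀ p ∈ U, ∀ p' ∈ U, C.T p' p 0 ∈ ⁅Rad C U, Rad C U⁆ := fun p hp p' hp' => by
      have a0 := h.T_mem_rad hU hp hb 0
      have a1 := commutator_mem_commutator a0 (h.T_mem_rad hU hp' ha 0)
      have a2 : P.B p' (a + p) = 0 := BU p' hp' _ (add_mem ha (hU hp))
      rwa [commutatorElement_def, h.T_conj _ (BU p' hp' a ha), a0.1 p' hp', h.x_app (BU p hp b hb), b1,
        BU p hp a ha, one_smul, zero_smul, add_zero, h.loc_inv (h.T_sq (BU p' hp' a ha) 0),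
        h.T_mul a2 (BU p' hp' a ha), P.B_add_left, h.B_self, BU p hp a ha, add_right_comm a,
        h.vadd_self, zero_add p, add_zero, add_zero] at a1
    obtain ⟨D, D1, D2, D3⟩ := h.exists_D hU
    have ab : ∀ x ∈ C.fixG (P.perp U), ∀ y ∈ C.fixG (P.perp U), x * y = y * x := fun x hx y hy =>
      h.E_cent hU hy x (fix_anti hU hx)
    let K : Subgroup S :=
      { carrier := {s | s ∈ C.fixG (P.perp U) ∧ s * C.T (D s) 0 1 ∈ ⁅Rad C U, Rad C U⁆}
        one_mem' := ⟨one_mem _, by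
          have := D2 1 (one_mem _) 1 (one_mem _)
          rw [one_mul, h.vadd_self] at this
          rw [this, h.T_zero', one_mul]; exact one_mem _⟩
        mul_mem' := fun {x y} hx hy => ⟨mul_mem hx.1 hy.1, by
          have d1 := (D1 x hx.1).1
          have d2 := (D1 y hy.1).1
          rw [D2 x hx.1 y hy.1, h.T_line (BU _ d1 _ (hU d2)), one_smul, ← mul_assoc, ← mul_assoc,
            mul_assoc x, ab y hy.1 _ (h.T_mem_E hU d1 (zero_mem _) 1), ← mul_assoc, mul_assoc _ y]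
          exact mul_mem (mul_mem hx.2 hy.2) (k1 _ d2 _ d1)⟩
        inv_mem' := fun a => by rw [h.loc_inv (h.E_sq hU a.1)]; exact a }
    have a1 := (h.E_gen hU (H := K) (fun p hp c => ⟨h.T_mem_E hU hp (zero_mem _) c, by
      obtain ⟨r, rfl⟩ := h.exists_sqrt c
      rw [D3 p hp 0 (zero_mem _), h.T_smul (map_zero _), smul_zero, mul_one, h.T_sq (map_zero _)]
      exact one_mem _⟩) hs).2
    have a2 : D s = 0 := h.nd fun w => by
      have := (D1 s hs).2 w
      rw [hs'] at this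
      exact mul_self_eq_zero.1 this.symm
    rwa [a2, h.T_zero', mul_one] at a1

/-- involutions outside `Y_l` which are trivial on `l^⊥ / l` -/
theorem mem_Q_of {e u : V} (k : Ln P e u) {s : S} (s2 : s * s = 1) (h1 : C.act s e = e)
    (h2 : C.act s u = u + e) (h3 : ∀ v ∈ P.perp (span F {e, u}), C.act s v - v ∈ span F {e, u}) :
    s ∈ Rad C (span F {e}) := by
  have n1 : ∀ v, C.act s (C.act s v - v) = C.act s v - v := fun v => by
    rw [map_sub, ← C.mul_apply, s2, C.one_apply, h.vsub_eq, h.vsub_eq, add_comm]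
  have key : ∀ x ∈ span F {e, u}, C.act s x = x → x ∈ span F {e} := fun x hx e1 => by
    obtain ⟨α, β, rfl⟩ := Submodule.mem_span_pair.1 hx
    rw [map_add, map_smul, map_smul, h1, h2, smul_add, ← add_assoc, add_eq_left] at e1
    rw [(smul_eq_zero.1 e1).resolve_right k.ne, zero_smul, add_zero]
    exact Submodule.smul_mem _ _ (Submodule.mem_span_singleton_self e)
  refine ⟨mem_fix_pt.2 h1, fun v hv => key _ (h.loc_mem _ fun w hw => ?_) (n1 v)⟩
  have a1 := P.mem_perp.1 hv _ (key _ (h3 w hw) (n1 w))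
  rw [P.B_sub_left, C.B_act_left, h.loc_inv s2] at a1
  rw [map_sub, a1]

end Mod

end CfsgLib.SPC
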