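import Cfsg.Agent.Lib.SPC.ShA

/-! t ~ t a: an element centralising R_l -/

set_option autoImplicit false
set_option linter.unusedSectionVars false

namespace CfsgLib.SPC

open Subgroup Module CfsgLib.Forms CfsgLib.LieMult
open CfsgLib.HX (Std CO Two Mv M2)
open CfsgLib.UN (AV SI TI HH Rad Stb Yg Rg Eg Act nu)
open CfsgLib.ClSys (II)
open Submodule (span)
open scoped commutatorElement Pointwise

universe u

variable {F : Type} [Field F] [Finite F] {V : Type} [AddCommGroup V] [Module F V]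
  [FiniteDimensional F V] {P : PQ (RingHom.id F) V} {S : Type} [Group S] [Finite S] {G : Type u}
  [Group G] [Finite G] {C : CG P S} {φ : S →* G} {t : G}

theorem kc_stb {U : Submodule F V} {s : S} (h : ∀ v ∈ U, C.act s v ∈ U) : s ∈ Stb C U := fun v => by
  refine ⟨fun hv => ?_, h v⟩
  have e1 : U.map (C.act s).toLinearMap = U :=
    Submodule.eq_of_le_of_finrank_eq (fun w ⟨u, hu, e⟩ => e ▸ h u hu) (LinearEquiv.finrank_map_eq _ _)
  rw [← e1] at hv
  obtain ⟨u, hu, e⟩ := hv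
  rwa [← (C.act s).injective e]

theorem kc_stb2 {e a : V} {s : S} (h1 : C.act s e ∈ span F {e, a}) (h2 : C.act s a ∈ span F {e, a}) :
    s ∈ Stb C (span F {e, a}) := kc_stb fun v hv => by
  obtain ⟨c, d, rfl⟩ := Submodule.mem_span_pair.1 hv
  rw [map_add, map_smul, map_smul]
  exact add_mem (Submodule.smul_mem _ _ h1) (Submodule.smul_mem _ _ h2)

theorem kc_l (e a : V) : e ∈ span F {e, a} := Submodule.subset_span (by simp)

theorem kc_r (e a : V) : a ∈ span F {e, a} := Submodule.subset_span (by simp)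

theorem Mod.kc_perp (h : Mod C) {e a v : V} :
    v ∈ P.perp (span F {e, a}) ↔ P.B e v = 0 ∧ P.B a v = 0 := by
  rw [h.mem_perp_span]; simp

theorem Mod.kc_pair (h : Mod C) {e a : V} (k : Ln P e a) :
    ∃ u v, P.B u v = 1 ∧ u ∈ P.perp (span F {e, a}) ∧ v ∈ P.perp (span F {e, a}) := by
  obtain ⟨f, f', hh⟩ := h.hh_of_ln k
  obtain ⟨u, v, h1, h2, h3, h4, h5, -⟩ := h.exists_hp3 (e := e) (u := a) (c := f')
    (by rw [h.hp_iff.1 hh.h₂]; exact one_ne_zero) k.perp hh.ef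
  exact ⟨u, v, h1, h.kc_perp.2 ⟨h2, h4⟩, h.kc_perp.2 ⟨h3, h5⟩⟩

theorem kc_nmem {U : Submodule F V} {u v : V} (hv : v ∈ P.perp U) (k : P.B u v ≠ 0) :
    u ∉ U := fun hu => k (hv u hu)

theorem Kl.symm {e a : V} {p : G} (hp : Kl C φ t e a p) : Kl C φ t a e p :=
  ⟨by rw [Set.pair_comm]; exact hp.nY, by rw [Set.pair_comm]; exact hp.triv⟩

namespace Sit

variable (h : Sit C φ t) {e a : V} {p : G}
include h

theorem kc_EL {U : Submodule F V} (hU : TI P U) : Eg C φ U ≤ φ.range :=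
  ((h.E_le_R hU).trans h.R_le_Y).trans h.Y_le_L

theorem kc_RL {U : Submodule F V} : Rg C φ U ≤ φ.range := h.R_le_Y.trans h.Y_le_L

theorem kc_of_L {H : Subgroup G} (hH : H ≤ φ.range) {g : G} (hg : g ∈ H ⊔ zpowers t)
    (hL : g ∈ φ.range) : g ∈ H := by
  rcases (h.mem_sup_t hH).1 hg with k | k
  · exact k
  · exact absurd (by simpa using mul_mem (hH k) (inv_mem hL)) h.t_not_mem

theorem kc_cen {U : Submodule F V} (hU : TI P U) {ε y : G} (hε : ε ∈ Eg C φ U ⊔ zpowers t)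
    (hy : y ∈ Yg C φ U) : y * ε = ε * y := by
  rcases (h.mem_sup_t (h.kc_EL hU)).1 hε with k | k
  · exact h.E_cent hU k y hy
  · have e1 := h.E_cent hU k y hy
    have e2 := h.tL (h.Y_le_L hy)
    rw [← mul_assoc, e2, mul_assoc, mul_assoc] at e1
    exact mul_left_cancel e1

theorem kc_ct {U : Submodule F V} (hU : TI P U) {ε : G} (hε : ε ∈ Eg C φ U ⊔ zpowers t) :
    ε * t = t * ε := by
  rcases (h.mem_sup_t (h.kc_EL hU)).1 hε with k | k
  · exact h.tL (h.kc_EL hU k)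
  · have e2 := h.tL (h.kc_EL hU k)
    rw [mul_assoc] at e2
    exact mul_left_cancel e2

theorem kc_sq {U : Submodule F V} (hU : TI P U) {ε : G} (hε : ε ∈ Eg C φ U ⊔ zpowers t) :
    ε * ε = 1 := by
  rcases (h.mem_sup_t (h.kc_EL hU)).1 hε with k | k
  · exact h.E_sq hU k
  · have e1 := h.E_sq hU k
    have e2 := h.kc_ct hU hε
    calc ε * ε = t * t * (ε * ε) := by rw [h.t2, one_mul]
      _ = t * (t * ε) * ε := by group
      _ = t * (ε * t) * ε := by rw [e2]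
      _ = t * ε * (t * ε) := by group
      _ = 1 := e1

theorem kc_comm {U : Submodule F V} (hU : TI P U) {ε ε' : G} (hε : ε ∈ Eg C φ U ⊔ zpowers t)
    (hε' : ε' ∈ Eg C φ U ⊔ zpowers t) : ε * ε' = ε' * ε := by
  rw [eq_inv_of_mul_eq_one_left (h.kc_sq hU (mul_mem hε hε')), mul_inv_rev,
    inv_eq_of_mul_eq_one_left (h.kc_sq hU hε), inv_eq_of_mul_eq_one_left (h.kc_sq hU hε')]

theorem kc_nt {H : Subgroup G} {g : G} (h1 : g ∈ normalizer (H : Set G)) (h2 : g * t = t * g) :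
    g ∈ normalizer ((H ⊔ zpowers t : Subgroup G) : Set G) :=
  HX.mem_nsup h1 (centralizer_le_normalizer _ (mem_centralizer_iff.2 fun y hy => by
    obtain ⟨n, rfl⟩ := mem_zpowers_iff.1 hy
    exact ((show Commute g t from h2).zpow_right n).eq.symm))

theorem kl_mul (k : Ln P e a) {q : G} (hp : Kl C φ t e a p) (hq : Kl C φ t e a q) :
    Kl C φ t e a (p * q) := by
  refine ⟨mul_mem hp.nY hq.nY, fun r hr => ?_⟩
  have e1 := (mem_normalizer_iff.1 (h.norm_E (h.ti_pair k.perp) hp.nY) _).1 (hq.triv r hr)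
  have := mul_mem e1 (hp.triv r hr)
  convert this using 1; group

theorem kl_inv (k : Ln P e a) (hp : Kl C φ t e a p) : Kl C φ t e a p⁻¹ := by
  refine ⟨inv_mem hp.nY, fun r hr => ?_⟩
  have e1 := (mem_normalizer_iff.1 (inv_mem (h.norm_E (h.ti_pair k.perp) hp.nY)) _).1
    (inv_mem (hp.triv r hr))
  convert e1 using 1; group

theorem kl_t : Kl C φ t e a t := by
  refine ⟨h.kc_nt (h.t_norm h.Y_le_L) rfl, fun r hr => ?_⟩
  rw [← h.tL (h.kc_RL hr)]; simp

theorem kc_norm {U : Submodule F V} {s : S} (hs : s ∈ Stb C U) :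
    φ s ∈ normalizer (Yg C φ U : Set G) ∧ φ s ∈ normalizer (Rg C φ U : Set G) ∧
      φ s ∈ normalizer (Eg C φ U : Set G) :=
  h.act_norm (h.act_self s) hs

theorem kl_conj (hp : Kl C φ t e a p) {s : S} (hs : s ∈ Stb C (span F {e, a})) :
    Kl C φ t e a (φ s * p * (φ s)⁻¹) := by
  obtain ⟨n1, n2, n3⟩ := h.kc_norm hs
  have n1' := h.kc_nt n1 (h.tl s)
  have n3' := h.kc_nt n3 (h.tl s)
  refine ⟨mul_mem (mul_mem n1' hp.nY) (inv_mem n1'), fun r hr => ?_⟩
  have e1 := (mem_normalizer_iff.1 n3' _).1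
    (hp.triv _ ((mem_normalizer_iff.1 (inv_mem n2) r).1 hr))
  convert e1 using 1; group

/-- `K₀ ∩ C(t) = R_l C₀` -/
theorem kl_cent (k : Ln P e a) (hp : Kl C φ t e a p) (ht : p * t = t * p) :
    ∃ r ∈ Rg C φ (span F {e, a}), ∃ c ∈ centralizer (φ.range : Set G), p = r * c := by
  have hU := h.ti_pair k.perp
  obtain ⟨α, γ, hγ⟩ := h.exists_act (h.norm_of ht)
  have key : ∀ b ∈ span F {e, a}, ∀ u ∈ P.perp (span F {e, a}), ∀ v ∈ P.perp (span F {e, a}),
      P.B (γ u) v • γ b + P.B (γ b) v • γ u = P.B u v • b := by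
    intro b hb u hu v hv
    have bu : P.B b u = 0 := hu b hb
    have bu' : P.B (γ b) (γ u) = 0 := by rw [hγ.B_eq, bu, map_zero]
    have r1 : x C φ b u ∈ Rg C φ (span F {e, a}) := h.τ_mem_R hU hb hu 0
    have e1 := hp.triv _ r1
    rw [h.act_x hγ bu] at e1
    obtain ⟨s, hs, e2⟩ := h.kc_of_L (h.kc_EL hU) e1
      (mul_mem ⟨_, rfl⟩ (inv_mem (h.kc_RL r1)))
    have e3 : s * C.T b u 0 = C.T (γ b) (γ u) 0 := h.inj (by
      rw [map_mul, e2]; simp [x])
    have e4 := congrArg (fun g => C.act g v) e3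
    simp only [C.mul_apply] at e4
    rw [h.x_app bu, h.x_app bu', hv b hb, zero_smul, add_zero,
      hs _ (add_mem hv (Submodule.smul_mem _ _ (hU hb))), add_assoc] at e4
    exact (add_left_cancel e4).symm
  have k' := SI_ln hγ.toSI k
  have k0 : ∀ v ∈ P.perp (span F {e, a}), P.B (γ a) v = 0 ∧ P.B (γ e) v = 0 := by
    intro v hv
    have := key e (kc_l e a) a (hU (kc_r e a)) v hv
    rw [hv a (kc_r e a), zero_smul] at this
    exact h.ln_inj k' (c' := 0) (d' := 0) (by simpa using this)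
  obtain ⟨u₀, v₀, uv, hu₀, hv₀⟩ := h.kc_pair k
  set l := P.B (γ u₀) v₀ with hl
  have ge : l • γ e = e := by
    have := key e (kc_l e a) u₀ hu₀ v₀ hv₀
    rwa [(k0 v₀ hv₀).2, zero_smul, add_zero, uv, one_smul] at this
  have ga : l • γ a = a := by
    have := key a (kc_r e a) u₀ hu₀ v₀ hv₀
    rwa [(k0 v₀ hv₀).1, zero_smul, add_zero, uv, one_smul] at this
  have l0 : l ≠ 0 := fun e1 => k.ne (by rw [← ge, e1, zero_smul])
  have gB : ∀ u ∈ P.perp (span F {e, a}), ∀ v ∈ P.perp (span F {e, a}),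
      P.B (γ u) v = P.B u v * l := by
    intro u hu v hv
    have := key e (kc_l e a) u hu v hv
    rw [(k0 v hv).2, zero_smul, add_zero] at this
    have e2 : P.B (γ u) v • γ e = (P.B u v * l) • γ e := by rw [this, ← smul_smul, ge]
    exact smul_left_injective F k'.ne e2
  have a1 : α = 1 := by
    refine RingEquiv.ext fun μ => ?_
    have := gB (μ • u₀) (Submodule.smul_mem _ _ hu₀) v₀ hv₀
    rw [hγ.semi, h.B_smul_left, h.B_smul_left, uv, mul_one, ← hl] at this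
    exact mul_right_cancel₀ l0 this
  subst a1
  obtain ⟨s, hs, c, hc, rfl⟩ := h.act_one hγ
  have gp : ∀ v ∈ P.perp (span F {e, a}), γ v ∈ P.perp (span F {e, a}) := by
    intro v hv
    refine h.kc_perp.2 ⟨?_, ?_⟩
    · rw [← ge, h.B_smul_left, hγ.B_eq, hv e (kc_l e a), map_zero, mul_zero]
    · rw [← ga, h.B_smul_left, hγ.B_eq, hv a (kc_r e a), map_zero, mul_zero]
  have l1 : l = 1 := by
    have e1 := gB u₀ hu₀ _ (gp v₀ hv₀)
    rw [hγ.B_eq, uv, h.B_comm u₀, gB v₀ hv₀ u₀ hu₀, h.B_comm v₀, uv, map_one] at e1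
    exact h.sq_inj (by rw [one_mul] at e1; rw [← e1, one_mul])
  rw [l1, one_smul] at ge ga
  refine ⟨φ s, ⟨s, ⟨mem_fix_pair.2 ⟨by rw [hs, ge], by rw [hs, ga]⟩, fun v hv => ?_⟩, rfl⟩, c, hc, rfl⟩
  refine h.loc_mem _ fun w hw => ?_
  rw [h.B_comm, h.vsub_eq, P.B_add_left, hs, gB v hv w hw, l1, mul_one, h.add_self]

/-- `p y p⁻¹ ∈ y R_l ⟨t⟩` -/
theorem kl_Y (k : Ln P e a) (hp : Kl C φ t e a p) {y : G} (hy : y ∈ Yg C φ (span F {e, a})) :
    y⁻¹ * (p * y * p⁻¹) ∈ Rg C φ (span F {e, a}) ⊔ zpowers t := by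
  have key : ∀ q ∈ Yg C φ (span F {e, a}), Kl C φ t e a q → q ∈ Rg C φ (span F {e, a}) := by
    intro q hq kq
    obtain ⟨r, hr, c, hc, e1⟩ := h.kl_cent k kq (h.tL (h.Y_le_L hq))
    have := h.dec_inj (h.Y_le_L hq) (h.kc_RL hr) (one_mem _) hc (by rw [mul_one, e1])
    rw [this.1]; exact hr
  have m1 : y⁻¹ * (p * y * p⁻¹) ∈ Yg C φ (span F {e, a}) ⊔ zpowers t :=
    mul_mem (mem_sup_left (inv_mem hy)) ((mem_normalizer_iff.1 hp.nY _).1 (mem_sup_left hy))
  have m2 : Kl C φ t e a (y⁻¹ * (p * y * p⁻¹)) := by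
    obtain ⟨s, hs, rfl⟩ := hy
    have := h.kl_mul k (h.kl_conj hp (inv_mem (fix_le_stb _ hs))) (h.kl_inv k hp)
    convert this using 1; rw [map_inv]; group
  rw [h.mem_sup_t h.kc_RL]
  exact ((h.mem_sup_t h.Y_le_L).1 m1).imp (fun m => key _ m m2)
    fun m => key _ m (h.kl_mul k h.kl_t m2)

theorem kc_xx (k : P.B e a = 0) {u v : V} (hu : u ∈ P.perp (span F {e, a}))
    (hv : v ∈ P.perp (span F {e, a})) :
    x C φ e u * x C φ a v * x C φ e u = x C φ a v * x C φ e (P.B u v • a) := by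
  obtain ⟨u1, u2⟩ := h.kc_perp.1 hu
  obtain ⟨v1, v2⟩ := h.kc_perp.1 hv
  have ae : P.B a e = 0 := by rw [h.B_comm, k]
  have := h.x_τ (e := a) (a := v) u1 v2 0
  rw [h.B_comm u a, u2, k, v1] at this
  simp only [zero_smul, add_zero] at this
  rw [← h.x_smul k, h.x_symm (e := P.B u v • e) (by rw [h.B_smul_left, k, mul_zero]),
    ← h.x_add v2 (by rw [P.B_smul_right, ae, mul_zero])
      (by rw [P.B_smul_right, h.B_comm v e, v1, mul_zero])]
  exact this

theorem kl_A (k : Ln P e a) (hp : Kl C φ t e a p) (c : F) : Commute p (x C φ e (c • a)) := by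
  have hU := h.ti_pair k.perp
  obtain ⟨u, v, uv, hu, hv⟩ := h.kc_pair k
  have hv' := Submodule.smul_mem _ c hv
  have e1 := h.kc_xx k.perp hu hv'
  rw [P.B_smul_right, uv, mul_one] at e1
  have r1 : x C φ e u ∈ Rg C φ (span F {e, a}) := h.τ_mem_R hU (kc_l e a) hu 0
  have r2 : x C φ a (c • v) ∈ Rg C φ (span F {e, a}) := h.τ_mem_R hU (kc_r e a) hv' 0
  have t1 := hp.triv _ r1
  have t2 := hp.triv _ r2
  set X := x C φ e u
  set X' := x C φ a (c • v)
  set ε := p * X * p⁻¹ * X⁻¹ with hε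
  set ε' := p * X' * p⁻¹ * X'⁻¹ with hε'
  have c1 := h.kc_cen hU t1 (h.R_le_Y r1)
  have c2 := h.kc_cen hU t1 (h.R_le_Y r2)
  have c3 := h.kc_cen hU t2 (h.R_le_Y r1)
  have s1 := h.kc_sq hU t1
  have e2 : x C φ e (c • a) = X'⁻¹ * (X * X' * X) := by rw [e1]; group
  have p1 : p * X * p⁻¹ = ε * X := by rw [hε]; group
  have p2 : p * X' * p⁻¹ = ε' * X' := by rw [hε']; group
  have c5 : ε * ε' = ε' * ε := h.kc_comm hU t1 t2
  have e3 : p * (X'⁻¹ * (X * X' * X)) * p⁻¹ = X'⁻¹ * (X * X' * X) := by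
    calc p * (X'⁻¹ * (X * X' * X)) * p⁻¹
        = (p * X' * p⁻¹)⁻¹ * (p * X * p⁻¹ * (p * X' * p⁻¹) * (p * X * p⁻¹)) := by group
      _ = X'⁻¹ * (ε'⁻¹ * ε * (X * ε') * (X' * ε) * X) := by rw [p1, p2]; group
      _ = X'⁻¹ * (ε'⁻¹ * (ε * ε') * (X * ε) * X' * X) := by rw [c3, c2]; group
      _ = X'⁻¹ * ((ε * ε) * X * X' * X) := by rw [c5, c1]; group
      _ = X'⁻¹ * (X * X' * X) := by rw [s1]; group
  rw [e2]
  exact mul_inv_eq_iff_eq_mul.1 e3

theorem kc_sl (k : Ln P e a) (hp : Kl C φ t e a p) (pt : p * t * p⁻¹ = t * x C φ e a) {s : S}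
    (hs : s ∈ Stb C (span F {e, a})) (hx : x C φ (C.act s e) (C.act s a) = x C φ e a) {ε : G}
    (hε : ε ∈ Eg C φ (span F {e, a})) :
    p * (φ s * ε * (φ s)⁻¹) * p⁻¹ = φ s * (p * ε * p⁻¹) * (φ s)⁻¹ := by
  have hU := h.ti_pair k.perp
  have e1 : φ s * p * (φ s)⁻¹ * t * (φ s * p * (φ s)⁻¹)⁻¹ = p * t * p⁻¹ := by
    calc φ s * p * (φ s)⁻¹ * t * (φ s * p * (φ s)⁻¹)⁻¹
        = φ s * (p * ((φ s)⁻¹ * (t * φ s)) * p⁻¹) * (φ s)⁻¹ := by group
      _ = φ s * (p * t * p⁻¹) * (φ s)⁻¹ := by rw [← h.tl s]; group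
      _ = (φ s * t) * (φ s)⁻¹ * (φ s * x C φ e a * (φ s)⁻¹) := by rw [pt]; group
      _ = p * t * p⁻¹ := by rw [h.x_conj s k.perp, hx, h.tl s, pt]; group
  obtain ⟨r, hr, c, hc, e2⟩ := h.kl_cent k (h.kl_mul k (h.kl_inv k hp) (h.kl_conj hp hs)) (by
    calc p⁻¹ * (φ s * p * (φ s)⁻¹) * t
        = p⁻¹ * (φ s * p * (φ s)⁻¹ * t * (φ s * p * (φ s)⁻¹)⁻¹) * (φ s * p * (φ s)⁻¹) := by group
      _ = t * (p⁻¹ * (φ s * p * (φ s)⁻¹)) := by rw [e1]; group)
  have m1 : φ s * ε * (φ s)⁻¹ ∈ Eg C φ (span F {e, a}) :=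
    (mem_normalizer_iff.1 (h.kc_norm hs).2.2 ε).1 hε
  have c1 := h.E_cent hU m1 r (h.R_le_Y hr)
  have c2 := hc _ (h.kc_EL hU m1)
  have e3 : r * c * (φ s * ε * (φ s)⁻¹) * (r * c)⁻¹ = φ s * ε * (φ s)⁻¹ := by
    calc r * c * (φ s * ε * (φ s)⁻¹) * (r * c)⁻¹
        = r * (c * (φ s * ε * (φ s)⁻¹)) * c⁻¹ * r⁻¹ := by group
      _ = r * (φ s * ε * (φ s)⁻¹) * r⁻¹ := by rw [← c2]; group
      _ = φ s * ε * (φ s)⁻¹ := by rw [c1]; group
  rw [← e2] at e3
  conv_lhs => rw [← e3]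
  group

theorem kc_z (k : Ln P e a) (hp : Kl C φ t e a p) (pt : p * t * p⁻¹ = t * x C φ e a) (c : F) :
    ∃ r v : F, r + v = c ∧ p * z C φ e c * p⁻¹ = z C φ e r * x C φ e (v • a) := by
  have hU := h.ti_pair k.perp
  have ea := k.perp
  have ae : P.B a e = 0 := by rw [h.B_comm, ea]
  obtain ⟨f, f', hh⟩ := h.hh_of_ln k
  have ef := h.hp_iff.1 hh.h₁
  have af' := h.hp_iff.1 hh.h₂
  have af : P.B a f = 0 := by rw [h.B_comm, hh.fe]
  have zE : ∀ u ∈ span F {e, a}, ∀ c, z C φ u c ∈ Eg C φ (span F {e, a}) := fun u hu c =>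
    h.τ_mem_E hU hu (zero_mem _) c
  have xE : ∀ v : F, x C φ e (v • a) ∈ Eg C φ (span F {e, a}) := fun v =>
    h.τ_mem_E hU (kc_l e a) (Submodule.smul_mem _ _ (kc_r e a)) 0
  have eva : ∀ v : F, P.B e (v • a) = 0 := fun v => by rw [P.B_smul_right, ea, mul_zero]
  -- the two root elements of `SL(l)`
  have s1 := h.loc_T_stb hU (kc_l e a) hh.ef
  have s2 := h.loc_T_stb hU (kc_r e a) af
  have a1e : C.act (C.T e f' 0) e = e := by
    rw [h.x_app hh.ef, h.B_comm f', hh.ef, h.B_self]; simp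
  have a1a : C.act (C.T e f' 0) a = a + e := by
    rw [h.x_app hh.ef, h.B_comm f', af', ea]; simp
  have a2e : C.act (C.T a f 0) e = e + a := by
    rw [h.x_app af, h.B_comm f, ef, ae]; simp
  have a2a : C.act (C.T a f 0) a = a := by
    rw [h.x_app af, hh.fe, h.B_self]; simp
  have x1 : ∀ v : F, x C φ (C.act (C.T e f' 0) e) (C.act (C.T e f' 0) (v • a)) = x C φ e (v • a) := by
    intro v; rw [map_smul, a1e, a1a, smul_add, h.x_shift (eva v)]
  have x2 : ∀ v : F, x C φ (C.act (C.T a f 0) e) (C.act (C.T a f 0) (v • a)) = x C φ e (v • a) := by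
    intro v
    have := h.loc_x ea 1 1 0 v
    rw [map_smul, a2e, a2a]; simpa using this
  have k1 := fun ε hε => h.kc_sl k hp pt s1 (by simpa using x1 1) (ε := ε) hε
  have k2 := fun ε hε => h.kc_sl k hp pt s2 (by simpa using x2 1) (ε := ε) hε
  set m₁ := φ (C.T e f' 0)
  set m₂ := φ (C.T a f 0)
  have m1 := (mem_normalizer_iff.1 (h.norm_E hU hp.nY) _).1 (mem_sup_left (zE e (kc_l e a) c))
  obtain ⟨ε, hε, τ, hτ, τL, e1⟩ : ∃ ε ∈ Eg C φ (span F {e, a}), ∃ τ, (τ = 1 ∨ τ = t) ∧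
      τ ∈ centralizer (φ.range : Set G) ∧ p * z C φ e c * p⁻¹ = ε * τ := by
    rcases (h.mem_sup_t (h.kc_EL hU)).1 m1 with m | m
    · exact ⟨_, m, 1, Or.inl rfl, one_mem _, (mul_one _).symm⟩
    · refine ⟨_, m, t, Or.inr rfl, h.tC, ?_⟩
      rw [h.tL (h.kc_EL hU m), ← mul_assoc, h.t2, one_mul]
  obtain ⟨r, v, r', rfl⟩ := (h.mem_El k).1 hε
  have τc : ∀ s, φ s * τ = τ * φ s := fun s => τL _ ⟨s, rfl⟩
  have cj : ∀ (s : S) (g : G), φ s * (g * τ) * (φ s)⁻¹ = φ s * g * (φ s)⁻¹ * τ := fun s g => by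
    have := τc s⁻¹
    rw [map_inv] at this
    rw [mul_assoc _ _ τ, this]; group
  have sp : ∀ g g' g'' : G, ∀ m : G, m * (g * g' * g'') * m⁻¹ =
      m * g * m⁻¹ * (m * g' * m⁻¹) * (m * g'' * m⁻¹) := fun _ _ _ _ => by group
  have r0 : r' = 0 := by
    have := k1 _ (zE e (kc_l e a) c)
    rw [h.z_conj, a1e, e1, cj, sp, h.z_conj, h.z_conj, h.x_conj _ (eva v), x1, a1e, a1a,
      add_comm a e, h.z_line ea] at this
    have e2 := mul_right_cancel this
    have e3 : z C φ e r * x C φ e (v • a) * (z C φ e r' * z C φ a r' * x C φ e (r' • a)) =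
        z C φ e (r + r') * x C φ e ((v + r') • a) * z C φ a r' := by
      have c1 := h.E_cent hU (xE v) _ (h.R_le_Y (h.E_le_R hU (zE e (kc_l e a) r')))
      have c2 := h.E_cent hU (xE r') _ (h.R_le_Y (h.E_le_R hU (zE a (kc_r e a) r')))
      rw [h.z_add, add_smul, h.x_add (eva v) (eva r') (by
        rw [h.B_smul_left, P.B_smul_right, h.B_self, mul_zero, mul_zero])]
      calc _ = z C φ e r * (x C φ e (v • a) * z C φ e r') * (z C φ a r' * x C φ e (r' • a)) := by group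
        _ = _ := by rw [← c1, c2]; group
    rw [e3] at e2
    have := (h.line_inj k e2).1
    exact (add_eq_left.1 this.symm)
  subst r0
  rw [h.z_zero, mul_one] at e1
  have sp2 : ∀ g g' : G, ∀ m : G, m * (g * g') * m⁻¹ = m * g * m⁻¹ * (m * g' * m⁻¹) :=
    fun _ _ _ => by group
  have e2 : p * z C φ (e + a) c * p⁻¹ = z C φ (e + a) r * x C φ e (v • a) * τ := by
    have := k2 _ (zE e (kc_l e a) c)
    rwa [h.z_conj, a2e, e1, cj, sp2, h.z_conj, h.x_conj _ (eva v), x2, a2e] at this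
  have e3 : p * z C φ a c * p⁻¹ = z C φ a r * x C φ e (v • a) * τ := by
    have := k1 _ (zE (e + a) (add_mem (kc_l e a) (kc_r e a)) c)
    have aa : C.act (C.T e f' 0) (e + a) = a := by
      rw [map_add, a1e, a1a, add_comm a e, ← add_assoc, h.vadd_self, zero_add]
    rwa [h.z_conj, aa, e2, cj, sp2, h.z_conj, h.x_conj _ (eva v), x1, aa] at this
  have e4 : p * x C φ e (c • a) * p⁻¹ = x C φ e (c • a) := by
    rw [(h.kl_A k hp c).eq, mul_inv_cancel_right]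
  rw [h.z_line ea, sp, e1, e3, e4, h.z_line ea] at e2
  have τ2 : τ * τ = 1 := by rcases hτ with rfl | rfl; exacts [mul_one _, h.t2]
  have e5 : z C φ e r * x C φ e (v • a) * τ * (z C φ a r * x C φ e (v • a) * τ) * x C φ e (c • a) =
      z C φ e r * z C φ a r * x C φ e (c • a) := by
    have c1 := h.E_cent hU (xE v) _ (h.R_le_Y (h.E_le_R hU (zE a (kc_r e a) r)))
    have c2 : τ * (z C φ a r * x C φ e (v • a)) = z C φ a r * x C φ e (v • a) * τ :=
      (τL _ (mul_mem ⟨_, rfl⟩ ⟨_, rfl⟩)).symm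
    calc _ = z C φ e r * x C φ e (v • a) * (τ * (z C φ a r * x C φ e (v • a))) * τ *
          x C φ e (c • a) := by group
      _ = z C φ e r * (x C φ e (v • a) * z C φ a r) * x C φ e (v • a) * (τ * τ) *
          x C φ e (c • a) := by rw [c2]; group
      _ = z C φ e r * z C φ a r * (x C φ e (v • a) * x C φ e (v • a)) * x C φ e (c • a) := by
          rw [← c1, τ2]; group
      _ = _ := by rw [h.x_sq (eva v), mul_one]
  rw [e5, mul_assoc _ _ τ, mul_assoc (z C φ e r * z C φ a r)] at e2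
  have e6 := mul_left_cancel e2
  rw [← mul_assoc, ← h.x_add (eva r) (eva v) (by
    rw [h.B_smul_left, P.B_smul_right, h.B_self, mul_zero, mul_zero]), ← add_smul] at e6
  obtain ⟨e7, e8⟩ := h.dec_inj ⟨_, rfl⟩ ⟨_, rfl⟩ (one_mem _) τL ((mul_one _).trans e6)
  refine ⟨r, v, ?_, by rw [e1, ← e8, mul_one]⟩
  have := h.line_inj k (r := 0) (r' := 0) (s := 0) (s' := 0) (v := c) (u := r + v)
    (by rw [show x C φ e (c • a) = x C φ e ((r + v) • a) from e7])
  exact this.2.1.symm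

theorem kc_z' (k : Ln P e a) (hp : Kl C φ t e a p) (pt : p * t * p⁻¹ = t * x C φ e a) (c : F) :
    p * z C φ e c * p⁻¹ = z C φ e c := by
  have hU := h.ti_pair k.perp
  have eva : ∀ v : F, P.B e (v • a) = 0 := fun v => by rw [P.B_smul_right, k.perp, mul_zero]
  have inj : ∀ {r v s u : F}, z C φ e r * x C φ e (v • a) = z C φ e s * x C φ e (u • a) →
      r = s ∧ v = u := fun {r v s u} e1 => by
    have := h.line_inj k (r := r) (v := v) (s := s) (u := u) (r' := 0) (s' := 0) (by rw [e1])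
    exact ⟨this.1, this.2.1⟩
  obtain ⟨r, v, e1, e2⟩ := h.kc_z k hp pt c
  by_cases v0 : v = 0
  · subst v0
    rw [e2, zero_smul, h.x_zero, mul_one, ← e1, add_zero]
  exfalso
  have c0 : c ≠ 0 := by
    rintro rfl
    rw [h.z_zero, mul_one, mul_inv_cancel] at e2
    exact v0 (inj (s := 0) (u := 0) (by rw [← e2, h.z_zero, zero_smul, h.x_zero, mul_one])).2
  obtain ⟨l, hl⟩ := h.exists_sqrt (v / c)
  have l0 : l ≠ 0 := by
    rintro rfl
    exact div_ne_zero v0 c0 (by rw [← hl, mul_zero])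
  obtain ⟨f, f', hh⟩ := h.hh_of_ln k
  obtain ⟨s, -, s1, -, s2, -⟩ := h.exists_diag hh l0 (inv_ne_zero l0)
  have hs : s ∈ Stb C (span F {e, a}) := kc_stb2 (by rw [s1]; exact Submodule.smul_mem _ _ (kc_l e a))
    (by rw [s2]; exact Submodule.smul_mem _ _ (kc_r e a))
  have x1 : ∀ v : F, x C φ (C.act s e) (C.act s (v • a)) = x C φ e (v • a) := fun v => by
    rw [map_smul, s1, s2, smul_smul, h.x_smul (eva _), smul_smul]
    congr 2; field_simp
  have e3 := h.kc_sl k hp pt hs (by simpa using x1 1) (ε := z C φ e c)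
    (h.τ_mem_E hU (kc_l e a) (zero_mem _) c)
  have sp2 : ∀ g g' : G, ∀ m : G, m * (g * g') * m⁻¹ = m * g * m⁻¹ * (m * g' * m⁻¹) :=
    fun _ _ _ => by group
  rw [h.z_conj, e2, sp2, h.z_conj, h.x_conj _ (eva v), x1, s1, h.z_smul, h.z_smul, hl,
    div_mul_cancel₀ _ c0] at e3
  obtain ⟨r', v', e4, e5⟩ := h.kc_z k hp pt v
  have e6 := (inj (e5.symm.trans e3)).2
  subst e6
  rw [add_eq_right.1 e4, h.z_zero, one_mul] at e5
  have e7 : p * x C φ e (v' • a) * p⁻¹ = x C φ e (v' • a) := by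
    rw [(h.kl_A k hp v').eq, mul_inv_cancel_right]
  have e8 : z C φ e v' = x C φ e (v' • a) :=
    mul_left_cancel (mul_right_cancel (e5.trans e7.symm))
  exact v0 (inj (r := v') (v := 0) (s := 0) (u := v')
    (by rw [e8, h.z_zero, zero_smul, h.x_zero, mul_one, one_mul])).1

theorem kl_E (k : Ln P e a) (hp : Kl C φ t e a p) (pt : p * t * p⁻¹ = t * x C φ e a) :
    p ∈ centralizer (Eg C φ (span F {e, a}) : Set G) := by
  refine mem_centralizer_iff.2 fun ε hε => ?_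
  obtain ⟨r, v, r', rfl⟩ := (h.mem_El k).1 hε
  have e1 : Commute p (z C φ e r) := mul_inv_eq_iff_eq_mul.1 (h.kc_z' k hp pt r)
  have e2 : Commute p (z C φ a r') := mul_inv_eq_iff_eq_mul.1
    (h.kc_z' (h.ln_symm k) hp.symm (by rw [pt, h.x_symm k.perp]) r')
  exact ((e1.mul_right (h.kl_A k hp v)).mul_right e2).eq.symm

theorem kc_form (k : Ln P e a) (hp : Kl C φ t e a p) (pt : p * t * p⁻¹ = t * x C φ e a) :
    ∃ b ∈ P.perp (span F {e, a}), ∀ u ∈ P.perp (span F {e, a}),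
      p * x C φ e u * p⁻¹ = x C φ e (P.B b u • a) * x C φ e u := by
  have hU := h.ti_pair k.perp
  have eva : ∀ v : F, P.B e (v • a) = 0 := fun v => by rw [P.B_smul_right, k.perp, mul_zero]
  have hE := h.kl_E k hp pt
  have xE : ∀ v : F, x C φ e (v • a) ∈ Eg C φ (span F {e, a}) := fun v =>
    h.τ_mem_E hU (kc_l e a) (Submodule.smul_mem _ _ (kc_r e a)) 0
  have xa : ∀ v v' : F, x C φ e ((v + v') • a) = x C φ e (v • a) * x C φ e (v' • a) := fun v v' => by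
    rw [add_smul, h.x_add (eva v) (eva v') (by
      rw [h.B_smul_left, P.B_smul_right, h.B_self, mul_zero, mul_zero])]
  have xi : ∀ {v v' : F}, x C φ e (v • a) = x C φ e (v' • a) → v = v' := fun {v v'} e1 =>
    (h.line_inj k (r := 0) (r' := 0) (s := 0) (s' := 0) (v := v) (u := v') (by rw [e1])).2.1
  have xR : ∀ u ∈ P.perp (span F {e, a}), x C φ e u ∈ Rg C φ (span F {e, a}) := fun u hu =>
    h.τ_mem_R hU (kc_l e a) hu 0
  obtain ⟨ε, hε⟩ : ∃ ε : V → G, ∀ u, ε u = p * x C φ e u * p⁻¹ * (x C φ e u)⁻¹ := ⟨_, fun _ => rfl⟩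
  have ε1 : ∀ u, p * x C φ e u * p⁻¹ = ε u * x C φ e u := fun u => by rw [hε]; group
  have εE : ∀ u ∈ P.perp (span F {e, a}), ε u ∈ Eg C φ (span F {e, a}) ⊔ zpowers t := fun u hu => by
    rw [hε]; exact hp.triv _ (xR u hu)
  have εadd : ∀ u ∈ P.perp (span F {e, a}), ∀ u' ∈ P.perp (span F {e, a}),
      ε (u + u') = ε u * ε u' := by
    intro u hu u' hu'
    have e1 := h.x_mul (hu e (kc_l e a)) (hu' e (kc_l e a))
    have e2 : p * z C φ e (P.B u u') * p⁻¹ = z C φ e (P.B u u') := h.kc_z' k hp pt _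
    have e3 : p * (x C φ e u * x C φ e u') * p⁻¹ = ε u * ε u' * (x C φ e u * x C φ e u') := by
      calc _ = p * x C φ e u * p⁻¹ * (p * x C φ e u' * p⁻¹) := by group
        _ = ε u * (x C φ e u * ε u') * x C φ e u' := by rw [ε1, ε1]; group
        _ = _ := by rw [h.kc_cen hU (εE u' hu') (h.R_le_Y (xR u hu))]; group
    rw [e1] at e3
    have e4 : p * (x C φ e (u + u') * z C φ e (P.B u u')) * p⁻¹ =
        ε (u + u') * (x C φ e (u + u') * z C φ e (P.B u u')) := by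
      calc _ = p * x C φ e (u + u') * p⁻¹ * (p * z C φ e (P.B u u') * p⁻¹) := by group
        _ = _ := by rw [ε1, e2]; group
    exact mul_right_cancel (e4.symm.trans e3)
  have ε0 : ∀ u ∈ span F {e, a}, ε u = 1 := fun u hu => by
    have := hE (x C φ e u) (h.τ_mem_E hU (kc_l e a) hu 0)
    rw [hε, ← this]; group
  obtain ⟨f, f', hh⟩ := h.hh_of_ln k
  have εY : ∀ s ∈ C.fixG (span F {e, a}), ∃ ν : V →ₗ[F] F, ∀ u ∈ P.perp (span F {e, a}),
      ε (C.act s u) = ε u * x C φ e (ν u • a) := by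
    intro s hs
    obtain ⟨ρ, ⟨s', hs', rfl⟩, τ, hτ, e1⟩ : ∃ ρ ∈ Rg C φ (span F {e, a}), ∃ τ,
        (τ = 1 ∨ τ = t) ∧ (φ s)⁻¹ * (p * φ s * p⁻¹) = ρ * τ := by
      rcases (h.mem_sup_t h.kc_RL).1 (h.kl_Y k hp ⟨s, hs, rfl⟩) with m | m
      · exact ⟨_, m, 1, Or.inl rfl, (mul_one _).symm⟩
      · refine ⟨_, m, t, Or.inr rfl, ?_⟩
        rw [h.tL (h.kc_RL m), ← mul_assoc t t, h.t2, one_mul]
    refine ⟨(P.B f').comp (UN.nu C s'), fun u hu => ?_⟩
    obtain ⟨μ, ν, e2⟩ := Submodule.mem_span_pair.1 (hs'.2 u hu)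
    have e3 : (P.B f').comp (UN.nu C s') u = ν := by
      rw [LinearMap.comp_apply, r2_nu, ← e2, P.B_add_right, P.B_smul_right, P.B_smul_right,
        h.B_comm f', hh.ef, h.B_comm f', h.hp_iff.1 hh.h₂]; simp
    have eu := hu e (kc_l e a)
    have e4 : φ s' * x C φ e u * (φ s')⁻¹ = x C φ e u * x C φ e (ν • a) := by
      have : C.act s' u = u + ν • a + μ • e := by rw [add_assoc, add_comm (ν • a), e2]; simp
      rw [h.x_conj _ eu, hs'.1 e (kc_l e a), this, h.x_shift (by rw [P.B_add_right, eu, eva, add_zero]),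
        h.x_add eu (eva ν) (by rw [P.B_smul_right, h.B_comm, hu a (kc_r e a), mul_zero])]
    have e5 : φ s * x C φ e u * (φ s)⁻¹ = x C φ e (C.act s u) := by
      rw [h.x_conj _ eu, hs e (kc_l e a)]
    have c1 : τ * (ε u * x C φ e u) = ε u * x C φ e u * τ := by
      rcases hτ with rfl | rfl
      · simp
      · rw [← mul_assoc, ← h.kc_ct hU (εE u hu), mul_assoc, mul_assoc, h.tL (h.kc_RL (xR u hu))]
    have c2 := h.kc_cen hU (εE u hu) ⟨s, hs, rfl⟩
    have c3 := h.kc_cen hU (εE u hu) ⟨s', hs'.1, rfl⟩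
    have c4 := h.E_cent hU (xE ν) _ ⟨s, hs, rfl⟩
    have su : C.act s u ∈ P.perp (span F {e, a}) := h.loc_perp (fix_le_stb _ hs) hu
    have c5 := h.E_cent hU (xE ν) _ (h.R_le_Y (xR _ su))
    have e6 : p * φ s * p⁻¹ = φ s * (φ s' * τ) := by rw [← e1]; group
    have e7 : ε (C.act s u) * x C φ e (C.act s u) =
        ε u * x C φ e (ν • a) * x C φ e (C.act s u) := by
      calc _ = p * φ s * p⁻¹ * (p * x C φ e u * p⁻¹) * (p * φ s * p⁻¹)⁻¹ := by
            rw [← ε1, ← e5]; group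
        _ = φ s * φ s' * (τ * (ε u * x C φ e u)) * τ⁻¹ * (φ s')⁻¹ * (φ s)⁻¹ := by
            rw [e6, ε1]; group
        _ = φ s * (φ s' * ε u) * x C φ e u * (φ s')⁻¹ * (φ s)⁻¹ := by rw [c1]; group
        _ = (φ s * ε u) * (φ s' * x C φ e u * (φ s')⁻¹) * (φ s)⁻¹ := by rw [c3]; group
        _ = ε u * (φ s * x C φ e u * (φ s)⁻¹) * (φ s * x C φ e (ν • a)) * (φ s)⁻¹ := by
            rw [c2, e4]; group
        _ = ε u * (x C φ e (C.act s u) * x C φ e (ν • a)) := by rw [c4, e5]; group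
        _ = _ := by rw [c5]; group
    rw [e3]
    exact mul_right_cancel e7
  obtain ⟨u₀, v₀, uv, hu₀, hv₀⟩ := h.kc_pair k
  have n1 : u₀ ∉ span F {e, a} := kc_nmem hv₀ (by rw [uv]; exact one_ne_zero)
  have n2 : v₀ ∉ span F {e, a} := kc_nmem hu₀ (by rw [h.B_comm, uv]; exact one_ne_zero)
  have n3 : u₀ + v₀ ∉ span F {e, a} := kc_nmem hv₀ (by
    rw [P.B_add_left, uv, h.B_self, add_zero]; exact one_ne_zero)
  have εA : ∀ u, ∃ v : F, u ∈ P.perp (span F {e, a}) → ε u = x C φ e (v • a) := by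
    have b0 : ∃ v : F, ε v₀ = x C φ e (v • a) := by
      obtain ⟨s, hs, e1⟩ := h.trans_Y hU hu₀ (add_mem hu₀ hv₀) n1 n3
      obtain ⟨ν, hν⟩ := εY s hs
      have := hν u₀ hu₀
      rw [e1, εadd _ hu₀ _ hv₀] at this
      exact ⟨_, mul_left_cancel this⟩
    obtain ⟨v, hv⟩ := b0
    intro u
    by_cases hu : u ∈ P.perp (span F {e, a})
    swap
    · exact ⟨0, fun k => absurd k hu⟩
    by_cases hu' : u ∈ span F {e, a}
    · exact ⟨0, fun _ => by rw [ε0 u hu', zero_smul, h.x_zero]⟩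
    obtain ⟨s, hs, e1⟩ := h.trans_Y hU hv₀ hu n2 hu'
    obtain ⟨ν, hν⟩ := εY s hs
    exact ⟨v + ν v₀, fun _ => by rw [xa, ← hv, ← hν v₀ hv₀, e1]⟩
  choose ψ hψ using εA
  have ψadd : ∀ u ∈ P.perp (span F {e, a}), ∀ u' ∈ P.perp (span F {e, a}),
      ψ (u + u') = ψ u + ψ u' := fun u hu u' hu' =>
    xi (by rw [xa, ← hψ _ hu, ← hψ _ hu', ← hψ _ (add_mem hu hu'), εadd _ hu _ hu'])
  have ψ0 : ∀ u ∈ span F {e, a}, ψ u = 0 := fun u hu =>
    xi (by rw [← hψ _ (hU hu), ε0 u hu, zero_smul, h.x_zero])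
  have ψY : ∀ (μ : F), ∀ u ∈ P.perp (span F {e, a}), ∀ u' ∈ P.perp (span F {e, a}),
      u ∉ span F {e, a} → u' ∉ span F {e, a} → ψ (μ • u') + μ * ψ u' = ψ (μ • u) + μ * ψ u := by
    intro μ u hu u' hu' m m'
    obtain ⟨s, hs, rfl⟩ := h.trans_Y hU hu hu' m m'
    obtain ⟨ν, hν⟩ := εY s hs
    have k1 : ∀ w ∈ P.perp (span F {e, a}), ψ (C.act s w) = ψ w + ν w := fun w hw =>
      xi (by rw [xa, ← hψ _ hw, ← hν w hw, hψ _ (h.loc_perp (fix_le_stb _ hs) hw)])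
    rw [← map_smul, k1 _ (Submodule.smul_mem _ _ hu), k1 _ hu, map_smul, smul_eq_mul]
    linear_combination (μ * ν u) * h.two
  have ψs : ∀ u ∈ P.perp (span F {e, a}), ∀ μ : F, ψ (μ • u) = μ * ψ u := by
    intro u hu μ
    by_cases hu' : u ∈ span F {e, a}
    · rw [ψ0 u hu', ψ0 _ (Submodule.smul_mem _ _ hu'), mul_zero]
    have k1 := ψY μ u₀ hu₀ _ (add_mem hu₀ hv₀) n1 n3
    have k2 := ψY μ v₀ hv₀ u hu n2 hu'
    rw [smul_add, ψadd _ (Submodule.smul_mem _ _ hu₀) _ (Submodule.smul_mem _ _ hv₀),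
      ψadd _ hu₀ _ hv₀] at k1
    exact h.eq_of_add (by linear_combination k2 + k1)
  obtain ⟨b, hb, e1⟩ := h.exists_form hU ψadd ψs ψ0
  exact ⟨b, hb, fun u hu => by rw [ε1, hψ u hu, e1 u hu]⟩

theorem p1_of (k : Ln P e a) (hp : Kl C φ t e a p) (pt : p * t * p⁻¹ = t * x C φ e a) :
    ∃ p', P1 C φ t e a p' := by
  have hU := h.ti_pair k.perp
  have ea := k.perp
  have ae : P.B a e = 0 := by rw [h.B_comm, ea]
  obtain ⟨b, hb, e1⟩ := h.kc_form k hp pt
  obtain ⟨b', hb', e2⟩ := h.kc_form (h.ln_symm k) hp.symm (by rw [pt, h.x_symm k.perp])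
  have xx' := fun {u v : V} => h.kc_xx (e := a) (a := e) ae (u := u) (v := v)
  rw [Set.pair_comm a e] at hb' e2 xx'
  have r1 : ∀ u ∈ P.perp (span F {e, a}), x C φ e u ∈ Rg C φ (span F {e, a}) := fun u hu =>
    h.τ_mem_R hU (kc_l e a) hu 0
  have r2 : ∀ u ∈ P.perp (span F {e, a}), x C φ a u ∈ Rg C φ (span F {e, a}) := fun u hu =>
    h.τ_mem_R hU (kc_r e a) hu 0
  have xE : ∀ v : F, x C φ e (v • a) ∈ Eg C φ (span F {e, a}) := fun v =>
    h.τ_mem_E hU (kc_l e a) (Submodule.smul_mem _ _ (kc_r e a)) 0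
  have xs : ∀ v : F, x C φ a (v • e) = x C φ e (v • a) := fun v => by
    rw [← h.x_smul ae, h.x_symm (by rw [h.B_smul_left, ae, mul_zero])]
  have eva : ∀ v : F, P.B e (v • a) = 0 := fun v => by rw [P.B_smul_right, k.perp, mul_zero]
  have i1 : ∀ u ∈ P.perp (span F {e, a}), (x C φ e u)⁻¹ = x C φ e u := fun u hu =>
    inv_eq_of_mul_eq_one_left (h.x_sq (hu e (kc_l e a)))
  have i2 : ∀ u ∈ P.perp (span F {e, a}), (x C φ a u)⁻¹ = x C φ a u := fun u hu =>
    inv_eq_of_mul_eq_one_left (h.x_sq (hu a (kc_r e a)))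
  have m : x C φ a b * x C φ e b' ∈ Rg C φ (span F {e, a}) := mul_mem (r2 b hb) (r1 b' hb')
  have cE : ∀ ε ∈ Eg C φ (span F {e, a}), Commute (x C φ a b * x C φ e b' * p) ε := fun ε hε =>
    Commute.mul_left (h.E_cent hU hε _ (h.R_le_Y m)) (h.kl_E k hp pt ε hε).symm
  have c1 : ∀ u ∈ P.perp (span F {e, a}), Commute (x C φ a b * x C φ e b' * p) (x C φ e u) := by
    intro u hu
    have d1 : x C φ e b' * x C φ e u = x C φ e u * x C φ e b' :=
      h.τ_comm (hb' e (kc_l e a)) (hu e (kc_l e a)) 0 0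
    have d2 := h.E_cent hU (xE (P.B b u)) _ (h.R_le_Y m)
    have d3 := h.E_cent hU (xE (P.B b u)) _ (h.R_le_Y (r1 u hu))
    refine mul_inv_eq_iff_eq_mul.1 ?_
    calc _ = x C φ a b * x C φ e b' * (p * x C φ e u * p⁻¹) * (x C φ e b')⁻¹ * (x C φ a b)⁻¹ := by group
      _ = x C φ a b * x C φ e b' * x C φ e (P.B b u • a) * x C φ e u * (x C φ e b')⁻¹ *
          (x C φ a b)⁻¹ := by rw [e1 u hu]; group
      _ = x C φ e (P.B b u • a) * x C φ a b * (x C φ e b' * x C φ e u) * (x C φ e b')⁻¹ *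
          (x C φ a b)⁻¹ := by rw [d2]; group
      _ = x C φ e (P.B b u • a) * (x C φ a b * x C φ e u * (x C φ a b)⁻¹) := by rw [d1]; group
      _ = x C φ e (P.B b u • a) * x C φ e (P.B b u • a) * x C φ e u := by
          rw [i2 b hb, xx' hb hu, xs, d3]; group
      _ = _ := by rw [h.x_sq (eva _), one_mul]
  have c2 : ∀ u ∈ P.perp (span F {e, a}), Commute (x C φ a b * x C φ e b' * p) (x C φ a u) := by
    intro u hu
    have d1 : x C φ a b * x C φ a u = x C φ a u * x C φ a b :=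
      h.τ_comm (hb a (kc_r e a)) (hu a (kc_r e a)) 0 0
    have d2 := h.E_cent hU (xE (P.B b' u)) _ (h.R_le_Y (r1 b' hb'))
    have d3 := h.E_cent hU (xE (P.B b' u)) _ (h.R_le_Y (r2 u hu))
    refine mul_inv_eq_iff_eq_mul.1 ?_
    calc _ = x C φ a b * x C φ e b' * (p * x C φ a u * p⁻¹) * (x C φ e b')⁻¹ * (x C φ a b)⁻¹ := by group
      _ = x C φ a b * (x C φ e b' * x C φ e (P.B b' u • a)) * x C φ a u * (x C φ e b')⁻¹ *
          (x C φ a b)⁻¹ := by rw [e2 u hu, xs]; group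
      _ = x C φ a b * x C φ e (P.B b' u • a) * (x C φ e b' * x C φ a u * (x C φ e b')⁻¹) *
          (x C φ a b)⁻¹ := by rw [d2]; group
      _ = x C φ a b * (x C φ e (P.B b' u • a) * x C φ e (P.B b' u • a)) * x C φ a u *
          (x C φ a b)⁻¹ := by rw [i1 b' hb', h.kc_xx ea hb' hu, d3]; group
      _ = _ := by rw [h.x_sq (eva _), mul_one, d1]; group
  refine ⟨x C φ a b * x C φ e b' * p,
    mul_mem (le_normalizer (mem_sup_left (h.R_le_Y m))) hp.nY, h.cent_R hU fun w hw u hu c => ?_, ?_⟩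
  · obtain ⟨l, n, rfl⟩ := Submodule.mem_span_pair.1 hw
    have eu := hu e (kc_l e a)
    have au := hu a (kc_r e a)
    have k1 : P.B u (l • e) = 0 := by rw [P.B_smul_right, h.B_comm, eu, mul_zero]
    have k2 : P.B u (n • a) = 0 := by rw [P.B_smul_right, h.B_comm, au, mul_zero]
    have k3 : P.B (l • e + n • a) u = 0 := hu _ hw
    rw [h.τ_eq k3, h.x_symm k3, h.x_add k1 k2 (by
      rw [h.B_smul_left, P.B_smul_right, ea, mul_zero, mul_zero]), h.x_symm k1, h.x_symm k2,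
      h.x_smul eu, h.x_smul au]
    exact ((c1 _ (Submodule.smul_mem _ _ hu)).mul_right (c2 _ (Submodule.smul_mem _ _ hu))).mul_right
      (cE _ (h.τ_mem_E hU hw (zero_mem _) c))
  · have d1 := h.tL (h.kc_RL m)
    have d2 := h.E_cent hU (xE 1) _ (h.R_le_Y m)
    rw [one_smul] at d2
    calc _ = x C φ a b * x C φ e b' * (p * t * p⁻¹) * (x C φ a b * x C φ e b')⁻¹ := by group
      _ = x C φ a b * x C φ e b' * t * x C φ e a * (x C φ a b * x C φ e b')⁻¹ := by rw [pt]; group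
      _ = t * (x C φ a b * x C φ e b' * x C φ e a) * (x C φ a b * x C φ e b')⁻¹ := by rw [d1]; group
      _ = _ := by rw [d2]; group

end Sit

end CfsgLib.SPC
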