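import Cfsg.Agent.Lib.SPC.ShB
import Cfsg.Agent.Lib.SPC.ShC

/-! t ~ t a: an element centralising Y_l -/

set_option autoImplicit false
set_option linter.unusedSectionVars false

namespace CfsgLib.SPC

open Subgroup Module CfsgLib.Forms CfsgLib.LieMult
open CfsgLib.HX (Std CO Two Mv M2)
open CfsgLib.UN (AV SI TI HH Rad Stb Yg Rg Eg Act nu)
open CfsgLib.ClSys (II)
open Submodule (span)
open scoped commutatorElement Pointwise

universe u

variable {F : Type} [Field F] [Finite F] {V : Type} [AddCommGroup V] [Module F V]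
  [FiniteDimensional F V] {P : PQ (RingHom.id F) V} {S : Type} [Group S] [Finite S] {G : Type u}
  [Group G] [Finite G] {C : CG P S} {φ : S →* G} {t : G}

theorem shd_span (l : S) (e a v : V) :
    C.act l v ∈ span F {C.act l e, C.act l a} ↔ v ∈ span F {e, a} := by
  simp only [Submodule.mem_span_pair]
  constructor
  · rintro ⟨c, d, H⟩
    exact ⟨c, d, (C.act l).injective (by rw [map_add, map_smul, map_smul, H])⟩
  · rintro ⟨c, d, rfl⟩
    exact ⟨c, d, by rw [map_add, map_smul, map_smul]⟩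

theorem shd_rank {e a : V} (k : Ln P e a) : finrank F (span F ({e, a} : Set V)) = 2 := by
  have := finrank_span_eq_card (UN.Mod.li_pair k.ne k.nmem)
  rwa [Matrix.range_cons, Matrix.range_cons, Matrix.range_empty, Set.union_empty,
    Set.singleton_union, Fintype.card_fin] at this

theorem shd_l (e a : V) : e ∈ span F ({e, a} : Set V) := Submodule.subset_span (by simp)

theorem shd_r (e a : V) : a ∈ span F ({e, a} : Set V) := Submodule.subset_span (by simp)

theorem shd_nmem {e a w f : V} (h1 : P.B e f = 0) (h2 : P.B a f = 0) (h3 : P.B w f = 1) :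
    w ∉ span F ({e, a} : Set V) := by
  intro H
  obtain ⟨c, d, rfl⟩ := Submodule.mem_span_pair.1 H
  rw [P.B_add_left, P.B_smul_left, P.B_smul_left, h1, h2] at h3
  simp at h3

/-- the action on the transvections -/
def ShdA (C : CG P S) (φ : S →* G) (e a : V) (p : G) (v : F) (d : G) : Prop :=
  ∀ w ∈ P.perp (span F {e, a}), w ∉ span F {e, a} →
    p * z C φ w 1 * p⁻¹ = z C φ w 1 * x C φ e (v • a) * d

namespace Sit

variable (h : Sit C φ t) {e a : V} {p : G}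
include h

theorem shd_cj (l : S) {H K : Subgroup G} (hH : H ≤ φ.range) (hK : K ≤ φ.range)
    (e1 : ∀ g, φ l * g * (φ l)⁻¹ ∈ K ↔ g ∈ H) (g : G) :
    φ l * g * (φ l)⁻¹ ∈ K ⊔ zpowers t ↔ g ∈ H ⊔ zpowers t := by
  rw [h.mem_sup_t hH, h.mem_sup_t hK, e1, ← e1 (t * g), ← mul_assoc, ← mul_assoc, ← mul_assoc,
    h.tl]

theorem p1_conj (k : P.B e a = 0) (hp : P1 C φ t e a p) (l : S) :
    P1 C φ t (C.act l e) (C.act l a) (φ l * p * (φ l)⁻¹) := by
  have hE := h.toEmb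
  refine ⟨Tech.mem_normalizer_of_forall fun y hy => ?_, fun r hr => ?_, ?_⟩
  · have e1 := h.shd_cj l hE.Y_le_L hE.Y_le_L fun g => (hE.conj_Y (g := g) l (shd_span l e a)).1
    have h1 : (φ l)⁻¹ * y * φ l ∈ Yg C φ (span F {e, a}) ⊔ zpowers t := by
      rw [← e1]; simpa [mul_assoc] using hy
    have h2 := (e1 _).2 ((mem_normalizer_iff.1 hp.nY _).1 h1)
    simpa [mul_assoc] using h2
  · have h1 : (φ l)⁻¹ * r * φ l ∈ Rg C φ (span F {e, a}) := by
      rw [← (hE.conj_Y l (shd_span l e a)).2.1]; simpa [mul_assoc] using hr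
    have h2 := hp.cR _ h1
    calc r * (φ l * p * (φ l)⁻¹) = φ l * ((φ l)⁻¹ * r * φ l * p) * (φ l)⁻¹ := by group
      _ = _ := by rw [h2]; group
  · have h1 : (φ l)⁻¹ * t * φ l = t := by rw [mul_assoc, ← h.tl, inv_mul_cancel_left]
    calc φ l * p * (φ l)⁻¹ * t * (φ l * p * (φ l)⁻¹)⁻¹
        = φ l * (p * ((φ l)⁻¹ * t * φ l) * p⁻¹) * (φ l)⁻¹ := by group
      _ = φ l * t * (φ l)⁻¹ * (φ l * x C φ e a * (φ l)⁻¹) := by rw [h1, hp.pt]; group
      _ = _ := by rw [hE.x_conj l k, h.tl, mul_inv_cancel_right]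

theorem shd_t {H : Subgroup G} (hH : H ≤ φ.range) {g : G} (hg : g ∈ H ⊔ zpowers t) :
    g * t = t * g := (h.loc_cent hH hg t (mem_zpowers t)).symm

theorem p1_hom (k : Ln P e a) (hp : P1 C φ t e a p) {y : G} (hy : y ∈ Yg C φ (span F {e, a})) :
    y⁻¹ * (p * y * p⁻¹) ∈ Eg C φ (span F {e, a}) ⊔ zpowers t := by
  have hE := h.toEmb
  have hU := h.toMod.ti_pair k.perp
  have h1 : y⁻¹ * (p * y * p⁻¹) ∈ Yg C φ (span F {e, a}) ⊔ zpowers t :=
    mul_mem (mem_sup_left (inv_mem hy)) ((mem_normalizer_iff.1 hp.nY _).1 (mem_sup_left hy))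
  have h2 : y⁻¹ * (p * y * p⁻¹) ∈ centralizer (Rg C φ (span F {e, a}) : Set G) := by
    intro r hr
    obtain ⟨s, hs, rfl⟩ := hy
    have h3 := (hE.conj_Y s (fix_le_stb _ hs)).2.1.2 hr
    have h4 := hp.cR _ h3
    have h5 := hp.cR _ hr
    calc r * ((φ s)⁻¹ * (p * φ s * p⁻¹)) = (φ s)⁻¹ * (φ s * r * (φ s)⁻¹ * p) * φ s * p⁻¹ := by group
      _ = (φ s)⁻¹ * p * φ s * (r * p⁻¹) := by rw [h4]; group
      _ = (φ s)⁻¹ * p * φ s * (p⁻¹ * (p * r) * p⁻¹) := by group
      _ = _ := by rw [← h5]; group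
  obtain ⟨ε, hε, c, hc, e1⟩ := hE.cR hU (shd_rank k).ge (h.norm_of (h.shd_t hE.Y_le_L h1)) h2
  have hεL := hE.Y_le_L (hE.R_le_Y (hE.E_le_R hU hε))
  rcases (h.mem_sup_t hE.Y_le_L).1 h1 with h3 | h3
  · rw [(hE.dec_inj (hE.Y_le_L h3) hεL (one_mem _) hc ((mul_one _).trans e1)).1]
    exact mem_sup_left hε
  · refine (h.mem_sup_t ((hE.E_le_R hU).trans (hE.R_le_Y.trans hE.Y_le_L))).2 (Or.inr ?_)
    rw [(hE.dec_inj (hE.Y_le_L h3) hεL h.tC hc ?_).1]
    · exact hε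
    · rw [← e1, ← h.shd_t hE.Y_le_L h1, mul_assoc, h.t2, mul_one]

theorem shd_cent {U : Submodule F V} (hU : TI P U) {g y : G} (hg : g ∈ Eg C φ U ⊔ zpowers t)
    (hy : y ∈ Yg C φ U ⊔ zpowers t) : Commute g y := by
  have hE := h.toEmb
  have h1 : Eg C φ U ⊔ zpowers t ≤ centralizer ((Yg C φ U ⊔ zpowers t : Subgroup G) : Set G) := by
    refine sup_le (le_centralizer_iff.1 (sup_le (le_centralizer_iff.1 (hE.E_cent hU)) ?_)) ?_
    · rw [zpowers_le]
      exact fun g hg => h.tL (hE.Y_le_L (hE.R_le_Y (hE.E_le_R hU hg)))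
    · exact le_centralizer_iff.1 (h.loc_cent hE.Y_le_L)
  exact (h1 hg y hy).symm

theorem p0_big (hs : ¬ Small F) (k : Ln P e a) (hp : P1 C φ t e a p) : P0 C φ t e a p := by
  have hE := h.toEmb
  have hU := h.toMod.ti_pair k.perp
  have hM : P.perp (span F {e, a}) ≠ span F {e, a} := by
    intro e1
    have r1 := h.lag_rank (M := span F {e, a}) e1
    have r2 := shd_rank k
    have := h.d6
    omega
  have p1 : Yg C φ (span F {e, a}) ≤ ⁅Yg C φ (span F {e, a}), Yg C φ (span F {e, a})⁆ := by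
    rw [Yg, ← map_commutator]
    exact map_mono (h.fix_perf hs hU hM)
  refine ⟨fun y hy => ?_, hp.pt⟩
  refine (mem_centralizer_singleton_iff.1 ((p1.trans (commutator_le.2 fun y hy y' hy' => ?_) :
    _ ≤ centralizer {p}) hy))
  have h1 := h.p1_hom k hp hy
  have h2 := h.p1_hom k hp hy'
  have h3 := comm_mul_split (h.shd_cent hU h1 (mem_sup_left hy)).symm
    (h.shd_cent hU h1 (mem_sup_left hy')).symm (h.shd_cent hU h2 (mem_sup_left hy)).symm
    (h.shd_cent hU h2 (mem_sup_left hy')).symm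
  rw [commutatorElement_eq_one_iff_commute.2 (h.shd_cent hU h1
    (sup_le_sup_right ((hE.E_le_R hU).trans hE.R_le_Y) _ h2)), mul_one, mul_inv_cancel_left,
    mul_inv_cancel_left, ← conjugate_commutatorElement] at h3
  rw [mem_centralizer_singleton_iff]
  exact (mul_inv_eq_iff_eq_mul.1 h3).symm

/-- an element of `E(l)` fixed by a transvection of `l` -/
theorem shd_fix (k : Ln P e a) {f' : V} (h1 : P.B e f' = 0) (h2 : P.B a f' = 1) {m s : S}
    (me : C.act m e = e) (ma : C.act m a = e + a) (H : m * s * m⁻¹ = s) {r v r' : F}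
    (hs : ∀ y, C.act s y = y + (r * P.B e y + v * P.B a y) • e + (v * P.B e y + r' * P.B a y) • a) :
    r' = 0 := by
  have b1 : P.B e (C.act m f') = 0 := by rw [← h1, ← C.B_act m e f', me]
  have b2 : P.B a (C.act m f') = 1 := by
    rw [← h2, ← C.B_act m a f', ma, P.B_add_left, b1, zero_add]
  have h3 : C.act m (C.act s f') = C.act s (C.act m f') := by
    rw [← C.mul_apply, ← C.mul_apply, mul_inv_eq_iff_eq_mul.1 H]
  rw [hs, hs, h1, h2, b1, b2, map_add, map_add, map_smul, map_smul, me, ma, smul_add,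
    ← add_assoc, add_right_comm, add_eq_left] at h3
  simpa [k.ne] using h3

theorem shd_small (k : Ln P e a) (hp : P1 C φ t e a p) :
    ∃ v : F, ∃ d, (d = 1 ∨ d = t) ∧ ShdA C φ e a p v d := by
  have hE := h.toEmb
  have hM := h.toMod
  have hU := hM.ti_pair k.perp
  obtain ⟨f, f', k1⟩ := hM.hh_of_ln k
  obtain ⟨w₀, f₀, k3⟩ := hM.exists_h3 k1
  have w1 : w₀ ∈ P.perp (span F {e, a}) := CG.mem_perp_pair.2 ⟨k3.h13.ee, k3.h23.ee⟩
  have w2 : w₀ ∉ span F {e, a} := shd_nmem k3.h13.ef k3.h23.ef k3.h13.h₂.ef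
  have zY : ∀ w ∈ P.perp (span F {e, a}), z C φ w 1 ∈ Yg C φ (span F {e, a}) := fun w hw =>
    hE.τ_mem_Y (by simp) hw (zero_mem _) 1
  obtain ⟨ε₀, h0, e0⟩ : ∃ ε₀ ∈ Eg C φ (span F {e, a}) ⊔ zpowers t,
      p * z C φ w₀ 1 * p⁻¹ = z C φ w₀ 1 * ε₀ :=
    ⟨_, h.p1_hom k hp (zY w₀ w1), (mul_inv_cancel_left _ _).symm⟩
  have hfix : ∀ m : S, (∀ v, C.act m v ∈ span F {e, a} ↔ v ∈ span F {e, a}) → C.act m w₀ = w₀ →
      span F {C.act m e, C.act m a} = span F {e, a} →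
      x C φ (C.act m e) (C.act m a) = x C φ e a → φ m * ε₀ * (φ m)⁻¹ = ε₀ := by
    intro m m1 m2 m3 m4
    have hp' := h.p1_conj k.perp hp m
    have c1 := hp'.cR
    have c2 := hp'.pt
    rw [m3] at c1
    rw [m4, ← hp.pt] at c2
    generalize hq : φ m * p * (φ m)⁻¹ = q at c1 c2
    obtain ⟨ε, hε, c, hc, e1⟩ := hE.cR hU (shd_rank k).ge (h.norm_of (g := p⁻¹ * q) (by
      calc p⁻¹ * q * t = p⁻¹ * (q * t * q⁻¹) * q := by group
        _ = _ := by rw [c2]; group)) (mul_mem (inv_mem hp.cR) c1)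
    have c3 : Commute (p⁻¹ * q) (z C φ w₀ 1) := by
      rw [e1]
      exact Commute.mul_left (hE.E_cent hU hε _ (zY w₀ w1)).symm (hc _ ⟨_, rfl⟩).symm
    have c4 : q * z C φ w₀ 1 * q⁻¹ = z C φ w₀ 1 * ε₀ := by
      calc q * z C φ w₀ 1 * q⁻¹ = p * (p⁻¹ * q * z C φ w₀ 1) * q⁻¹ := by group
        _ = p * z C φ w₀ 1 * p⁻¹ := by rw [c3.eq]; group
        _ = _ := e0
    have c5 := hE.z_conj m w₀ 1
    rw [m2] at c5
    have c6 : (φ m)⁻¹ * z C φ w₀ 1 * φ m = z C φ w₀ 1 := by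
      rw [mul_assoc, ← mul_inv_eq_iff_eq_mul.1 c5, inv_mul_cancel_left]
    apply mul_left_cancel (a := z C φ w₀ 1)
    calc z C φ w₀ 1 * (φ m * ε₀ * (φ m)⁻¹) = φ m * (z C φ w₀ 1 * ε₀) * (φ m)⁻¹ := by
          conv_lhs => rw [← c5]
          group
      _ = φ m * (p * ((φ m)⁻¹ * z C φ w₀ 1 * φ m) * p⁻¹) * (φ m)⁻¹ := by rw [c6, e0]
      _ = q * z C φ w₀ 1 * q⁻¹ := by rw [← hq]; group
      _ = _ := c4
  obtain ⟨ε, hε, d, hd, rfl⟩ : ∃ ε ∈ Eg C φ (span F {e, a}), ∃ d, (d = 1 ∨ d = t) ∧ ε₀ = ε * d := by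
    rcases (h.mem_sup_t ((hE.E_le_R hU).trans (hE.R_le_Y.trans hE.Y_le_L))).1 h0 with h1 | h1
    · exact ⟨_, h1, 1, Or.inl rfl, (mul_one _).symm⟩
    · refine ⟨_, h1, t, Or.inr rfl, ?_⟩
      rw [mul_assoc, h.shd_t ((hE.E_le_R hU).trans (hE.R_le_Y.trans hE.Y_le_L)) h0, ← mul_assoc,
        h.t2, one_mul]
  obtain ⟨s, hs, rfl⟩ := hε
  obtain ⟨r, v, r', hs'⟩ := (hM.mem_E_line k).1 hs
  have hfix' : ∀ m : S, C.act m w₀ = w₀ → span F {C.act m e, C.act m a} = span F {e, a} →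
      x C φ (C.act m e) (C.act m a) = x C φ e a → m * s * m⁻¹ = s := by
    intro m m2 m3 m4
    have c1 := hfix m (fun v => by rw [← shd_span (C := C) m e a v, m3]) m2 m3 m4
    have c2 : d * (φ m)⁻¹ = (φ m)⁻¹ * d := by
      rcases hd with rfl | rfl
      · simp
      · rw [← map_inv, h.tl]
    rw [mul_assoc, mul_assoc, c2, ← mul_assoc, ← mul_assoc, mul_left_inj, ← map_inv, ← map_mul,
      ← map_mul] at c1
    exact h.inj c1
  have sp1 : span F ({e, e + a} : Set V) = span F {e, a} := by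
    refine le_antisymm (Submodule.span_le.2 (Set.pair_subset (shd_l e a)
      (add_mem (shd_l e a) (shd_r e a)))) (Submodule.span_le.2 (Set.pair_subset (shd_l _ _) ?_))
    simpa using sub_mem (shd_r (F := F) e (e + a)) (shd_l e (e + a))
  have sp2 : span F ({a + e, a} : Set V) = span F {e, a} := by
    refine le_antisymm (Submodule.span_le.2 (Set.pair_subset (add_mem (shd_r e a) (shd_l e a))
      (shd_r e a))) (Submodule.span_le.2 (Set.pair_subset ?_ (shd_r _ _)))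
    simpa using sub_mem (shd_l (F := F) (a + e) a) (shd_r (a + e) a)
  have r2 : r' = 0 := by
    obtain ⟨m, m1, m2, -, -, m5⟩ := hM.exists_gl2 k1 (a := 1) (b := 0) (c := 1) (d := 1) (by simp)
    simp only [one_smul, zero_smul, add_zero] at m1 m2
    refine h.shd_fix k k1.ef k1.h₂.ef m1 m2 (hfix' m
      (m5 _ k3.h13.ee k3.h13.fe k3.h23.ee k3.h23.fe) (by rw [m1, m2, sp1]) ?_)
      (fun y => hs' ▸ hM.line_app k.perp r v r' y)
    rw [m1, m2, add_comm, ← hE.x_shift k.perp 1, one_smul]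
  have r1 : r = 0 := by
    obtain ⟨m, m1, m2, -, -, m5⟩ := hM.exists_gl2 k1 (a := 1) (b := 1) (c := 0) (d := 1) (by simp)
    simp only [one_smul, zero_smul, zero_add] at m1 m2
    rw [add_comm] at m1
    have k' := hM.ln_symm k
    refine h.shd_fix k' (f' := f) ((hM.B_comm a f).trans k1.fe) k1.h₁.ef m2 m1 (hfix' m
      (m5 _ k3.h13.ee k3.h13.fe k3.h23.ee k3.h23.fe) (by rw [m1, m2, sp2]) ?_)
      (r := r') (v := v) (fun y => ?_)
    · rw [m1, m2, hE.x_symm k.perp, hE.x_symm (e := a + e) (by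
        rw [P.B_add_left, hM.B_self, k.perp, add_zero]), add_comm, ← hE.x_shift k'.perp 1, one_smul]
    · rw [hs', hM.line_app k.perp, add_right_comm, add_comm (v * _), add_comm (r * _)]
  refine ⟨v, d, hd, fun w hw hw' => ?_⟩
  obtain ⟨y, hy, y1⟩ := hM.trans_Y hU w1 hw w2 hw'
  have hy' : φ y ∈ Yg C φ (span F {e, a}) := ⟨y, hy, rfl⟩
  have c1 := h.p1_hom k hp hy'
  have c2 := h.shd_cent hU c1 (mul_mem (mem_sup_left (zY w₀ w1))
    (sup_le_sup_right ((hE.E_le_R hU).trans hE.R_le_Y) _ h0))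
  have c3 := h.shd_cent hU h0 (mem_sup_left hy')
  have c4 : φ s = x C φ e (v • a) := by
    have := hE.z_zero e
    have := hE.z_zero a
    rw [hs', r1, r2, map_mul, map_mul]
    change z C φ e 0 * x C φ e (v • a) * z C φ a 0 = _
    rw [hE.z_zero, hE.z_zero, one_mul, mul_one]
  rw [← y1, ← hE.z_conj, mul_assoc _ _ d, ← c4]
  generalize φ s * d = ε₀ at e0 c2 c3
  calc p * (φ y * z C φ w₀ 1 * (φ y)⁻¹) * p⁻¹
      = φ y * ((φ y)⁻¹ * (p * φ y * p⁻¹) * (p * z C φ w₀ 1 * p⁻¹)) * (p * φ y * p⁻¹)⁻¹ := by group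
    _ = φ y * z C φ w₀ 1 * (ε₀ * (φ y)⁻¹) := by rw [e0, c2.eq]; group
    _ = _ := by rw [c3.inv_right.eq]; group

theorem p1_small (hs : Small F) (k : Ln P e a) (hp : P1 C φ t e a p) : ∃ i j : ℕ,
    ∀ w ∈ P.perp (span F {e, a}), w ∉ span F {e, a} →
      p * z C φ w 1 * p⁻¹ = z C φ w 1 * x C φ e a ^ i * t ^ j := by
  obtain ⟨v, d, hd, H⟩ := h.shd_small k hp
  obtain ⟨i, hi⟩ : ∃ i : ℕ, x C φ e (v • a) = x C φ e a ^ i := by
    rcases hs v with rfl | rfl
    · exact ⟨0, by rw [zero_smul, h.toEmb.x_zero, pow_zero]⟩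
    · exact ⟨1, by rw [one_smul, pow_one]⟩
  obtain ⟨j, hj⟩ : ∃ j : ℕ, d = t ^ j := by
    rcases hd with rfl | rfl
    · exact ⟨0, (pow_zero _).symm⟩
    · exact ⟨1, (pow_one _).symm⟩
  exact ⟨i, j, fun w hw hw' => by rw [← hi, ← hj]; exact H w hw hw'⟩

theorem shd_conjA (k : P.B e a = 0) {v : F} {d : G} (hd : d = 1 ∨ d = t) (H : ShdA C φ e a p v d)
    (l : S) : ShdA C φ (C.act l e) (C.act l a) (φ l * p * (φ l)⁻¹) v d := by
  have hE := h.toEmb
  intro w hw hw'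
  obtain ⟨w, rfl⟩ := (C.act l).surjective w
  have h1 := H w ((r2_perp l (shd_span l e a) w).1 hw) fun h => hw' ((shd_span l e a w).2 h)
  have c2 : φ l * d * (φ l)⁻¹ = d := by
    rcases hd with rfl | rfl
    · simp
    · rw [h.tl, mul_inv_cancel_right]
  rw [← hE.z_conj, ← map_smul, ← hE.x_conj l (by rw [P.B_smul_right, k, mul_zero])]
  calc _ = φ l * (p * z C φ w 1 * p⁻¹) * (φ l)⁻¹ := by group
    _ = _ := by
      conv_rhs => rw [← c2]
      rw [h1]; group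

theorem p0_small (hs : Small F) (k : Ln P e a) (hp : P1 C φ t e a p) : P0 C φ t e a p := by
  have hE := h.toEmb
  have hM := h.toMod
  have hU := hM.ti_pair k.perp
  obtain ⟨v, d, hd, H⟩ := h.shd_small k hp
  obtain ⟨f, f', k1⟩ := hM.hh_of_ln k
  obtain ⟨b, f₃, k3⟩ := hM.exists_h3 k1
  have kb : Ln P e b := hM.ln_of_hh k3.h13
  have hab : P.B a b = 0 := k3.h23.ee
  have hba : P.B b a = 0 := (hM.B_comm b a).trans hab
  have hew : P.B e (a + b) = 0 := by rw [P.B_add_right, k.perp, kb.perp, add_zero]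
  have haw : P.B a (a + b) = 0 := by rw [P.B_add_right, hM.B_self, hab, add_zero]
  have hbw : P.B b (a + b) = 0 := by rw [P.B_add_right, hM.B_self, hba, add_zero]
  have hbf' : P.B b f' = 0 := (hM.B_comm _ _).trans k3.h23.fe
  have wf' : P.B (a + b) f' = 1 := by rw [P.B_add_left, k1.h₂.ef, hbf', add_zero]
  have wf3 : P.B (a + b) f₃ = 1 := by rw [P.B_add_left, k3.h23.ef, k3.h13.h₂.ef, zero_add]
  have kw : Ln P e (a + b) := ⟨k.ne, fun H => shd_nmem k1.ef k1.ef wf'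
    (Submodule.span_mono (by simp) H), hew⟩
  obtain ⟨s₃, s1, s2⟩ := hM.trans_ln k kb
  obtain ⟨s', s3, s4⟩ := hM.trans_ln k kw
  have q3 := h.p1_conj k.perp hp s₃
  have H3 := h.shd_conjA k.perp hd H s₃
  have q' := h.p1_conj k.perp hp s'
  rw [s1, s2] at q3 H3
  rw [s3, s4] at q'
  generalize φ s₃ * p * (φ s₃)⁻¹ = p₃ at q3 H3
  generalize φ s' * p * (φ s')⁻¹ = p' at q'
  have xR : ∀ {c u : V}, P.B e c = 0 → P.B e u = 0 → P.B c u = 0 →
      x C φ e u ∈ Rg C φ (span F {e, c}) := fun h1 h2 h3 =>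
    hE.τ_mem_R (hM.ti_pair h1) (shd_l _ _) (CG.mem_perp_pair.2 ⟨h2, h3⟩) 0
  have sm : ∀ {c u : V} (r : F), P.B c u = 0 → P.B c (r • u) = 0 := fun r h1 => by
    rw [P.B_smul_right, h1, mul_zero]
  have cj : ∀ {g y : G}, y * g = g * y → g * y * g⁻¹ = y := fun e1 => by
    rw [← e1, mul_inv_cancel_right]
  have m1 : p'⁻¹ * p * p₃ * t = t * (p'⁻¹ * p * p₃) := by
    have c1 := cj (hp.cR _ (xR k.perp kb.perp hab))
    have c2 : p * p₃ * t * (p * p₃)⁻¹ = p' * t * p'⁻¹ := by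
      calc _ = p * (p₃ * t * p₃⁻¹) * p⁻¹ := by group
        _ = p * t * p⁻¹ * (p * x C φ e b * p⁻¹) := by rw [q3.pt]; group
        _ = _ := by rw [hp.pt, c1, q'.pt, hE.x_add k.perp kb.perp hab, mul_assoc]
    calc _ = p'⁻¹ * (p * p₃ * t * (p * p₃)⁻¹) * (p * p₃) := by group
      _ = _ := by rw [c2]; group
  obtain ⟨α, γ, hA⟩ := hE.exists_act (h.norm_of m1)
  obtain ⟨j, j1, j2⟩ : ∃ j : F, p * d * p⁻¹ = d * x C φ e (j • a) ∧ (j = 0 → d = 1) := by
    rcases hd with rfl | rfl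
    · exact ⟨0, by simp [hE.x_zero], fun _ => rfl⟩
    · exact ⟨1, by rw [one_smul, hp.pt], fun h => absurd h one_ne_zero⟩
  have dL : ∀ l : S, φ l * d = d * φ l := fun l => by
    rcases hd with rfl | rfl
    · simp
    · exact h.tl l
  have dd : d * d = 1 := by
    rcases hd with rfl | rfl
    · simp
    · exact h.t2
  set u : V := v • a + v • b + j • a with hu
  have heu : P.B e u = 0 := by
    rw [hu, P.B_add_right, P.B_add_right, sm v k.perp, sm v kb.perp, sm j k.perp]; simp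
  have hwu : P.B (a + b) u = 0 := by
    have c1 := (hM.B_comm _ _).trans haw
    have c2 := (hM.B_comm _ _).trans hbw
    rw [hu, P.B_add_right, P.B_add_right, sm v c1, sm v c2, sm j c1]; simp
  have m2 : p * p₃ * z C φ (a + b) 1 * (p * p₃)⁻¹ = z C φ (a + b) 1 * x C φ e u := by
    have c1 := cj (hp.cR _ (xR k.perp (sm v kb.perp) (sm v hab)))
    have c2 := H3 (a + b) (CG.mem_perp_pair.2 ⟨hew, hbw⟩) (shd_nmem k1.ef hbf' wf')
    have c3 := H (a + b) (CG.mem_perp_pair.2 ⟨hew, haw⟩) (shd_nmem k3.h13.ef k3.h23.ef wf3)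
    have c4 : x C φ e u = x C φ e (v • a) * x C φ e (v • b) * x C φ e (j • a) := by
      rw [hu, hE.x_add, hE.x_add (sm v k.perp) (sm v kb.perp)]
      · rw [hM.B_smul_left, sm v hab, mul_zero]
      · rw [P.B_add_right, sm v k.perp, sm v kb.perp, add_zero]
      · exact sm j k.perp
      · refine sm j ?_
        rw [P.B_add_left, hM.B_smul_left, hM.B_smul_left, hM.B_self, hba]; simp
    have c5 : x C φ e (v • b) * d = d * x C φ e (v • b) := dL _
    calc _ = p * (p₃ * z C φ (a + b) 1 * p₃⁻¹) * p⁻¹ := by group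
      _ = p * z C φ (a + b) 1 * p⁻¹ * (p * x C φ e (v • b) * p⁻¹) * (p * d * p⁻¹) := by
          rw [c2]; group
      _ = z C φ (a + b) 1 * x C φ e (v • a) * (d * (x C φ e (v • b) * d)) * x C φ e (j • a) := by
          rw [c1, c3, j1]; group
      _ = _ := by rw [c5, ← mul_assoc d, dd, one_mul, c4]; group
  have m3 : z C φ (γ (a + b)) 1 = z C φ (a + b) 1 * x C φ e u := by
    have c1 := hE.act_z hA (a + b) 1
    rw [map_one] at c1
    have c2 := q'.cR _ (mul_mem (hE.τ_mem_R (hM.ti_pair hew) (shd_r _ _) (zero_mem _) 1)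
      (xR hew heu hwu))
    change z C φ (a + b) 1 * x C φ e u * p' = p' * (z C φ (a + b) 1 * x C φ e u) at c2
    rw [← c1]
    calc _ = p'⁻¹ * (p * p₃ * z C φ (a + b) 1 * (p * p₃)⁻¹ * p') := by group
      _ = _ := by rw [m2, c2]; group
  have m4 : u = 0 := by
    have c1 : C.T (γ (a + b)) 0 1 = C.T (a + b) 0 1 * C.T e u 0 := h.inj (by rw [map_mul]; exact m3)
    have c2 := congrArg (fun s => C.act s f) c1
    have af : P.B a f = 0 := (hM.B_comm _ _).trans k1.fe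
    have bf : P.B b f = 0 := (hM.B_comm _ _).trans k3.h13.fe
    have uf : P.B u f = 0 := by
      rw [hu, P.B_add_left, P.B_add_left, hM.B_smul_left, hM.B_smul_left, hM.B_smul_left, af, bf]
      simp
    simp only [C.mul_apply, hM.z_app, hM.x_app heu, uf, k1.h₁.ef, P.B_add_right, hwu, zero_smul,
      add_zero, one_smul, one_mul] at c2
    rw [P.B_add_left a b f, af, bf, add_zero, zero_smul, add_zero, add_right_inj] at c2
    have c3 := congrArg (fun y => P.B y f) c2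
    simp only [hM.B_smul_left, uf, mul_self_eq_zero] at c3
    rw [← c2, c3, zero_smul]
  have v0 : v = 0 := by
    have c1 := congrArg (fun y => P.B y f₃) (hu.symm.trans m4)
    simpa [P.B_add_left, hM.B_smul_left, k3.h23.ef, k3.h13.h₂.ef] using c1
  have j0 : j = 0 := by
    have c1 := congrArg (fun y => P.B y f') (hu.symm.trans m4)
    simpa [P.B_add_left, hM.B_smul_left, k1.h₂.ef, v0] using c1
  refine ⟨hE.cent_Y hU fun w hw c => ?_, hp.pt⟩
  by_cases hw' : w ∈ span F {e, a}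
  · exact (hp.cR _ (hE.τ_mem_R hU hw' (zero_mem _) c)).symm
  rcases hs c with rfl | rfl
  · rw [hE.z_zero]; exact Commute.one_right p
  · have := H w hw hw'
    rw [v0, j2 j0, zero_smul, hE.x_zero, mul_one, mul_one] at this
    exact mul_inv_eq_iff_eq_mul.1 this

theorem ma0 (ha : Ta C φ t) : MA0 C φ t := by
  have hM := h.toMod
  have H : ∀ e a, Ln P e a → ∃ p, P1 C φ t e a p := by
    intro e a k
    by_cases hs : Small F
    · obtain ⟨p, hp, pt⟩ := h.kl_small hs ha k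
      exact h.p1_of k hp pt
    · obtain ⟨p, c, c0, hp, pt⟩ := h.kl_big hs ha k
      have k' : Ln P e (c • a) := by simpa using hM.ln_smul k one_ne_zero c0 0
      have sp : span F ({e, c • a} : Set V) = span F {e, a} := by
        rw [Submodule.span_insert, Submodule.span_insert,
          Submodule.span_singleton_smul_eq (IsUnit.mk0 c c0)]
      obtain ⟨p', hp'⟩ := h.p1_of k' ⟨sp ▸ hp.nY, sp ▸ hp.triv⟩ pt
      obtain ⟨s, s1, s2⟩ := hM.trans_ln k' k
      have := h.p1_conj k'.perp hp' s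
      rw [s1, s2] at this
      exact ⟨_, this⟩
  refine ⟨h, ?_, fun e a k => ?_⟩
  · obtain ⟨e, a, k, -⟩ := ha
    obtain ⟨p, hp⟩ := H e a k
    refine h.two_of (hM.ti_pair k.perp) hp.nY ?_
    rw [hp.pt, ne_eq, mul_eq_left, ← one_smul F a, h.toEmb.x_eq_one k]
    exact one_ne_zero
  · obtain ⟨p, hp⟩ := H e a k
    by_cases hs : Small F
    · exact ⟨p, h.p0_small hs k hp⟩
    · exact ⟨p, h.p0_big hs k hp⟩

end Sit

end CfsgLib.SPC
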