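import Cfsg.Agent.Lib.SPC.ShE

/-! t ~ t a: the exotic case for q = 2 -/

set_option autoImplicit false
set_option linter.unusedSectionVars false

namespace CfsgLib.SPC

open Subgroup Module CfsgLib.Forms CfsgLib.LieMult
open CfsgLib.HX (Std CO Two Mv M2)
open CfsgLib.UN (AV SI TI HH Rad Stb Yg Rg Eg Act nu)
open CfsgLib.ClSys (II)
open Submodule (span)
open scoped commutatorElement Pointwise

universe u

variable {F : Type} [Field F] [Finite F] {V : Type} [AddCommGroup V] [Module F V]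
  [FiniteDimensional F V] {P : PQ (RingHom.id F) V} {S : Type} [Group S] [Finite S] {G : Type u}
  [Group G] [Finite G] {C : CG P S} {φ : S →* G} {t : G}

/-- the action of an involution on `q t` -/
theorem shf_s {a : G →* G} {q t X Y N : G} (aa : ∀ g, a (a g) = g) (q2 : q * q = 1) (t2 : t * t = 1)
    (Y2 : Y * Y = 1) (qt : q * t * q⁻¹ = t * N) (cq : Commute q Y) (ct : Commute t Y)
    (cY : Commute N Y) {ε : G} (ε2 : ε * ε = 1) (c1 : Commute ε t)
    (c3 : Commute ε q)
    (aε : a ε = ε) (at' : a t = t * Y) (aY : a Y = Y) (aX : a X = X * (q * ε) * t * Y) :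
    a (q * t) = q * t * N := by
  have e1 := aa X
  rw [aX, map_mul, map_mul, map_mul, map_mul, aX, at', aY, aε] at e1
  have qi : q⁻¹ = q := inv_eq_of_mul_eq_one_right q2
  have ti : t⁻¹ = t := inv_eq_of_mul_eq_one_right t2
  have Yi : Y⁻¹ = Y := inv_eq_of_mul_eq_one_right Y2
  have εi : ε⁻¹ = ε := inv_eq_of_mul_eq_one_right ε2
  have e2 : a q = (q * ε * t * Y)⁻¹ * (ε * (t * Y) * Y)⁻¹ := by
    have : X * (q * ε * t * Y * a q * (ε * (t * Y) * Y)) = X * 1 := by
      rw [mul_one]; conv_rhs => rw [← e1]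
      group
    have := mul_left_cancel this
    calc a q = (q * ε * t * Y)⁻¹ * (q * ε * t * Y * a q * (ε * (t * Y) * Y)) * (ε * (t * Y) * Y)⁻¹ := by
          group
      _ = _ := by rw [this, mul_one]
  have e3 : t * q = q * t * N := by
    rw [qi] at qt
    calc t * q = q * (q * t * q) := by rw [← mul_assoc, ← mul_assoc, q2, one_mul]
      _ = _ := by rw [qt, mul_assoc]
  have e4 : ε * (t * Y) * Y = ε * t := by rw [mul_assoc, mul_assoc, Y2, mul_one]
  rw [map_mul, at', e2, e4]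
  simp only [mul_inv_rev, qi, ti, Yi, εi]
  calc Y * (t * (ε * q)) * (t * ε) * (t * Y) = Y * (t * (q * (ε * (t * ε) * t))) * Y := by
        rw [c3.eq]; group
    _ = Y * (t * q) * Y := by
        rw [← c1.eq, ← mul_assoc ε ε, ε2, one_mul, t2, mul_one]
    _ = q * t * N := by
        rw [e3, ← ((cq.mul_left ct).mul_left cY).eq, mul_assoc, Y2, mul_one]

/-- the word computations -/
theorem shf_calc {a b : G →* G} {s t X Y N ε : G} (Y2 : Y * Y = 1) (N2 : N * N = 1)
    (s2 : s * s = N) (XY : X * Y * X = Y * N) (sX : Commute s X) (sY : Commute s Y)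
    (NX : Commute N X) (NY : Commute N Y) (Ns : Commute N s)
    (εY : Commute ε Y)
    (aN : a N = N) (aε : a ε = ε) (at' : a t = t * Y) (aY : a Y = Y) (aX : a X = X * s * Y)
    (as : a s = s * N) (bt : b t = t * X) (bX : b X = X) (bY : b Y = Y * s * ε * X)
    (bs : b s = s * N) (εX : Commute ε X) (εs : Commute ε s) :
    a (b (a X)) = Y * (N * ε) ∧ a (b (a t)) = t * s * ε ∧ a (b Y) = Y * (X * Y * ε) := by
  have k1 : X * (Y * s * ε * X) = s * (Y * N) * ε := by
    rw [← XY]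
    calc X * (Y * s * ε * X) = X * (Y * s) * (ε * X) := by group
      _ = X * (s * Y) * (X * ε) := by rw [sY.eq, εX.eq]
      _ = (X * s) * (Y * X * ε) := by group
      _ = _ := by rw [← sX.eq]; group
  refine ⟨?_, ?_, ?_⟩
  · have : b (a X) = Y * (N * ε) := by
      rw [aX, map_mul, map_mul, bX, bs, bY]
      calc X * (s * N) * (Y * s * ε * X) = (s * N) * (X * (Y * s * ε * X)) := by
            rw [← (sX.mul_left NX).eq]; group
        _ = (s * N * s) * (Y * N) * ε := by rw [k1]; group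
        _ = _ := by rw [mul_assoc s N s, Ns.eq, ← mul_assoc s s, s2, N2]; group
    rw [this, map_mul, map_mul, aY, aN, aε]
  · have : b (a t) = t * (s * (Y * N) * ε) := by
      rw [at', map_mul, bt, bY, mul_assoc, k1]
    rw [this]
    simp only [map_mul, at', as, aY, aN, aε]
    calc t * Y * (s * N * (Y * N) * ε) = t * (Y * (s * N)) * (Y * N) * ε := by group
      _ = t * (s * N) * (Y * Y) * N * ε := by rw [← (sY.mul_left NY).eq]; group
      _ = t * s * (N * N) * ε := by rw [Y2]; group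
      _ = _ := by rw [N2, mul_one]
  · rw [bY]
    simp only [map_mul, as, aY, aε, aX]
    calc Y * (s * N) * ε * (X * s * Y) = Y * (s * N) * (ε * X) * (s * Y) := by group
      _ = Y * ((s * N) * X) * (ε * (s * Y)) := by rw [εX.eq]; group
      _ = Y * X * (s * N) * (ε * s) * Y := by rw [(sX.mul_left NX).eq]; group
      _ = Y * X * (s * N * s) * (ε * Y) := by rw [εs.eq]; group
      _ = _ := by rw [mul_assoc s N s, Ns.eq, ← mul_assoc s s, s2, N2, εY.eq]; group

namespace MA0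

variable (h : MA0 C φ t) (hs : Small F)
include h hs

/-- the exotic alternative holds for all configurations, and `α` can be normalised -/
theorem exotic {e₀ u₀ v₀ c₀ : V} {p₀ q₀ : G} {α₀ : F} (k₀ : Cf P e₀ u₀ v₀ c₀) (h₀ : Iv C φ t u₀ v₀ p₀)
    (h₁ : Iv C φ t e₀ v₀ q₀)
    (e₀' : x C φ e₀ c₀ * p₀ * x C φ e₀ c₀ * p₀ = q₀ * t * x C φ u₀ (α₀ • e₀ + v₀))
    {e u v c : V} (k : Cf P e u v c) : ∃ p p', Iv C φ t u v p' ∧ Iv C φ t e v p ∧
      x C φ e c * p' * x C φ e c * p' = p * t * x C φ u v := by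
  have S := h.toSit
  have E := S.toEmb
  have M := E.toMod
  obtain ⟨s, rfl, rfl, rfl, rfl⟩ := M.trans_cf k₀ k
  have uv := k₀.ln.perp
  have ue : P.B u₀ e₀ = 0 := by rw [M.B_comm, k₀.eu]
  -- normalise at the first configuration
  obtain ⟨p, p', hp', hp, e1⟩ : ∃ p p', Iv C φ t u₀ v₀ p' ∧ Iv C φ t e₀ v₀ p ∧
      x C φ e₀ c₀ * p' * x C φ e₀ c₀ * p' = p * t * x C φ u₀ v₀ := by
    rcases hs α₀ with rfl | rfl
    · exact ⟨q₀, p₀, h₀, h₁, by rw [e₀', zero_smul, zero_add]⟩
    · have T1 := M.ti_pair uv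
      have T2 := M.ti_pair k₀.ev
      have z1 : z C φ u₀ 1 ∈ Eg C φ (span F {u₀, v₀}) :=
        E.τ_mem_E T1 (Submodule.subset_span (by simp)) (Submodule.zero_mem _) 1
      have z2 : z C φ e₀ 1 ∈ Eg C φ (span F {e₀, v₀}) :=
        E.τ_mem_E T2 (Submodule.subset_span (by simp)) (Submodule.zero_mem _) 1
      refine ⟨q₀ * z C φ e₀ 1, p₀ * z C φ u₀ 1, S.iv_mul uv h₀ z1, S.iv_mul k₀.ev h₁ z2, ?_⟩
      have X2 := E.x_sq k₀.ec
      have c1 : x C φ e₀ c₀ * z C φ u₀ 1 * x C φ e₀ c₀ = z C φ (u₀ + e₀) 1 := by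
        have := E.x_τ (u := e₀) (v := c₀) (e := u₀) (a := 0) k₀.ec (by simp) 1
        simpa [k₀.cu, k₀.eu, τ, z] using this
      have pe : u₀ + e₀ ∈ P.perp (span F {u₀, v₀}) := by
        rw [M.mem_perp_span]
        rintro _ (rfl | rfl)
        · rw [map_add, M.B_self, ue, add_zero]
        · rw [map_add, M.B_comm _ u₀, M.B_comm _ e₀, uv, k₀.ev, add_zero]
      have c2 : z C φ (u₀ + e₀) 1 * p₀ = p₀ * z C φ (u₀ + e₀) 1 :=
        (mem_centralizer_iff.1 h₀.cY _ (E.τ_mem_Y (by simp) pe (Submodule.zero_mem _) 1))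
      have c3 : x C φ u₀ (e₀ + v₀) = x C φ u₀ e₀ * x C φ u₀ v₀ := E.x_add ue uv k₀.ev
      have c4 : z C φ (u₀ + e₀) 1 * z C φ u₀ 1 = z C φ e₀ 1 * x C φ u₀ e₀ := by
        rw [add_comm, ← E.loc_zx k₀.eu, E.x_symm k₀.eu]
      have c5 : t * z C φ e₀ 1 = z C φ e₀ 1 * t := (S.tl _).symm
      have c6 : Commute (x C φ u₀ v₀) (z C φ e₀ 1 * x C φ u₀ e₀) := by
        refine Commute.mul_right ?_ (E.τ_comm uv ue 0 0)
        rw [E.x_symm uv]
        have := mem_centralizer_iff.1 (E.E_cent T2 z2) (x C φ v₀ u₀)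
          (E.R_le_Y (E.τ_mem_R T2 (Submodule.subset_span (by simp)) (by
            rw [M.mem_perp_span]
            rintro _ (rfl | rfl)
            · exact k₀.eu
            · rw [M.B_comm, uv]) 0))
        exact this
      have c7 : Commute (x C φ u₀ e₀) (z C φ e₀ 1) := by
        rw [← E.x_symm k₀.eu]; exact E.τ_comm k₀.eu (by simp) 0 1
      calc x C φ e₀ c₀ * (p₀ * z C φ u₀ 1) * x C φ e₀ c₀ * (p₀ * z C φ u₀ 1)
          = x C φ e₀ c₀ * p₀ * (x C φ e₀ c₀ * x C φ e₀ c₀) * z C φ u₀ 1 * x C φ e₀ c₀ * p₀ *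
            z C φ u₀ 1 := by rw [X2]; group
        _ = x C φ e₀ c₀ * p₀ * x C φ e₀ c₀ * ((x C φ e₀ c₀ * z C φ u₀ 1 * x C φ e₀ c₀) * p₀) *
            z C φ u₀ 1 := by group
        _ = (x C φ e₀ c₀ * p₀ * x C φ e₀ c₀ * p₀) * (z C φ (u₀ + e₀) 1 * z C φ u₀ 1) := by
            rw [c1, c2]; group
        _ = q₀ * t * x C φ u₀ e₀ * (x C φ u₀ v₀ * (z C φ e₀ 1 * x C φ u₀ e₀)) := by
            rw [e₀', one_smul, c3, c4]; group
        _ = q₀ * t * (x C φ u₀ e₀ * z C φ e₀ 1) * x C φ u₀ e₀ * x C φ u₀ v₀ := by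
            rw [c6.eq]; group
        _ = q₀ * (t * z C φ e₀ 1) * (x C φ u₀ e₀ * x C φ u₀ e₀) * x C φ u₀ v₀ := by
            rw [c7.eq]; group
        _ = _ := by rw [E.x_sq ue, c5]; group
  refine ⟨_, _, S.iv_conj uv hp' s, S.iv_conj k₀.ev hp s, ?_⟩
  rw [← E.x_conj s k₀.ec, ← E.x_conj s uv]
  calc _ = φ s * (x C φ e₀ c₀ * p' * x C φ e₀ c₀ * p') * (φ s)⁻¹ := by group
    _ = φ s * p * ((φ s)⁻¹ * (φ s * t)) * x C φ u₀ v₀ * (φ s)⁻¹ := by rw [e1]; group
    _ = _ := by rw [S.tl]; group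

theorem no_exotic {e u v c : V} {A B q q' : G} (k : Cf P e u v c) (hA : Iv C φ t u v A)
    (hq : Iv C φ t e v q) (e1 : x C φ e c * A * x C φ e c * A = q * t * x C φ u v)
    (hB : Iv C φ t c e B) (hq' : Iv C φ t v e q')
    (e2 : x C φ v u * B * x C φ v u * B = q' * t * x C φ c e) : False := by
  have S := h.toSit
  have E := S.toEmb
  have M := E.toMod
  obtain ⟨lev, leu, lec, hu⟩ := M.cf_ln k
  have uv := k.ln.perp
  have vu : P.B v u = 0 := by rw [M.B_comm, uv]
  have vc : P.B v c = 0 := by rw [M.B_comm, k.cv]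
  have ce : P.B c e = 0 := by rw [M.B_comm, k.ec]
  have ve : P.B v e = 0 := by rw [M.B_comm, k.ev]
  have T := M.ti_pair k.ev
  have me : e ∈ span F {e, v} := Submodule.subset_span (by simp)
  have mv : v ∈ span F {e, v} := Submodule.subset_span (by simp)
  have pu : u ∈ P.perp (span F {e, v}) := by
    rw [M.mem_perp_span]; rintro _ (rfl | rfl); exacts [k.eu, vu]
  have pc : c ∈ P.perp (span F {e, v}) := by
    rw [M.mem_perp_span]; rintro _ (rfl | rfl); exacts [k.ec, vc]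
  rw [← E.x_symm uv, ← E.x_symm k.ec] at e2
  obtain ⟨ε, hε, rfl⟩ := S.iv_uniq h.two' lev hq
    (S.iv_congr (by rw [Set.pair_comm]) (E.x_symm ve) hq')
  set X := x C φ e c with hX
  set Y := x C φ u v with hY
  set Z := x C φ v c with hZ
  set N := x C φ e v with hN
  have XY' : X ∈ Yg C φ (span F {e, v}) := E.R_le_Y (E.τ_mem_R T me pc 0)
  have YY' : Y ∈ Yg C φ (span F {e, v}) := by
    rw [hY, E.x_symm uv]; exact E.R_le_Y (E.τ_mem_R T mv pu 0)
  have ZY' : Z ∈ Yg C φ (span F {e, v}) := E.R_le_Y (E.τ_mem_R T mv pc 0)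
  have NE : N ∈ Eg C φ (span F {e, v}) := E.τ_mem_E T me mv 0
  have EY : Eg C φ (span F {e, v}) ≤ Yg C φ (span F {e, v}) := (E.E_le_R T).trans E.R_le_Y
  have cE : ∀ {g y}, g ∈ Eg C φ (span F {e, v}) → y ∈ Yg C φ (span F {e, v}) → Commute g y :=
    fun hg hy => (mem_centralizer_iff.1 (E.E_cent T hg) _ hy).symm
  have cq : ∀ {y}, y ∈ Yg C φ (span F {e, v}) → Commute q y :=
    fun hy => (mem_centralizer_iff.1 hq.cY _ hy).symm
  have ct : ∀ {y}, y ∈ Yg C φ (span F {e, v}) → Commute t y :=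
    fun hy => (S.tL (E.Y_le_L hy)).symm
  have AE : ∀ {g}, g ∈ Eg C φ (span F {e, v}) → MulAut.conj A g = g := fun {g} hg => by
    have : g ∈ Yg C φ (span F {u, v}) := by
      refine E.E_le_Y ?_ hg
      rw [Submodule.span_le]; rintro _ (rfl | rfl); exacts [pu, T mv]
    rw [MulAut.conj_apply, ← mem_centralizer_iff.1 hA.cY _ this]; group
  have BE : ∀ {g}, g ∈ Eg C φ (span F {e, v}) → MulAut.conj B g = g := fun {g} hg => by
    have : g ∈ Yg C φ (span F {c, e}) := by
      refine E.E_le_Y ?_ hg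
      rw [Submodule.span_le]; rintro _ (rfl | rfl); exacts [pc, T me]
    rw [MulAut.conj_apply, ← mem_centralizer_iff.1 hB.cY _ this]; group
  have Ai : A⁻¹ = A := inv_eq_of_mul_eq_one_right hA.sq
  have Bi : B⁻¹ = B := inv_eq_of_mul_eq_one_right hB.sq
  have aa : ∀ g, MulAut.conj A (MulAut.conj A g) = g := fun g => by
    rw [← MulAut.mul_apply, ← map_mul, hA.sq, map_one, MulAut.one_apply]
  have bb : ∀ g, MulAut.conj B (MulAut.conj B g) = g := fun g => by
    rw [← MulAut.mul_apply, ← map_mul, hB.sq, map_one, MulAut.one_apply]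
  have X2 : X * X = 1 := E.x_sq k.ec
  have Y2 : Y * Y = 1 := E.x_sq uv
  have Z2 : Z * Z = 1 := E.x_sq vc
  have N2 : N * N = 1 := E.x_sq k.ev
  have ε2 : ε * ε = 1 := E.E_sq T hε
  have at' : MulAut.conj A t = t * Y := hA.pt
  have bt : MulAut.conj B t = t * X := by rw [hX, E.x_symm k.ec]; exact hB.pt
  have aY : MulAut.conj A Y = Y := by
    have : Y ∈ Yg C φ (span F {u, v}) := E.R_le_Y (E.E_le_R (M.ti_pair uv) (E.τ_mem_E (M.ti_pair uv)
      (Submodule.subset_span (by simp)) (Submodule.subset_span (by simp)) 0))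
    rw [MulAut.conj_apply, ← mem_centralizer_iff.1 hA.cY _ this]; group
  have bc : ∀ {a}, a ∈ span F {e, v} → MulAut.conj B (x C φ a c) = x C φ a c := fun {a} ha => by
    have a1 : P.B c a = 0 := by rw [M.B_comm]; exact pc a ha
    have a2 : P.B e a = 0 := T ha e me
    have : x C φ a c ∈ Yg C φ (span F {c, e}) := by
      refine E.τ_mem_Y (pc a ha) ?_ ?_ 0 <;> rw [M.mem_perp_span] <;> rintro _ (rfl | rfl)
      exacts [a1, a2, M.B_self _, k.ec]
    rw [MulAut.conj_apply, ← mem_centralizer_iff.1 hB.cY _ this]; group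
  have bX : MulAut.conj B X = X := bc me
  have bZ : MulAut.conj B Z = Z := bc mv
  have aX : MulAut.conj A X = X * (q * 1) * t * Y := by
    rw [MulAut.conj_apply, Ai]
    calc A * X * A = X * (X * A * X * A) := by rw [← mul_assoc, ← mul_assoc, ← mul_assoc, X2]; group
      _ = _ := by rw [e1]; group
  have bY : MulAut.conj B Y = Y * (q * ε) * t * X := by
    rw [MulAut.conj_apply, Bi]
    calc B * Y * B = Y * (Y * B * Y * B) := by rw [← mul_assoc, ← mul_assoc, ← mul_assoc, Y2]; group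
      _ = _ := by rw [e2]; group
  have as := shf_s (a := (MulAut.conj A).toMonoidHom) aa hq.sq S.t2 Y2 hq.pt (cq YY') (ct YY')
    (cE NE YY') (mul_one 1) (Commute.one_left _) (Commute.one_left _) (map_one _) at' aY aX
  have bs := shf_s (a := (MulAut.conj B).toMonoidHom) bb hq.sq S.t2 X2 hq.pt (cq XY') (ct XY')
    (cE NE XY') ε2 (ct (EY hε)).symm (cq (EY hε)).symm (BE hε) bt bX bY
  have qi : q⁻¹ = q := inv_eq_of_mul_eq_one_right hq.sq
  have s2 : q * t * (q * t) = N := by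
    have := hq.pt
    rw [qi] at this
    rw [← mul_assoc, this, mul_assoc, ← (ct (EY NE)).eq, ← mul_assoc, S.t2, one_mul]
  have XY : X * Y * X = Y * N := by
    have := E.x_τ (u := e) (v := c) (e := u) (a := v) k.ec uv 0
    simp only [k.cu, k.eu, k.cv, k.ev, one_smul, zero_smul, add_zero] at this
    change X * Y * X = x C φ (u + e) v at this
    rw [this, E.x_symm (by rw [M.B_comm, map_add, vu, ve, add_zero]), E.x_add vu ve (by
      rw [M.B_comm, k.eu]), ← E.x_symm uv, ← E.x_symm k.ev]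
  obtain ⟨m1, m2, m3⟩ := shf_calc (a := (MulAut.conj A).toMonoidHom) (b := (MulAut.conj B).toMonoidHom)
    (s := q * t) (t := t) (X := X) (Y := Y) (N := N) (ε := ε) Y2 N2 s2 XY
    ((cq XY').mul_left (ct XY')) ((cq YY').mul_left (ct YY')) (cE NE XY') (cE NE YY')
    ((cq (EY NE)).mul_left (ct (EY NE))).symm (cE hε YY') (AE NE) (AE hε) at' aY
    (by rw [← mul_assoc]; simpa using aX) as bt bX
    (by
      change MulAut.conj B Y = _
      rw [bY, mul_assoc Y (q * ε), mul_assoc q ε, ← (ct (EY hε)).eq]; group)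
    bs (cE hε XY') ((cq (EY hε)).mul_left (ct (EY hε))).symm
  change MulAut.conj A (MulAut.conj B (MulAut.conj A X)) = _ at m1
  change MulAut.conj A (MulAut.conj B (MulAut.conj A t)) = _ at m2
  change MulAut.conj A (MulAut.conj B Y) = _ at m3
  obtain ⟨κ, κ', aZ⟩ := S.iv_Q h.two' (M.ln_symm k.ln)
    (S.iv_congr (by rw [Set.pair_comm]) (E.x_symm uv) hA) vc
  have zE : z C φ v κ ∈ Eg C φ (span F {e, v}) := E.τ_mem_E T mv (Submodule.zero_mem _) κ
  replace aZ : MulAut.conj A Z = Z * (z C φ v κ * x C φ v (κ' • u)) := by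
    rw [MulAut.conj_apply, Ai, ← aZ, ← hZ, ← mul_assoc, ← mul_assoc, ← mul_assoc, Z2, one_mul]
  rcases hs κ' with rfl | rfl
  · rw [zero_smul, E.x_zero, mul_one] at aZ
    set m := A * B * A with hm
    have mm : ∀ g, MulAut.conj A (MulAut.conj B (MulAut.conj A g)) = m * g * m⁻¹ := fun g => by
      simp only [MulAut.conj_apply, hm]; group
    have m2' : m * m = 1 := by
      calc m * m = A * (B * (A * A) * B) * A := by rw [hm]; group
        _ = 1 := by rw [hA.sq, mul_one, hB.sq, mul_one, hA.sq]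
    have mi : m⁻¹ = m := inv_eq_of_mul_eq_one_right m2'
    have mE : ∀ {g}, g ∈ Eg C φ (span F {e, v}) → m * g * m⁻¹ = g := fun hg => by
      rw [← mm, AE hg, BE hg, AE hg]
    have mZ : m * Z * m⁻¹ = Z := by
      rw [← mm, aZ, map_mul, bZ, BE zE, map_mul, aZ, AE zE, mul_assoc, E.z_sq, mul_one]
    rw [mm] at m1 m2
    have hc : c ∉ span F {e, v} := fun hc => by
      have := pu c hc
      rw [k.cu] at this; exact one_ne_zero this
    obtain ⟨r, hr, ru⟩ := M.trans_Y T pu pc hu hc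
    have rY : φ r ∈ Yg C φ (span F {e, v}) := ⟨r, hr, rfl⟩
    have r1 : φ r * Y * (φ r)⁻¹ = Z := by
      rw [hY, E.x_conj r uv, ru, hr v mv, hZ, E.x_symm vc]
    have c1 : Commute (m * t * m⁻¹) (φ r) := by
      rw [m2]
      exact (((ct rY).mul_left ((cq rY).mul_left (ct rY))).mul_left (cE hε rY))
    set g := m⁻¹ * (φ r)⁻¹ * m with hg
    have gt : g * t = t * g := by
      calc g * t = m⁻¹ * ((φ r)⁻¹ * (m * t * m⁻¹)) * m := by rw [hg]; group
        _ = t * g := by rw [← c1.inv_right.eq, hg]; group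
    obtain ⟨α, γ, ac⟩ := E.exists_act (S.norm_of gt)
    have z1 : z C φ v 1 ∈ Eg C φ (span F {e, v}) := E.τ_mem_E T mv (Submodule.zero_mem _) 1
    have γv : γ v = v := by
      refine E.z_one_inj ?_
      have := E.act_z ac v 1
      rw [map_one] at this
      rw [← this]
      calc g * z C φ v 1 * g⁻¹ = m⁻¹ * ((φ r)⁻¹ * (m * z C φ v 1 * m⁻¹) * φ r) * m := by
            rw [hg]; group
        _ = m⁻¹ * (m * z C φ v 1 * m⁻¹) * m := by
            rw [mE z1, ← (cE z1 rY).inv_right.eq]; group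
        _ = _ := by group
    have NεE := mul_mem NE hε
    have g1 : g * Z * g⁻¹ = X * (N * ε) := by
      calc g * Z * g⁻¹ = m⁻¹ * ((φ r)⁻¹ * (m * Z * m⁻¹) * φ r) * m := by rw [hg]; group
        _ = m⁻¹ * (Y * (N * ε) * (N * ε)) * m := by
            rw [mZ, ← r1, mul_assoc Y, E.E_sq T NεE]; group
        _ = m⁻¹ * (m * X * m⁻¹ * (m * (N * ε) * m⁻¹)) * m := by rw [m1, mE NεE]
        _ = _ := by group
    rw [hZ, E.act_x ac vc, γv] at g1
    obtain ⟨s, hs', e3⟩ := NεE
    rw [← e3, hX, x, x, ← map_mul] at g1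
    have vγ : P.B v (γ c) = 0 := by rw [← γv, ac.B_eq, vc, map_zero]
    have := congrArg (fun w => C.act w u) (E.inj g1)
    simp only [C.mul_apply] at this
    rw [hs' u pu, M.x_app vγ, M.x_app k.ec, vu, k.cu, k.eu, zero_smul, zero_smul, one_smul, add_zero,
      add_zero, add_right_inj] at this
    exact k.nmem (this ▸ Submodule.smul_mem _ _ (Submodule.subset_span (by simp)))
  · rw [one_smul, ← E.x_symm uv, ← hY] at aZ
    have cZX : Commute Z X := by
      rw [hZ, hX, E.x_symm vc, E.x_symm k.ec]; exact E.τ_comm k.cv ce 0 0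
    have cZY : Commute Z Y := by
      rw [hZ, hY, E.x_symm uv]; exact E.τ_comm vc vu 0 0
    have m4 : MulAut.conj A (MulAut.conj B (MulAut.conj A Z)) = Z * (X * Y * ε) := by
      rw [aZ, map_mul (MulAut.conj B), map_mul (MulAut.conj B), bZ, BE zE, map_mul, map_mul, aZ, AE zE,
        m3]
      calc Z * (z C φ v κ * Y) * (z C φ v κ * (Y * (X * Y * ε)))
          = Z * (z C φ v κ * (Y * z C φ v κ) * Y) * (X * Y * ε) := by group
        _ = _ := by
          rw [← (cE zE YY').eq, ← mul_assoc (z C φ v κ), E.z_sq, one_mul, Y2, mul_one]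
    have : Z * (X * Y * ε) * (Z * (X * Y * ε)) = 1 := by
      rw [← m4, ← map_mul, ← map_mul, ← map_mul, Z2, map_one, map_one, map_one]
    have c2 : Commute Z (X * Y * ε) := (cZX.mul_right cZY).mul_right (cE hε ZY').symm
    have c3 : Commute ε (X * Y) := (cE hε XY').mul_right (cE hε YY')
    have : N = 1 := by
      calc N = Y * N * Y := by rw [mul_assoc, (cE NE YY').eq, ← mul_assoc, Y2, one_mul]
        _ = (Z * Z) * (X * Y * (X * Y)) * (ε * ε) := by rw [← XY, Z2, ε2]; group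
        _ = Z * (Z * (X * Y * ε)) * (X * Y * ε) := by
            rw [mul_assoc Z (Z * _), mul_assoc Z (X * Y * ε), mul_assoc (X * Y) ε, ← mul_assoc ε,
              c3.eq]; group
        _ = 1 := by rw [c2.eq, ← this]; group
    rw [hN, ← one_smul F v, E.x_eq_one lev] at this
    exact one_ne_zero this

theorem ma1_small : MA1 C φ t := by
  have S := h.toSit
  have E := S.toEmb
  have M := E.toMod
  refine ⟨S, h.two', fun e a k => h.exists_iv k, fun e u v c p' k hp' => ?_⟩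
  obtain ⟨p, α, β, hp, co, p2, e1⟩ := h.n0 k hp'.toP0 one_ne_zero
  simp only [one_smul, one_mul] at hp p2 e1
  rw [inv_eq_of_mul_eq_one_right hp'.sq] at e1
  rcases hs β with rfl | rfl
  · rw [zero_smul, E.x_zero] at p2
    exact ⟨p, α, ⟨hp, co, p2⟩, by rw [e1, zero_smul, add_zero]⟩
  · exfalso
    rw [one_smul] at p2 e1
    have T := M.ti_pair k.ev
    have NY : x C φ e v ∈ Yg C φ (span F {e, v}) := E.R_le_Y (E.E_le_R T (E.τ_mem_E T
      (Submodule.subset_span (by simp)) (Submodule.subset_span (by simp)) 0))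
    have pN := mem_centralizer_iff.1 hp.cY _ NY
    have tN := S.tL (E.Y_le_L NY)
    have hq : Iv C φ t e v (p * t) := by
      refine ⟨⟨mul_mem hp.cY (centralizer_le E.Y_le_L S.tC), ?_⟩, fun o h1 h2 h3 => ?_, ?_⟩
      · rw [← hp.pt]; group
      · rw [mul_assoc, ← h2, ← mul_assoc, co o h1 h2 h3, mul_assoc]
      · calc p * t * (p * t) = (p * t * p⁻¹) * (p * p) * t := by group
          _ = 1 := by rw [hp.pt, p2, mul_assoc t, E.x_sq k.ev, mul_one, S.t2]
    have e2 : x C φ e c * p' * x C φ e c * p' = p * t * t * x C φ u (α • e + v) := by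
      rw [e1, mul_assoc p t t, S.t2, mul_one]
    obtain ⟨lev, leu, lec, hu⟩ := M.cf_ln k
    have k' : Cf P v c e u := by
      refine ⟨M.ln_symm lec, fun hv => ?_, by rw [M.B_comm, k.cv], by rw [M.B_comm, k.ev],
        by rw [M.B_comm, k.ln.perp], by rw [M.B_comm, k.eu], by rw [M.B_comm, k.cu]⟩
      obtain ⟨a, b, hab⟩ := Submodule.mem_span_pair.1 hv
      have := congrArg (fun w => P.B u w) hab
      simp only [map_add, map_smul, M.B_comm u c, M.B_comm u e, k.cu, k.eu, k.ln.perp, smul_eq_mul,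
        mul_one, mul_zero, add_zero] at this
      rw [this, zero_smul, zero_add] at hab
      exact lev.nmem (hab ▸ Submodule.smul_mem _ _ (Submodule.mem_span_singleton_self e))
    obtain ⟨q, A, hA, hq1, e3⟩ := h.exotic hs k hp' hq e2 k
    obtain ⟨q', B, hB, hq2, e4⟩ := h.exotic hs k hp' hq e2 k'
    exact h.no_exotic hs k hA hq1 e3 hB hq2 e4

end MA0

end CfsgLib.SPC
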