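import Cfsg.Agent.Lib.SPC.ShE

/-! t ~ t a: the normalised hats -/

set_option autoImplicit false
set_option linter.unusedSectionVars false

namespace CfsgLib.SPC

open Subgroup Module CfsgLib.Forms CfsgLib.LieMult
open CfsgLib.HX (Std CO Two Mv M2)
open CfsgLib.UN (AV SI TI HH Rad Stb Yg Rg Eg Act nu)
open CfsgLib.ClSys (II)
open Submodule (span)
open scoped commutatorElement Pointwise

universe u

variable {F : Type} [Field F] [Finite F] {V : Type} [AddCommGroup V] [Module F V]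
  [FiniteDimensional F V] {P : PQ (RingHom.id F) V} {S : Type} [Group S] [Finite S] {G : Type u}
  [Group G] [Finite G] {C : CG P S} {φ : S →* G} {t : G}

theorem sg_span {e a : V} {c₁ d₁ c₂ d₂ : F} (hd : c₁ * d₂ - c₂ * d₁ ≠ 0) :
    span F {c₁ • e + d₁ • a, c₂ • e + d₂ • a} = span F {e, a} := by
  apply le_antisymm
  · rw [Submodule.span_le]
    rintro v (rfl | rfl) <;> exact Submodule.mem_span_pair.2 ⟨_, _, rfl⟩
  · rw [Submodule.span_le]
    have e1 := mul_inv_cancel₀ hd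
    generalize (c₁ * d₂ - c₂ * d₁)⁻¹ = D at e1
    rintro v (rfl | rfl)
    · refine Submodule.mem_span_pair.2 ⟨d₂ * D, -d₁ * D, ?_⟩
      match_scalars
      · linear_combination e1
      · ring
    · refine Submodule.mem_span_pair.2 ⟨-c₂ * D, c₁ * D, ?_⟩
      match_scalars
      · ring
      · linear_combination e1

theorem sg_span_smul {e a : V} {l m : F} (hl : l ≠ 0) (hm : m ≠ 0) :
    span F {l • e, m • a} = span F {e, a} := by
  have := sg_span (e := e) (a := a) (c₁ := l) (d₁ := 0) (c₂ := 0) (d₂ := m) (by simp [hl, hm])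
  simpa using this

theorem sg_odd {g w : G} (ho : Odd (orderOf g)) (H : Commute (g * g) w) : Commute g w := by
  obtain ⟨k, hk⟩ := ho
  have e1 : g = (g * g) ^ (k + 1) := by
    rw [← sq, ← pow_mul, show 2 * (k + 1) = (2 * k + 1) + 1 by ring, pow_succ, ← hk, pow_orderOf_eq_one,
      one_mul]
  rw [e1]
  exact H.pow_left _

/-- normalised at `e` -/
def SgN (C : CG P S) (φ : S →* G) (e : V) (p : G) : Prop :=
  ∀ b, P.B e b = 0 → ∃ κ, x C φ e b * p * x C φ e b * p = z C φ e κ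

namespace Emb

variable (h : Emb C φ) {e a b : V} {p : G}
include h

theorem sg_perp {v : V} (h1 : P.B e v = 0) (h2 : P.B a v = 0) : v ∈ P.perp (span F {e, a}) := by
  rw [h.mem_perp_span]
  rintro _ (rfl | rfl) <;> assumption

theorem sg_Y {u v : V} (k : P.B u v = 0) (h1 : P.B e u = 0) (h2 : P.B a u = 0) (h3 : P.B e v = 0)
    (h4 : P.B a v = 0) (c : F) : τ C φ u v c ∈ Yg C φ (span F {e, a}) :=
  h.τ_mem_Y k (h.sg_perp h1 h2) (h.sg_perp h3 h4) c

theorem sg_El (k : P.B e a = 0) (r v r' : F) :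
    z C φ e r * x C φ e (v • a) * z C φ a r' ∈ Eg C φ (span F {e, a}) := by
  have m1 : e ∈ span F {e, a} := Submodule.subset_span (by simp)
  have m2 : a ∈ span F {e, a} := Submodule.subset_span (by simp)
  exact mul_mem (mul_mem (h.τ_mem_E (h.ti_pair k) m1 (zero_mem _) r)
    (h.τ_mem_E (h.ti_pair k) m1 (Submodule.smul_mem _ v m2) 0)) (h.τ_mem_E (h.ti_pair k) m2 (zero_mem _) r')

theorem sg_EY (k : P.B e a = 0) {ε : G} (hε : ε ∈ Eg C φ (span F {e, a})) :
    ε ∈ Yg C φ (span F {e, a}) := h.R_le_Y (h.E_le_R (h.ti_pair k) hε)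

theorem sg_fixY {s : S} (h1 : C.act s e = e) (h2 : C.act s a = a) : φ s ∈ Yg C φ (span F {e, a}) :=
  mem_map_of_mem φ (mem_fix_pair.2 ⟨h1, h2⟩)

/-- the effect of changing `p` in its coset -/
theorem sg_gq (k : P.B e a = 0) (hp : p ∈ centralizer (Yg C φ (span F {e, a}) : Set G))
    (hb : P.B e b = 0) (r v r' : F) :
    x C φ e b * (p * (z C φ e r * x C φ e (v • a) * z C φ a r')) * x C φ e b *
      (p * (z C φ e r * x C φ e (v • a) * z C φ a r')) =
    x C φ e b * p * x C φ e b * p *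
      (z C φ e (P.B a b * P.B a b * r') * x C φ e ((P.B a b * r') • a)) := by
  set μ := P.B a b with hμ
  set X := x C φ e b with hX
  set ε := z C φ e r * x C φ e (v • a) * z C φ a r' with hε
  set D := z C φ e (μ * μ * r') * x C φ e ((μ * r') • a) with hD
  have k' : P.B a e = 0 := by rw [h.B_comm, k]
  have kv : ∀ c : F, P.B e (c • a) = 0 := fun c => by rw [map_smul, k, smul_zero]
  have X2 : X * X = 1 := h.x_sq hb
  have mε : ε ∈ Eg C φ (span F {e, a}) := h.sg_El k r v r'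
  have mD : D ∈ Eg C φ (span F {e, a}) := by
    have := h.sg_El k (μ * μ * r') (μ * r') 0
    rwa [h.z_zero, mul_one] at this
  have c1 : Commute X (z C φ e r) := h.τ_comm hb (map_zero _) 0 r
  have c2 : Commute X (x C φ e (v • a)) := h.τ_comm hb (kv v) 0 0
  have e1 : X * z C φ a r' * X = z C φ a r' * D := by
    have := h.x_τ hb (map_zero (P.B a)) r'
    rw [map_zero, map_zero, zero_smul, zero_smul, add_zero, add_zero, k, zero_smul, add_zero,
      h.B_comm b] at this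
    change X * z C φ a r' * X = z C φ (a + μ • e) r' at this
    rw [this, h.z_line (by rw [map_smul, k', smul_zero]), h.z_smul, smul_smul,
      h.x_symm (by rw [map_smul, k', smul_zero]), h.x_smul k, mul_comm r' μ, mul_assoc]
  have e2 : X * ε * X = ε * D := by
    calc X * ε * X = X * z C φ e r * x C φ e (v • a) * z C φ a r' * X := by rw [hε]; group
      _ = z C φ e r * x C φ e (v • a) * (X * z C φ a r' * X) := by
        rw [c1.eq, mul_assoc _ X, c2.eq]; group
      _ = ε * D := by rw [e1, hε]; group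
  have p1 : ε * p = p * ε := hp ε (h.sg_EY k mε)
  have p2 : D * p = p * D := hp D (h.sg_EY k mD)
  have p3 : D * ε = ε * D := h.E_cent (h.ti_pair k) mε D (h.sg_EY k mD)
  have p4 : ε * ε = 1 := h.E_sq (h.ti_pair k) mε
  calc X * (p * ε) * X * (p * ε) = X * p * (X * X) * ε * X * p * ε := by rw [X2]; group
    _ = X * p * X * (X * ε * X) * p * ε := by group
    _ = X * p * X * (ε * (D * p)) * ε := by rw [e2]; group
    _ = X * p * X * (ε * p) * (D * ε) := by rw [p2]; group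
    _ = X * p * X * p * (ε * ε) * D := by rw [p1, p3]; group
    _ = _ := by rw [p4, mul_one]

theorem sg_hh (h0 : e ≠ 0) (h1 : P.B e a = 0) (h2 : P.B e b = 0) (h3 : P.B a b = 1) :
    ∃ f, HH P e f a b := by
  obtain ⟨f₀, hf⟩ := h.exists_hp h0
  obtain ⟨w, w1, w2, e1⟩ := h.hp_decomp h3 f₀
  refine ⟨w, h.hp_iff.2 ?_, h.hp_iff.2 h3, h1, h2, by rw [h.B_comm, w1], by rw [h.B_comm, w2]⟩
  rw [e1] at hf
  simpa [h1, h2] using hf

theorem sg_zx (k : Ln P e a) {r v s : F} (e1 : z C φ e r * x C φ e (v • a) = z C φ e s) :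
    r = s ∧ v = 0 := by
  have := h.line_inj k (r := r) (v := v) (r' := 0) (s := s) (u := 0) (s' := 0)
    (by rw [h.z_zero, mul_one, mul_one, zero_smul, h.x_zero, mul_one, e1])
  exact ⟨this.1, this.2.1⟩

theorem sg_conj (l : S) (hb : P.B e b = 0) {κ : F} (e1 : x C φ e b * p * x C φ e b * p = z C φ e κ) :
    x C φ (C.act l e) (C.act l b) * (φ l * p * (φ l)⁻¹) * x C φ (C.act l e) (C.act l b) *
      (φ l * p * (φ l)⁻¹) = z C φ (C.act l e) κ := by
  rw [← h.x_conj l hb, ← h.z_conj, ← e1]; group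

theorem sg_nconj (l : S) (hp : SgN C φ e p) : SgN C φ (C.act l e) (φ l * p * (φ l)⁻¹) := by
  intro b hb
  have hb' : P.B e (C.act l⁻¹ b) = 0 := by rw [← C.B_act_left, hb]
  obtain ⟨κ, e1⟩ := hp _ hb'
  have := h.sg_conj l hb' e1
  rw [C.apply_inv] at this
  exact ⟨κ, this⟩

theorem sg_nsmul {l : F} (hl : l ≠ 0) (hp : SgN C φ (l • e) p) : SgN C φ e p := by
  intro b hb
  obtain ⟨κ, e1⟩ := hp (l⁻¹ • b) (by rw [map_smul, h.B_smul_left, hb]; simp)
  rw [h.x_smul (by rw [map_smul, hb, smul_zero]), smul_inv_smul₀ hl, h.z_smul] at e1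
  exact ⟨_, e1⟩

end Emb

namespace Sit

variable (h : Sit C φ t) {e a b : V} {p p' : G}
include h

theorem sg_symm (k : P.B e a = 0) (hp : Iv C φ t e a p) : Iv C φ t a e p :=
  h.iv_congr (by rw [Set.pair_comm]) (h.x_symm k) hp

theorem sg_scale (k : P.B e a = 0) {l m : F} (hl : l ≠ 0) (hm : m ≠ 0)
    (hp : Iv C φ t (l • e) (m • a) p) : Iv C φ t e ((l * m) • a) p := by
  refine h.iv_congr ?_ ?_ hp
  · rw [sg_span_smul hl hm, ← sg_span_smul (e := e) (a := a) one_ne_zero (mul_ne_zero hl hm), one_smul]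
  · rw [h.x_smul (by rw [map_smul, k, smul_zero]), smul_smul]

theorem sg_triv (k : P.B e a = 0) (hp : Iv C φ t e a p) (h1 : P.B e b = 0) (h2 : P.B a b = 0) :
    x C φ e b * p * x C φ e b * p = 1 := by
  have m : x C φ e b ∈ Yg C φ (span F {e, a}) :=
    h.sg_Y h1 (h.B_self e) (by rw [h.B_comm, k]) h1 h2 0
  have e1 : x C φ e b * p = p * x C φ e b := hp.cY _ m
  rw [e1, mul_assoc p, h.x_sq h1, mul_one, hp.sq]

end Sit

namespace MA1

variable (h : MA1 C φ t)
include h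

theorem ma0 : MA0 C φ t :=
  ⟨h.toSit, h.two', fun e a k => (h.mv e a k).imp fun _ hp => hp.toP0⟩

theorem sg_nn {e u v c : V} {p' : G} (k : Cf P e u v c) (hp' : Iv C φ t u v p') : ∃ α : F,
    ∀ e', Cf P e' u v c → ∃ p, Iv C φ t e' v p ∧
      x C φ e' c * p' * x C φ e' c * p' = p * x C φ u (α • e') := by
  obtain ⟨p, α, hp, e1⟩ := h.nn e u v c p' k hp'
  refine ⟨α, fun e' k' => ?_⟩
  obtain ⟨s, s1, s2, s3, s4⟩ := h.trans_cf k k'
  have c1 : φ s * p' = p' * φ s := hp'.cY _ (h.sg_fixY s2 s3)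
  have ku : P.B u (α • e) = 0 := by rw [map_smul, h.B_comm, k.eu, smul_zero]
  refine ⟨φ s * p * (φ s)⁻¹, by simpa only [s1, s3] using h.iv_conj k.ev hp s, ?_⟩
  have e2 := h.x_conj s k.ec
  have e3 := h.x_conj s ku
  rw [s1, s4] at e2
  rw [s2, map_smul, s1] at e3
  have e4 : p' = φ s * p' * (φ s)⁻¹ := by rw [c1]; group
  rw [← e2, ← e3, e4]
  calc _ = φ s * (x C φ e c * p' * x C φ e c * p') * (φ s)⁻¹ := by group
    _ = _ := by rw [e1]; group

theorem sg_cf {e u v c : V} (k : Cf P e u v c) {l : F} (hl : l ≠ 0) (m : F) :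
    Cf P (l • e + m • v) u v c := by
  refine ⟨k.ln, fun hm => k.nmem ?_, ?_, ?_, ?_, k.cv, k.cu⟩
  · have m2 : m • v ∈ span F {u, v} := Submodule.smul_mem _ _ (Submodule.subset_span (by simp))
    exact (Submodule.smul_mem_iff _ hl).1 ((Submodule.add_mem_iff_left _ m2).1 hm)
  · rw [map_add, LinearMap.add_apply, h.B_smul_left, h.B_smul_left, k.eu, h.B_comm v, k.ln.perp]; simp
  · rw [map_add, LinearMap.add_apply, h.B_smul_left, h.B_smul_left, k.ev, h.B_self]; simp
  · rw [map_add, LinearMap.add_apply, h.B_smul_left, h.B_smul_left, k.ec, h.B_comm v, k.cv]; simp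

/-- `α` is linear and equal to `κ'` -/
theorem alpha {e u v c : V} {p' : G} (k : Cf P e u v c) (hp' : Iv C φ t u v p') : ∃ α : F,
    (∀ l : F, l ≠ 0 → ∃ p, Iv C φ t e (l • v) p ∧
      x C φ e (l • c) * p' * x C φ e (l • c) * p' = p * x C φ u ((l * α) • e)) ∧
    ∀ b, P.B v b = 0 → ∃ κ, x C φ v b * p' * x C φ v b * p' =
      z C φ v κ * x C φ v ((P.B u b * α) • u) := by
  obtain ⟨α, H⟩ := h.sg_nn k hp'
  have uv := k.ln.perp
  have vu : P.B v u = 0 := by rw [h.B_comm, uv]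
  have vc : P.B v c = 0 := by rw [h.B_comm, k.cv]
  have ve : P.B v e = 0 := by rw [h.B_comm, k.ev]
  have ue : P.B u e = 0 := by rw [h.B_comm, k.eu]
  have ce : P.B c e = 0 := by rw [h.B_comm, k.ec]
  have uc : P.B u c = 1 := by rw [h.B_comm, k.cu]
  have hq : Iv C φ t v u p' := h.sg_symm uv hp'
  refine ⟨α, fun l hl => ?_, fun b hb => ?_⟩
  · obtain ⟨p, hp, e1⟩ := H _ (h.sg_cf k hl 0)
    rw [zero_smul, add_zero] at hp e1
    refine ⟨p, ?_, ?_⟩
    · simpa using h.sg_scale (l := l) (m := 1) k.ev hl one_ne_zero (by simpa using hp)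
    · rw [← h.x_smul k.ec, e1, smul_smul, mul_comm α]
  -- the case `b = μ c`
  have key : ∀ μ : F, μ ≠ 0 → ∃ κ, x C φ v (μ • c) * p' * x C φ v (μ • c) * p' =
      z C φ v κ * x C φ v ((μ * α) • u) := by
    intro μ hμ
    have vc' : P.B v (μ • c) = 0 := by rw [map_smul, vc, smul_zero]
    have ec' : P.B e (μ • c) = 0 := by rw [map_smul, k.ec, smul_zero]
    obtain ⟨κ, κ', e0⟩ := h.iv_Q h.two' (h.ln_symm k.ln) hq vc'
    refine ⟨κ, ?_⟩
    suffices κ' = μ * α by rw [e0, this]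
    obtain ⟨p₁, hp₁, e1⟩ := H _ (h.sg_cf k hμ 0)
    obtain ⟨p₂, hp₂, e2⟩ := H _ (h.sg_cf k hμ μ)
    rw [zero_smul, add_zero] at hp₁ e1
    have lev : Ln P (μ • e) v := by
      simpa using h.ln_smul (h.cf_ln k).1 hμ one_ne_zero 0
    have ev' := lev.perp
    have ve' : P.B v (μ • e) = 0 := by rw [h.B_comm, ev']
    have hp₂' : Iv C φ t (μ • e) v p₂ := by
      refine h.iv_congr ?_ ?_ hp₂
      · have := sg_span (e := μ • e) (a := v) (c₁ := 1) (d₁ := μ) (c₂ := 0) (d₂ := 1) (by simp)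
        simpa using this
      · rw [h.x_symm (h.sg_cf k hμ μ).ev, h.x_shift ve', h.x_symm ve']
    obtain ⟨ε, hε, rfl⟩ := h.iv_uniq h.two' lev hp₁ hp₂'
    set X₁ := x C φ e (μ • c) with hX₁
    set X₂ := x C φ v (μ • c) with hX₂
    have f1 : x C φ (μ • e) c = X₁ := h.x_smul k.ec μ
    have f2 : x C φ (μ • e + μ • v) c = X₁ * X₂ := by
      rw [h.x_symm (h.sg_cf k hμ μ).ec, h.x_add (by rw [map_smul, ce, smul_zero])
        (by rw [map_smul, k.cv, smul_zero]) (by rw [map_smul, ev', smul_zero]),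
        h.x_symm (by rw [map_smul, ce, smul_zero]), f1, h.x_symm (by rw [map_smul, k.cv, smul_zero]),
        h.x_smul vc]
    have c12 : X₁ * X₂ = X₂ * X₁ := by
      rw [hX₁, hX₂, h.x_symm ec', h.x_symm vc']
      exact h.τ_comm (by rw [h.B_comm, ec']) (by rw [h.B_comm, vc']) 0 0
    have X1 : X₁ * X₁ = 1 := h.x_sq ec'
    have vu' : P.B v (κ' • u) = 0 := by rw [map_smul, vu, smul_zero]
    have f3 : X₁ * (z C φ v κ * x C φ v (κ' • u)) * X₁ = τ C φ v (κ' • u + (κ' * μ) • e) κ := by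
      have := h.x_τ ec' vu' κ
      have q1 : P.B (μ • c) (κ' • u) = κ' * μ := by
        rw [h.B_smul_left, map_smul, k.cu, smul_eq_mul, mul_one, mul_comm]
      have q2 : P.B e (κ' • u) = 0 := by rw [map_smul, k.eu, smul_zero]
      rw [q1, q2, h.B_smul_left, k.cv, k.ev] at this
      have c0 : z C φ v κ * x C φ v (κ' • u) = x C φ v (κ' • u) * z C φ v κ :=
        h.τ_comm (map_zero _) vu' κ 0
      rw [c0, ← h.τ_eq vu', this]; simp
    have m3 : τ C φ v (κ' • u + (κ' * μ) • e) κ ∈ Yg C φ (span F {μ • e, v}) := by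
      refine h.sg_Y ?_ ev' (h.B_self v) ?_ ?_ κ <;>
        simp [vu, ve, k.eu, h.B_self]
    have c3 := hp₁.cY _ m3
    rw [f1] at e1
    rw [f2] at e2
    have e3 : ε * x C φ u (α • (μ • e + μ • v)) =
        τ C φ v (κ' • u + (κ' * μ) • e) κ * x C φ u (α • μ • e) := by
      apply mul_left_cancel (a := p₁)
      calc _ = p₁ * ε * x C φ u (α • (μ • e + μ • v)) := by group
        _ = X₁ * X₂ * p' * (X₂ * X₁) * p' := by rw [← e2, ← c12]
        _ = X₁ * (X₂ * p' * X₂) * (p' * (X₁ * X₁) * p') * X₁ * p' := by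
          rw [X1, mul_one, hp'.sq]; group
        _ = X₁ * (X₂ * p' * X₂ * p') * X₁ * (X₁ * p' * X₁ * p') := by group
        _ = _ := by rw [e0, f3, e1, ← mul_assoc, c3, mul_assoc]
    obtain ⟨s, hs, rfl⟩ := hε
    rw [x, x, τ, ← map_mul, ← map_mul] at e3
    have e4 := congrArg (fun g => C.act g c) (h.inj e3)
    have q1 : C.act s c = c := hs c (h.sg_perp (by rw [h.B_smul_left, k.ec, mul_zero]) vc)
    have q2 : C.act s e = e := hs e (h.sg_perp (by rw [h.B_smul_left, h.B_self, mul_zero]) ve)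
    have q3 : C.act s v = v := hs v (h.sg_perp ev' (h.B_self v))
    simp only [C.mul_apply] at e4
    rw [h.x_app (by simp [ue, uv]), h.x_app (by simp [ue]), h.T_app (by simp [vu, ve])] at e4
    have t1 : P.B (α • (μ • e + μ • v)) c = 0 := by simp [k.ec, vc]
    have t2 : P.B (α • μ • e) c = 0 := by simp [k.ec]
    have t3 : P.B v (c + α • μ • e) = 0 := by simp [vc, ve]
    have t4 : P.B (κ' • u + (κ' * μ) • e) (c + α • μ • e) = κ' := by simp [uc, ue, k.ec, h.B_self]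
    rw [t1, t2, uc, zero_smul, add_zero, one_smul, one_smul, t3, t4, zero_smul, add_zero, mul_zero,
      add_zero, map_add, map_smul, map_add, map_smul, map_smul, q1, q2, q3, smul_add, ← add_assoc,
      add_right_inj, smul_smul] at e4
    rw [mul_comm]
    exact (smul_left_injective F (h.ln_symm k.ln).ne e4).symm
  by_cases hμ : P.B u b = 0
  · exact ⟨0, by rw [h.sg_triv vu hq hb hμ, hμ, zero_mul, zero_smul, h.x_zero, h.z_zero, mul_one]⟩
  obtain ⟨κ, e1⟩ := key _ hμ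
  refine ⟨κ, ?_⟩
  set μ := P.B u b with hm
  have vc' : P.B v (μ • c) = 0 := by rw [map_smul, vc, smul_zero]
  have vb : P.B v (μ • c + b) = 0 := by rw [map_add, vc', hb, add_zero]
  have ub : P.B u (μ • c + b) = 0 := by rw [map_add, map_smul, uc, smul_eq_mul, mul_one, h.add_self]
  set r := τ C φ v (μ • c + b) (P.B (μ • c) (μ • c + b)) with hr
  have f1 : x C φ v b = x C φ v (μ • c) * r := by
    have := h.τ_mul vc' vb 0 (P.B (μ • c) (μ • c + b))
    rw [zero_add, h.add_self, ← add_assoc, h.vadd_self, zero_add] at this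
    exact this.symm
  have c1 : r * p' = p' * r := hp'.cY _ (h.sg_Y vb uv (h.B_self v) ub vb _)
  have c2 : r * x C φ v (μ • c) = x C φ v (μ • c) * r := h.τ_comm vb vc' _ _
  have c3 : r * r = 1 := h.τ_sq vb _
  rw [f1, ← e1]
  calc _ = x C φ v (μ • c) * (r * p') * (x C φ v (μ • c) * r) * p' := by group
    _ = x C φ v (μ • c) * p' * (r * r) * x C φ v (μ • c) * p' := by rw [c1, ← c2]; group
    _ = _ := by rw [c3, mul_one]

/-- normalised with respect to both points -/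
theorem exists_w {e a : V} (k : Ln P e a) : ∃ p, Iv C φ t e a p ∧
    (∀ b, P.B e b = 0 → ∃ κ, x C φ e b * p * x C φ e b * p = z C φ e κ) ∧
    ∀ b, P.B a b = 0 → ∃ κ, x C φ a b * p * x C φ a b * p = z C φ a κ := by
  obtain ⟨p, hp⟩ := h.mv e a k
  have k' := h.ln_symm k
  obtain ⟨e₁, c₁, k₁⟩ := h.exists_cf' k'
  obtain ⟨e₂, c₂, k₂⟩ := h.exists_cf' k
  obtain ⟨α, -, H⟩ := h.alpha k₁ (h.sg_symm k.perp hp)
  obtain ⟨β, -, H'⟩ := h.alpha k₂ hp
  refine ⟨p * (z C φ e β * x C φ e ((0 : F) • a) * z C φ a α), h.iv_mul k.perp hp (h.sg_El k.perp _ _ _),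
    fun b hb => ?_, fun b hb => ?_⟩
  · obtain ⟨κ, e1⟩ := H b hb
    have kv : P.B e ((P.B a b * α) • a) = 0 := by rw [map_smul, k.perp, smul_zero]
    have c0 : Commute (x C φ e ((P.B a b * α) • a)) (z C φ e (P.B a b * P.B a b * α)) :=
      h.τ_comm kv (map_zero _) _ _
    refine ⟨κ + P.B a b * P.B a b * α, ?_⟩
    rw [h.sg_gq k.perp hp.cY hb, e1, h.z_add, mul_assoc, ← mul_assoc (x C φ e _), c0.eq, mul_assoc,
      h.x_sq kv, mul_one]
  · obtain ⟨κ, e1⟩ := H' b hb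
    have kv : P.B a ((P.B e b * β) • e) = 0 := by rw [map_smul, k'.perp, smul_zero]
    have c0 : Commute (x C φ a ((P.B e b * β) • e)) (z C φ a (P.B e b * P.B e b * β)) :=
      h.τ_comm kv (map_zero _) _ _
    have e2 : z C φ e β * x C φ e ((0 : F) • a) * z C φ a α =
        z C φ a α * x C φ a ((0 : F) • e) * z C φ e β := by
      rw [zero_smul, zero_smul, h.x_zero, h.x_zero, mul_one, mul_one, (h.z_comm k.perp _ _).eq]
    refine ⟨κ + P.B e b * P.B e b * β, ?_⟩
    rw [e2, h.sg_gq k'.perp (h.sg_symm k.perp hp).cY hb, e1, h.z_add, mul_assoc, ← mul_assoc (x C φ a _),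
      c0.eq, mul_assoc, h.x_sq kv, mul_one]

theorem exists_kappa : ∃ κ : F, ∀ e a p, Ln P e a → Iv C φ t e a p →
    (∀ b, P.B e b = 0 → ∃ κ', x C φ e b * p * x C φ e b * p = z C φ e κ') →
    ∀ b, P.B e b = 0 → x C φ e b * p * x C φ e b * p = z C φ e (κ * P.B a b) := by
  obtain ⟨e₀, h0⟩ := h.g2_ne
  obtain ⟨a₀, k₀⟩ := h.exists_ln h0
  obtain ⟨f₀, b₀, H₀⟩ := h.hh_of_ln k₀
  obtain ⟨p₀, hp₀, n₀, -⟩ := h.exists_w k₀
  obtain ⟨κ, e0⟩ := n₀ b₀ H₀.ef
  refine ⟨κ, fun e a p k hp n b hb => ?_⟩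
  by_cases hμ : P.B a b = 0
  · rw [h.sg_triv k.perp hp hb hμ, hμ, mul_zero, h.z_zero]
  obtain ⟨ν, hν⟩ := h.exists_sqrt (P.B a b)
  have ν0 : ν ≠ 0 := by rintro rfl; exact hμ (by rw [← hν, mul_zero])
  obtain ⟨f, H⟩ := h.sg_hh (e := ν • e) (a := ν⁻¹ • a) (b := ν⁻¹ • b) (smul_ne_zero ν0 k.ne)
    (by simp [k.perp]) (by simp [hb])
    (by rw [map_smul, h.B_smul_left, ← hν, smul_eq_mul]; field_simp)
  obtain ⟨s, s1, -, s2, s3⟩ := h.trans_hh H₀ H
  have hq := h.iv_conj k₀.perp hp₀ s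
  have e1 := h.sg_conj s H₀.ef e0
  rw [s1, s2] at hq
  rw [s1, s3, h.x_smul (by rw [map_smul, hb, smul_zero]), smul_inv_smul₀ ν0, h.z_smul, hν] at e1
  have hq' := h.sg_scale k.perp ν0 (inv_ne_zero ν0) hq
  rw [mul_inv_cancel₀ ν0, one_smul] at hq'
  obtain ⟨ε, hε, rfl⟩ := h.iv_uniq h.two' k hq' hp
  obtain ⟨r, v, r', rfl⟩ := (h.mem_El k).1 hε
  obtain ⟨κ', e2⟩ := n b hb
  rw [h.sg_gq k.perp hq'.cY hb, e1, ← mul_assoc, ← h.z_add] at e2 ⊢
  have r0 : r' = 0 := (mul_eq_zero.1 (h.sg_zx k e2).2).resolve_left hμ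
  rw [r0, mul_zero, mul_zero, zero_smul, h.x_zero, mul_one, add_zero, mul_comm]

/-- doubly normalised elements differ by an element of `A_l` -/
theorem sg_dn {e a : V} {p p' : G} (k : Ln P e a) (hp : Iv C φ t e a p) (hp' : Iv C φ t e a p')
    (n1 : SgN C φ e p) (n2 : SgN C φ a p) (n1' : SgN C φ e p') (n2' : SgN C φ a p') :
    ∃ v : F, p' = p * x C φ e (v • a) := by
  obtain ⟨ε, hε, rfl⟩ := h.iv_uniq h.two' k hp hp'
  obtain ⟨r, v, r', rfl⟩ := (h.mem_El k).1 hε
  obtain ⟨f, f', H⟩ := h.hh_of_ln k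
  have k' := h.ln_symm k
  have kv : P.B e (v • a) = 0 := by rw [map_smul, k.perp, smul_zero]
  have af : P.B a f = 0 := by rw [h.B_comm, H.fe]
  have r1 : r' = 0 := by
    obtain ⟨κ, e1⟩ := n1 f' H.ef
    obtain ⟨κ', e2⟩ := n1' f' H.ef
    rw [h.sg_gq k.perp hp.cY H.ef, e1, ← mul_assoc, ← h.z_add, H.h₂.ef] at e2
    simpa using (h.sg_zx k e2).2
  have r2 : r = 0 := by
    obtain ⟨κ, e1⟩ := n2 f af
    obtain ⟨κ', e2⟩ := n2' f af
    have e3 : z C φ e r * x C φ e (v • a) * z C φ a r' = z C φ a r' * x C φ a (v • e) * z C φ e r := by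
      have c0 : Commute (z C φ e r) (x C φ e (v • a)) := h.τ_comm (map_zero _) kv _ _
      rw [r1, h.z_zero, mul_one, one_mul, c0.eq, ← h.x_smul k'.perp, h.x_symm kv]
    rw [e3, h.sg_gq k'.perp (h.sg_symm k.perp hp).cY af, e1, ← mul_assoc, ← h.z_add, H.h₁.ef] at e2
    simpa using (h.sg_zx k' e2).2
  exact ⟨v, by rw [r1, r2, h.z_zero, h.z_zero, one_mul, mul_one]⟩

/-- an equivariant family on the independent pairs -/
theorem sg_fam (κ : F) : ∃ w : V → V → G,
    (∀ e a, Ln P e a → Iv C φ t e a (w e a) ∧ SgN C φ e (w e a) ∧ SgN C φ a (w e a)) ∧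
    (∀ l e a, Ln P e a → φ l * w e a * (φ l)⁻¹ = w (C.act l e) (C.act l a)) ∧
    (∀ e (μ : F), w e (μ • e) = z C φ e (κ * μ)) ∧ ∀ a, w 0 a = 1 := by
  classical
  obtain ⟨e₀, h0⟩ := h.g2_ne
  obtain ⟨a₀, k₀⟩ := h.exists_ln h0
  obtain ⟨p₀, hp₀, n₀, n₀'⟩ := h.exists_w k₀
  let w : V → V → G := fun e a =>
    if k : Ln P e a then φ (h.trans_ln k₀ k).choose * p₀ * (φ (h.trans_ln k₀ k).choose)⁻¹
    else if m : ∃ μ : F, a = μ • e then z C φ e (κ * m.choose) else 1
  have w1 : ∀ s e a, C.act s e₀ = e → C.act s a₀ = a → w e a = φ s * p₀ * (φ s)⁻¹ := by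
    rintro s _ _ rfl rfl
    have k := h.ln_act k₀ s
    simp only [w, dif_pos k]
    obtain ⟨s1, s2⟩ := (h.trans_ln k₀ k).choose_spec
    generalize (h.trans_ln k₀ k).choose = s' at s1 s2
    have c1 : φ (s⁻¹ * s') * p₀ = p₀ * φ (s⁻¹ * s') := hp₀.cY _ (h.sg_fixY
      (by rw [C.mul_apply, s1, C.inv_apply]) (by rw [C.mul_apply, s2, C.inv_apply]))
    rw [map_mul, map_inv] at c1
    calc φ s' * p₀ * (φ s')⁻¹ = φ s * ((φ s)⁻¹ * φ s' * p₀) * (φ s')⁻¹ := by group
      _ = _ := by rw [c1]; group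
  refine ⟨w, fun e a k => ?_, fun l e a k => ?_, fun e μ => ?_, fun a => ?_⟩
  · obtain ⟨s, rfl, rfl⟩ := h.trans_ln k₀ k
    rw [w1 s _ _ rfl rfl]
    exact ⟨h.iv_conj k₀.perp hp₀ s, h.sg_nconj s n₀, h.sg_nconj s n₀'⟩
  · obtain ⟨s, rfl, rfl⟩ := h.trans_ln k₀ k
    rw [w1 s _ _ rfl rfl, w1 (l * s) _ _ (C.mul_apply _ _ _) (C.mul_apply _ _ _), map_mul]; group
  · have k : ¬ Ln P e (μ • e) := fun k => k.nmem (Submodule.smul_mem _ _ (Submodule.mem_span_singleton_self e))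
    have m : ∃ ν : F, μ • e = ν • e := ⟨μ, rfl⟩
    simp only [w, dif_neg k, dif_pos m]
    by_cases e0 : e = 0
    · subst e0; rw [h.z_zero', h.z_zero']
    · rw [← smul_left_injective F e0 m.choose_spec]
  · have k : ¬ Ln P 0 a := fun k => k.ne rfl
    simp only [w, dif_neg k]
    split_ifs
    · exact h.z_zero' _
    · rfl

omit h in
theorem sg_tri {e a : V} (k : P.B e a = 0) : Ln P e a ∨ e = 0 ∨ ∃ μ : F, a = μ • e := by
  by_cases h1 : e = 0
  · exact Or.inr (Or.inl h1)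
  by_cases h2 : a ∈ span F {e}
  · obtain ⟨μ, rfl⟩ := Submodule.mem_span_singleton.1 h2
    exact Or.inr (Or.inr ⟨μ, rfl⟩)
  exact Or.inl ⟨h1, h2, k⟩

theorem hw1 : ∃ w κ, HW1 C φ t w κ := by
  obtain ⟨κ, hκ⟩ := h.exists_kappa
  obtain ⟨w, w1, w2, w3, w4⟩ := h.sg_fam κ
  have w0 : ∀ e, w e 0 = 1 := fun e => by
    have := w3 e 0
    rwa [zero_smul, mul_zero, h.z_zero] at this
  have kap : ∀ e a b, Ln P e a → P.B e b = 0 →
      x C φ e b * w e a * x C φ e b = z C φ e (κ * P.B a b) * w e a := fun e a b k hb => by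
    rw [← hκ e a _ k (w1 e a k).1 (w1 e a k).2.1 b hb, mul_assoc _ (w e a) (w e a), (w1 e a k).1.sq,
      mul_one]
  have cz : ∀ e a c, Ln P e a → z C φ e c * w e a = w e a * z C φ e c := fun e a c k =>
    (w1 e a k).1.cY _ (h.sg_Y (map_zero _) (h.B_self e) (by rw [h.B_comm, k.perp]) (map_zero _)
      (map_zero _) c)
  have eqv : ∀ l e a, P.B e a = 0 → φ l * w e a * (φ l)⁻¹ = w (C.act l e) (C.act l a) := by
    intro l e a k
    rcases sg_tri k with k | rfl | ⟨μ, rfl⟩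
    · exact w2 l e a k
    · rw [map_zero, w4, w4]; group
    · rw [map_smul, w3, w3, h.z_conj]
  have smul : ∀ e a (l : F), P.B e a = 0 → w (l • e) a = w e (l • a) := by
    intro e a l k
    by_cases l0 : l = 0
    · rw [l0, zero_smul, zero_smul, w4, w0]
    rcases sg_tri k with k | rfl | ⟨μ, rfl⟩
    · have k1 : Ln P e (l • a) := by simpa using h.ln_smul k one_ne_zero l0 0
      have k2 : Ln P (l • e) a := by simpa using h.ln_smul k l0 one_ne_zero 0
      obtain ⟨f, f', H⟩ := h.hh_of_ln k1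
      obtain ⟨s, so, s1, -, s2, -⟩ := h.exists_diag H l0 (inv_ne_zero l0)
      have e1 := w2 s _ _ k1
      rw [s1, s2, inv_smul_smul₀ l0] at e1
      obtain ⟨i1, i2, i3⟩ := w1 _ _ k1
      obtain ⟨j1, j2, j3⟩ := w1 _ _ k2
      have j1' : Iv C φ t e (l • a) (w (l • e) a) := by
        simpa using h.sg_scale (l := l) (m := 1) k.perp l0 one_ne_zero (by simpa using j1)
      obtain ⟨v, e2⟩ := h.sg_dn k1 i1 j1' i2 i3 (h.sg_nsmul l0 j2)
        (h.sg_nsmul (inv_ne_zero l0) (by rwa [inv_smul_smul₀ l0]))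
      have kv : P.B e (v • l • a) = 0 := by rw [map_smul, k1.perp, smul_zero]
      have e3 := h.x_conj s kv
      rw [s1, map_smul, s2, inv_smul_smul₀ l0, h.x_smul (by rw [map_smul, k.perp, smul_zero]),
        smul_comm l v] at e3
      have e4 : Commute (φ s * φ s) (w e (l • a)) := by
        have : φ s * φ s * w e (l • a) * (φ s * φ s)⁻¹ = w e (l • a) := by
          calc _ = φ s * (φ s * w e (l • a) * (φ s)⁻¹) * (φ s)⁻¹ := by group
            _ = φ s * (w e (l • a) * x C φ e (v • l • a)) * (φ s)⁻¹ := by rw [e1, e2]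
            _ = (φ s * w e (l • a) * (φ s)⁻¹) * (φ s * x C φ e (v • l • a) * (φ s)⁻¹) := by group
            _ = _ := by rw [e3, e1, e2, mul_assoc, h.x_sq kv, mul_one]
        exact mul_inv_eq_iff_eq_mul.1 this
      have e5 := sg_odd (so.of_dvd_nat (orderOf_map_dvd φ s)) e4
      rw [← e1, e5.eq, mul_inv_cancel_right]
    · rw [smul_zero, w4, w4]
    · have : μ • e = (μ * l⁻¹) • l • e := by rw [smul_smul, inv_mul_cancel_right₀ l0]
      conv_lhs => rw [this]
      rw [w3, smul_smul, w3, h.z_smul]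
      congr 1; field_simp
  refine ⟨w, κ, h.toSit, h.two', fun e a k => ?_, fun e a k => ?_, eqv, w3, w4, fun e a μ k => ?_, smul,
    fun e a k => ?_, fun e a b c k hb => ?_, fun e u v c k => ?_⟩
  · rcases sg_tri k with k | rfl | ⟨μ, rfl⟩
    · exact ⟨(w1 e a k).1.cY, (w1 e a k).1.pt, (w1 e a k).1.co⟩
    · rw [w4, h.x_zero']
      exact ⟨one_mem _, by group, HX.CO.of_mem (one_mem _)⟩
    · have m : z C φ e (κ * μ) ∈ φ.range := ⟨_, rfl⟩
      rw [w3, h.x_self]
      refine ⟨h.E_cent (h.ti_pair k) (h.τ_mem_E (h.ti_pair k) (Submodule.subset_span (by simp))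
        (zero_mem _) _), ?_, HX.CO.of_mem m⟩
      rw [h.tL m]; group
  · rcases sg_tri k with k | rfl | ⟨μ, rfl⟩
    · exact (w1 e a k).1.sq
    · rw [w4, mul_one]
    · rw [w3, h.z_sq]
  · rcases sg_tri k with k | rfl | ⟨ν, rfl⟩
    · obtain ⟨f, f', H⟩ := h.hh_of_ln k
      have hb : P.B e (μ • f') = 0 := by rw [map_smul, H.ef, smul_zero]
      have e1 := w2 (C.T e (μ • f') 0) e a k
      rw [h.x_app hb, h.x_app hb, h.B_self, k.perp, h.B_comm _ e, hb, h.B_smul_left, H.h₂.fe] at e1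
      simp only [zero_smul, add_zero, mul_one] at e1
      have e2 := kap e a _ k hb
      rw [map_smul, H.h₂.ef, smul_eq_mul, mul_one, cz e a _ k] at e2
      rw [← e1, ← e2]
      congr 1
      exact h.τ_inv hb 0
    · rw [w4, w4, h.z_zero', mul_one]
    · rw [← add_smul, w3, w3, mul_add, h.z_add]
  · rcases sg_tri k with k | rfl | ⟨μ, rfl⟩
    · obtain ⟨f, f', H⟩ := h.hh_of_ln k
      have k' := h.ln_symm k
      have af : P.B a f = 0 := by rw [h.B_comm, H.fe]
      have fe' : P.B f' e = 0 := by rw [h.B_comm, H.ef]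
      have a1 : C.act (C.T e f' 0) e = e := by rw [h.x_app H.ef, fe', h.B_self]; simp
      have a2 : C.act (C.T e f' 0) a = a + e := by rw [h.x_app H.ef, H.h₂.fe, k.perp]; simp
      have a3 : C.act (C.T a f 0) e = e + a := by rw [h.x_app af, H.h₁.fe, k'.perp]; simp
      have a4 : C.act (C.T a f 0) a = a := by rw [h.x_app af, H.fe, h.B_self]; simp
      have e1 := w2 (C.T e f' 0 * C.T a f 0 * C.T e f' 0) e a k
      have a5 : C.act (C.T e f' 0 * C.T a f 0 * C.T e f' 0) e = a := by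
        rw [C.mul_apply, C.mul_apply, a1, a3, map_add, a1, a2, add_left_comm, h.vadd_self, add_zero]
      have a6 : C.act (C.T e f' 0 * C.T a f 0 * C.T e f' 0) a = e := by
        rw [C.mul_apply, C.mul_apply, a2, map_add, a3, a4, add_left_comm, h.vadd_self, add_zero, a1]
      rw [a5, a6, map_mul, map_mul] at e1
      change x C φ e f' * x C φ a f * x C φ e f' * w e a * (x C φ e f' * x C φ a f * x C φ e f')⁻¹ = _ at e1
      have i1 : (x C φ e f')⁻¹ = x C φ e f' := h.τ_inv H.ef 0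
      have i2 : (x C φ a f)⁻¹ = x C φ a f := h.τ_inv af 0
      have b1 := kap e a _ k H.ef
      have b2 : x C φ a f * w e a * x C φ a f = z C φ a κ * w e a := by
        rw [← mul_one κ, ← H.h₁.ef, ← hκ a e _ k' (h.sg_symm k.perp (w1 e a k).1) (w1 e a k).2.2 f af,
          mul_assoc _ (w e a) (w e a), (w1 e a k).1.sq, mul_one]
      rw [H.h₂.ef, mul_one] at b1
      have z1 := h.z_conj (C.T a f 0) e κ
      have z2 := h.z_conj (C.T e f' 0) (e + a) κ
      have z3 := h.z_conj (C.T e f' 0) a κ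
      rw [a3] at z1
      rw [map_add, a1, a2, add_left_comm, h.vadd_self, add_zero] at z2
      rw [a2, add_comm a e, h.z_line k.perp] at z3
      change x C φ a f * _ * (x C φ a f)⁻¹ = _ at z1
      change x C φ e f' * _ * (x C φ e f')⁻¹ = _ at z2 z3
      have kv : P.B e (κ • a) = 0 := by rw [map_smul, k.perp, smul_zero]
      have c1 : Commute (z C φ e κ) (x C φ e (κ • a)) := h.τ_comm (map_zero _) kv _ _
      have c2 := h.z_comm k.perp κ κ
      have c3 : x C φ e (κ • a) * w e a = w e a * x C φ e (κ • a) :=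
        (w1 e a k).1.cY _ (h.sg_Y kv (h.B_self e) k'.perp kv (by rw [map_smul, h.B_self, smul_zero]) 0)
      rw [← e1]
      calc _ = x C φ e f' * x C φ a f * (x C φ e f' * w e a * (x C φ e f')⁻¹) * (x C φ a f)⁻¹ *
            (x C φ e f')⁻¹ := by group
        _ = x C φ e f' * (x C φ a f * z C φ e κ * (x C φ a f)⁻¹) *
            (x C φ a f * w e a * (x C φ a f)⁻¹) * (x C φ e f')⁻¹ := by
          rw [i1, b1]; group
        _ = (x C φ e f' * z C φ (e + a) κ * (x C φ e f')⁻¹) * (x C φ e f' * z C φ a κ * (x C φ e f')⁻¹) *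
            (x C φ e f' * w e a * (x C φ e f')⁻¹) := by
          rw [z1, i2, b2]; group
        _ = z C φ a κ * (z C φ e κ * z C φ a κ) * (x C φ e (κ • a) * z C φ e κ) * w e a := by
          rw [z2, z3, i1, b1]; group
        _ = (z C φ a κ * z C φ a κ) * (z C φ e κ * z C φ e κ) * (x C φ e (κ • a) * w e a) := by
          rw [c2.eq, ← c1.eq]; group
        _ = _ := by rw [h.z_sq, h.z_sq, c3, one_mul, one_mul]
    · rw [w0, w4, h.x_zero', mul_one]
    · rw [smul e e μ (h.B_self e), smul_smul, h.x_self, mul_one]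
  · rcases sg_tri k with k | rfl | ⟨μ, rfl⟩
    · have e1 := kap e a b k hb
      have X2 := h.x_sq hb
      have c0 : Commute (x C φ e b) (z C φ e (κ * P.B a b)) := h.τ_comm hb (map_zero _) _ _
      rw [h.τ_eq hb, h.τ_eq hb, add_comm c, h.z_add]
      calc _ = (x C φ e b * x C φ e b) * w e a * x C φ e b * (z C φ e c * w e a) := by rw [X2]; group
        _ = x C φ e b * (x C φ e b * w e a * x C φ e b) * w e a * z C φ e c := by rw [cz e a c k]; group
        _ = x C φ e b * z C φ e (κ * P.B a b) * (w e a * w e a) * z C φ e c := by rw [e1]; group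
        _ = _ := by rw [(w1 e a k).1.sq]; group
    · rw [w4, τ, τ, h.T_zero', h.T_zero']; group
    · have c0 : Commute (z C φ e (κ * μ)) (τ C φ e b c) := h.τ_comm (map_zero _) hb _ _
      rw [w3, h.B_smul_left, hb, mul_zero, mul_zero, add_zero, c0.eq, mul_assoc, h.z_sq, mul_one]
  · have k' := h.ln_symm k.ln
    obtain ⟨i1, i2, -⟩ := w1 v u k'
    obtain ⟨α, H1, H2⟩ := h.alpha k (h.sg_symm k'.perp i1)
    have vc : P.B v c = 0 := by rw [h.B_comm, k.cv]
    obtain ⟨κ₁, e1⟩ := H2 c vc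
    obtain ⟨κ₂, e2⟩ := i2 c vc
    rw [e2, h.B_comm u c, k.cu, one_mul] at e1
    have a0 := (h.sg_zx k' e1.symm).2
    obtain ⟨p, hp, e3⟩ := H1 1 one_ne_zero
    rw [one_smul] at hp e3
    rw [e3, a0, mul_zero, zero_smul, h.x_zero, mul_one]
    exact hp

end MA1

end CfsgLib.SPC
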