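import Cfsg.Agent.Lib.SPC.BDic2
import Cfsg.Agent.Lib.SPC.BX
import Cfsg.Agent.Lib.SPC.BTop

/-! Type B (final statement; owner: captain of types B, C) -/

set_option autoImplicit false
set_option linter.unusedSectionVars false

namespace CfsgLib.SPC

open Subgroup Module CfsgLib.Forms CfsgLib.LieMult
open CfsgLib.HX (Std CO Two Mv M2)
open CfsgLib.UN (AV SI TI HH Rad Stb Yg Rg Eg Act nu)
open CfsgLib.ClSys (II)
open Submodule (span)
open scoped commutatorElement Pointwise

universe u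

variable {F : Type} [Field F] [Finite F] {V : Type} [AddCommGroup V] [Module F V]
  [FiniteDimensional F V] {P : PQ (RingHom.id F) V} {S : Type} [Group S] [Finite S] {G : Type u}
  [Group G] [Finite G] {C : CG P S} {φ : S →* G} {t : G}

theorem HW.mainB {w : V → V → G} {δ : F} (h : HW C φ t w 1 δ) (hz : ¬ Tz C φ t) {Gs : Subgroup G}
    (hG : SLE.Glob Gs t) (hL : φ.range ≤ Gs) {k : ℕ} (hk : finrank F V = 2 * k) : Pr F k Gs := by
  have _ := hL
  haveI := h.toMod.charP
  have h6 : 6 ≤ 2 * k := hk ▸ h.d6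
  have ho : ¬ Odd (2 * k) := Nat.not_odd_iff_even.2 (even_two_mul k)
  obtain ⟨cv, ι, d⟩ := BC.exists_io h.toMod hk (Or.inl rfl) δ
  obtain ⟨X, hX, h1, h2⟩ := BC.exists_X_even h d (even_two_mul k) h6
  obtain ⟨ψ, d', o⟩ := BC.exists_dic (u := fun _ => 1) h (fun e => absurd e ho) d h6 hX h1 h2
    fun e => absurd e ho
  have mm := d'.mm h (fun e => absurd e ho) h6 (fun _ => hz) o
  exact BC.pr_of (Or.inl rfl) mm.ker (mm.eq hG) hG.cen

end CfsgLib.SPC
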