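import Cfsg.Agent.Lib.SPC.BDic2
import Cfsg.Agent.Lib.SPC.CX
import Cfsg.Agent.Lib.SPC.CV
import Cfsg.Agent.Lib.SPC.BTop

/-! Type C (final statement; owner: captain of types B, C) -/

set_option autoImplicit false
set_option linter.unusedSectionVars false

namespace CfsgLib.SPC

open Subgroup Module CfsgLib.Forms CfsgLib.LieMult
open CfsgLib.HX (Std CO Two Mv M2)
open CfsgLib.UN (AV SI TI HH Rad Stb Yg Rg Eg Act nu)
open CfsgLib.ClSys (II)
open Submodule (span)
open scoped commutatorElement Pointwise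

universe u

variable {F : Type} [Field F] [Finite F] {V : Type} [AddCommGroup V] [Module F V]
  [FiniteDimensional F V] {P : PQ (RingHom.id F) V} {S : Type} [Group S] [Finite S] {G : Type u}
  [Group G] [Finite G] {C : CG P S} {φ : S →* G} {t : G}

theorem HC.main {w : V → V → G} {u : V → G} {δ : F} (h : HC C φ t w u δ) {Gs : Subgroup G}
    (hG : SLE.Glob Gs t) (hL : φ.range ≤ Gs) {k : ℕ} (hk : finrank F V = 2 * k) : Pr F k Gs := by
  have _ := hL
  haveI := h.toMod.charP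
  have h6 : 6 ≤ 2 * k + 1 := (hk ▸ h.d6 : 6 ≤ 2 * k).trans (Nat.le_succ _)
  have ho : Odd (2 * k + 1) := odd_two_mul_add_one k
  obtain ⟨v, hv⟩ := h.exists_v
  obtain ⟨cv, ι, d⟩ := BC.exists_io h.toMod hk (Or.inr rfl) δ
  obtain ⟨X, hX, h1, h2, h3⟩ := BC.exists_X_odd hv d ho h6
  obtain ⟨ψ, d', o⟩ := BC.exists_dic h.toHW (fun _ => h) d h6 hX h1 h2 fun _ => h3
  have mm := d'.mm h.toHW (fun _ => h) h6 (fun e => absurd ho (Nat.not_odd_iff_even.2 e)) o
  exact BC.pr_of (Or.inr rfl) mm.ker (mm.eq hG) hG.cen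

end CfsgLib.SPC
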