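import Cfsg.Agent.Lib.SPC.DId
import Cfsg.Agent.Lib.SPC.DTop

/-! Type D (final statement; owner: captain of type D) -/

set_option autoImplicit false
set_option linter.unusedSectionVars false

namespace CfsgLib.SPC

open Subgroup Module CfsgLib.Forms CfsgLib.LieMult
open CfsgLib.HX (Std CO Two Mv M2)
open CfsgLib.UN (AV SI TI HH Rad Stb Yg Rg Eg Act nu)
open CfsgLib.ClSys (II)
open Submodule (span)
open scoped commutatorElement Pointwise

universe u

variable {F : Type} [Field F] [Finite F] {V : Type} [AddCommGroup V] [Module F V]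
  [FiniteDimensional F V] {P : PQ (RingHom.id F) V} {S : Type} [Group S] [Finite S] {G : Type u}
  [Group G] [Finite G] {C : CG P S} {φ : S →* G} {t : G}

theorem HD.main {k : ℕ} {Fr : Frame P k} {Q : V → F} {y : II k → F → G} {δ : F}
    (h : HD C φ t Fr Q y δ) {Gs : Subgroup G} (hG : SLE.Glob Gs t) (hL : φ.range ≤ Gs)
    (hk : finrank F V = 2 * k) : Pr F k Gs := by
  have : Finite V := Module.finite_of_finite F
  obtain ⟨ψ, h1, h2⟩ := h.dd hk
  have h3 := (h1.du hG (h2.le.trans hL)).top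
  have e : Gs ≃* SLD.Om (Qh h.qf δ) :=
    (MulEquiv.subgroupCongr h3).trans (MonoidHom.ofInjective h1.inj).symm
  refine .inr (.inr (.inr ?_))
  rcases D.pomega h1.toOS0 with ⟨⟨i⟩⟩ | ⟨a, b, hab, ⟨i⟩⟩
  · exact .inl ⟨e.trans i⟩
  · exact .inr ⟨a, b, hab, ⟨e.trans i⟩⟩

end CfsgLib.SPC
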