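import Cfsg.Agent.Lib.SPC.Fus
import Cfsg.Agent.Lib.SPC.Cq
import Cfsg.Agent.Lib.SPC.DhD
import Cfsg.Agent.Lib.SPC.ShD
import Cfsg.Agent.Lib.SPC.ShF
import Cfsg.Agent.Lib.SPC.ShG
import Cfsg.Agent.Lib.SPC.ShJ
import Cfsg.Agent.Lib.SPC.CaB
import Cfsg.Agent.Lib.SPC.CaC
import Cfsg.Agent.Lib.SPC.TyA
import Cfsg.Agent.Lib.SPC.TyB
import Cfsg.Agent.Lib.SPC.TyC
import Cfsg.Agent.Lib.SPC.TyD

/-! The main theorem -/

set_option autoImplicit false
set_option linter.unusedSectionVars false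

namespace CfsgLib.SPC

open Subgroup Module CfsgLib.Forms CfsgLib.LieMult
open CfsgLib.HX (Std CO Two Mv M2)
open CfsgLib.UN (AV SI TI HH Rad Stb Yg Rg Eg Act nu)
open CfsgLib.ClSys (II)
open Submodule (span)
open scoped commutatorElement Pointwise

universe u

variable {F : Type} [Field F] [Finite F] {V : Type} [AddCommGroup V] [Module F V]
  [FiniteDimensional F V] {P : PQ (RingHom.id F) V} {S : Type} [Group S] [Finite S] {G : Type u}
  [Group G] [Finite G] {C : CG P S} {φ : S →* G} {t : G}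

theorem Sit.main (h : Sit C φ t) {Gs : Subgroup G} (hG : SLE.Glob Gs t) (hL : φ.range ≤ Gs) {k : ℕ}
    (hk : finrank F V = 2 * k) : Fus1 φ.range t ∧ Pr F k Gs := by
  by_cases ha : Ta C φ t
  · have h0 := h.ma0 ha
    refine ⟨h0.fus1, ?_⟩
    have h1 : MA1 C φ t := by
      by_cases hs : Small F
      exacts [h0.ma1_small hs, h0.ma1_big hs]
    obtain ⟨w, κ, h2⟩ := h1.hw1
    obtain ⟨δ, h3⟩ := h2.hw2.hw
    rcases h3.kk with rfl | rfl
    · obtain ⟨y, δ', h4⟩ := h2.hw2.ha rfl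
      exact h4.main hG hL hk
    · by_cases hz : Tz C φ t
      · obtain ⟨u, ρ, h4⟩ := h3.hc1 (h.mz0 hz)
        obtain ⟨u', h5⟩ := h4.hc
        exact h5.main hG hL hk
      · exact h3.mainB hz hG hL hk
  · have hz : Tz C φ t := by
      rcases h.fus3 hG hL with k1 | k1 | k1
      · exact k1
      · exact (ha k1).elim
      · by_cases hs : Small F
        exacts [(h.cq_small hs k1).resolve_right ha, (h.cq_big hs k1).resolve_right ha]
    obtain ⟨Fr, Q, y, δ, h1⟩ := (h.mz0 hz).hd ha hk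
    exact ⟨(h.mz0 hz).fus1, h1.main hG hL hk⟩

end CfsgLib.SPC
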