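import Cfsg.Agent.Lib.SPC.Defs

/-! Elementary abelian groups of symplectic isometries -/

set_option autoImplicit false
set_option linter.unusedSectionVars false

namespace CfsgLib.SPC

open Subgroup Module CfsgLib.Forms CfsgLib.LieMult
open CfsgLib.HX (Std CO Two Mv M2)
open CfsgLib.UN (AV SI TI HH Rad Stb Yg Rg Eg Act nu)
open CfsgLib.ClSys (II)
open Submodule (span)
open scoped commutatorElement Pointwise

universe u

variable {F : Type} [Field F] [Finite F] {V : Type} [AddCommGroup V] [Module F V]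
  [FiniteDimensional F V] {P : PQ (RingHom.id F) V} {S : Type} [Group S] [Finite S] {G : Type u}
  [Group G] [Finite G] {C : CG P S} {φ : S →* G} {t : G}

/-- an elementary abelian group of isometries -/
structure EA {W : Type} [AddCommGroup W] [Module F W] (B : LinearMap.BilinForm F W)
    (X : Subgroup (W ≃ₗ[F] W)) : Prop where
  two : (2 : F) = 0
  alt : ∀ v, B v v = 0
  nd : ∀ v, (∀ w, B v w = 0) → v = 0
  iso : ∀ s ∈ X, ∀ u v, B (s u) (s v) = B u v
  sq : ∀ s ∈ X, s * s = 1

theorem ma_tri (k : ℕ) : (k + 1) * (k + 1 + 1) / 2 = k * (k + 1) / 2 + (k + 1) := by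
  rw [show (k + 1) * (k + 1 + 1) = k * (k + 1) + (k + 1) * 2 by ring,
    Nat.add_mul_div_right _ _ two_pos]

theorem ma_tri_le {d k : ℕ} (h : d ≤ k) : d * (d + 1) / 2 + k ≤ k * (k + 1) / 2 + d := by
  induction k, h using Nat.le_induction with
  | base => exact le_rfl
  | succ k h ih => rw [ma_tri]; omega

namespace EA

variable {W : Type} [AddCommGroup W] [Module F W] [FiniteDimensional F W]
  {B : LinearMap.BilinForm F W} {X : Subgroup (W ≃ₗ[F] W)} (h : EA B X)
include h

theorem ma_add (v : W) : v + v = 0 := by rw [← two_smul F, h.two, zero_smul]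

theorem ma_comm (v w : W) : B v w = B w v := by
  have a := h.alt (v + w)
  simp only [map_add, LinearMap.add_apply, h.alt] at a
  linear_combination a - B w v * h.two

theorem ma_sq {s : W ≃ₗ[F] W} (hs : s ∈ X) (v : W) : s (s v) = v :=
  congrArg (fun g : W ≃ₗ[F] W => g v) (h.sq s hs)

theorem ma_adj {s : W ≃ₗ[F] W} (hs : s ∈ X) (v w : W) : B (s v) w = B v (s w) := by
  rw [← h.iso s hs, h.ma_sq hs]

theorem ma_mul_comm (s s' : X) : s * s' = s' * s := by
  have a : ∀ g : X, g⁻¹ = g := fun g => inv_eq_of_mul_eq_one_right (Subtype.ext (h.sq g.1 g.2))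
  rw [← a (s * s'), mul_inv_rev, a, a]

theorem ma_decomp {e f : W} (hf : B e f = 1) (v : W) :
    ∃ w, B e w = 0 ∧ B f w = 0 ∧ v = w + B f v • e + B e v • f := by
  refine ⟨v - B f v • e - B e v • f, ?_, ?_, by module⟩
  · simp [h.alt, hf]
  · simp [h.alt, h.ma_comm f e, hf]

theorem exists_fixed (h0 : 0 < finrank F W) : ∃ e, e ≠ 0 ∧ ∀ s ∈ X, s e = e := by
  have : Finite W := Module.finite_of_finite F
  have hX : IsPGroup 2 X := fun s => ⟨1, Subtype.ext (by simpa [pow_two] using h.sq s.1 s.2)⟩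
  have h2 : 2 ∣ Nat.card W := by
    rw [Module.natCard_eq_pow_finrank (K := F)]
    refine Dvd.dvd.pow ?_ h0.ne'
    have := addOrderOf_dvd_natCard (1 : F)
    rwa [addOrderOf_eq_prime (p := 2) (by simpa using h.two) one_ne_zero] at this
  obtain ⟨e, he, h1⟩ := hX.exists_fixed_point_of_prime_dvd_card_of_fixed_point W h2 (a := 0)
    fun s => map_zero s.1
  exact ⟨e, h1.symm, fun s hs => he ⟨s, hs⟩⟩

/-- `X` embeds into the symmetric forms on `W / D` -/
theorem card_le_fix {D : Submodule F W} (hD : ∀ s ∈ X, ∀ v ∈ D, s v = v) {d : ℕ}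
    (hd : finrank F W = finrank F D + d) : Nat.card X ≤ Nat.card F ^ (d * (d + 1) / 2) := by
  obtain ⟨D', hc⟩ := D.exists_isCompl
  have hd' : finrank F D' = d := by
    have := Submodule.finrank_add_eq_of_isCompl hc
    omega
  let b := Module.finBasisOfFinrankEq F D' hd'
  have ex : ∀ {M : Type} [AddCommGroup M] [Module F M] (g g' : W →ₗ[F] M),
      (∀ v ∈ D, g v = g' v) → (∀ i, g (b i) = g' (b i)) → g = g' := fun g g' h1 h2 =>
    LinearMap.ext_on_codisjoint hc.codisjoint h1 fun v hv =>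
      LinearMap.congr_fun (b.ext (f₁ := g ∘ₗ D'.subtype) (f₂ := g' ∘ₗ D'.subtype) h2) ⟨v, hv⟩
  have sy : ∀ (s : X) i j, B (s.1 (b i)) (b j) = B (s.1 (b j)) (b i) := fun s i j => by
    rw [h.ma_adj s.2, h.ma_comm]
  have hi : Function.Injective fun s : X => Sym2.lift ⟨_, sy s⟩ := fun s s' e1 => by
    refine Subtype.ext (LinearEquiv.toLinearMap_injective (ex _ _ (fun v hv => ?_) fun i => ?_))
    · exact (hD _ s.2 v hv).trans (hD _ s'.2 v hv).symm
    · refine sub_eq_zero.1 (h.nd _ fun w => ?_)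
      have : B (s.1 (b i)) = B (s'.1 (b i)) := ex _ _ (fun v hv => by
        rw [h.ma_adj s.2, h.ma_adj s'.2, hD _ s.2 v hv, hD _ s'.2 v hv]) fun j =>
          congrFun e1 s(i, j)
      rw [map_sub, LinearMap.sub_apply, sub_eq_zero]
      exact LinearMap.congr_fun this w
  refine (Nat.card_le_card_of_injective _ hi).trans_eq ?_
  rw [Nat.card_fun, Nat.card_eq_fintype_card (α := Sym2 _), Sym2.card, Fintype.card_fin,
    Nat.choose_two_right, Nat.add_sub_cancel, mul_comm]

/-- descent to the complement of a hyperbolic pair -/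
theorem desc {e f : W} (he : ∀ s ∈ X, s e = e) (hf : B e f = 1) :
    ∃ (W₀ : Submodule F W) (π : X →* (W₀ ≃ₗ[F] W₀)) (b : X → W₀), (∀ v, v ∈ W₀ ↔ B e v = 0 ∧ B f v = 0) ∧
      finrank F W = finrank F W₀ + 2 ∧ EA (B.restrict W₀) π.range ∧
      (∀ (s : X) (v : W₀), (s : W ≃ₗ[F] W) v = π s v + B (b s) v • e) ∧
      (∀ s, π s (b s) = b s) ∧ (∀ s s', π s (b s') + b s = π s' (b s) + b s') ∧
      (∀ s s', π s = 1 → b (s * s') = b s + b s') ∧
      Nat.card {s : X // π s = 1 ∧ b s = 0} ≤ Nat.card F := by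
  have fe : B f e = 1 := by rw [h.ma_comm, hf]
  have es : ∀ (s : X) v, B e (s.1 v) = B e v := fun s v => by rw [← h.ma_adj s.2, he _ s.2]
  let W₀ := LinearMap.ker ((B e).prod (B f))
  have m0 : ∀ v, v ∈ W₀ ↔ B e v = 0 ∧ B f v = 0 := fun v => by
    simp [W₀]
  let l : X → W₀ →ₗ[F] W₀ := fun s => LinearMap.codRestrict W₀
    ((s.1.toLinearMap + (B f ∘ₗ s.1.toLinearMap).smulRight e) ∘ₗ W₀.subtype) fun v => (m0 _).2 (by
      have := h.two
      simp only [LinearMap.comp_apply, Submodule.subtype_apply, LinearMap.add_apply,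
        LinearMap.smulRight_apply, LinearEquiv.coe_coe, map_add, map_smul, es, ((m0 _).1 v.2).1,
        h.alt, fe, smul_eq_mul, mul_zero, add_zero, mul_one, true_and]
      linear_combination B f (s.1 v) * h.two)
  have la : ∀ s v, (l s v : W) = s.1 v + B f (s.1 v) • e := fun s v => rfl
  have lm : ∀ s s' v, l (s * s') v = l s (l s' v) := fun s s' v => Subtype.ext (by
    rw [la, la, la, map_add, map_smul, he _ s.2, map_add, map_smul, fe, smul_eq_mul, mul_one]
    change s.1 (s'.1 v) + B f (s.1 (s'.1 v)) • e = _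
    linear_combination (norm := module) -h.ma_add (B f (s'.1 v) • e))
  have l1 : ∀ v, l 1 v = v := fun v => Subtype.ext (by
    rw [la]
    change v.1 + B f v.1 • e = _
    rw [((m0 _).1 v.2).2, zero_smul, add_zero])
  have s2 : ∀ s : X, s * s = 1 := fun s => Subtype.ext (h.sq s.1 s.2)
  let π : X →* (W₀ ≃ₗ[F] W₀) := MonoidHom.mk' (fun s => LinearEquiv.ofInvolutive (l s) fun v => by
    rw [← lm, s2, l1]) fun s s' => LinearEquiv.ext (lm s s')
  have pa : ∀ s v, (π s v : W) = s.1 v + B f (s.1 v) • e := fun s v => rfl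
  let b : X → W₀ := fun s => ⟨s.1 f + B f (s.1 f) • e + f, (m0 _).2 (by
    simp only [map_add, map_smul, es, hf, h.alt, fe, smul_eq_mul, mul_zero, add_zero, mul_one]
    exact ⟨by linear_combination h.two, by linear_combination B f (s.1 f) * h.two⟩)⟩
  have ba : ∀ s, (b s : W) = s.1 f + B f (s.1 f) • e + f := fun s => rfl
  have bb : ∀ s (v : W₀), B (b s) v = B f (s.1 v) := fun s v => by
    simp only [ba, map_add, map_smul, LinearMap.add_apply, LinearMap.smul_apply, ((m0 _).1 v.2).1,
      ((m0 _).1 v.2).2, h.ma_adj s.2, smul_zero, add_zero]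
  have sv : ∀ (s : X) (v : W₀), (s : W ≃ₗ[F] W) v = π s v + B (b s) v • e := fun s v => by
    rw [pa, bb, add_assoc, h.ma_add, add_zero]
  have co : ∀ s s', b (s * s') = π s (b s') + b s := fun s s' => Subtype.ext (by
    rw [Submodule.coe_add, pa, ba, ba, ba]
    simp only [map_add, map_smul, he _ s.2, fe, smul_eq_mul, mul_one]
    change s.1 (s'.1 f) + B f (s.1 (s'.1 f)) • e + f = _
    linear_combination (norm := module) -h.ma_add (B f (s'.1 f) • e) - h.ma_add (B f (s.1 f) • e) -
      h.ma_add (s.1 f))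
  have b1 : b 1 = 0 := Subtype.ext (by
    rw [ba]
    change f + B f f • e + f = 0
    rw [h.alt, zero_smul, add_zero, h.ma_add])
  refine ⟨W₀, π, b, m0, ?_, ⟨h.two, fun v => h.alt v, fun v hv => Subtype.ext (h.nd _ fun w => ?_),
    ?_, ?_⟩, sv, fun s => ?_, fun s s' => by rw [← co, ← co, h.ma_mul_comm], fun s s' hs => ?_, ?_⟩
  · have a1 := LinearMap.finrank_range_add_finrank_ker ((B e).prod (B f))
    rw [LinearMap.range_eq_top.2 fun x => ⟨x.1 • f + x.2 • e, by simp [h.alt, hf, fe]⟩] at a1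
    simp only [finrank_top, finrank_prod, finrank_self] at a1
    exact a1.symm.trans (add_comm _ _)
  · obtain ⟨u, u1, u2, u3⟩ := h.ma_decomp hf w
    have a1 : B v u = 0 := hv ⟨u, (m0 _).2 ⟨u1, u2⟩⟩
    rw [u3]
    simp only [map_add, map_smul, a1, h.ma_comm v e, h.ma_comm v f, ((m0 _).1 v.2).1,
      ((m0 _).1 v.2).2, smul_zero, add_zero]
  · rintro _ ⟨s, rfl⟩ u v
    change B (π s u) (π s v) = B u v
    simp only [pa, map_add, map_smul, LinearMap.add_apply, LinearMap.smul_apply, h.iso _ s.2,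
      h.ma_comm (s.1 u) e, es, ((m0 _).1 v.2).1, ((m0 _).1 u.2).1, h.alt, smul_zero, add_zero]
  · rintro _ ⟨s, rfl⟩
    rw [← map_mul, s2, map_one]
  · have a1 := co s s
    rw [s2, b1] at a1
    refine Subtype.ext ?_
    have a2 := congrArg Subtype.val a1
    rw [Submodule.coe_add, Submodule.coe_zero] at a2
    linear_combination (norm := module) -a2 - h.ma_add (b s : W)
  · rw [co, hs, add_comm]
    rfl
  · refine Nat.card_le_card_of_injective (fun s => B f (s.1.1 f)) fun s s' e1 => ?_
    have a1 : ∀ g : {s : X // π s = 1 ∧ b s = 0}, ∀ w, g.1.1 w = w + (B e w * B f (g.1.1 f)) • e :=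
      fun g w => by
        obtain ⟨u, u1, u2, u3⟩ := h.ma_decomp hf w
        have a2 := sv g.1 ⟨u, (m0 _).2 ⟨u1, u2⟩⟩
        have a3 := ba g.1
        rw [g.2.1, g.2.2] at a2
        rw [g.2.2, Submodule.coe_zero] at a3
        have a4 : g.1.1 u = u := by simpa using a2
        have a5 : g.1.1 f = f + B f (g.1.1 f) • e := by
          linear_combination (norm := module) -a3 - h.ma_add (f + B f (g.1.1 f) • e)
        generalize B f (g.1.1 f) = c at a5
        conv_lhs => rw [u3, map_add, map_add, map_smul, map_smul, a4, a5, he _ g.1.2]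
        linear_combination (norm := module) -u3
    refine Subtype.ext (Subtype.ext (LinearEquiv.ext fun w => ?_))
    rw [a1 s, a1 s', show B f (s.1.1 f) = B f (s'.1.1 f) from e1]

theorem ma_partner {e : W} (h0 : e ≠ 0) : ∃ f, B e f = 1 := by
  obtain ⟨w, hw⟩ := not_forall.1 fun H => h0 (h.nd e H)
  exact ⟨(B e w)⁻¹ • w, by rw [map_smul, smul_eq_mul, inv_mul_cancel₀ hw]⟩

theorem card_le {k : ℕ} (hk : finrank F W = 2 * k) :
    Nat.card X ≤ Nat.card F ^ (k * (k + 1) / 2) := by
  induction k generalizing W with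
  | zero => exact h.card_le_fix (D := ⊥) (fun s _ v hv => by rw [hv, map_zero]) (by simpa using hk)
  | succ k ih =>
    obtain ⟨e, h0, he⟩ := h.exists_fixed (by omega)
    obtain ⟨f, hf⟩ := h.ma_partner h0
    obtain ⟨W₀, π, b, -, d1, h', -, -, d2, d3, d4⟩ := h.desc he hf
    have : Finite W := Module.finite_of_finite F
    have : Finite (W ≃ₗ[F] W) := Finite.of_injective _ DFunLike.coe_injective
    let D : Submodule F W₀ :=
      { carrier := {v | ∀ s, π s v = v}
        zero_mem' := fun s => map_zero _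
        add_mem' := fun h1 h2 s => by rw [map_add, h1, h2]
        smul_mem' := fun c v h1 s => by rw [map_smul, h1] }
    have bD : ∀ s : π.ker, b s ∈ D := fun s s' => by
      have := d2 s s'
      rw [show π s = 1 from s.2, add_comm] at this
      exact (add_right_cancel this).symm
    let β : π.ker →* Multiplicative D := MonoidHom.mk' (fun s => Multiplicative.ofAdd ⟨b s, bD s⟩)
      fun s s' => congrArg Multiplicative.ofAdd (Subtype.ext (d3 s s' s.2))
    have a1 : Nat.card β.ker ≤ Nat.card F := by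
      refine le_trans (Nat.card_le_card_of_injective (β := {s : X // π s = 1 ∧ b s = 0})
        (fun s => ⟨s.1.1, s.1.2, congrArg Subtype.val (congrArg Multiplicative.toAdd s.2)⟩)
        fun s s' e1 => ?_) d4
      exact Subtype.ext (Subtype.ext (Subtype.mk.inj e1))
    have a2 : Nat.card π.ker ≤ Nat.card F * Nat.card F ^ finrank F D := by
      rw [← β.ker.card_mul_index, index_ker, ← Module.natCard_eq_pow_finrank (K := F)]
      exact Nat.mul_le_mul a1 (β.range.card_le_card_group.trans_eq rfl)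
    have a3 := D.finrank_le
    obtain ⟨d, hd⟩ := Nat.exists_eq_add_of_le a3
    have a4 := h'.card_le_fix (D := D) (by rintro _ ⟨s, rfl⟩ v hv; exact hv s) hd
    have a5 := ih h' (by omega)
    have q0 : 0 < Nat.card F := Nat.card_pos
    rw [← π.ker.card_mul_index, index_ker, ma_tri]
    rcases le_total d k with H | H
    · refine (Nat.mul_le_mul a2 a4).trans ?_
      rw [← pow_succ', ← pow_add]
      have := ma_tri_le H
      exact Nat.pow_le_pow_right q0 (by omega)
    · refine (Nat.mul_le_mul a2 a5).trans ?_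
      rw [← pow_succ', ← pow_add]
      exact Nat.pow_le_pow_right q0 (by omega)

/-- a fixed hyperbolic pair lowers the bound -/
theorem card_le' {k : ℕ} (hk : finrank F W = 2 * (k + 1)) {e f : W} (he : ∀ s ∈ X, s e = e)
    (he' : ∀ s ∈ X, s f = f) (hf : B e f ≠ 0) : Nat.card X ≤ Nat.card F ^ (k * (k + 1) / 2) := by
  have hf' : B e ((B e f)⁻¹ • f) = 1 := by rw [map_smul, smul_eq_mul, inv_mul_cancel₀ hf]
  have he'' : ∀ s ∈ X, s ((B e f)⁻¹ • f) = (B e f)⁻¹ • f := fun s hs => by rw [map_smul, he' s hs]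
  generalize (B e f)⁻¹ • f = f' at hf' he''
  obtain ⟨W₀, π, b, m0, d1, h', d2, -⟩ := h.desc he hf'
  have hi : Function.Injective π := (injective_iff_map_eq_one π).2 fun s hs => by
    refine Subtype.ext (LinearEquiv.ext fun w => ?_)
    obtain ⟨u, u1, u2, u3⟩ := h.ma_decomp hf' w
    have a1 := d2 s ⟨u, (m0 _).2 ⟨u1, u2⟩⟩
    rw [hs] at a1
    change s.1 u = u + B (b s) u • e at a1
    have a2 := congrArg (B f') a1
    rw [← h.ma_adj s.2, he'' _ s.2, map_add, map_smul, h.ma_comm f' e, hf', smul_eq_mul, mul_one,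
      left_eq_add] at a2
    rw [a2, zero_smul, add_zero] at a1
    change s.1 w = w
    conv_lhs => rw [u3, map_add, map_add, map_smul, map_smul, a1, he _ s.2, he'' _ s.2]
    exact u3.symm
  rw [Nat.card_congr (MonoidHom.ofInjective hi).toEquiv]
  exact h'.card_le (by omega)

end EA

end CfsgLib.SPC
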