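import Cfsg.Agent.Lib.SPC.MzA

/-! t ~ t z: the action on Y_e -/

set_option autoImplicit false
set_option linter.unusedSectionVars false

namespace CfsgLib.SPC

open Subgroup Module CfsgLib.Forms CfsgLib.LieMult
open CfsgLib.HX (Std CO Two Mv M2)
open CfsgLib.UN (AV SI TI HH Rad Stb Yg Rg Eg Act nu)
open CfsgLib.ClSys (II)
open Submodule (span)
open scoped commutatorElement Pointwise

universe u

variable {F : Type} [Field F] [Finite F] {V : Type} [AddCommGroup V] [Module F V]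
  [FiniteDimensional F V] {P : PQ (RingHom.id F) V} {S : Type} [Group S] [Finite S] {G : Type u}
  [Group G] [Finite G] {C : CG P S} {φ : S →* G} {t : G}

namespace Emb

variable (h : Emb C φ) {e : V}
include h

/-- moving a transvection of `Y_e` past an element of `Q_e` -/
theorem mzb_move {v a : V} (kv : P.B e v = 0) (k : P.B e a = 0) (r c : F) :
    τ C φ e a c * z C φ v r = z C φ v r * τ C φ e (a + (r * P.B v a) • v) c := by
  have := h.z_τ (u := v) r k c
  rw [h.B_comm v e, kv, mul_zero, zero_smul, add_zero] at this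
  rw [← this, ← mul_assoc, ← mul_assoc, h.z_sq, one_mul]

theorem mzb_uniq (h0 : e ≠ 0) {v : V} (kv : P.B e v = 0) (nv : v ∉ span F {e}) {l l' c c' : F}
    (H : τ C φ e (l • v) c = τ C φ e (l' • v) c') : l = l' ∧ c = c' := by
  rw [h.τ_eq_iff h0 (by rw [P.B_smul_right, kv, mul_zero]) (by rw [P.B_smul_right, kv, mul_zero]),
    ← add_smul] at H
  refine ⟨h.eq_of_add ?_, H.2⟩
  by_contra k
  exact nv ((Submodule.smul_mem_iff _ k).1 H.1)

theorem mzb_pt (l : S) (v : V) : C.act l v ∈ span F {C.act l e} ↔ v ∈ span F {e} := by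
  simp only [Submodule.mem_span_singleton]
  refine exists_congr fun c => ?_
  rw [← map_smul, (C.act l).injective.eq_iff]

end Emb

theorem mzb_cent {H : Subgroup G} {p r : G} (hp : p ∈ centralizer (H : Set G)) (hr : r ∈ H) :
    p * r * p⁻¹ = r := by
  rw [← mem_centralizer_iff.1 hp r hr, mul_inv_cancel_right]

namespace Sit

variable (h : Sit C φ t) {e : V} {p : G}
include h

theorem mzb_Y (h0 : e ≠ 0) (hp : Pz1 C φ t e p) {s : S} (hs : C.act s e = e) : ∃ a c,
    P.B e a = 0 ∧ (p * φ s * p⁻¹ = φ s * τ C φ e a c ∨ p * φ s * p⁻¹ = t * (φ s * τ C φ e a c)) := by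
  have hE := h.toEmb
  obtain ⟨s', h1, h2, h3⟩ := h.mza_nY' hp.nY hs
  have H : s⁻¹ * s' ∈ Rad C (span F {e}) := by
    refine ⟨mem_fix_pt.2 (by rw [C.mul_apply, h1, ← hs, C.inv_apply, hs]), fun a ha => ?_⟩
    have k := h.mza_perp.1 ha
    have r1 := hE.mza_mem h0 k 0
    have := h3 (τ C φ e a 0) (by rw [mzb_cent hp.cQ r1]; exact ⟨_, rfl⟩)
    rw [hE.mza_conj hs k, mzb_cent hp.cQ r1, mzb_cent hp.cQ (hE.mza_mem h0 (Mod.mza_act hs k) 0),
      hE.mza_conj h1 k, hE.τ_eq_iff h0 (Mod.mza_act hs k) (Mod.mza_act h1 k)] at this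
    have e2 := (hE.mzb_pt (e := e) s (C.act (s⁻¹ * s') a - a)).1
    rw [hs, map_sub, C.mul_apply, C.apply_inv, h.vsub_eq, add_comm] at e2
    rw [C.mul_apply]
    exact e2 this.1
  obtain ⟨a, c, k, e1⟩ := (h.mem_rad_pt h0).1 H
  have e2 : φ s' = φ s * τ C φ e a c := by rw [τ, ← e1, ← map_mul, mul_inv_cancel_left]
  exact ⟨a, c, k, by rwa [e2] at h2⟩

/-- **ZV** -/
theorem zv (h0 : e ≠ 0) (hp : Pz1 C φ t e p) {v : V} (hv : P.B e v = 0) (r : F) :
    ∃ l c : F, p * z C φ v r * p⁻¹ = z C φ v r * τ C φ e (l • v) c := by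
  have hE := h.toEmb
  by_cases nv : v ∈ span F {e}
  · refine ⟨0, 0, ?_⟩
    obtain ⟨μ, rfl⟩ := Submodule.mem_span_singleton.1 nv
    rw [zero_smul, (hE.τ_eq_one h0 (by simp)).2 ⟨zero_mem _, rfl⟩, mul_one, hE.z_smul]
    exact mzb_cent hp.cQ (hE.mza_mem h0 (by simp) _)
  by_cases r0 : r = 0
  · refine ⟨0, 0, ?_⟩
    rw [r0, hE.z_zero, zero_smul, (hE.τ_eq_one h0 (by simp)).2 ⟨zero_mem _, rfl⟩]; simp
  have k : Ln P e v := ⟨h0, nv, hv⟩
  have fx : ∀ u c, P.B e u = 0 → C.act (C.T u 0 c) e = e := fun u c ku => by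
    rw [h.z_app, h.B_comm u e, ku, mul_zero, zero_smul, add_zero]
  obtain ⟨b, c, kb, H⟩ := h.mzb_Y h0 hp (fx v r hv)
  change p * z C φ v r * p⁻¹ = z C φ v r * τ C φ e b c ∨
    p * z C φ v r * p⁻¹ = t * (z C φ v r * τ C φ e b c) at H
  have H1 : ∀ u, P.B e u = 0 → P.B v u = 0 → u ∉ span F {e, v} → P.B u b = 0 := by
    intro u ku kv nu
    obtain ⟨a, d, ka, H'⟩ := h.mzb_Y h0 hp (fx u 1 ku)
    change p * z C φ u 1 * p⁻¹ = z C φ u 1 * τ C φ e a d ∨
      p * z C φ u 1 * p⁻¹ = t * (z C φ u 1 * τ C φ e a d) at H'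
    have c0 := hE.z_comm kv r 1
    have c1 : Commute (p * z C φ v r * p⁻¹) (p * z C φ u 1 * p⁻¹) := c0.conj p
    have m1 : z C φ v r * τ C φ e b c ∈ φ.range := mul_mem ⟨_, rfl⟩ ⟨_, rfl⟩
    have m2 : z C φ u 1 * τ C φ e a d ∈ φ.range := mul_mem ⟨_, rfl⟩ ⟨_, rfl⟩
    have t1 : Commute (z C φ v r * τ C φ e b c) t := h.tL m1
    have t2 : Commute (z C φ u 1 * τ C φ e a d) t := h.tL m2
    have c2 : Commute (z C φ v r * τ C φ e b c) (z C φ u 1 * τ C φ e a d) := by
      have A : ∀ {A B : G}, Commute A t → Commute A (t * B) → Commute A B := fun k1 k2 => by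
        simpa using k1.inv_right.mul_right k2
      rcases H with H | H <;> rcases H' with H' | H' <;> rw [H, H'] at c1
      · exact c1
      · exact A t1 c1
      · exact (A t2 c1.symm).symm
      · exact A t1 (A ((Commute.refl t).mul_left t2) c1.symm).symm
    have k1 : P.B e (b + (1 * P.B u b) • u) = 0 := by
      rw [P.B_add_right, P.B_smul_right, kb, ku, mul_zero, add_zero]
    have k2 : P.B e (a + (r * P.B v a) • v) = 0 := by
      rw [P.B_add_right, P.B_smul_right, ka, hv, mul_zero, add_zero]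
    have e1 : τ C φ e (b + (1 * P.B u b) • u) c * τ C φ e a d =
        τ C φ e (a + (r * P.B v a) • v) d * τ C φ e b c := by
      refine mul_left_cancel (a := z C φ v r * z C φ u 1) ?_
      calc _ = z C φ v r * (z C φ u 1 * τ C φ e (b + (1 * P.B u b) • u) c) * τ C φ e a d := by group
        _ = z C φ v r * τ C φ e b c * (z C φ u 1 * τ C φ e a d) := by
          rw [← hE.mzb_move ku kb]; group
        _ = z C φ u 1 * (τ C φ e a d * z C φ v r) * τ C φ e b c := by rw [c2.eq]; group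
        _ = _ := by rw [hE.mzb_move hv ka, c0.eq]; group
    rw [hE.τ_mul k1 ka, hE.τ_mul k2 kb, hE.τ_eq_iff h0
      (by rw [P.B_add_right, k1, ka, add_zero]) (by rw [P.B_add_right, k2, kb, add_zero])] at e1
    obtain ⟨μ, hμ⟩ := Submodule.mem_span_singleton.1 e1.1
    by_contra n0
    refine nu ((Submodule.smul_mem_iff _ n0).1 (Submodule.mem_span_pair.2 ⟨μ, r * P.B v a, ?_⟩))
    rw [hμ, one_mul]
    calc _ = P.B u b • u + ((a + a) + (b + b) + ((r * P.B v a) • v + (r * P.B v a) • v)) := by abel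
      _ = _ := by simp only [h.vadd_self, add_zero]
  have H2 : b ∈ span F {e, v} := by
    obtain ⟨f, f', k2⟩ := h.hh_of_ln k
    obtain ⟨w, w', k3⟩ := h.exists_h3 k2
    have ww : P.B w w' = 1 := k3.h13.h₂.ef
    have nm : ∀ u, P.B u w' ≠ 0 → u ∉ span F {e, v} := fun u hu hm => by
      obtain ⟨c1, c2, rfl⟩ := Submodule.mem_span_pair.1 hm
      rw [P.B_add_left, h.B_smul_left, h.B_smul_left, k3.h13.ef, k3.h23.ef] at hu
      simp at hu
    have wb := H1 w k3.h13.ee k3.h23.ee (nm w (by rw [ww]; exact one_ne_zero))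
    refine h.loc_mem _ fun u hu => ?_
    rw [h.mem_perp_span] at hu
    have ku := hu e (by simp)
    have kv := hu v (by simp)
    by_cases nu : P.B u w' = 0
    · have := H1 (u + w) (by rw [P.B_add_right, ku, k3.h13.ee, add_zero])
        (by rw [P.B_add_right, kv, k3.h23.ee, add_zero])
        (nm _ (by rw [P.B_add_left, nu, ww, zero_add]; exact one_ne_zero))
      rwa [P.B_add_left, wb, add_zero] at this
    · exact H1 u ku kv (nm u nu)
  obtain ⟨μ, l, rfl⟩ := Submodule.mem_span_pair.1 H2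
  have kl : P.B e (l • v) = 0 := by rw [P.B_smul_right, hv, mul_zero]
  rw [add_comm, hE.τ_shift kl] at H
  rcases H with H | H
  · exact ⟨l, c, H⟩
  · exfalso
    obtain ⟨g, hg⟩ := (h.tz_iff (h.ln_symm k).ne r0).1 ⟨e, h0, p, hp.pt⟩
    have hU := h.ti_pair hv
    have m1 : e ∈ span F {e, v} := Submodule.subset_span (by simp)
    have m2 : v ∈ span F {e, v} := Submodule.subset_span (by simp)
    refine h.nzl hv (p * g) ?_
    have e1 : p * g * t * (p * g)⁻¹ = z C φ e 1 * (z C φ v r * τ C φ e (l • v) c) := by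
      calc _ = p * (g * t * g⁻¹) * p⁻¹ := by group
        _ = p * t * p⁻¹ * (p * z C φ v r * p⁻¹) := by rw [hg]; group
        _ = t * (z C φ e 1 * t) * (z C φ v r * τ C φ e (l • v) c) := by rw [hp.pt, H]; group
        _ = _ := by rw [h.tL (g := z C φ e 1) ⟨_, rfl⟩, ← mul_assoc t, h.t2, one_mul]
    rw [e1]
    exact mul_mem (hE.τ_mem_E hU m1 (zero_mem _) 1) (mul_mem (hE.τ_mem_E hU m2 (zero_mem _) r)
      (hE.τ_mem_E hU m1 (Submodule.smul_mem _ _ m2) c))

theorem pz0_of (h0 : e ≠ 0) (hp : Pz1 C φ t e p) : Pz0 C φ t e p := by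
  have hE := h.toEmb
  refine ⟨hp.cQ, mem_normalizer_fintype ?_, hp.pt⟩
  rintro _ ⟨s, hs, rfl⟩
  refine h.fix_gen (h.ti_pt e)
    (H := ((Yg C φ (span F {e})).comap (MulAut.conj p).toMonoidHom).comap φ) (fun v hv c => ?_) hs
  have kv := h.mza_perp.1 hv
  obtain ⟨l, d, e1⟩ := h.zv h0 hp kv c
  change p * z C φ v c * p⁻¹ ∈ Yg C φ (span F {e})
  rw [e1]
  exact mul_mem (hE.τ_mem_Y (by simp) hv (zero_mem _) c)
    (hE.R_le_Y (hE.mza_mem h0 (by rw [P.B_smul_right, kv, mul_zero]) d))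

theorem mz0 (hz : Tz C φ t) : MZ0 C φ t := by
  have hE := h.toEmb
  have H : ∀ e, e ≠ 0 → ∃ p, Pz1 C φ t e p := fun e h0 => by
    by_cases hs : Small F
    · exact h.pz1_small hs hz h0
    · exact h.pz1_big hs hz h0
  refine ⟨h, ?_, fun e => ?_⟩
  · obtain ⟨e, h0⟩ := h.exists_ne0
    obtain ⟨p, hp⟩ := H e h0
    refine h.two_of (h.ti_pt e) hp.nY ?_
    rw [hp.pt, Ne, mul_eq_left, hE.z_eq_one]
    exact fun k => k.elim h0 one_ne_zero
  · by_cases h0 : e = 0
    · exact ⟨1, one_mem _, one_mem _, by rw [h0, hE.z_zero']; simp⟩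
    · obtain ⟨p, hp⟩ := H e h0
      exact ⟨p, h.pz0_of h0 hp⟩

theorem pz1_of (hp : Pz0 C φ t e p) : Pz1 C φ t e p := by
  have hE := h.toEmb
  refine ⟨hp.cQ, mem_normalizer_fintype fun g hg => ?_, hp.pt⟩
  rcases (h.mem_sup_t hE.Y_le_L).1 hg with k | k
  · exact mem_sup_left ((mem_normalizer_iff.1 hp.nY _).1 k)
  · have e1 : p * g * p⁻¹ = (p * t * p⁻¹)⁻¹ * (p * (t * g) * p⁻¹) := by group
    rw [e1, hp.pt]
    exact mul_mem (inv_mem (mul_mem (mem_sup_right (mem_zpowers t)) (mem_sup_left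
      (hE.R_le_Y (hE.E_le_R (h.ti_pt e) (hE.mem_Z.2 ⟨1, rfl⟩))))))
      (mem_sup_left ((mem_normalizer_iff.1 hp.nY _).1 k))

theorem pz0_conj (hp : Pz0 C φ t e p) (l : S) : Pz0 C φ t (C.act l e) (φ l * p * (φ l)⁻¹) := by
  have hE := h.toEmb
  have H := hE.mzb_pt (e := e) l
  refine ⟨mem_centralizer_iff.2 fun r hr => ?_, mem_normalizer_fintype fun r hr => ?_, ?_⟩
  · have r1 : (φ l)⁻¹ * r * φ l ∈ Rg C φ (span F {e}) :=
      (hE.conj_Y l H).2.1.1 (by simpa [mul_assoc] using hr)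
    have := mzb_cent hp.cQ r1
    calc _ = φ l * ((φ l)⁻¹ * r * φ l) * p * (φ l)⁻¹ := by group
      _ = _ := by
        conv_lhs => rw [← this]
        group
  · have r1 : (φ l)⁻¹ * r * φ l ∈ Yg C φ (span F {e}) :=
      (hE.conj_Y l H).1.1 (by simpa [mul_assoc] using hr)
    have := (hE.conj_Y l H).1.2 ((mem_normalizer_iff.1 hp.nY _).1 r1)
    simpa [mul_assoc] using this
  · calc _ = φ l * (p * ((φ l)⁻¹ * (t * φ l)) * p⁻¹) * (φ l)⁻¹ := by group
      _ = φ l * t * z C φ e 1 * (φ l)⁻¹ := by rw [← h.tl l, inv_mul_cancel_left, hp.pt]; group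
      _ = _ := by rw [h.tl l, ← hE.z_conj]; group

theorem coc (h0 : e ≠ 0) (hp : Pz0 C φ t e p) : ∃ l c, Coc C φ e p l c := by
  have hE := h.toEmb
  have H : ∀ v, ∃ l c : F, P.B e v = 0 →
      p * z C φ v 1 * p⁻¹ = z C φ v 1 * τ C φ e (l • v) c := by
    intro v
    by_cases k : P.B e v = 0
    · obtain ⟨l, c, e1⟩ := h.zv h0 (h.pz1_of hp) k 1
      exact ⟨l, c, fun _ => e1⟩
    · exact ⟨0, 0, fun k' => absurd k' k⟩
  choose l c H using H
  have sm : ∀ {v : V} (μ : F), P.B e v = 0 → P.B e (μ • v) = 0 := fun μ k => by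
    rw [P.B_smul_right, k, mul_zero]
  refine ⟨l, c, fun v k _ => H v k, fun v μ k nv => ?_, fun v μ μ' k nv m0 m0' m1 => ?_,
    fun u v ku kv uv => ?_⟩
  · have k1 : P.B e (v + μ • e) = 0 := by
      rw [P.B_add_right, k, P.B_smul_right, h.B_self, mul_zero, add_zero]
    have k2 : P.B v (μ • e) = 0 := by rw [P.B_smul_right, h.B_comm, k, mul_zero]
    have e1 := hE.z_line k2 1
    rw [one_smul, hE.x_symm k2, hE.x_smul k, hE.z_smul, mul_assoc] at e1
    have m1 : z C φ e (μ * μ * 1) * x C φ e (μ • v) ∈ Rg C φ (span F {e}) :=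
      mul_mem (hE.mza_mem h0 (by simp) _) (hE.mza_mem h0 (sm μ k) 0)
    have c1 : Commute (z C φ e (μ * μ * 1) * x C φ e (μ • v)) (τ C φ e (l v • v) (c v)) :=
      (hE.τ_comm (by simp) (sm _ k) _ _).mul_left (hE.τ_comm (sm _ k) (sm _ k) _ _)
    have e2 := H _ k1
    rw [smul_add, smul_smul, hE.τ_shift (sm _ k)] at e2
    refine hE.mzb_uniq h0 k nv (mul_left_cancel (a := z C φ (v + μ • e) 1) ?_)
    rw [← e2, e1]
    calc _ = p * z C φ v 1 * p⁻¹ * (p * (z C φ e (μ * μ * 1) * x C φ e (μ • v)) * p⁻¹) := by group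
      _ = _ := by rw [H v k, mzb_cent hp.cQ m1, mul_assoc, ← c1.eq, ← mul_assoc]
  · have e1 : z C φ ((μ + μ') • v) 1 = z C φ (μ • v) 1 * z C φ (μ' • v) 1 := by
      rw [hE.z_smul, hE.z_smul, hE.z_smul, ← hE.z_add]
      congr 1
      linear_combination (μ * μ') * h.two
    have e2 := H _ (sm (μ + μ') k)
    have e3 := hE.mzb_move (sm μ' k) (sm (l (μ • v)) (sm μ k)) 1 (c (μ • v))
    rw [h.B_smul_left, P.B_smul_right, P.B_smul_right, h.B_self, mul_zero, mul_zero, mul_zero,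
      mul_zero, zero_smul, add_zero] at e3
    have e4 := hE.τ_mul (sm (l (μ • v)) (sm μ k)) (sm (l (μ' • v)) (sm μ' k)) (c (μ • v)) (c (μ' • v))
    rw [h.B_smul_left, h.B_smul_left, P.B_smul_right, P.B_smul_right, h.B_self, mul_zero, mul_zero,
      mul_zero, mul_zero, add_zero, smul_smul, smul_smul, ← add_smul] at e4
    refine hE.mzb_uniq h0 k nv (mul_left_cancel (a := z C φ ((μ + μ') • v) 1) ?_)
    rw [← smul_smul, ← e2, e1, ← e4, ← smul_smul, ← smul_smul]
    calc _ = p * z C φ (μ • v) 1 * p⁻¹ * (p * z C φ (μ' • v) 1 * p⁻¹) := by group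
      _ = z C φ (μ • v) 1 * (τ C φ e (l (μ • v) • μ • v) (c (μ • v)) * z C φ (μ' • v) 1) *
          τ C φ e (l (μ' • v) • μ' • v) (c (μ' • v)) := by rw [H _ (sm μ k), H _ (sm μ' k)]; group
      _ = _ := by rw [e3]; group
  · have vu : P.B v u = P.B u v := h.B_comm v u
    generalize hβ : P.B u v = β at uv vu ⊢
    have k1 : P.B e (v + β • u) = 0 := by rw [P.B_add_right, kv, sm β ku, add_zero]
    have nv : v + β • u ∉ span F {e} := h.mza_nmem ku (by
      rw [P.B_add_left, h.B_smul_left, h.B_self, mul_zero, add_zero, vu]; exact uv)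
    have e1 : z C φ (v + β • u) 1 = z C φ u 1 * z C φ v 1 * z C φ u 1 := by
      have := hE.z_τ (u := u) (e := v) (a := 0) 1 (by simp) 1
      rw [hβ, one_mul, one_mul, map_zero, zero_smul, add_zero] at this
      exact this.symm
    have k2 : P.B e (l u • u + (1 * P.B v (l u • u)) • v) = 0 := by
      rw [P.B_add_right, sm _ ku, sm _ kv, add_zero]
    have k3 : P.B e (l u • u + (1 * P.B v (l u • u)) • v + l v • v) = 0 := by
      rw [P.B_add_right, k2, sm _ kv, add_zero]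
    have e2 := hE.mzb_move kv (sm (l u) ku) 1 (c u)
    have e3 := hE.τ_mul k2 (sm (l v) kv) (c u) (c v)
    have e4 := fun d => hE.mzb_move ku k3 1 d
    have e5 := fun d => hE.τ_mul (a := l u • u + (1 * P.B v (l u • u)) • v + l v • v +
      (1 * P.B u (l u • u + (1 * P.B v (l u • u)) • v + l v • v)) • u)
      (by rw [P.B_add_right, k3, sm _ ku, add_zero]) (sm (l u) ku) d (c u)
    refine hE.mzb_uniq h0 k1 nv (mul_left_cancel (a := z C φ (v + β • u) 1) ?_)
    rw [← H _ k1, e1]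
    calc _ = p * z C φ u 1 * p⁻¹ * (p * z C φ v 1 * p⁻¹) * (p * z C φ u 1 * p⁻¹) := by group
      _ = z C φ u 1 * (τ C φ e (l u • u) (c u) * z C φ v 1) * τ C φ e (l v • v) (c v) *
          z C φ u 1 * τ C φ e (l u • u) (c u) := by rw [H u ku, H v kv]; group
      _ = z C φ u 1 * z C φ v 1 * (τ C φ e (l u • u + (1 * P.B v (l u • u)) • v) (c u) *
          τ C φ e (l v • v) (c v) * z C φ u 1) * τ C φ e (l u • u) (c u) := by rw [e2]; group
      _ = _ := by
        rw [e3, e4, mul_assoc, mul_assoc (z C φ u 1) (τ ..), e5, ← mul_assoc]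
        congr 2
        · simp only [P.B_add_right, P.B_smul_right, h.B_self, hβ, vu]
          have := h.vadd_self (l u • u)
          linear_combination (norm := module) this
        · simp only [P.B_add_left, P.B_add_right, h.B_smul_left, P.B_smul_right, h.B_self, hβ, vu]
          linear_combination (c u + l u * l v * β) * h.two

/-- multiplication by an element of `Q_e` -/
theorem coc_adj (h0 : e ≠ 0) (hp : Pz0 C φ t e p) {l c : V → F} (k : Coc C φ e p l c) {b : V}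
    (hb : P.B e b = 0) : Pz0 C φ t e (x C φ e b * p) ∧ Coc C φ e (x C φ e b * p)
      (fun v => l v + P.B b v) fun v => c v + P.B b v * P.B b v := by
  have hE := h.toEmb
  have m1 : x C φ e b ∈ Rg C φ (span F {e}) := hE.mza_mem h0 hb 0
  have sm : ∀ {v : V} (μ : F), P.B e v = 0 → P.B e (μ • v) = 0 := fun μ k => by
    rw [P.B_smul_right, k, mul_zero]
  refine ⟨⟨mul_mem (mem_centralizer_iff.2 fun r hr => ?_) hp.cQ,
    mul_mem (le_normalizer (hE.R_le_Y m1)) hp.nY, ?_⟩, fun v kv nv => ?_, fun v μ kv nv => ?_,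
    fun v μ μ' kv nv m0 m0' m1 => ?_, fun u v ku kv uv => ?_⟩
  · obtain ⟨a, d, ka, rfl⟩ := (hE.mem_Q h0).1 hr
    exact (hE.τ_comm ka hb d 0).eq
  · have c1 : Commute (x C φ e b) (t * z C φ e 1) :=
      Commute.mul_right (h.tL ⟨_, rfl⟩) (hE.τ_comm hb (by simp) 0 1)
    calc _ = x C φ e b * (p * t * p⁻¹) * (x C φ e b)⁻¹ := by group
      _ = _ := by rw [hp.pt, c1.eq, mul_inv_cancel_right]
  · have k1 : P.B e (b + (1 * P.B v b) • v) = 0 := by rw [P.B_add_right, hb, sm _ kv, add_zero]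
    have e2 := hE.mzb_move kv hb 1 0
    calc _ = τ C φ e b 0 * (p * z C φ v 1 * p⁻¹) * (τ C φ e b 0)⁻¹ := by
          change x C φ e b * p * z C φ v 1 * (x C φ e b * p)⁻¹ =
            x C φ e b * (p * z C φ v 1 * p⁻¹) * (x C φ e b)⁻¹
          group
      _ = z C φ v 1 * (τ C φ e (b + (1 * P.B v b) • v) 0 * τ C φ e (l v • v) (c v) *
          τ C φ e b 0) := by
          rw [k.act v kv nv, hE.τ_inv hb, ← mul_assoc, e2]; group
      _ = _ := by
        rw [hE.τ_mul k1 (sm _ kv), hE.τ_mul (by rw [P.B_add_right, k1, sm _ kv, add_zero]) hb]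
        congr 2
        · rw [h.B_comm v b]
          have := h.vadd_self b
          linear_combination (norm := module) this
        · simp only [P.B_add_left, h.B_smul_left, P.B_smul_right, h.B_self, h.B_comm v b]
          linear_combination (l v * P.B b v) * h.two
  · have e1 : P.B b (v + μ • e) = P.B b v := by
      rw [P.B_add_right, P.B_smul_right, h.B_comm b e, hb, mul_zero, add_zero]
    obtain ⟨e2, e3⟩ := k.shift v μ kv nv
    simp only [e1, e2, e3, and_self]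
  · obtain ⟨e2, e3⟩ := k.line v μ μ' kv nv m0 m0' m1
    simp only [P.B_smul_right]
    exact ⟨by linear_combination e2 + (μ * μ' * P.B b v) * h.two,
      by linear_combination e3 + (μ * μ' * P.B b v * P.B b v) * h.two⟩
  · obtain ⟨e2, e3⟩ := k.tv u v ku kv uv
    simp only [P.B_add_right, P.B_smul_right]
    exact ⟨by linear_combination e2, by
      linear_combination e3 + (P.B b v * P.B u v * P.B b u - P.B u v * P.B u v * l u * P.B b u) *
        h.two⟩

/-- **EXO** -/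
theorem exo (hs : Small F) (h0 : e ≠ 0) (hp : Pz0 C φ t e p)
    (H : ∀ v, P.B e v = 0 → v ∉ span F {e} → p * z C φ v 1 * p⁻¹ = z C φ v 1 * z C φ e 1) :
    False := by
  have hE := h.toEmb
  obtain ⟨f, hf⟩ := h.exists_hp h0
  obtain ⟨v, v', k⟩ := h.exists_hh hf
  obtain ⟨w, w', k3⟩ := h.exists_h3 k
  have ln := h.ln_of_hh k
  have ln' := h.ln_symm ln
  obtain ⟨s, s1, s2⟩ := h.trans_ln ln ln'
  have hp' := h.pz0_conj hp s
  rw [s1] at hp'
  have H' : ∀ u, P.B v u = 0 → u ∉ span F {v} →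
      φ s * p * (φ s)⁻¹ * z C φ u 1 * (φ s * p * (φ s)⁻¹)⁻¹ = z C φ u 1 * z C φ v 1 := by
    intro u ku nu
    have e1 := H (C.act s⁻¹ u) (by rw [← C.B_act s, C.apply_inv, s1, ku]) (fun hm => nu (by
      have := (hE.mzb_pt s _).2 hm
      rwa [C.apply_inv, s1] at this))
    have e2 := hE.z_conj s (C.act s⁻¹ u) 1
    have e3 := hE.z_conj s e 1
    rw [C.apply_inv] at e2
    rw [s1] at e3
    rw [← e2, ← e3]
    calc _ = φ s * (p * z C φ (C.act s⁻¹ u) 1 * p⁻¹) * (φ s)⁻¹ := by group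
      _ = _ := by rw [e1]; group
  generalize φ s * p * (φ s)⁻¹ = p' at hp' H'
  have pe : p * z C φ e 1 * p⁻¹ = z C φ e 1 := mzb_cent hp.cQ (hE.mza_mem h0 (by simp) 1)
  have pv := H v k.ee ln.nmem
  have pe' := H' e ln'.perp ln'.nmem
  have cev := hE.z_comm k.ee 1 1
  have A : ∀ g : G, p * g * p⁻¹ = g * z C φ e 1 → p' * g * p'⁻¹ = g * z C φ v 1 →
      p * p' * p * g * (p * p' * p)⁻¹ = g := by
    intro g g1 g2
    calc _ = p * (p' * (p * g * p⁻¹) * p'⁻¹) * p⁻¹ := by group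
      _ = p * (p' * g * p'⁻¹ * (p' * z C φ e 1 * p'⁻¹)) * p⁻¹ := by rw [g1]; group
      _ = p * (g * (z C φ v 1 * z C φ e 1) * z C φ v 1) * p⁻¹ := by rw [g2, pe']; group
      _ = p * g * p⁻¹ * (p * z C φ e 1 * p⁻¹) * (p * (z C φ v 1 * z C φ v 1) * p⁻¹) := by
        rw [← cev.eq]; group
      _ = _ := by rw [g1, pe, hE.z_sq, mul_assoc g, hE.z_sq]; group
  have mt := A t hp.pt hp'.pt
  obtain ⟨α, γ, act⟩ := hE.exists_act (h.norm_of (mul_inv_eq_iff_eq_mul.1 mt))
  have B : ∀ u, P.B e u = 0 → P.B v u = 0 → P.B u w' ≠ 0 → γ u = u := by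
    intro u ku kv hu
    have := A _ (H u ku (h.mza_nmem k3.h13.ef hu)) (H' u kv (h.mza_nmem k3.h23.ef hu))
    rw [hE.act_z act, map_one] at this
    exact hE.z_one_inj this
  have ww : P.B w w' = 1 := k3.h13.h₂.ef
  have g1 := B w k3.h13.ee k3.h23.ee (by rw [ww]; exact one_ne_zero)
  have g2 := B (w + e) (by rw [P.B_add_right, k3.h13.ee, h.B_self, add_zero])
    (by rw [P.B_add_right, k3.h23.ee, ln'.perp, add_zero])
    (by rw [P.B_add_left, ww, k3.h13.ef, add_zero]; exact one_ne_zero)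
  have g3 : γ e = v := by
    have : p * p' * p * z C φ e 1 * (p * p' * p)⁻¹ = z C φ v 1 := by
      calc _ = p * (p' * (p * z C φ e 1 * p⁻¹) * p'⁻¹) * p⁻¹ := by group
        _ = p * z C φ e 1 * p⁻¹ * (p * z C φ v 1 * p⁻¹) := by
          conv_lhs => rw [pe, pe']
          group
        _ = _ := by rw [pe, pv, ← cev.eq, ← mul_assoc, hE.z_sq, one_mul]
    rw [hE.act_z act, map_one] at this
    exact hE.z_one_inj this
  rw [map_add, g1, g3, add_right_inj] at g2
  exact ln.nmem (g2 ▸ Submodule.mem_span_singleton_self _)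

end Sit

theorem MZ0.tz (h : MZ0 C φ t) : Tz C φ t := by
  obtain ⟨e, h0⟩ := h.exists_ne0
  obtain ⟨p, hp⟩ := h.mv e
  exact ⟨e, h0, p, hp.pt⟩

theorem MZ0.tc_iff (h : MZ0 C φ t) : Tc C φ t ↔ Ta C φ t := by
  have hE := h.toEmb
  obtain ⟨e, h0⟩ := h.exists_ne0
  obtain ⟨a, k⟩ := h.exists_ln h0
  obtain ⟨p, hp⟩ := h.mv e
  have c1 : Commute (x C φ e a) (z C φ e 1) := hE.τ_comm k.perp (by simp) 0 1
  rw [h.toSit.tc_iff k one_ne_zero, h.toSit.ta_iff k, InT.move (l := x C φ e a) hp.pt,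
    mzb_cent hp.cQ (r := x C φ e a) (hE.mza_mem h0 k.perp 0), hE.τ_eq k.perp, c1.eq]

theorem MZ0.fus1 (h : MZ0 C φ t) : Fus1 φ.range t := by
  have hE := h.toEmb
  obtain ⟨e, h0⟩ := h.exists_ne0
  obtain ⟨p, hp⟩ := h.mv e
  exact ⟨z C φ e 1, ⟨_, rfl⟩, hE.z_sq e 1, fun k => (hE.z_eq_one.1 k).elim h0 one_ne_zero, p,
    (mem_centralizer_iff.1 hp.cQ _ (hE.mza_mem h0 (by simp) 1)).symm, hp.pt⟩

end CfsgLib.SPC
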