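import Cfsg.Agent.Lib.SPC.Par
import Cfsg.Agent.Lib.SPC.Max
import Cfsg.Agent.Lib.SPC.Loc
import Cfsg.Agent.Lib.SPC.Defs2

/-! Alternating elements of T with small support -/

set_option autoImplicit false
set_option linter.unusedSectionVars false

namespace CfsgLib.SPC

open Subgroup Module CfsgLib.Forms CfsgLib.LieMult
open CfsgLib.HX (Std CO Two Mv M2)
open CfsgLib.UN (AV SI TI HH Rad Stb Yg Rg Eg Act nu)
open CfsgLib.ClSys (II)
open Submodule (span)
open scoped commutatorElement Pointwise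

universe u

variable {F : Type} [Field F] [Finite F] {V : Type} [AddCommGroup V] [Module F V]
  [FiniteDimensional F V] {P : PQ (RingHom.id F) V} {S : Type} [Group S] [Finite S] {G : Type u}
  [Group G] [Finite G] {C : CG P S} {φ : S →* G} {t : G}

/-- the alternating part of `E(U)` -/
def AltE (C : CG P S) (U : Submodule F V) : Set S := {s | s ∈ C.fixG (P.perp U) ∧ Alt C s}

theorem Mod.nca_nu (h : Mod C) {e a : V} (k : P.B e a = 0) (c : F) (v : V) :
    nu C (C.T e a c) v = (P.B a v + c * P.B e v) • e + P.B e v • a := by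
  rw [h.loc_nu', h.T_app k]; abel

theorem Mod.nca_alt (h : Mod C) {e a : V} (k : P.B e a = 0) : Alt C (C.T e a 0) := fun v => by
  rw [h.nca_nu k, P.B_add_left, h.B_smul_left, h.B_smul_left, zero_mul, add_zero, mul_comm, h.add_self]

theorem Mod.nca_range (h : Mod C) {U : Submodule F V} {s : S} (hs : s ∈ C.fixG (P.perp U)) (v : V) :
    nu C s v ∈ U := by
  rw [h.loc_nu']; exact h.E_range hs v

theorem Mod.nca_conj (h : Mod C) {s : S} (hs : Alt C s) (l : S) : Alt C (l * s * l⁻¹) := fun v => by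
  have := hs (C.act l⁻¹ v)
  rwa [← C.B_act l, C.apply_inv, h.loc_nu', map_sub, C.apply_inv, ← C.mul_apply, ← C.mul_apply,
    ← h.loc_nu'] at this

theorem Mod.nca_pair (h : Mod C) {s : S} (h1 : s ≠ 1) : ∃ v w, P.B (nu C s v) w = 1 := by
  obtain ⟨v, hv⟩ : ∃ v, nu C s v ≠ 0 := by
    by_contra! h2
    exact h1 (C.ext fun v => by rw [h.loc_nu, h2, add_zero, C.one_apply])
  exact ⟨v, h.exists_hp hv⟩

theorem Mod.exists_AltE (h : Mod C) {U : Submodule F V} (hU : TI P U) :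
    ∃ A : Subgroup S, (A : Set S) = AltE C U ∧
      ∀ H : Subgroup S, (∀ p ∈ U, ∀ a ∈ U, C.T p a 0 ∈ H) → A ≤ H := by
  have hm : ∀ {s s' : S}, s ∈ AltE C U → s' ∈ AltE C U → s * s' ∈ AltE C U := fun hs hs' =>
    ⟨mul_mem hs.1 hs'.1, fun v => by
      rw [h.E_nu_mul hU hs.1 hs'.1, LinearMap.add_apply, P.B_add_left, hs.2, hs'.2, add_zero]⟩
  refine ⟨{ carrier := AltE C U
            one_mem' := ⟨one_mem _, fun v => by rw [h.loc_nu', C.one_apply, sub_self]; simp⟩
            mul_mem' := hm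
            inv_mem' := fun hs => by rwa [h.loc_inv (h.E_sq hU hs.1)] }, rfl, fun H hH => ?_⟩
  suffices H1 : ∀ W : Submodule F V, ∀ s ∈ AltE C U, LinearMap.ker (nu C s) = W → s ∈ H from
    fun s hs => H1 _ s hs rfl
  intro W
  induction W using WellFoundedGT.induction with
  | ind W ih =>
  rintro s hs rfl
  by_cases h1 : s = 1
  · exact h1 ▸ one_mem H
  obtain ⟨v, w, e⟩ := h.nca_pair h1
  have hp := h.nca_range hs.1 v
  have ha := h.nca_range hs.1 w
  have k : P.B (nu C s v) (nu C s w) = 0 := hU ha _ hp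
  have hx := h.T_mem_E hU hp ha 0
  have h2 : ∀ u, nu C (s * C.T (nu C s v) (nu C s w) 0) u =
      nu C s u + (P.B w (nu C s u) • nu C s v + P.B v (nu C s u) • nu C s w) := fun u => by
    rw [h.E_nu_mul hU hs.1 hx, LinearMap.add_apply, h.nca_nu k, zero_mul, add_zero, h.E_adj hU hs.1,
      h.E_adj hU hs.1]
  refine (mul_mem_cancel_right (hH _ hp _ ha)).1 (ih _ (lt_of_le_of_ne (fun u hu => ?_) fun e' => ?_) _
    (hm hs ⟨hx, h.nca_alt k⟩) rfl)
  · rw [LinearMap.mem_ker] at hu ⊢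
    rw [h2, hu]; simp
  · have h3 : v ∈ LinearMap.ker (nu C s) := by
      rw [e', LinearMap.mem_ker, h2, h.B_comm w, e, h.B_comm v, hs.2, one_smul, zero_smul, add_zero,
        h.vadd_self]
    rw [LinearMap.mem_ker.1 h3] at e
    simp at e

theorem Mod.alt_line (h : Mod C) {e a : V} (k : Ln P e a) {s : S} (hs : s ∈ AltE C (span F {e, a})) :
    ∃ v : F, s = C.T e (v • a) 0 := by
  obtain ⟨r, v, r', rfl⟩ := (h.mem_E_line k).1 hs.1
  obtain ⟨f, f', hh⟩ := h.hh_of_ln k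
  have h1 := hs.2 f
  have h2 := hs.2 f'
  have e1 := h.hp_iff.1 hh.h₁
  have e2 := h.hp_iff.1 hh.h₂
  have e3 : P.B a f = 0 := by rw [h.B_comm]; exact hh.fe
  rw [h.loc_nu', h.line_app k.perp, add_assoc, add_sub_cancel_left, P.B_add_left, h.B_smul_left,
    h.B_smul_left] at h1 h2
  rw [e1, e3] at h1
  rw [e2, hh.ef] at h2
  have h3 : r = 0 := by simpa using h1
  have h4 : r' = 0 := by simpa using h2
  refine ⟨v, ?_⟩
  have h5 : ∀ p : V, C.T p 0 0 = 1 := fun p => C.ext fun u => by rw [h.z_app, C.one_apply]; simp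
  rw [h3, h4, h5, h5, one_mul, mul_one]

theorem Mod.nca_stb (h : Mod C) {U : Submodule F V} {A : Subgroup S} (hA : (A : Set S) = AltE C U) {l : S}
    (hl : l ∈ Stb C U) {s : S} (hs : s ∈ A) : l * s * l⁻¹ ∈ A := by
  rw [← SetLike.mem_coe, hA] at hs ⊢
  exact ⟨(h.conj_fix l hl).2.2.2 hs.1, h.nca_conj hs.2 l⟩

theorem nca_norm {H : Subgroup G} {n : G} (h : ∀ x ∈ H, n * x * n⁻¹ ∈ H) : n ∈ normalizer (H : Set G) :=
  mem_normalizer_fintype h

theorem nca_sup {H : Subgroup G} {n t : G} (h : n ∈ normalizer (H : Set G))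
    (ht : n * t * n⁻¹ ∈ H ⊔ zpowers t) : n ∈ normalizer ((H ⊔ zpowers t : Subgroup G) : Set G) := by
  have : H ⊔ zpowers t ≤ (H ⊔ zpowers t).comap (MulAut.conj n).toMonoidHom :=
    sup_le (fun x hx => mem_sup_left ((mem_normalizer_iff.1 h x).1 hx)) (zpowers_le.2 ht)
  exact nca_norm fun x hx => this hx

namespace Sit

variable (h : Sit C φ t)
include h

theorem nca_ta {e a : V} (k : Ln P e a) {s : S} (hs : s ∈ AltE C (span F {e, a})) (h1 : s ≠ 1)
    (e1 : InT t (φ s)) : Ta C φ t := by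
  obtain ⟨v, rfl⟩ := h.alt_line k hs
  have h2 : v ≠ 0 := by
    rintro rfl
    exact h1 (h.inj (by rw [zero_smul, map_one]; exact h.x_zero e))
  exact ⟨e, v • a, by simpa using h.ln_smul k one_ne_zero h2 0, e1⟩

/-- the end of both arguments -/
theorem nc_end (ha : ¬ Ta C φ t) {U : Submodule F V} (hU : TI P U) {A : Subgroup S}
    (hA : (A : Set S) = AltE C U) {n : G} (hn : n ∈ normalizer (A.map φ : Set G)) {s : S} (hs : s ∈ A)
    (e : n * t * n⁻¹ = t * φ s) : s = 1 := by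
  by_contra h1
  have mem : ∀ {s : S}, s ∈ A ↔ s ∈ AltE C U := fun {s} => by rw [← hA]; rfl
  have hs' := mem.1 hs
  obtain ⟨v, w, e1⟩ := h.nca_pair h1
  have hp := h.nca_range hs'.1 v
  have hb := h.nca_range hs'.1 w
  have k : Ln P (UN.nu C s v) (UN.nu C s w) := ⟨h.hp_ne e1, fun e2 => by
    obtain ⟨c, e3⟩ := Submodule.mem_span_singleton.1 e2
    have e4 := hs'.2 w
    have e5 : P.B (UN.nu C s w) v = 1 := by rw [h.toMod.E_adj hU hs'.1, h.B_comm, e1]
    rw [← e3, h.B_smul_left] at e4 e5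
    rw [hs'.2 v, mul_zero] at e5
    exact zero_ne_one e5, hU hb _ hp⟩
  have hl : span F {UN.nu C s v, UN.nu C s w} ≤ U := by
    rw [Submodule.span_le, Set.insert_subset_iff, Set.singleton_subset_iff]; exact ⟨hp, hb⟩
  have r2 : finrank F (span F {UN.nu C s v, UN.nu C s w}) = 2 := by
    have : LinearIndependent F ![UN.nu C s v, UN.nu C s w] := LinearIndependent.pair_iff.2 fun c d e2 =>
      h.ln_inj k (c' := 0) (d' := 0) (by rw [e2]; simp)
    have e2 := finrank_span_eq_card this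
    rwa [Matrix.range_cons_cons_empty, Fintype.card_fin] at e2
  generalize UN.nu C s v = p at k hl r2
  generalize UN.nu C s w = a at k hl r2
  rcases hl.eq_or_lt with e2 | e2
  · exact ha (h.nca_ta k (e2 ▸ hs') h1 ⟨n, e⟩)
  have r3 : 3 ≤ finrank F U := by
    have := Submodule.finrank_lt_finrank_of_lt e2
    omega
  have hL : A.map φ ≤ φ.range := map_le_range φ A
  have hK : (Stb C U).map φ ≤ (normalizer (A.map φ : Set G) ⊓
      normalizer ((A.map φ ⊔ zpowers t : Subgroup G) : Set G)) ⊓ centralizer {t} := by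
    rintro _ ⟨l, hl', rfl⟩
    have h2 : φ l ∈ normalizer (A.map φ : Set G) := nca_norm (by
      rintro _ ⟨b, hb, rfl⟩
      exact ⟨_, h.nca_stb hA hl' hb, by simp⟩)
    exact ⟨⟨h2, nca_sup h2 (by rw [h.tl, mul_inv_cancel_right]; exact mem_sup_right (mem_zpowers t))⟩,
      mem_centralizer_singleton_iff.2 (h.tl l)⟩
  have hJ : Rg C φ (span F {p, a}) ≤ (Stb C U).map φ := map_mono fun r hr u => by
    have key : ∀ r ∈ Rad C (span F {p, a}), ∀ u ∈ U, C.act r u ∈ U := fun r hr u hu => by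
      have := add_mem (hl (hr.2 u (P.perp_anti hl (hU hu)))) hu
      rwa [sub_add_cancel] at this
    refine ⟨fun hu => ?_, key r hr u⟩
    have := key _ (inv_mem hr) _ hu
    rwa [C.inv_apply] at this
  obtain ⟨_, ⟨b, hb, rfl⟩, b1, b2, n', -, e3⟩ := par1 (H := A.map φ) h.t2 (fun e => h.t_not_mem (hL e))
    (by
      rintro _ ⟨b, hb, rfl⟩
      rw [← map_mul, h.toMod.E_sq hU (mem.1 hb).1, map_one])
    (fun x hx => h.tL (hL hx)) inf_le_left inf_le_right hK (by
      rintro _ ⟨b, hb, rfl⟩ hc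
      rw [h.eq_one_of_stb hU r3 (mem.1 hb).1 fun l hl' => h.inj (by
        rw [map_mul, map_mul]; exact hc _ ⟨l, hl', rfl⟩), map_one])
    (hJ.trans hK) (h.R_two (h.ti_pair k.perp))
    ⟨n, ⟨hn, nca_sup hn (by
      rw [e]; exact mul_mem (mem_sup_right (mem_zpowers t)) (mem_sup_left ⟨s, hs, rfl⟩))⟩, fun e2 =>
        h1 (h.inj (by rw [e2, left_eq_mul] at e; rw [e, map_one]))⟩
  obtain ⟨_, ⟨ε, hε, rfl⟩, c, hc, e4⟩ := h.cR (h.ti_pair k.perp) r2.ge (le_normalizer ⟨b, rfl⟩) b2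
  have e5 := (h.dec_inj ⟨b, rfl⟩ ⟨ε, rfl⟩ (one_mem _) hc ((mul_one _).trans e4)).1
  exact ha (h.nca_ta k ⟨h.inj e5 ▸ hε, (mem.1 hb).2⟩ (fun e6 => b1 (by rw [e6, map_one])) ⟨n', e3⟩)

theorem nc_sub (ha : ¬ Ta C φ t) {U : Submodule F V} (hU : TI P U) (hM : P.perp U ≠ U) {s : S}
    (hs : s ∈ AltE C U) (e : InT t (φ s)) : s = 1 := by
  obtain ⟨g, e⟩ := e
  obtain ⟨n, hn, e1⟩ := h.nu hU (g := g) (by
    rw [e]; exact mul_mem (mem_sup_right (mem_zpowers t)) (mem_sup_left ⟨s, hs.1, rfl⟩))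
  have h1 := (h.norm_R hU hn).2
  rw [Rg, ← Subgroup.map_commutator] at h1
  exact h.nc_end ha hU (Set.ext fun s => h.comm_rad hU hM) h1 ((h.comm_rad hU hM).2 hs) (e1.trans e)

end Sit

end CfsgLib.SPC
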