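import Cfsg.Agent.Lib.SPC.Defs

/-! The parity arguments -/

set_option autoImplicit false
set_option linter.unusedSectionVars false

namespace CfsgLib.SPC

open Subgroup Module CfsgLib.Forms CfsgLib.LieMult
open CfsgLib.HX (Std CO Two Mv M2)
open CfsgLib.UN (AV SI TI HH Rad Stb Yg Rg Eg Act nu)
open CfsgLib.ClSys (II)
open Submodule (span)
open scoped commutatorElement Pointwise

universe u

variable {F : Type} [Field F] [Finite F] {V : Type} [AddCommGroup V] [Module F V]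
  [FiniteDimensional F V] {P : PQ (RingHom.id F) V} {S : Type} [Group S] [Finite S] {G : Type u}
  [Group G] [Finite G] {C : CG P S} {φ : S →* G} {t : G}

theorem par_mem {H : Subgroup G} (t2 : t * t = 1) (Ht : ∀ h ∈ H, h * t = t * h) {b : G}
    (hb : b ∈ H ⊔ zpowers t) : b ∈ H ∨ t * b ∈ H := by
  let W : Subgroup G :=
    { carrier := {b | b ∈ H ∨ t * b ∈ H}
      one_mem' := Or.inl H.one_mem
      inv_mem' := by
        rintro x (hx | hx)
        · exact Or.inl (H.inv_mem hx)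
        · refine Or.inr ?_
          have e : t * x⁻¹ = t * ((t * x)⁻¹ * t) := by group
          rw [e, Ht _ (H.inv_mem hx), ← mul_assoc, t2, one_mul]
          exact H.inv_mem hx
      mul_mem' := by
        rintro x y (hx | hx) (hy | hy)
        · exact Or.inl (H.mul_mem hx hy)
        · refine Or.inr ?_
          rw [← mul_assoc, ← Ht x hx, mul_assoc]
          exact H.mul_mem hx hy
        · refine Or.inr ?_
          rw [← mul_assoc]
          exact H.mul_mem hx hy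
        · refine Or.inl ?_
          have e : x * y = t * x * (t * y) := by
            rw [← mul_assoc, Ht _ hx, ← mul_assoc, t2, one_mul]
          rw [e]
          exact H.mul_mem hx hy }
  have : H ⊔ zpowers t ≤ W := sup_le (fun x hx => Or.inl hx)
    (zpowers_le.2 (Or.inr (by rw [t2]; exact H.one_mem)))
  exact this hb

theorem par_sq {H : Subgroup G} (t2 : t * t = 1) (H2 : ∀ h ∈ H, h * h = 1) (Ht : ∀ h ∈ H, h * t = t * h) {b : G}
    (hb : b ∈ H ⊔ zpowers t) : b * b = 1 := by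
  rcases par_mem t2 Ht hb with h | h
  · exact H2 b h
  · have e : t * b * (t * b) = b * b := by
      rw [← mul_assoc, Ht _ h, ← mul_assoc, t2, one_mul]
    rw [← e, H2 _ h]

theorem par_comm {B : Subgroup G} (h2 : ∀ b ∈ B, b * b = 1) {a b : G} (ha : a ∈ B) (hb : b ∈ B) : Commute a b := by
  have e := h2 _ (B.mul_mem ha hb)
  have ia : a⁻¹ = a := inv_eq_of_mul_eq_one_right (h2 a ha)
  have ib : b⁻¹ = b := inv_eq_of_mul_eq_one_right (h2 b hb)
  have := eq_inv_of_mul_eq_one_left e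
  rw [mul_inv_rev, ia, ib] at this
  exact this

/-- a second fixed point -/
theorem par_fix {J : Subgroup G} (J2 : IsPGroup 2 J) {O : Finset G} (hO : ∀ j ∈ J, ∀ s ∈ O, j * s * j⁻¹ ∈ O)
    (tO : t ∈ O) (hJ : J ≤ centralizer {t}) (he : Even O.card) :
    ∃ s ∈ O, s ≠ t ∧ s ∈ centralizer (J : Set G) := by
  let : MulAction J O :=
    { smul := fun j s => ⟨j * s * (j : G)⁻¹, hO j j.2 s s.2⟩
      one_smul := fun s => Subtype.ext (by change (1 : G) * s * (1 : G)⁻¹ = s; simp)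
      mul_smul := fun j k s => Subtype.ext (by
        change (j * k : G) * s * (j * k : G)⁻¹ = j * (k * s * (k : G)⁻¹) * (j : G)⁻¹
        group) }
  have : Fact (Nat.Prime 2) := ⟨Nat.prime_two⟩
  obtain ⟨b, hb, hne⟩ := J2.exists_fixed_point_of_prime_dvd_card_of_fixed_point O
    (by rw [Nat.card_eq_fintype_card, Fintype.card_coe]; exact he.two_dvd) (a := ⟨t, tO⟩) (fun j => Subtype.ext (by
      change (j : G) * t * (j : G)⁻¹ = t
      rw [mem_centralizer_singleton_iff.1 (hJ j.2), mul_inv_cancel_right]))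
  refine ⟨b, b.2, fun e => hne (Subtype.ext e.symm), mem_centralizer_iff.2 fun j hj => ?_⟩
  have : j * b * j⁻¹ = b := congrArg Subtype.val (hb ⟨j, hj⟩)
  exact mul_inv_eq_iff_eq_mul.1 this

theorem par_end {H N J : Subgroup G} (t2 : t * t = 1) (hJ : J ≤ centralizer {t}) {s : G} (h1 : t * s ∈ H)
    (h2 : s ≠ t) (h3 : s ∈ centralizer (J : Set G)) (h4 : ∃ n ∈ N, n * t * n⁻¹ = s) :
    ∃ h ∈ H, h ≠ 1 ∧ h ∈ centralizer (J : Set G) ∧ ∃ n ∈ N, n * t * n⁻¹ = t * h := by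
  refine ⟨t * s, h1, fun e => h2 ?_, mul_mem ?_ h3, ?_⟩
  · rw [← mul_right_inj t, e, t2]
  · exact mem_centralizer_iff.2 fun j hj => mem_centralizer_singleton_iff.1 (hJ hj)
  · rwa [← mul_assoc, t2, one_mul]

/-- the orbit of `t` lies in the coset `t H` -/
theorem par1 {H N K J : Subgroup G} (t2 : t * t = 1) (tH : t ∉ H) (H2 : ∀ h ∈ H, h * h = 1)
    (Ht : ∀ h ∈ H, h * t = t * h) (hN : N ≤ normalizer (H : Set G))
    (hN' : N ≤ normalizer ((H ⊔ zpowers t : Subgroup G) : Set G)) (hK : K ≤ N ⊓ centralizer {t})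
    (hK' : ∀ h ∈ H, (∀ k ∈ K, Commute k h) → h = 1) (hJ : J ≤ N ⊓ centralizer {t}) (J2 : IsPGroup 2 J)
    (hn : ∃ n ∈ N, n * t * n⁻¹ ≠ t) :
    ∃ h ∈ H, h ≠ 1 ∧ h ∈ centralizer (J : Set G) ∧ ∃ n ∈ N, n * t * n⁻¹ = t * h := by
  classical
  set O : Finset G := (Set.toFinite {y | ∃ n ∈ N, n * t * n⁻¹ = y}).toFinset with hO
  have mO : ∀ {y : G}, y ∈ O ↔ ∃ n ∈ N, n * t * n⁻¹ = y := fun {y} => by simp [hO]
  have tB : t ∈ H ⊔ zpowers t := mem_sup_right (mem_zpowers t)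
  have OB : ∀ s ∈ O, s ∈ H ⊔ zpowers t := fun s hs => by
    obtain ⟨n, hn, rfl⟩ := mO.1 hs
    exact (mem_normalizer_iff.1 (hN' hn) t).1 tB
  have OH : ∀ s ∈ O, t * s ∈ H := fun s hs => by
    refine (par_mem t2 Ht (OB s hs)).resolve_left fun h => tH ?_
    obtain ⟨n, hn, rfl⟩ := mO.1 hs
    exact (mem_normalizer_iff.1 (hN hn) t).2 h
  have tO : t ∈ O := mO.2 ⟨1, N.one_mem, by simp⟩
  have cO : ∀ g ∈ N, ∀ s ∈ O, g * s * g⁻¹ ∈ O := fun g hg s hs => by
    obtain ⟨n, hn, rfl⟩ := mO.1 hs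
    exact mO.2 ⟨g * n, N.mul_mem hg hn, by group⟩
  rcases Nat.even_or_odd O.card with he | ho
  · obtain ⟨s, hs, h2, h3⟩ := par_fix J2 (fun j hj => cO j (hJ hj).1) tO (hJ.trans inf_le_right) he
    exact par_end t2 (hJ.trans inf_le_right) (OH s hs) h2 h3 (mO.1 hs)
  exfalso
  have cB : ∀ {a b : G}, a ∈ H ⊔ zpowers t → b ∈ H ⊔ zpowers t → Commute a b :=
    par_comm fun b hb => par_sq t2 H2 Ht hb
  have c1 : (O : Set G).Pairwise (Function.onFun Commute id) := fun x hx y hy _ => cB (OB x hx) (OB y hy)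
  have c2 : (O : Set G).Pairwise (Function.onFun Commute fun _ => t) := fun x hx y hy _ => Commute.refl t
  have c3 : (O : Set G).Pairwise fun x y => Commute (id x) ((fun _ => t) y) := fun x hx y hy _ => cB (OB x hx) tB
  have fx : ∀ g ∈ N, g * O.noncommProd id c1 * g⁻¹ = O.noncommProd id c1 := fun g hg => by
    have e : O.map (MulAut.conj g).toEquiv.toEmbedding = O := by
      refine Finset.eq_of_subset_of_card_le (fun y hy => ?_) (Finset.card_map _).ge
      obtain ⟨s, hs, rfl⟩ := Finset.mem_map.1 hy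
      exact cO g hg s hs
    have e2 : (O.val.map id).map (MulAut.conj g) = O.val.map id := by
      rw [Multiset.map_id]
      exact congrArg Finset.val e
    change MulAut.conj g (O.noncommProd id c1) = _
    unfold Finset.noncommProd
    rw [Multiset.map_noncommProd]
    congr 1
  have e1 := Finset.noncommProd_mul_distrib (s := O) (fun _ => t) id c2 c1 c3
  have e2 : O.noncommProd (fun _ => t) c2 = t := by
    rw [Finset.noncommProd_eq_pow_card O _ c2 t fun _ _ => rfl]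
    obtain ⟨m, hm⟩ := ho
    rw [hm, pow_succ, pow_mul, sq, t2, one_pow, one_mul]
  have e3 : t * O.noncommProd id c1 ∈ H := by
    rw [← e2, ← e1]
    exact H.noncommProd_mem _ fun s hs => OH s hs
  have e4 := hK' _ e3 fun k hk => Commute.mul_right (mem_centralizer_singleton_iff.1 (hK hk).2)
    (mul_inv_eq_iff_eq_mul.1 (fx k (hK hk).1))
  obtain ⟨n, hn, hne⟩ := hn
  apply hne
  rw [eq_inv_of_mul_eq_one_left e4, ← conj_inv, fx n hn]

/-- the general case -/
theorem par2 {H N K J : Subgroup G} (t2 : t * t = 1) (tH : t ∉ H) (H2 : ∀ h ∈ H, h * h = 1)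
    (Ht : ∀ h ∈ H, h * t = t * h) (hN : N ≤ normalizer ((H ⊔ zpowers t : Subgroup G) : Set G))
    (hN' : N ⊓ centralizer {t} ≤ normalizer (H : Set G)) (hK : K ≤ N ⊓ centralizer {t})
    (hK' : ∀ h ∈ H, (∀ k ∈ K, Commute k h) → h = 1)
    (hχ : ∀ χ : G → ZMod 2, (∀ a ∈ H, ∀ b ∈ H, χ (a * b) = χ a + χ b) →
      (∀ k ∈ K, ∀ a ∈ H, χ (k * a * k⁻¹) = χ a) → ∀ a ∈ H, χ a = 0)
    (hJ : J ≤ N ⊓ centralizer {t}) (J2 : IsPGroup 2 J) (hn : ∃ n ∈ N, n * t * n⁻¹ ≠ t) :
    ∃ h ∈ H, h ≠ 1 ∧ h ∈ centralizer (J : Set G) ∧ ∃ n ∈ N, n * t * n⁻¹ = t * h := by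
  classical
  set O : Finset G := (Set.toFinite {y | ∃ n ∈ N, n * t * n⁻¹ = y}).toFinset with hO
  have mO : ∀ {y : G}, y ∈ O ↔ ∃ n ∈ N, n * t * n⁻¹ = y := fun {y} => by simp [hO]
  have tB : t ∈ H ⊔ zpowers t := mem_sup_right (mem_zpowers t)
  have nB : ∀ n ∈ N, ∀ b ∈ H ⊔ zpowers t, n * b * n⁻¹ ∈ H ⊔ zpowers t := fun n hn b hb =>
    (mem_normalizer_iff.1 (hN hn) b).1 hb
  have OB : ∀ s ∈ O, s ∈ H ⊔ zpowers t := fun s hs => by
    obtain ⟨n, hn, rfl⟩ := mO.1 hs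
    exact nB n hn t tB
  have tO : t ∈ O := mO.2 ⟨1, N.one_mem, by simp⟩
  have cO : ∀ g ∈ N, ∀ s ∈ O, g * s * g⁻¹ ∈ O := fun g hg s hs => by
    obtain ⟨n, hn, rfl⟩ := mO.1 hs
    exact mO.2 ⟨g * n, N.mul_mem hg hn, by group⟩
  let R : G → G → Prop := fun s b => ∃ n ∈ N, n * t * n⁻¹ = s ∧ n⁻¹ * b * n ∉ H
  have R1 : ∀ n ∈ N, ∀ b, R (n * t * n⁻¹) b ↔ n⁻¹ * b * n ∉ H := fun n hn b => by
    refine ⟨fun ⟨m, hm, e, h⟩ h' => h ?_, fun h => ⟨n, hn, rfl, h⟩⟩
    have h1 : m⁻¹ * n ∈ N ⊓ centralizer {t} := ⟨N.mul_mem (N.inv_mem hm) hn, mem_centralizer_singleton_iff.2 (by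
      calc m⁻¹ * n * t = m⁻¹ * (n * t * n⁻¹) * n := by group
        _ = t * (m⁻¹ * n) := by rw [← e]; group)⟩
    have := (mem_normalizer_iff.1 (hN' h1) _).1 h'
    convert this using 1
    group
  have R2 : ∀ g ∈ N, ∀ s ∈ O, ∀ b, R (g * s * g⁻¹) (g * b * g⁻¹) ↔ R s b := fun g hg s hs b => by
    obtain ⟨n, hn, rfl⟩ := mO.1 hs
    rw [show g * (n * t * n⁻¹) * g⁻¹ = g * n * t * (g * n)⁻¹ by group, R1 _ (N.mul_mem hg hn), R1 n hn,
      show (g * n)⁻¹ * (g * b * g⁻¹) * (g * n) = n⁻¹ * b * n by group]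
  have Rt : ∀ b, R t b ↔ b ∉ H := fun b => by simpa using R1 1 N.one_mem b
  have bij : ∀ g ∈ N, ∀ p q : G → Prop, (∀ s ∈ O, p s ↔ q (g * s * g⁻¹)) →
      (O.filter p).card = (O.filter q).card := fun g hg p q hpq => by
    refine Finset.card_nbij' (fun s => g * s * g⁻¹) (fun s => g⁻¹ * s * g⁻¹⁻¹) (fun s hs => ?_) (fun s hs => ?_)
      (fun s _ => by group) (fun s _ => by group)
    · obtain ⟨h1, h2⟩ := Finset.mem_filter.1 hs
      exact Finset.mem_filter.2 ⟨cO g hg s h1, (hpq s h1).1 h2⟩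
    · obtain ⟨h1, h2⟩ := Finset.mem_filter.1 hs
      refine Finset.mem_filter.2 ⟨cO _ (N.inv_mem hg) s h1, (hpq _ (cO _ (N.inv_mem hg) s h1)).2 ?_⟩
      convert h2 using 1
      group
  let Φ : G → ZMod 2 := fun b => ((O.filter fun s => R s b).card : ZMod 2)
  have Φs : ∀ b, Φ b = ∑ s ∈ O, if R s b then (1 : ZMod 2) else 0 := fun b => by
    simp only [Φ, Finset.card_filter]
    push_cast
    rfl
  have ind : ∀ a ∈ H ⊔ zpowers t, ∀ b ∈ H ⊔ zpowers t,
      (if a * b ∉ H then (1 : ZMod 2) else 0) = (if a ∉ H then 1 else 0) + (if b ∉ H then 1 else 0) := by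
    intro a ha b hb
    by_cases h1 : a ∈ H <;> by_cases h2 : b ∈ H
    · simp [h1, h2, H.mul_mem h1 h2]
    · simp [h1, h2, H.mul_mem_cancel_left h1]
    · simp [h1, h2, H.mul_mem_cancel_right h2]
    · have h3 := (par_mem t2 Ht ha).resolve_left h1
      have h4 := (par_mem t2 Ht hb).resolve_left h2
      have e : a * b = t * a * (t * b) := by
        rw [← mul_assoc, Ht _ h3, ← mul_assoc, t2, one_mul]
      have h5 : a * b ∈ H := e ▸ H.mul_mem h3 h4
      simp only [h1, h2, h5, not_true, not_false_iff, if_true, if_false]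
      rfl
  have Φa : ∀ a ∈ H ⊔ zpowers t, ∀ b ∈ H ⊔ zpowers t, Φ (a * b) = Φ a + Φ b := fun a ha b hb => by
    rw [Φs, Φs, Φs, ← Finset.sum_add_distrib]
    refine Finset.sum_congr rfl fun s hs => ?_
    obtain ⟨n, hn, rfl⟩ := mO.1 hs
    have := ind _ (nB _ (N.inv_mem hn) a ha) _ (nB _ (N.inv_mem hn) b hb)
    rw [inv_inv, show n⁻¹ * a * n * (n⁻¹ * b * n) = n⁻¹ * (a * b) * n by group] at this
    simpa only [R1 n hn] using this
  have Φn : ∀ g ∈ N, ∀ b, Φ (g * b * g⁻¹) = Φ b := fun g hg b => by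
    simp only [Φ]
    rw [bij g hg (fun s => R s b) (fun s => R s (g * b * g⁻¹)) fun s hs => (R2 g hg s hs b).symm]
  have Φ0 := hχ Φ (fun a ha b hb => Φa a (mem_sup_left ha) b (mem_sup_left hb)) fun k hk a _ => Φn k (hK hk).1 a
  by_cases hΦ : Φ t = 0
  · have h1 := Finset.card_mul_eq_card_mul R (s := O) (t := O) (m := (O.filter fun s => R t s).card)
      (n := (O.filter fun s => R s t).card) (fun s hs => by
        obtain ⟨n, hn, rfl⟩ := mO.1 hs
        exact (bij n hn (fun s => R t s) (fun s => R (n * t * n⁻¹) s) fun s _ => (R2 n hn t tO s).symm).symm)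
      (fun s hs => by
        obtain ⟨n, hn, rfl⟩ := mO.1 hs
        exact (bij n hn (fun s => R s t) (fun s => R s (n * t * n⁻¹)) fun s hs => (R2 n hn s hs t).symm).symm)
    have h2 := Nat.eq_of_mul_eq_mul_left (Finset.card_pos.2 ⟨t, tO⟩) h1
    have he : Even (O.filter fun s => R t s).card := by
      rw [h2]
      exact (ZMod.natCast_eq_zero_iff_even).1 hΦ
    obtain ⟨s, hs, h3, h4⟩ := par_fix J2 (O := O.filter fun s => R t s) (fun j hj s hs => by
        obtain ⟨h1, h2⟩ := Finset.mem_filter.1 hs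
        refine Finset.mem_filter.2 ⟨cO j (hJ hj).1 s h1, (Rt _).2 fun h => (Rt _).1 h2 ?_⟩
        exact (mem_normalizer_iff.1 (hN' (hJ hj)) s).2 h)
      (Finset.mem_filter.2 ⟨tO, (Rt t).2 tH⟩) (hJ.trans inf_le_right) he
    obtain ⟨h5, h6⟩ := Finset.mem_filter.1 hs
    exact par_end t2 (hJ.trans inf_le_right) ((par_mem t2 Ht (OB s h5)).resolve_left ((Rt s).1 h6)) h3 h4 (mO.1 h5)
  · refine par1 t2 tH H2 Ht (fun n hn => mem_normalizer_fintype fun a ha => ?_) hN hK hK' hJ J2 hn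
    have h1 := nB n hn a (mem_sup_left ha)
    refine (par_mem t2 Ht h1).resolve_right fun h => hΦ ?_
    have h2 := Φa t tB _ h1
    rwa [Φ0 _ h, Φn n hn, Φ0 a ha, add_zero, eq_comm] at h2

end CfsgLib.SPC
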