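import Cfsg.Agent.Lib.LieMult.ClassHom
import Cfsg.Agent.Lib.St.Weyl

/-! Lifts of root groups satisfying the commutator relations generate a central extension -/

set_option autoImplicit false
set_option linter.unusedSectionVars false

namespace CfsgLib.SPC

open Subgroup CfsgLib.RGD CfsgLib.LieMult
open scoped commutatorElement

variable {ι κ : Type} [Fintype κ] [DecidableEq κ] (Φ : RootSys ι κ) {G E : Type*} [Group G] [Group E]

/-- the commutator relations for all pairs of independent roots -/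
def CommAll (X : ι → Subgroup G) : Prop :=
  ∀ r s, s ≠ r → s ≠ Φ.neg r → ∀ x ∈ X r, ∀ y ∈ X s, ⁅x, y⁆ ∈ UX X {k | CSum Φ r s k}

/-- every simple root group is generated from other root groups -/
def GenX (X : ι → Subgroup G) : Prop :=
  ∀ i, ∃ j, i ≠ j ∧ X (Φ.simple i) ≤
    UX X {s | s = Φ.neg (Φ.simple j) ∨ Φ.Pos s ∧ s ≠ Φ.simple j ∧ s ≠ Φ.simple i}

variable {Φ}

theorem CSum.neg' {r s k : ι} (h : CSum Φ r s k) : CSum Φ (Φ.neg r) (Φ.neg s) (Φ.neg k) :=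
  h.imp (fun h => h.neg) fun ⟨d, h1, h2⟩ => ⟨Φ.neg d, fun j => by
    simp only [Φ.rt_neg, h1 j]; ring, fun j => by simp only [Φ.rt_neg, h2 j]; ring⟩

theorem CommAll.rel {X : ι → Subgroup G} (h : CommAll Φ X) {w : Equiv.Perm ι} (hw : w ∈ Φ.W) :
    CommRel Φ fun r => X (w r) := fun r s hr hs hne x hx y hy => by
  refine UX_le (K := UX (fun r => X (w r)) {k | CSum Φ r s k}) (fun k hk => ?_)
    (h (w r) (w s) (fun e => hne (w.injective e).symm) (fun e => Φ.ne_neg_of_pos hr hs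
      (w.injective (e.trans (Φ.apply_neg hw r).symm))) x hx y hy)
  have := le_UX (fun r => X (w r)) (Ψ := {k | CSum Φ r s k}) (r := w⁻¹ k)
    (by simpa using CSum.apply hk (inv_mem hw))
  simpa using this

variable (Φ) in
/-- a set of roots inside a positive system -/
def Good (Ψ : Set ι) : Prop := ∃ w ∈ Φ.W, ∀ r ∈ Ψ, Φ.Pos (w r)

variable (Φ) in
/-- the positive roots other than a simple root -/
def RR (i : κ) : Set ι := {r | Φ.Pos r} \ {Φ.simple i}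

variable (Φ) in
/-- `R` is stable under the sums with `a` -/
def Stab (a : ι) (R : Set ι) : Prop :=
  ∀ s ∈ R, s ≠ a ∧ s ≠ Φ.neg a ∧ ∀ k, CSum Φ a s k → k ∈ R

theorem s_RR {i : κ} {r : ι} (h : r ∈ RR Φ i) : Φ.s i r ∈ RR Φ i :=
  ⟨Φ.pos_s h.1 h.2, Φ.s_ne_simple h.1⟩

theorem stab_pos (i : κ) : Stab Φ (Φ.simple i) (RR Φ i) := fun s hs =>
  ⟨hs.2, Φ.ne_neg_of_pos (Φ.pos_simple i) hs.1, fun k hk => ⟨hk.pos (Φ.pos_simple i) hs.1, by
    rintro rfl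
    have := hk.ht (Φ.pos_simple i) hs.1
    have := ht_simple_le i hs.1
    omega⟩⟩

theorem stab_neg (i : κ) : Stab Φ (Φ.neg (Φ.simple i)) (RR Φ i) := fun s hs =>
  ⟨Φ.ne_neg_of_pos (Φ.pos_simple i) hs.1, by rw [Φ.neg_neg]; exact hs.2, fun k hk => by
    have h1 := hk.apply (Φ.s_mem_W i)
    rw [Φ.s_neg_simple] at h1
    simpa [Φ.s_s] using s_RR ((stab_pos i _ (s_RR hs)).2.2 _ h1)⟩

theorem Stab.neg {a : ι} {R : Set ι} (h : Stab Φ a R) : Stab Φ (Φ.neg a) {r | Φ.neg r ∈ R} :=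
  fun s hs => ⟨fun e => (h _ hs).1 (by rw [e, Φ.neg_neg]),
    fun e => (h _ hs).2.1 (by rw [e, Φ.neg_neg]), fun k hk => (h _ hs).2.2 _ (by
      simpa only [Φ.neg_neg] using CSum.neg' hk)⟩

theorem CommAll.conj {X : ι → Subgroup G} (h : CommAll Φ X) {a : ι} {R : Set ι} (hR : Stab Φ a R) :
    ∀ g ∈ X a, ∀ x ∈ UX X R, g * x * g⁻¹ ∈ UX X R := fun g hg => conj_mem_UX fun s hs y hy => by
  rw [show g * y * g⁻¹ = ⁅g, y⁆ * y by simp [commutatorElement_def]]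
  exact mul_mem (UX_mono X (hR s hs).2.2 (h a s (hR s hs).1 (hR s hs).2.1 g hg y hy))
    (le_UX X hs hy)

theorem CommAll.conj_pos {X : ι → Subgroup G} (h : CommAll Φ X) (i : κ) :
    ∀ g ∈ X (Φ.simple i) ⊔ X (Φ.neg (Φ.simple i)), ∀ x ∈ UX X (RR Φ i),
      g * x * g⁻¹ ∈ UX X (RR Φ i) :=
  conj_mem_of_mem_sup (h.conj (stab_pos i)) (h.conj (stab_neg i))

theorem CommAll.conj_neg {X : ι → Subgroup G} (h : CommAll Φ X) (i : κ) :
    ∀ g ∈ X (Φ.simple i) ⊔ X (Φ.neg (Φ.simple i)), ∀ x ∈ UX X {r | Φ.neg r ∈ RR Φ i},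
      g * x * g⁻¹ ∈ UX X {r | Φ.neg r ∈ RR Φ i} :=
  conj_mem_of_mem_sup (h.conj (by simpa only [Φ.neg_neg] using (stab_neg (Φ := Φ) i).neg))
    (h.conj (stab_pos i).neg)

/-- lifts of the root groups -/
structure Cov (S : RGSys (toData Φ) G) (π : E →* G) (A : ι → Subgroup E) : Prop where
  hU : S.U = UX S.X {r | Φ.Pos r}
  hX : CommAll Φ S.X
  hg : GenX Φ S.X
  hA : CommAll Φ A
  h1 : ∀ r, (A r).map π = S.X r
  h2 : ∀ r, ∀ a ∈ A r, π a = 1 → a = 1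

namespace Cov

variable [Finite ι] {S : RGSys (toData Φ) G} {π : E →* G} {A : ι → Subgroup E} (c : Cov S π A)
include c

theorem mapU (Ψ : Set ι) : (UX A Ψ).map π = UX S.X Ψ := by rw [map_UX, funext c.h1]

theorem mem {r : ι} {a : E} (h : a ∈ A r) : π a ∈ S.X r := c.h1 r ▸ mem_map_of_mem π h

theorem inj {Ψ : Set ι} (h : Good Φ Ψ) {x : E} (hx : x ∈ UX A Ψ) (e : π x = 1) : x = 1 := by
  obtain ⟨w, hw, h⟩ := h
  obtain ⟨L, hL⟩ := Φ.mem_W_iff.1 (inv_mem hw)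
  refine (compl_of_commRel S c.hU (by simpa using c.hX.rel (one_mem _))
    (π := (MulAut.conj (S.nprod L)⁻¹).toMonoidHom.comp π) (c.hA.rel (inv_mem hw)) (fun r => ?_)
    (fun r a ha e => c.h2 _ a ha ((MulAut.conj (S.nprod L)⁻¹).map_eq_one_iff.1 e))).1 x (UX_le (fun r hr => ?_) hx) (by simp [e])
  · rw [← map_map, c.h1, hL, ← toData_w]
    refine le_antisymm ?_ fun y hy => ⟨_, S.nprod_X L r hy, by simp [mul_assoc]⟩
    rintro _ ⟨y, hy, rfl⟩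
    simpa using S.nprod_inv_X L r hy
  · simpa using le_UX (fun r => A (w⁻¹ r)) (Ψ := {r | Φ.Pos r}) (h r hr)

theorem liftU {Ψ Ψ' : Set ι} (h : Good Φ Ψ) (h' : Ψ' ⊆ Ψ) {x : E} (hx : x ∈ UX A Ψ)
    (e : π x ∈ UX S.X Ψ') : x ∈ UX A Ψ' := by
  rw [← c.mapU] at e
  obtain ⟨y, hy, e⟩ := e
  have := c.inj h (mul_mem (inv_mem (UX_mono A h' hy)) hx) (by simp [e])
  exact inv_mul_eq_one.1 this ▸ hy

theorem lift {Ψ : Set ι} (h : Good Φ Ψ) {r : ι} (hr : r ∈ Ψ) {x : E} (hx : x ∈ UX A Ψ)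
    (e : π x ∈ S.X r) : x ∈ A r := by
  rw [← c.h1] at e
  obtain ⟨y, hy, e⟩ := e
  have := c.inj h (mul_mem (inv_mem (le_UX A hr hy)) hx) (by simp [e])
  exact inv_mul_eq_one.1 this ▸ hy

section

variable {i : κ} {g : E} (hg : g ∈ A (Φ.simple i) ⊔ A (Φ.neg (Φ.simple i))) {w : Equiv.Perm ι}
  (hw : w ∈ Φ.W) (hR : ∀ r ∈ RR Φ i, w r ∈ RR Φ i)
  (H : ∀ r, ∀ x ∈ S.X r, π g * x * (π g)⁻¹ ∈ S.X (w r))
include hg hw hR H

theorem act1 {r : ι} (h : r ≠ Φ.simple i) (h' : r ≠ Φ.neg (Φ.simple i)) {x : E} (hx : x ∈ A r) :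
    g * x * g⁻¹ ∈ A (w r) := by
  have e : π (g * x * g⁻¹) ∈ S.X (w r) := by simpa using H r _ (c.mem hx)
  rcases Φ.pos_or_neg r with hr | hr
  · exact c.lift ⟨1, one_mem _, fun _ h => h.1⟩ (hR r ⟨hr, h⟩)
      (c.hA.conj_pos i g hg x (le_UX A (by exact ⟨hr, h⟩) hx)) e
  · obtain ⟨v, hv, -, h0⟩ := Φ.exists_w0
    have h1 : Φ.neg r ∈ RR Φ i := ⟨Φ.pos_neg_iff.2 hr, fun e => h' (Φ.neg_eq_iff.1 e)⟩
    exact c.lift (Ψ := {r | Φ.neg r ∈ RR Φ i}) ⟨v, hv, fun s h => h0 s (Φ.pos_neg_iff.1 h.1)⟩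
      (show Φ.neg (w r) ∈ RR Φ i from Φ.apply_neg hw r ▸ hR _ h1)
      (c.hA.conj_neg i g hg x (le_UX A (r := r) (by exact h1) hx)) e

theorem act2 {x : E} (hx : x ∈ A (Φ.simple i)) : g * x * g⁻¹ ∈ A (w (Φ.simple i)) := by
  obtain ⟨j, hj, h⟩ := c.hg i
  have h0 : Φ.Pos (Φ.s j (Φ.simple i)) :=
    Φ.pos_s (Φ.pos_simple i) fun e => hj (Φ.simple_injective e)
  have h1 : {s | s = Φ.neg (Φ.simple j) ∨ Φ.Pos s ∧ s ≠ Φ.simple j ∧ s ≠ Φ.simple i} ⊆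
      {s | Φ.Pos (Φ.s j s)} := by
    rintro s (rfl | hs)
    · simpa only [Set.mem_setOf_eq, Φ.s_neg_simple] using Φ.pos_simple j
    · exact Φ.pos_s hs.1 hs.2.1
  have h2 := c.liftU ⟨_, Φ.s_mem_W j, fun _ h => h⟩ h1 (le_UX A (by exact h0) hx) (h (c.mem hx))
  refine c.lift (Ψ := {s | Φ.Pos ((Φ.s j * w⁻¹) s)}) ⟨_, mul_mem (Φ.s_mem_W j) (inv_mem hw),
    fun _ h => h⟩ (by simpa using h0) (conj_mem_UX (fun s hs y hy => le_UX A (r := w s)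
      (by simpa using h1 hs) (c.act1 hg hw hR H ?_ ?_ hy)) x h2) (by simpa using H _ _ (c.mem hx))
  · rcases hs with rfl | hs
    exacts [(Φ.ne_neg_of_pos (Φ.pos_simple j) (Φ.pos_simple i)).symm, hs.2.2]
  · rcases hs with rfl | hs
    exacts [fun e => hj (Φ.simple_injective (Φ.neg_injective e)).symm,
      Φ.ne_neg_of_pos (Φ.pos_simple i) hs.1]

end

theorem exists_n (i : κ) : ∃ n ∈ A (Φ.simple i) ⊔ A (Φ.neg (Φ.simple i)), π n = S.n i := by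
  have := S.n_mem i
  rwa [← c.h1, ← c.h1, ← Subgroup.map_sup] at this

theorem act {i : κ} {g : E} (hg : g ∈ A (Φ.simple i) ⊔ A (Φ.neg (Φ.simple i)))
    {w : Equiv.Perm ι} (hw : w ∈ Φ.W) (hR : ∀ r ∈ RR Φ i, w r ∈ RR Φ i)
    (H : ∀ r, ∀ x ∈ S.X r, π g * x * (π g)⁻¹ ∈ S.X (w r)) (r : ι) (x : E) (hx : x ∈ A r) :
    g * x * g⁻¹ ∈ A (w r) := by
  by_cases h : r = Φ.simple i
  · subst h
    exact c.act2 hg hw hR H hx
  by_cases h' : r = Φ.neg (Φ.simple i)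
  swap
  · exact c.act1 hg hw hR H h h' hx
  subst h'
  obtain ⟨n, hn, e⟩ := c.exists_n i
  have h1 := S.n_inv_X i (Φ.simple i) (x := π x)
    (by rw [show (toData Φ).s i (Φ.simple i) = _ from Φ.s_simple i]; exact c.mem hx)
  rw [← c.h1] at h1
  obtain ⟨a, ha, e1⟩ := h1
  have h2 := c.act2 hn (Φ.s_mem_W i) (fun _ => s_RR) (e ▸ S.n_X i) ha
  rw [Φ.s_simple] at h2
  have h3 := c.h2 _ _ (mul_mem (inv_mem hx) h2) (by simp [e, e1, mul_assoc])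
  have h4 := c.act2 (mul_mem hg hn) (mul_mem hw (Φ.s_mem_W i)) (fun r hr => hR _ (s_RR hr))
    (fun r y hy => by simpa [e, mul_assoc] using H (Φ.s i r) _ (S.n_X i r y hy)) ha
  rw [inv_mul_eq_one.1 h3]
  simpa [Φ.s_simple, mul_assoc] using h4

/-- the lifts of the `n i` -/
noncomputable def n (i : κ) : E := (c.exists_n i).choose

theorem n_mem (i : κ) : c.n i ∈ A (Φ.simple i) ⊔ A (Φ.neg (Φ.simple i)) :=
  (c.exists_n i).choose_spec.1

theorem map_n (i : κ) : π (c.n i) = S.n i := (c.exists_n i).choose_spec.2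

theorem not_le (r : ι) (hr : ¬ Φ.Pos r) : ¬ (A r).map π ≤ (UX A {r | Φ.Pos r}).map π := by
  rw [c.h1, c.mapU, ← c.hU]; exact S.X_not_le_U r hr

theorem T_X (i : κ) (t : E) (ht : t ∈ (A (Φ.simple i) ⊔ A (Φ.neg (Φ.simple i))) ⊓ (S.T i).comap π) :
    ∀ r, ∀ x ∈ A r, t * x * t⁻¹ ∈ A r :=
  c.act ht.1 (one_mem _) (fun _ h => h) (S.T_X i _ ht.2)

/-- the root group system of the cover -/
noncomputable def sys : RGSys (toData Φ) E where
  X := A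
  U := UX A {r | Φ.Pos r}
  n := c.n
  T i := (A (Φ.simple i) ⊔ A (Φ.neg (Φ.simple i))) ⊓ (S.T i).comap π
  X_le_U _ hr := le_UX A hr
  X_not_le_U r hr e := c.not_le r hr (map_mono e)
  U_fact i u hu := by
    obtain ⟨x, hx, v, hv, rfl⟩ := CommRel.split (X := A) (by simpa using c.hA.rel (one_mem _))
      cClosed_pos (Φ.pos_simple i) (fun _ => ht_simple_le i) hu
    refine ⟨x, hx, UX_mono A (Ψ := RR Φ i) (fun _ h => h.1) ?_⟩
    simpa using c.hA.conj_pos i _ (inv_mem (c.n_mem i)) v hv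
  n_X i := c.act (c.n_mem i) (Φ.s_mem_W i) (fun _ => s_RR) (c.map_n i ▸ S.n_X i)
  T_X := c.T_X
  T_U i t ht := conj_mem_UX fun r hr x hx => le_UX A hr (c.T_X i t ht r x hx)
  n_mem := c.n_mem
  T_le _ := inf_le_left
  n_T i t ht := mem_inf.2 ⟨mul_mem (mul_mem (c.n_mem i) ht.1) (inv_mem (c.n_mem i)), by
    rw [mem_comap, map_mul, map_mul, map_inv, c.map_n]; exact S.n_T i _ ht.2⟩
  n_sq i := mem_inf.2 ⟨mul_mem (c.n_mem i) (c.n_mem i), by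
    rw [mem_comap, map_mul, c.map_n]; exact S.n_sq i⟩
  rank_one i y hy h := by
    obtain ⟨a, ha, t, ht, b, hb, e⟩ := S.rank_one i _ (c.mem hy) fun e => h (c.h2 _ _ hy e)
    rw [← c.h1] at ha hb
    obtain ⟨a, ha, rfl⟩ := ha
    obtain ⟨b, hb, rfl⟩ := hb
    refine ⟨a, ha, (c.n i)⁻¹ * (a⁻¹ * y * b⁻¹), mem_inf.2 ⟨mul_mem (inv_mem (c.n_mem i))
      (mul_mem (mul_mem (inv_mem (mem_sup_left ha)) (mem_sup_right hy))
        (inv_mem (mem_sup_left hb))), ?_⟩, b, hb, by group⟩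
    simpa [c.map_n, e, mul_assoc] using ht

end Cov

/-- **GST** -/
theorem gst [Finite ι] [Finite E] (S : RGSys (toData Φ) G) (hU : S.U = UX S.X {r | Φ.Pos r})
    (hX : CommAll Φ S.X) (hg : GenX Φ S.X) (hT : ∀ u ∈ S.U, u ∈ S.Tor → u = 1) {π : E →* G}
    {A : ι → Subgroup E} (hA : CommAll Φ A) (h1 : ∀ r, (A r).map π = S.X r)
    (h2 : ∀ r, ∀ a ∈ A r, π a = 1 → a = 1) (hgen : ⨆ r, A r = ⊤) : π.ker ≤ center E := by
  have c : Cov S π A := ⟨hU, hX, hg, hA, h1, h2⟩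
  refine (c.sys.ker_le_Tor_inf_center π hgen (RGSys.grp_eq_top c.sys hgen) c.not_le
    (fun u hu t ht e => ?_) h2).trans inf_le_right
  have h3 : π t ∈ S.Tor := (iSup_le fun i => inf_le_right.trans (comap_mono (S.T_le_Tor i)) :
    c.sys.Tor ≤ S.Tor.comap π) ht
  rw [map_mul, ← eq_inv_iff_mul_eq_one] at e
  exact c.inj ⟨1, one_mem _, fun _ h => h⟩ hu
    (hT _ (hU ▸ c.mapU _ ▸ mem_map_of_mem π hu) (e ▸ inv_mem h3))

end CfsgLib.SPC
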