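import Cfsg.Agent.Lib.SPC.Geo

/-! Radicals and stabilisers in the symplectic group -/

set_option autoImplicit false
set_option linter.unusedSectionVars false
set_option linter.unusedVariables false

namespace CfsgLib.SPC

open Subgroup Module CfsgLib.Forms CfsgLib.LieMult
open CfsgLib.HX (Std CO Two Mv M2)
open CfsgLib.UN (AV SI TI HH Rad Stb Yg Rg Eg Act nu)
open CfsgLib.ClSys (II)
open Submodule (span)
open scoped commutatorElement Pointwise

universe u

variable {F : Type} [Field F] [Finite F] {V : Type} [AddCommGroup V] [Module F V]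
  [FiniteDimensional F V] {P : PQ (RingHom.id F) V} {S : Type} [Group S] [Finite S] {G : Type u}
  [Group G] [Finite G] {C : CG P S} {φ : S →* G} {t : G}

theorem rad_le_fix (U : Submodule F V) : Rad C U ≤ C.fixG U := fun _ hs => hs.1

theorem fix_le_stb (U : Submodule F V) : C.fixG U ≤ Stb C U := fun s hs v =>
  ⟨fun hv => by rw [← (C.act s).injective (hs _ hv)]; exact hv, fun hv => by rw [hs v hv]; exact hv⟩

theorem ti_span {s : Set V} : TI P (span F s) ↔ ∀ a ∈ s, ∀ b ∈ s, P.B a b = 0 :=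
  Submodule.span_le.trans ⟨fun H a ha _ hb => P.mem_perp_span.1 (H hb) a ha,
    fun H _ hb => P.mem_perp_span.2 fun a ha => H a ha _ hb⟩

theorem mem_fix_span {s : Set V} {g : S} : g ∈ C.fixG (span F s) ↔ ∀ a ∈ s, C.act g a = a := by
  refine ⟨fun H a ha => H a (Submodule.subset_span ha), fun H v hv => ?_⟩
  induction hv using Submodule.span_induction with
  | mem a ha => exact H a ha
  | zero => exact map_zero _
  | add a b _ _ h1 h2 => rw [map_add, h1, h2]
  | smul c a _ h1 => rw [map_smul, h1]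

theorem mem_fix_pt {e : V} {g : S} : g ∈ C.fixG (span F {e}) ↔ C.act g e = e := by
  simp [mem_fix_span]

theorem mem_fix_pair {e a : V} {g : S} :
    g ∈ C.fixG (span F {e, a}) ↔ C.act g e = e ∧ C.act g a = a := by
  simp [mem_fix_span]

theorem fix_anti {U W : Submodule F V} (e : U ≤ W) : C.fixG W ≤ C.fixG U := fun _ hs v hv => hs v (e hv)


namespace Mod

variable (h : Mod C) {U : Submodule F V} {e f e' f' a : V}
include h

theorem ti_pt (e : V) : TI P (span F {e}) :=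
  ti_span.2 (by rintro _ rfl _ rfl; exact h.B_self _)

theorem ti_pair (k : P.B e a = 0) : TI P (span F {e, a}) :=
  ti_span.2 (by
    rintro b (rfl | rfl) c (rfl | rfl)
    exacts [h.B_self _, k, (h.B_comm _ _).trans k, h.B_self _])

theorem T_mem_fix {p : V} (k : P.B p a = 0) (hp : p ∈ P.perp U) (ha : a ∈ P.perp U) (c : F) :
    C.T p a c ∈ C.fixG U :=
  fun v hv => C.T_fix (h.tok.2 k) (P.mem_perp'.1 hp v hv) (P.mem_perp'.1 ha v hv)

theorem T_mem_rad (hU : TI P U) {p : V} (hp : p ∈ U) (ha : a ∈ P.perp U) (c : F) :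
    C.T p a c ∈ Rad C U :=
  ⟨h.T_mem_fix (P.mem_perp.1 ha p hp) (hU hp) ha c, fun v hv => by
    rw [C.T_perp (h.tok.2 (P.mem_perp.1 ha p hp)) (P.mem_perp.1 hv p hp), add_sub_cancel_left]
    exact U.smul_mem _ hp⟩

theorem T_mem_E (hU : TI P U) {p : V} (hp : p ∈ U) (ha : a ∈ U) (c : F) :
    C.T p a c ∈ C.fixG (P.perp U) :=
  fun _ hv => C.T_fix (h.tok.2 (P.mem_perp.1 (hU ha) p hp)) (P.mem_perp.1 hv p hp)
    (P.mem_perp.1 hv a ha)

theorem E_le_rad (hU : TI P U) : C.fixG (P.perp U) ≤ Rad C U := fun _ hs =>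
  ⟨fun v hv => hs v (hU hv), fun v hv => by rw [hs v hv, sub_self]; exact zero_mem _⟩

theorem fix_range {s : S} (hs : s ∈ C.fixG U) (v : V) : C.act s v - v ∈ P.perp U :=
  P.mem_perp.2 fun w hw => by rw [map_sub, ← C.B_act s w v, hs w hw, sub_self]

theorem E_range {s : S} (hs : s ∈ C.fixG (P.perp U)) (v : V) : C.act s v - v ∈ U := by
  have := h.fix_range hs v
  rwa [h.perp_perp] at this

theorem adj_aux (hU : TI P U) {s : S} (hs : s ∈ C.fixG (P.perp U)) (v w : V) :
    P.B (C.act s v - v) w = P.B v (C.act s w - w) := by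
  have a1 := P.mem_perp.1 (hU (h.E_range hs w)) _ (h.E_range hs v)
  have a2 := C.B_act s v w
  simp only [P.B_sub_left, P.B_sub_right] at a1 ⊢
  linear_combination a2 - a1 + (P.B v w - P.B v (C.act s w)) * h.two

theorem rad_hp_aux (k : P.B e f = 1) {s : S} :
    s ∈ Rad C (span F {e}) ↔ ∃ a c, P.B e a = 0 ∧ P.B f a = 0 ∧ s = C.T e a c := by
  refine ⟨fun hs => ?_, ?_⟩
  swap
  · rintro ⟨a, c, k1, -, rfl⟩
    exact h.T_mem_rad (h.ti_pt e) (Submodule.mem_span_singleton_self e)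
      (P.mem_perp_span_singleton.2 k1) c
  have se := mem_fix_pt.1 (rad_le_fix _ hs)
  obtain ⟨a, a1, a2, a3⟩ := h.hp_decomp k (C.act s f)
  have d1 : P.B e (C.act s f) = 1 := by rw [← k, ← C.B_act s e f, se]
  rw [d1] at a3
  obtain ⟨c, hc⟩ : ∃ c, c = P.B f (C.act s f) := ⟨_, rfl⟩
  rw [← hc] at a3
  have b1 : ∀ v, P.B e v = 0 → C.act s v = v + P.B a v • e := fun v v1 => by
    obtain ⟨α, e1⟩ := Submodule.mem_span_singleton.1 (hs.2 v (P.mem_perp_span_singleton.2 v1))
    have e2 : C.act s v = v + α • e := by linear_combination (norm := module) -e1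
    have g1 := C.B_act s f v
    rw [e2, P.B_add_right, P.B_smul_right, h.B_comm _ e, d1, a3] at g1
    simp only [P.B_add_left, h.B_smul_left, v1] at g1
    rw [e2, show α = P.B a v from h.eq_of_add (by linear_combination g1)]
  refine ⟨a, c, a1, a2, C.ext fun v => ?_⟩
  have b2 := b1 (v - P.B e v • f) (by simp [k])
  rw [map_sub, map_smul, P.B_sub_right, P.B_smul_right, h.B_comm a f, a2, a3] at b2
  rw [h.T_app a1]
  linear_combination (norm := module) b2

theorem mem_rad_pt (h0 : e ≠ 0) {s : S} :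
    s ∈ Rad C (span F {e}) ↔ ∃ a c, P.B e a = 0 ∧ s = C.T e a c := by
  obtain ⟨f, hf⟩ := h.exists_hp h0
  rw [h.rad_hp_aux hf]
  refine ⟨fun ⟨a, c, k, _, e1⟩ => ⟨a, c, k, e1⟩, ?_⟩
  rintro ⟨a, c, k, rfl⟩
  exact (h.rad_hp_aux hf).1 (h.T_mem_rad (h.ti_pt e) (Submodule.mem_span_singleton_self e)
    (P.mem_perp_span_singleton.2 k) c)

theorem mem_rad_hp (k : P.B e f = 1) {s : S} :
    s ∈ Rad C (span F {e}) ↔ ∃ a c, P.B e a = 0 ∧ P.B f a = 0 ∧ s = C.T e a c := h.rad_hp_aux k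

theorem mem_E_pt {s : S} : s ∈ C.fixG (P.perp (span F {e})) ↔ ∃ r, s = C.T e 0 r := by
  refine ⟨fun hs => ?_, ?_⟩
  · by_cases h0 : e = 0
    · subst h0
      refine ⟨0, C.ext fun v => ?_⟩
      rw [hs v (P.mem_perp_span_singleton.2 (by simp)), h.z_app]; simp
    obtain ⟨f, hf⟩ := h.exists_hp h0
    obtain ⟨r, hr⟩ := Submodule.mem_span_singleton.1 (h.E_range hs f)
    refine ⟨r, C.ext fun v => ?_⟩
    have a1 := hs (v - P.B e v • f) (P.mem_perp_span_singleton.2 (by simp [hf]))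
    rw [map_sub, map_smul] at a1
    rw [h.z_app]
    linear_combination (norm := module) a1 - P.B e v • hr
  · rintro ⟨r, rfl⟩
    exact h.T_mem_E (h.ti_pt e) (Submodule.mem_span_singleton_self e) (zero_mem _) r

theorem line_app (k : P.B e a = 0) (r v r' : F) (x : V) :
    C.act (C.T e 0 r * C.T e (v • a) 0 * C.T a 0 r') x =
      x + (r * P.B e x + v * P.B a x) • e + (v * P.B e x + r' * P.B a x) • a := by
  have k' : P.B e (v • a) = 0 := by simp [k]
  simp only [C.mul_apply, h.z_app, h.x_app k', map_add, map_smul, smul_eq_mul, k,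
    h.B_self, LinearMap.smul_apply]
  module

theorem mem_E_line (k : Ln P e a) {s : S} : s ∈ C.fixG (P.perp (span F {e, a})) ↔
    ∃ r v r' : F, s = C.T e 0 r * C.T e (v • a) 0 * C.T a 0 r' := by
  have he : e ∈ span F {e, a} := Submodule.subset_span (by simp)
  have he' : a ∈ span F {e, a} := Submodule.subset_span (by simp)
  have ti := h.ti_pair k.perp
  refine ⟨fun hs => ?_, ?_⟩
  swap
  · rintro ⟨r, v, r', rfl⟩
    exact mul_mem (mul_mem (h.T_mem_E ti he (zero_mem _) _)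
      (h.T_mem_E ti he (Submodule.smul_mem _ _ he') _)) (h.T_mem_E ti he' (zero_mem _) _)
  obtain ⟨f, f', k'⟩ := h.hh_of_ln k
  obtain ⟨r, v, a1⟩ := Submodule.mem_span_pair.1 (h.E_range hs f)
  obtain ⟨u, r', a2⟩ := Submodule.mem_span_pair.1 (h.E_range hs f')
  have b2 := h.adj_aux ti hs f f'
  have c1 := h.hp_iff.1 k'.h₁
  have c2 := h.hp_iff.1 k'.h₂
  simp only [← a1, ← a2, P.B_add_left, P.B_add_right, h.B_smul_left, P.B_smul_right, k'.ef, c2,
    k'.fe, h.B_comm f e, c1, mul_zero, mul_one, add_zero, zero_add] at b2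
  refine ⟨r, v, r', C.ext fun x => ?_⟩
  obtain ⟨w, w1, -, w3, -, w5⟩ := h.hh_decomp k' x
  rw [h.line_app k.perp]
  conv_lhs => rw [w5]
  rw [map_add, map_add, map_add, map_add, map_smul, map_smul, map_smul, map_smul,
    hs w (CG.mem_perp_pair.2 ⟨w1, w3⟩), hs e (ti he), hs a (ti he'), eq_sub_iff_add_eq.1 a1 |>.symm,
    eq_sub_iff_add_eq.1 a2 |>.symm, ← b2]
  linear_combination (norm := module) -w5

theorem E_line_inj (k : Ln P e a) {r v r' s u s' : F}
    (e1 : C.T e 0 r * C.T e (v • a) 0 * C.T a 0 r' = C.T e 0 s * C.T e (u • a) 0 * C.T a 0 s') :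
    r = s ∧ v = u ∧ r' = s' := by
  obtain ⟨f, f', k'⟩ := h.hh_of_ln k
  have c1 := h.hp_iff.1 k'.h₁
  have c2 := h.hp_iff.1 k'.h₂
  have a1 := congrArg (fun g => C.act g f) e1
  have a2 := congrArg (fun g => C.act g f') e1
  simp only [h.line_app k.perp, c1, c2, k'.ef, h.B_comm a f, k'.fe, mul_zero, mul_one, add_zero,
    zero_add, add_assoc, add_right_inj] at a1 a2
  exact ⟨(h.ln_inj k a1).1, (h.ln_inj k a1).2, (h.ln_inj k a2).2⟩

theorem mem_rad_line (k : HH P e f e' f') {s : S} : s ∈ Rad C (span F {e, e'}) ↔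
    ∃ a b, (P.B e a = 0 ∧ P.B f a = 0 ∧ P.B e' a = 0 ∧ P.B f' a = 0) ∧
      (P.B e b = 0 ∧ P.B f b = 0 ∧ P.B e' b = 0 ∧ P.B f' b = 0) ∧
      ∃ ε ∈ C.fixG (P.perp (span F {e, e'})), s = C.T e a 0 * C.T e' b 0 * ε := by
  have he : e ∈ span F {e, e'} := Submodule.subset_span (by simp)
  have he' : e' ∈ span F {e, e'} := Submodule.subset_span (by simp)
  have ti := h.ti_pair k.ee
  have m : ∀ {p a : V}, p ∈ span F {e, e'} → P.B e a = 0 → P.B e' a = 0 →
      C.T p a 0 ∈ Rad C (span F {e, e'}) := fun hp h1 h2 =>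
    h.T_mem_rad ti hp (CG.mem_perp_pair.2 ⟨h1, h2⟩) 0
  refine ⟨fun hs => ?_, ?_⟩
  swap
  · rintro ⟨a, b, ha, hb, ε, hε, rfl⟩
    exact mul_mem (mul_mem (m he ha.1 ha.2.2.1) (m he' hb.1 hb.2.2.1)) (h.E_le_rad ti hε)
  have c1 := h.hp_iff.1 k.h₁
  have c2 := h.hp_iff.1 k.h₂
  have se := hs.1 e he
  have se' := hs.1 e' he'
  obtain ⟨a, a1, a2, a3, a4, a5⟩ := h.hh_decomp k (C.act s f)
  obtain ⟨b, b1, b2, b3, b4, b5⟩ := h.hh_decomp k (C.act s f')
  have d1 : P.B e (C.act s f) = 1 := by rw [← c1, ← C.B_act s e f, se]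
  have d2 : P.B e' (C.act s f) = 0 := by rw [← k.fe, h.B_comm f, ← C.B_act s e' f, se']
  have d3 : P.B e (C.act s f') = 0 := by rw [← k.ef, ← C.B_act s e f', se]
  have d4 : P.B e' (C.act s f') = 1 := by rw [← c2, ← C.B_act s e' f', se']
  refine ⟨a, b, ⟨a1, a2, a3, a4⟩, ⟨b1, b2, b3, b4⟩, (C.T e a 0 * C.T e' b 0)⁻¹ * s, fun v hv => ?_,
    (mul_inv_cancel_left _ _).symm⟩
  obtain ⟨v1, v2⟩ := CG.mem_perp_pair.1 hv
  obtain ⟨α, β, e1⟩ := Submodule.mem_span_pair.1 (hs.2 v hv)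
  have e2 : C.act s v = v + α • e + β • e' := by linear_combination (norm := module) -e1
  have g1 := C.B_act s f v
  have g2 := C.B_act s f' v
  rw [e2, P.B_add_right, P.B_add_right, P.B_smul_right, P.B_smul_right, h.B_comm _ e,
    h.B_comm _ e'] at g1 g2
  rw [d1, d2, a5, d1, d2] at g1
  rw [d3, d4, b5, d3, d4] at g2
  simp only [P.B_add_left, h.B_smul_left, v1, v2] at g1 g2
  have g3 : α = P.B a v := h.eq_of_add (by linear_combination g1)
  have g4 : β = P.B b v := h.eq_of_add (by linear_combination g2)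
  rw [C.mul_apply]
  refine C.inv_apply_eq ?_
  rw [C.mul_apply, C.T_perp (h.tok.2 b3) v2, C.T_perp (h.tok.2 a1) (by simp [v1, k.ee]), e2, g3, g4,
    P.B_add_right, P.B_smul_right, h.B_comm a e', a3]
  module

theorem E_sq (hU : TI P U) {s : S} (hs : s ∈ C.fixG (P.perp U)) : s * s = 1 := C.ext fun v => by
  have := hs _ (hU (h.E_range hs v))
  rw [map_sub, h.vsub_eq, h.vsub_eq, add_comm (C.act s v)] at this
  rw [C.mul_apply, C.one_apply, add_right_cancel this]

theorem E_cent (hU : TI P U) : C.fixG (P.perp U) ≤ centralizer (C.fixG U : Set S) := fun s hs =>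
  mem_centralizer_iff.2 fun g hg => C.ext fun v => by
    have a1 := hg _ (h.E_range hs v)
    have a2 := hs _ (h.fix_range hg v)
    rw [map_sub] at a1 a2
    rw [C.mul_apply, C.mul_apply]
    linear_combination (norm := module) a1 - a2

theorem E_adj (hU : TI P U) {s : S} (hs : s ∈ C.fixG (P.perp U)) (v w : V) :
    P.B (nu C s v) w = P.B v (nu C s w) := h.adj_aux hU hs v w

theorem E_nu_mul (hU : TI P U) {s s' : S} (hs : s ∈ C.fixG (P.perp U)) (hs' : s' ∈ C.fixG (P.perp U)) :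
    nu C (s * s') = nu C s + nu C s' := LinearMap.ext fun v => by
  have a1 := hs _ (hU (h.E_range hs' v))
  rw [map_sub] at a1
  change C.act (s * s') v - v = C.act s v - v + (C.act s' v - v)
  rw [C.mul_apply]
  linear_combination (norm := module) a1

/-- every self-adjoint map into `U` comes from `E(U)` -/
theorem exists_E (hU : TI P U) {n : V →ₗ[F] V} (h1 : ∀ v, n v ∈ U)
    (h2 : ∀ v w, P.B (n v) w = P.B v (n w)) : ∃ s ∈ C.fixG (P.perp U), nu C s = n := by
  obtain ⟨s, hs⟩ := h.full (LinearMap.id + n) fun u v => by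
    simp only [LinearMap.add_apply, LinearMap.id_apply, P.B_add_left, P.B_add_right]
    rw [h2 u v, P.mem_perp.1 (hU (h1 v)) _ (h1 u)]
    linear_combination h.add_self (P.B u (n v))
  refine ⟨s, fun v hv => ?_, LinearMap.ext fun v => ?_⟩
  · have : n v = 0 := h.nd fun w => by rw [h2]; exact P.mem_perp'.1 hv _ (h1 w)
    rw [hs, LinearMap.add_apply, LinearMap.id_apply, this, add_zero]
  · change C.act s v - v = n v
    rw [hs, LinearMap.add_apply, LinearMap.id_apply, add_sub_cancel_left]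

/-- a Witt step by transvections -/
theorem tv_step (W : Submodule F V) {H : Subgroup S} (hH : ∀ p ∈ P.perp W, ∀ c, C.T p 0 c ∈ H)
    {u u' : V} (hu : u ∉ W) (hu' : u' ∉ W) (hW : ∀ w ∈ W, P.B w u' = P.B w u) :
    ∃ g ∈ H, g ∈ C.fixG W ∧ C.act g u = u' := by
  have one : ∀ u u' : V, (∀ w ∈ W, P.B w u' = P.B w u) → P.B u' u ≠ 0 →
      ∃ g ∈ H, g ∈ C.fixG W ∧ C.act g u = u' := fun u u' hW hne => by
    have m : u' - u ∈ P.perp W := P.mem_perp.2 fun w hw => by rw [P.B_sub_right, hW w hw, sub_self]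
    refine ⟨C.T (u' - u) 0 (P.B u' u)⁻¹, hH _ m _, h.T_mem_fix (by simp) m (zero_mem _) _, ?_⟩
    rw [h.z_app, P.B_sub_left, h.B_self, sub_zero, inv_mul_cancel₀ hne, one_smul, add_sub_cancel]
  by_cases h0 : P.B u' u = 0
  · obtain ⟨w, hw, hw', hwH⟩ := P.exists_not_orth_two C.nondeg W hu hu'
    have hz : ∀ x ∈ W, P.B x (u + w) = P.B x u := fun x hx => by
      rw [P.B_add_right, h.B_comm x w, hwH x hx, add_zero]
    obtain ⟨g1, m1, h1, h1u⟩ := one u (u + w) hz (by rw [P.B_add_left, h.B_self, zero_add]; exact hw)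
    obtain ⟨g2, m2, h2, h2u⟩ := one (u + w) u' (fun x hx => by rw [hz x hx, hW x hx]) (by
      rw [P.B_add_right, h0, zero_add, h.B_comm]; exact hw')
    exact ⟨g2 * g1, mul_mem m2 m1, mul_mem h2 h1, by rw [C.mul_apply, h1u, h2u]⟩
  · exact one u u' hW h0

/-- pointwise stabilisers are generated by transvections (any subspace) -/
theorem fix_gen_any (U : Submodule F V) {H : Subgroup S}
    (hH : ∀ p ∈ P.perp U, ∀ c, C.T p 0 c ∈ H) : C.fixG U ≤ H := by
  induction U using WellFoundedGT.induction with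
  | ind W ih =>
  intro s hs
  by_cases H0 : W = ⊤
  · rw [show s = 1 from C.ext fun v => by rw [C.one_apply, hs v (H0 ▸ Submodule.mem_top)]]
    exact one_mem _
  obtain ⟨u, hu⟩ : ∃ u, u ∉ W := by
    by_contra H'
    exact H0 (eq_top_iff.2 fun u _ => by by_contra H''; exact H' ⟨u, H''⟩)
  obtain ⟨g, g1, g2, g3⟩ := h.tv_step W hH hu (u' := C.act s u)
    (fun e => hu (((fix_le_stb W hs) u).1 e)) fun w hw => by rw [← C.B_act s w u, hs w hw]
  have := ih (W ⊔ span F {u}) (left_lt_sup.2 fun e => hu (e (Submodule.mem_span_singleton_self u)))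
    (fun p hp => hH p (P.perp_anti le_sup_left hp)) (x := g⁻¹ * s) (fun v hv => by
      obtain ⟨w, hw, _, hx, rfl⟩ := Submodule.mem_sup.1 hv
      obtain ⟨d, rfl⟩ := Submodule.mem_span_singleton.1 hx
      change C.act (g⁻¹ * s) _ = _
      rw [map_add, map_smul, mul_mem (inv_mem g2) hs w hw, C.mul_apply, C.inv_apply_eq g3])
  exact (mul_mem_cancel_left (inv_mem g1)).1 this

theorem E_gen (hU : TI P U) {H : Subgroup S} (hH : ∀ p ∈ U, ∀ c, C.T p 0 c ∈ H) :
    C.fixG (P.perp U) ≤ H :=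
  h.fix_gen_any _ fun p hp => hH p (by rwa [h.perp_perp] at hp)

theorem rad_gen (hU : TI P U) {H : Subgroup S}
    (hH : ∀ p ∈ U, ∀ a ∈ P.perp U, ∀ c, C.T p a c ∈ H) : Rad C U ≤ H := by
  suffices H1 : ∀ W : Submodule F V, U ≤ W → W ≤ P.perp U → ∀ s ∈ Rad C U, s ∈ C.fixG W → s ∈ H from
    fun s hs => H1 U le_rfl hU s hs hs.1
  intro W
  induction W using WellFoundedGT.induction with
  | ind W ih =>
  intro w1 w2 s hs hW
  by_cases H0 : s ∈ C.fixG (P.perp U)
  · exact h.E_gen hU (fun p hp c => hH p hp 0 (zero_mem _) c) H0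
  obtain ⟨u, hu, u1⟩ : ∃ u ∈ P.perp U, C.act s u ≠ u := by
    by_contra H'
    exact H0 fun u hu => by by_contra H''; exact H' ⟨u, hu, H''⟩
  have a3 : u ∉ W := fun hw => u1 (hW u hw)
  obtain ⟨a, a1, a2⟩ := P.exists_dual_vec C.nondeg W a3
  have ha : a ∈ P.perp U := P.mem_perp'.2 fun w hw => a2 w (w1 hw)
  have hp := hs.2 u hu
  have k : TOk P (C.act s u - u) a 0 := h.tok.2 (P.mem_perp.1 ha _ hp)
  have := ih (W ⊔ span F {u}) (left_lt_sup.2 fun e => a3 (e (Submodule.mem_span_singleton_self u)))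
    (le_sup_of_le_left w1) (sup_le w2 ((Submodule.span_singleton_le_iff_mem _ _).2 hu))
    _ (mul_mem hs (h.T_mem_rad hU hp ha 0)) (fun v hv => by
      obtain ⟨w, hw, _, hx, rfl⟩ := Submodule.mem_sup.1 hv
      obtain ⟨d, rfl⟩ := Submodule.mem_span_singleton.1 hx
      rw [map_add, map_smul, C.mul_apply, C.mul_apply,
        C.T_fix k (P.mem_perp.1 (w2 hw) _ hp) (a2 w hw), hW w hw, C.T_perp k (P.mem_perp.1 hu _ hp),
        a1, one_smul, map_add, hs.1 _ hp, h.vsub_eq, ← add_assoc, h.vadd_self, zero_add])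
  exact (mul_mem_cancel_right (hH _ hp a ha 0)).1 this

/-- pointwise stabilisers are generated by transvections -/
theorem fix_gen (hU : TI P U) {H : Subgroup S} (hH : ∀ p ∈ P.perp U, ∀ c, C.T p 0 c ∈ H) :
    C.fixG U ≤ H := h.fix_gen_any U hH

theorem fix_gen' (hU : Disjoint U (P.perp U)) {H : Subgroup S}
    (hH : ∀ p ∈ P.perp U, ∀ c, C.T p 0 c ∈ H) : C.fixG U ≤ H := h.fix_gen_any U hH


end Mod

end CfsgLib.SPC
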