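import Cfsg.Agent.Lib.SPC.Max
import Cfsg.Agent.Lib.SPC.Loc
import Cfsg.Agent.Lib.SPC.Defs2

/-! t ~ t a: an element acting trivially on R_l / E(l) -/

set_option autoImplicit false
set_option linter.unusedSectionVars false

namespace CfsgLib.SPC

open Subgroup Module CfsgLib.Forms CfsgLib.LieMult
open CfsgLib.HX (Std CO Two Mv M2)
open CfsgLib.UN (AV SI TI HH Rad Stb Yg Rg Eg Act nu)
open CfsgLib.ClSys (II)
open Submodule (span)
open scoped commutatorElement Pointwise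

universe u

variable {F : Type} [Field F] [Finite F] {V : Type} [AddCommGroup V] [Module F V]
  [FiniteDimensional F V] {P : PQ (RingHom.id F) V} {S : Type} [Group S] [Finite S] {G : Type u}
  [Group G] [Finite G] {C : CG P S} {φ : S →* G} {t : G}

/-- congruence modulo `E` -/
def ShaC (E : Subgroup G) (g g' : G) : Prop := ∃ ε ∈ E, g = g' * ε

namespace ShaC

variable {E : Subgroup G} {g g' g'' : G}

theorem refl (g : G) : ShaC E g g := ⟨1, one_mem _, (mul_one _).symm⟩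

theorem of_eq (e : g = g') : ShaC E g g' := e ▸ refl g

theorem symm (h : ShaC E g g') : ShaC E g' g := by
  obtain ⟨ε, hε, rfl⟩ := h
  exact ⟨ε⁻¹, inv_mem hε, by group⟩

theorem trans (h : ShaC E g g') (h' : ShaC E g' g'') : ShaC E g g'' := by
  obtain ⟨ε, hε, rfl⟩ := h
  obtain ⟨ε', hε', rfl⟩ := h'
  exact ⟨ε' * ε, mul_mem hε' hε, mul_assoc _ _ _⟩

theorem left (h : ShaC E g g') (k : G) : ShaC E (k * g) (k * g') := by
  obtain ⟨ε, hε, rfl⟩ := h
  exact ⟨ε, hε, (mul_assoc _ _ _).symm⟩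

theorem right (h : ShaC E g g') {k : G} (hk : k ∈ normalizer (E : Set G)) : ShaC E (g * k) (g' * k) := by
  obtain ⟨ε, hε, rfl⟩ := h
  exact ⟨k⁻¹ * ε * k⁻¹⁻¹, (mem_normalizer_iff.1 (inv_mem hk) ε).1 hε, by group⟩

theorem conj (h : ShaC E g g') {k : G} (hk : k ∈ normalizer (E : Set G)) :
    ShaC E (k * g * k⁻¹) (k * g' * k⁻¹) := (h.left k).right (inv_mem hk)

theorem mul_mem (g : G) {ε : G} (hε : ε ∈ E) : ShaC E (g * ε) g := ⟨ε, hε, rfl⟩

end ShaC

theorem sha_stb {U : Submodule F V} {s : S} (H : ∀ v ∈ U, C.act s v ∈ U) : s ∈ Stb C U := by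
  have h1 : U.map (C.act s).toLinearMap = U :=
    Submodule.eq_of_le_of_finrank_eq (by rintro _ ⟨v, hv, rfl⟩; exact H v hv) ((C.act s).finrank_map_eq U)
  refine fun v => ⟨fun hv => ?_, H v⟩
  rw [← h1] at hv
  obtain ⟨w, hw, e1⟩ := hv
  rwa [← (C.act s).injective e1]

theorem Mod.sha_gl (h : Mod C) {e f a f' : V} (k : HH P e f a f') {s : S} (h1 : C.act s e ∈ span F {e, a})
    (h2 : C.act s a ∈ span F {e, a})
    (h3 : ∀ v, P.B e v = 0 → P.B f v = 0 → P.B a v = 0 → P.B f' v = 0 → C.act s v = v) :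
    s ∈ Stb C (span F {e, a}) ∧ ∀ u ∈ P.perp (span F {e, a}), C.act s u + u ∈ span F {e, a} := by
  have h4 : ∀ v ∈ span F {e, a}, C.act s v ∈ span F {e, a} := by
    intro v hv
    obtain ⟨c, d, rfl⟩ := Submodule.mem_span_pair.1 hv
    rw [map_add, map_smul, map_smul]
    exact add_mem (Submodule.smul_mem _ _ h1) (Submodule.smul_mem _ _ h2)
  refine ⟨sha_stb h4, fun u hu => ?_⟩
  obtain ⟨u1, u2⟩ := CG.mem_perp_pair.1 hu
  obtain ⟨w, w1, w2, w3, w4, e1⟩ := h.hh_decomp k u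
  rw [u1, u2, zero_smul, zero_smul, add_zero, add_zero, add_assoc] at e1
  have m : P.B f u • e + P.B f' u • a ∈ span F {e, a} := Submodule.mem_span_pair.2 ⟨_, _, rfl⟩
  generalize P.B f u • e + P.B f' u • a = b at e1 m
  rw [e1, map_add, h3 w w1 w2 w3 w4, add_add_add_comm, h.vadd_self, zero_add]
  exact add_mem (h4 b m) m

namespace Emb

variable (h : Emb C φ) {e a : V}
include h

theorem sha_A (k : Ln P e a) {g : G} :
    g ∈ ⁅Rg C φ (span F {e, a}), Rg C φ (span F {e, a})⁆ ↔ ∃ v : F, g = x C φ e (v • a) := by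
  rw [Rg, ← map_commutator]
  constructor
  · rintro ⟨s, hs, rfl⟩
    obtain ⟨v, rfl⟩ := (h.comm_rad_line k).1 hs
    exact ⟨v, rfl⟩
  · rintro ⟨v, rfl⟩
    exact ⟨_, (h.comm_rad_line k).2 ⟨v, rfl⟩, rfl⟩

theorem sha_R (k : Ln P e a) {p u : V} (hp : p ∈ span F {e, a}) (hu : u ∈ P.perp (span F {e, a})) :
    x C φ p u ∈ Rg C φ (span F {e, a}) := h.τ_mem_R (h.ti_pair k.perp) hp hu 0

theorem sha_ρ (k : Ln P e a) {u v : V} (hu : u ∈ P.perp (span F {e, a})) (hv : v ∈ P.perp (span F {e, a})) :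
    x C φ e u * x C φ a v ∈ Rg C φ (span F {e, a}) :=
  mul_mem (h.sha_R k (Submodule.subset_span (by simp)) hu) (h.sha_R k (Submodule.subset_span (by simp)) hv)

theorem sha_shift (k : Ln P e a) {p u b : V} (hp : p ∈ span F {e, a}) (hu : u ∈ P.perp (span F {e, a}))
    (hb : b ∈ span F {e, a}) : ShaC (Eg C φ (span F {e, a}) ⊔ zpowers t) (x C φ p (u + b)) (x C φ p u) := by
  have hU := h.ti_pair k.perp
  rw [h.x_add (hu p hp) (hU hb p hp) (P.mem_perp'.1 hu b hb)]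
  exact ShaC.mul_mem _ (mem_sup_left (h.τ_mem_E hU hp hb 0))

end Emb

namespace Sit

variable (h : Sit C φ t) {e a : V} {p : G}
include h

theorem sha_nE (k : Ln P e a) {g : G} (hg : g ∈ Rg C φ (span F {e, a})) :
    g ∈ normalizer ((Eg C φ (span F {e, a}) ⊔ zpowers t : Subgroup G) : Set G) :=
  h.norm_E (h.ti_pair k.perp) (le_normalizer (mem_sup_left (h.R_le_Y hg)))

theorem sha_nY {U : Submodule F V} {s : S} (hs : s ∈ Stb C U) :
    φ s ∈ normalizer ((Yg C φ U ⊔ zpowers t : Subgroup G) : Set G) :=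
  HX.mem_nsup (h.act_norm (h.act_self s) hs).1
    (centralizer_le_normalizer _ (h.loc_cent le_rfl (mem_sup_left ⟨s, rfl⟩)))

theorem sha_coord (k : Ln P e a) {g : G} (hg : g ∈ Rg C φ (span F {e, a}) ⊔ zpowers t) :
    ∃ u ∈ P.perp (span F {e, a}), ∃ v ∈ P.perp (span F {e, a}),
      ShaC (Eg C φ (span F {e, a}) ⊔ zpowers t) g (x C φ e u * x C φ a v) := by
  obtain ⟨f, f', k1⟩ := h.hh_of_ln k
  have key : ∀ g ∈ Rg C φ (span F {e, a}), ∃ u ∈ P.perp (span F {e, a}), ∃ v ∈ P.perp (span F {e, a}),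
      ShaC (Eg C φ (span F {e, a}) ⊔ zpowers t) g (x C φ e u * x C φ a v) := by
    rintro _ ⟨s, hs, rfl⟩
    obtain ⟨u, v, hu, hv, ε, hε, rfl⟩ := (h.mem_rad_line k1).1 hs
    refine ⟨u, CG.mem_perp_pair.2 ⟨hu.1, hu.2.2.1⟩, v, CG.mem_perp_pair.2 ⟨hv.1, hv.2.2.1⟩, φ ε,
      mem_sup_left ⟨ε, hε, rfl⟩, ?_⟩
    rw [map_mul, map_mul]; rfl
  have hL := h.R_le_Y.trans (h.Y_le_L (U := span F {e, a}))
  rcases (h.mem_sup_t hL).1 hg with k2 | k2
  · exact key g k2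
  · obtain ⟨u, hu, v, hv, e1⟩ := key _ k2
    refine ⟨u, hu, v, hv, ShaC.trans ⟨t, mem_sup_right (mem_zpowers t), ?_⟩ e1⟩
    rw [h.tL (hL k2), ← mul_assoc, h.t2, one_mul]

theorem sha_comm (k : Ln P e a) {r r' : G} (hr : r ∈ Rg C φ (span F {e, a}) ⊔ zpowers t)
    (hr' : r' ∈ Rg C φ (span F {e, a}) ⊔ zpowers t) :
    ShaC (Eg C φ (span F {e, a}) ⊔ zpowers t) (r * r') (r' * r) := by
  have hL := h.R_le_Y.trans (h.Y_le_L (U := span F {e, a}))
  have h1 := commutator_mem_commutator (inv_mem hr) (inv_mem hr')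
  rw [h.loc_comm hL hL, h.sha_A k] at h1
  obtain ⟨v, hv⟩ := h1
  refine ⟨⁅r⁻¹, r'⁻¹⁆, mem_sup_left ?_, by rw [commutatorElement_def]; group⟩
  rw [hv]
  exact h.τ_mem_E (h.ti_pair k.perp) (Submodule.subset_span (by simp))
    (Submodule.smul_mem _ _ (Submodule.subset_span (by simp))) 0

theorem sha_mul (k : Ln P e a) {u v u' v' : V} (hu : u ∈ P.perp (span F {e, a}))
    (hv : v ∈ P.perp (span F {e, a})) (hu' : u' ∈ P.perp (span F {e, a})) (hv' : v' ∈ P.perp (span F {e, a})) :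
    ShaC (Eg C φ (span F {e, a}) ⊔ zpowers t) (x C φ e u * x C φ a v * (x C φ e u' * x C φ a v'))
      (x C φ e (u + u') * x C φ a (v + v')) := by
  have hU := h.ti_pair k.perp
  have me : e ∈ span F {e, a} := Submodule.subset_span (by simp)
  have ma : a ∈ span F {e, a} := Submodule.subset_span (by simp)
  have h1 := ((h.sha_comm k (mem_sup_left (h.sha_R k ma hv)) (mem_sup_left (h.sha_R k me hu'))).left
    (x C φ e u)).right (h.sha_nE k (h.sha_R k ma hv'))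
  refine (ShaC.of_eq (by group)).trans (h1.trans ?_)
  have e1 : x C φ e u * (x C φ e u' * x C φ a v) * x C φ a v' =
      x C φ e (u + u') * z C φ e (P.B u u') * x C φ a (v + v') * z C φ a (P.B v v') := by
    rw [← h.x_mul (hu e me) (hu' e me), mul_assoc _ _ (z C φ a _), ← h.x_mul (hv a ma) (hv' a ma)]; group
  rw [e1]
  exact (ShaC.mul_mem _ (mem_sup_left (h.τ_mem_E hU ma (zero_mem _) _))).trans
    ((ShaC.mul_mem _ (mem_sup_left (h.τ_mem_E hU me (zero_mem _) _))).right (h.sha_nE k (h.sha_R k ma (add_mem hv hv'))))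

/-- coordinates on `R_l ⟨t⟩ / E(l) ⟨t⟩` -/
theorem coords (k : Ln P e a)
    (hp : p ∈ normalizer ((Yg C φ (span F {e, a}) ⊔ zpowers t : Subgroup G) : Set G)) :
    ∃ θ₁ θ₂ : V → V → V, ∀ u ∈ P.perp (span F {e, a}), ∀ v ∈ P.perp (span F {e, a}),
      θ₁ u v ∈ P.perp (span F {e, a}) ∧ θ₂ u v ∈ P.perp (span F {e, a}) ∧
      ∃ ε ∈ Eg C φ (span F {e, a}) ⊔ zpowers t, p * (x C φ e u * x C φ a v) * p⁻¹ =
        x C φ e (θ₁ u v) * x C φ a (θ₂ u v) * ε := by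
  have key : ∀ u v : V, ∃ u' v' : V, u ∈ P.perp (span F {e, a}) → v ∈ P.perp (span F {e, a}) →
      u' ∈ P.perp (span F {e, a}) ∧ v' ∈ P.perp (span F {e, a}) ∧
      ShaC (Eg C φ (span F {e, a}) ⊔ zpowers t) (p * (x C φ e u * x C φ a v) * p⁻¹) (x C φ e u' * x C φ a v') := by
    intro u v
    by_cases H : u ∈ P.perp (span F {e, a}) ∧ v ∈ P.perp (span F {e, a})
    · obtain ⟨u', hu', v', hv', e1⟩ := h.sha_coord k
        ((mem_normalizer_iff.1 (h.norm_R (h.ti_pair k.perp) hp).1 _).1 (mem_sup_left (h.sha_ρ k H.1 H.2)))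
      exact ⟨u', v', fun _ _ => ⟨hu', hv', e1⟩⟩
    · exact ⟨0, 0, fun h1 h2 => absurd ⟨h1, h2⟩ H⟩
  choose θ₁ θ₂ H using key
  exact ⟨θ₁, θ₂, fun u hu v hv => H u v hu hv⟩

theorem coords_inj (k : Ln P e a) {u v u' v' : V} (hu : u ∈ P.perp (span F {e, a}))
    (hv : v ∈ P.perp (span F {e, a})) (hu' : u' ∈ P.perp (span F {e, a}))
    (hv' : v' ∈ P.perp (span F {e, a})) :
    (∃ ε ∈ Eg C φ (span F {e, a}) ⊔ zpowers t, x C φ e u * x C φ a v = x C φ e u' * x C φ a v' * ε) ↔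
      u + u' ∈ span F {e, a} ∧ v + v' ∈ span F {e, a} := by
  have hU := h.ti_pair k.perp
  have me : e ∈ span F {e, a} := Submodule.subset_span (by simp)
  have ma : a ∈ span F {e, a} := Submodule.subset_span (by simp)
  have hL := h.R_le_Y.trans (h.Y_le_L (U := span F {e, a}))
  constructor
  · rintro ⟨ε, hε, e1⟩
    have εL : ε ∈ φ.range := (mul_mem_cancel_left (hL (h.sha_ρ k hu' hv'))).1 (e1 ▸ hL (h.sha_ρ k hu hv))
    obtain ⟨s, hs, rfl⟩ := ((h.mem_sup_t ((h.E_le_R hU).trans hL)).1 hε).resolve_right fun k2 =>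
      h.t_not_mem ((mul_mem_cancel_right εL).1 (hL (h.E_le_R hU k2)))
    rw [x, x, x, x, ← map_mul, ← map_mul, ← map_mul] at e1
    have e2 := h.inj e1
    have key : ∀ {u v : V}, u ∈ P.perp (span F {e, a}) → v ∈ P.perp (span F {e, a}) → ∀ w ∈ P.perp (span F {e, a}),
        C.act (C.T e u 0 * C.T a v 0) w = w + (P.B u w • e + P.B v w • a) := by
      intro u v hu hv w hw
      rw [C.mul_apply, h.x_app (hv a ma), hw a ma, h.x_app (hu e me)]
      simp only [map_add, map_smul, smul_eq_mul, hw e me, k.perp, P.mem_perp'.1 hu a ma, mul_zero, add_zero, zero_smul]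
      abel
    have e3 : ∀ w ∈ P.perp (span F {e, a}), P.B u w = P.B u' w ∧ P.B v w = P.B v' w := by
      intro w hw
      have := key hu hv w hw
      rw [e2, C.mul_apply, hs w hw, key hu' hv' w hw, add_right_inj] at this
      exact h.ln_inj k this.symm
    constructor
    · refine h.loc_mem _ fun w hw => ?_
      rw [map_add, h.B_comm w, h.B_comm w, (e3 w hw).1, h.add_self]
    · refine h.loc_mem _ fun w hw => ?_
      rw [map_add, h.B_comm w, h.B_comm w, (e3 w hw).2, h.add_self]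
  · rintro ⟨h1, h2⟩
    have e1 : ∀ u u' : V, u = u' + (u + u') := fun u u' => by rw [add_left_comm, h.vadd_self, add_zero]
    have a1 := h.sha_shift (t := t) k me hu' h1
    have a2 := h.sha_shift (t := t) k ma hv' h2
    rw [← e1] at a1 a2
    exact (a1.right (h.sha_nE k (h.sha_R k ma hv))).trans (a2.left _)

theorem kl_of (k : Ln P e a)
    (hp : p ∈ normalizer ((Yg C φ (span F {e, a}) ⊔ zpowers t : Subgroup G) : Set G))
    (H : ∀ u ∈ P.perp (span F {e, a}),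
      p * x C φ e u * p⁻¹ * x C φ e u ∈ Eg C φ (span F {e, a}) ⊔ zpowers t ∧
      p * x C φ a u * p⁻¹ * x C φ a u ∈ Eg C φ (span F {e, a}) ⊔ zpowers t) : Kl C φ t e a p := by
  have hU := h.ti_pair k.perp
  have me : e ∈ span F {e, a} := Submodule.subset_span (by simp)
  have ma : a ∈ span F {e, a} := Submodule.subset_span (by simp)
  refine ⟨hp, fun r hr => ?_⟩
  obtain ⟨u, hu, v, hv, e1⟩ := h.sha_coord k (mem_sup_left hr)
  have key : ∀ {b w : V}, b ∈ span F {e, a} → w ∈ P.perp (span F {e, a}) →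
      p * x C φ b w * p⁻¹ * x C φ b w ∈ Eg C φ (span F {e, a}) ⊔ zpowers t →
      ShaC (Eg C φ (span F {e, a}) ⊔ zpowers t) (p * x C φ b w * p⁻¹) (x C φ b w) := by
    intro b w hb hw H
    have := (ShaC.mul_mem 1 H).right (h.sha_nE k (h.sha_R k hb hw))
    rwa [one_mul, one_mul, mul_assoc _ (x C φ b w), h.x_sq (hw b hb), mul_one] at this
  have a1 : ShaC (Eg C φ (span F {e, a}) ⊔ zpowers t) (p * r * p⁻¹) r := by
    refine (e1.conj (h.norm_E hU hp)).trans (ShaC.trans ?_ e1.symm)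
    rw [← conj_mul]
    exact ((key ma hv (H v hv).2).left _).trans ((key me hu (H u hu).1).right (h.sha_nE k (h.sha_R k ma hv)))
  obtain ⟨ε, hε, e2⟩ := a1.right (inv_mem (h.sha_nE k hr))
  rwa [e2, mul_inv_cancel, one_mul]

/-- an element commuting with `Y` on `R / E` acts as an element of `GL(l)` -/
theorem sha_scal (k : Ln P e a) {g : G}
    (hg : g ∈ normalizer ((Yg C φ (span F {e, a}) ⊔ zpowers t : Subgroup G) : Set G))
    (hc : ∀ y ∈ Yg C φ (span F {e, a}), ⁅g, y⁆ ∈ Rg C φ (span F {e, a}) ⊔ zpowers t) :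
    ∃ s ∈ Stb C (span F {e, a}), ∀ u ∈ P.perp (span F {e, a}),
      ShaC (Eg C φ (span F {e, a}) ⊔ zpowers t) (g * x C φ e u * g⁻¹) (φ s * x C φ e u * (φ s)⁻¹) ∧
      ShaC (Eg C φ (span F {e, a}) ⊔ zpowers t) (g * x C φ a u * g⁻¹) (φ s * x C φ a u * (φ s)⁻¹) := by
  have hU := h.ti_pair k.perp
  have me : e ∈ span F {e, a} := Submodule.subset_span (by simp)
  have ma : a ∈ span F {e, a} := Submodule.subset_span (by simp)
  have gE := h.norm_E hU hg
  obtain ⟨θ₁, θ₂, H⟩ := h.coords k hg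
  set l := span F {e, a} with hl
  have m1 : ∀ {u v}, u ∈ P.perp l → v ∈ P.perp l → θ₁ u v ∈ P.perp l := fun hu hv => (H _ hu _ hv).1
  have m2 : ∀ {u v}, u ∈ P.perp l → v ∈ P.perp l → θ₂ u v ∈ P.perp l := fun hu hv => (H _ hu _ hv).2.1
  have m3 : ∀ {u v}, u ∈ P.perp l → v ∈ P.perp l → ShaC (Eg C φ l ⊔ zpowers t)
      (g * (x C φ e u * x C φ a v) * g⁻¹) (x C φ e (θ₁ u v) * x C φ a (θ₂ u v)) := fun hu hv => (H _ hu _ hv).2.2
  have ADD : ∀ {u v u' v'}, u ∈ P.perp l → v ∈ P.perp l → u' ∈ P.perp l → v' ∈ P.perp l →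
      θ₁ (u + u') (v + v') + (θ₁ u v + θ₁ u' v') ∈ l ∧ θ₂ (u + u') (v + v') + (θ₂ u v + θ₂ u' v') ∈ l := by
    intro u v u' v' hu hv hu' hv'
    refine (h.coords_inj k (m1 (add_mem hu hu') (add_mem hv hv')) (m2 (add_mem hu hu') (add_mem hv hv'))
      (add_mem (m1 hu hv) (m1 hu' hv')) (add_mem (m2 hu hv) (m2 hu' hv'))).1 ?_
    refine (m3 (add_mem hu hu') (add_mem hv hv')).symm.trans (((h.sha_mul k hu hv hu' hv').symm.conj gE).trans ?_)
    rw [← conj_mul]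
    exact ((m3 hu' hv').left _).trans (((m3 hu hv).right (h.sha_nE k (h.sha_ρ k (m1 hu' hv') (m2 hu' hv')))).trans
      (h.sha_mul k (m1 hu hv) (m2 hu hv) (m1 hu' hv') (m2 hu' hv')))
  have ZERO : ∀ {u v}, u ∈ P.perp l → v ∈ P.perp l → ((θ₁ u v ∈ l ∧ θ₂ u v ∈ l) ↔ (u ∈ l ∧ v ∈ l)) := by
    intro u v hu hv
    have a1 := h.coords_inj k (m1 hu hv) (m2 hu hv) (zero_mem _) (zero_mem _)
    have a2 := h.coords_inj k hu hv (zero_mem _) (zero_mem _)
    rw [add_zero, add_zero, h.x_zero, h.x_zero, one_mul] at a1 a2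
    rw [← a1, ← a2]
    constructor
    · intro a3
      have := ((m3 hu hv).trans a3).conj (inv_mem gE)
      exact (ShaC.of_eq (by group)).trans (this.trans (ShaC.of_eq (by group)))
    · intro a3
      exact (m3 hu hv).symm.trans ((ShaC.conj a3 gE).trans (ShaC.of_eq (by group)))
  have EQV : ∀ p ∈ P.perp l, ∀ c : F, ∀ {u v}, u ∈ P.perp l → v ∈ P.perp l →
      θ₁ (u + (c * P.B p u) • p) (v + (c * P.B p v) • p) + (θ₁ u v + (c * P.B p (θ₁ u v)) • p) ∈ l ∧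
      θ₂ (u + (c * P.B p u) • p) (v + (c * P.B p v) • p) + (θ₂ u v + (c * P.B p (θ₂ u v)) • p) ∈ l := by
    intro p hp c u v hu hv
    have n1 : ∀ {u}, u ∈ P.perp l → u + (c * P.B p u) • p ∈ P.perp l := fun hu =>
      add_mem hu (Submodule.smul_mem _ _ hp)
    have yY : φ (C.T p 0 c) ∈ Yg C φ l := h.τ_mem_Y (map_zero _) hp (zero_mem _) c
    have yE := h.norm_E hU (le_normalizer (mem_sup_left yY))
    have cj : ∀ {u v}, u ∈ P.perp l → v ∈ P.perp l → φ (C.T p 0 c) * (x C φ e u * x C φ a v) * (φ (C.T p 0 c))⁻¹ =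
        x C φ e (u + (c * P.B p u) • p) * x C φ a (v + (c * P.B p v) • p) := by
      intro u v hu hv
      rw [← conj_mul, h.x_conj _ (hu e me), h.x_conj _ (hv a ma), h.z_app, h.z_app, h.z_app, h.z_app,
        P.mem_perp'.1 hp e me, P.mem_perp'.1 hp a ma]
      simp
    refine (h.coords_inj k (m1 (n1 hu) (n1 hv)) (m2 (n1 hu) (n1 hv)) (n1 (m1 hu hv)) (n1 (m2 hu hv))).1 ?_
    refine (m3 (n1 hu) (n1 hv)).symm.trans ?_
    rw [← cj hu hv, ← cj (m1 hu hv) (m2 hu hv)]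
    refine ShaC.trans ?_ ((m3 hu hv).conj yE)
    have jR := hc _ yY
    have rR : φ (C.T p 0 c) * (g * (x C φ e u * x C φ a v) * g⁻¹) * (φ (C.T p 0 c))⁻¹ ∈ Rg C φ l ⊔ zpowers t :=
      (mem_normalizer_iff.1 (h.norm_R hU (le_normalizer (mem_sup_left yY))).1 _).1
        ((mem_normalizer_iff.1 (h.norm_R hU hg).1 _).1 (mem_sup_left (h.sha_ρ k hu hv)))
    have jE := h.norm_E hU (le_normalizer (sup_le_sup_right h.R_le_Y _ jR))
    have := (h.sha_comm k jR rR).right (inv_mem jE)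
    rw [mul_inv_cancel_right] at this
    exact (ShaC.of_eq (by rw [commutatorElement_def]; group)).trans this
  have z0 : (0 : V) ∈ P.perp l := zero_mem _
  obtain ⟨μ₁, s1⟩ := h.scalar hU (θ := fun u => θ₁ u 0) (fun u hu => m1 hu z0)
    (fun u hu u' hu' => by simpa [add_assoc] using (ADD hu z0 hu' z0).1)
    (fun u hu => ((ZERO (hU hu) z0).2 ⟨hu, zero_mem _⟩).1)
    (fun p hp u hu c => by simpa using (EQV p hp c hu z0).1)
  obtain ⟨μ₂, s2⟩ := h.scalar hU (θ := fun u => θ₂ u 0) (fun u hu => m2 hu z0)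
    (fun u hu u' hu' => by simpa [add_assoc] using (ADD hu z0 hu' z0).2)
    (fun u hu => ((ZERO (hU hu) z0).2 ⟨hu, zero_mem _⟩).2)
    (fun p hp u hu c => by simpa using (EQV p hp c hu z0).2)
  obtain ⟨μ₃, s3⟩ := h.scalar hU (θ := fun u => θ₁ 0 u) (fun u hu => m1 z0 hu)
    (fun u hu u' hu' => by simpa [add_assoc] using (ADD z0 hu z0 hu').1)
    (fun u hu => ((ZERO z0 (hU hu)).2 ⟨zero_mem _, hu⟩).1)
    (fun p hp u hu c => by simpa using (EQV p hp c z0 hu).1)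
  obtain ⟨μ₄, s4⟩ := h.scalar hU (θ := fun u => θ₂ 0 u) (fun u hu => m2 z0 hu)
    (fun u hu u' hu' => by simpa [add_assoc] using (ADD z0 hu z0 hu').2)
    (fun u hu => ((ZERO z0 (hU hu)).2 ⟨zero_mem _, hu⟩).2)
    (fun p hp u hu c => by simpa using (EQV p hp c z0 hu).2)
  obtain ⟨f, f', k1⟩ := h.hh_of_ln k
  obtain ⟨u₀, f₀, k3⟩ := h.exists_h3 k1
  have hu₀ : u₀ ∈ P.perp l := CG.mem_perp_pair.2 ⟨k3.h13.ee, k3.h23.ee⟩
  have hf₀ : f₀ ∈ P.perp l := CG.mem_perp_pair.2 ⟨k3.h13.ef, k3.h23.ef⟩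
  have n0 : ∀ c : F, c • u₀ ∈ l → c = 0 := fun c hc => by
    have := hf₀ _ hc
    rwa [h.B_smul_left, k3.h13.h₂.ef, mul_one] at this
  have INJ : ∀ α β : F, μ₁ * α + μ₃ * β = 0 → μ₂ * α + μ₄ * β = 0 → α = 0 ∧ β = 0 := by
    intro α β e1 e2
    have hα := Submodule.smul_mem _ α hu₀
    have hβ := Submodule.smul_mem _ β hu₀
    obtain ⟨b1, b2⟩ := ADD hα z0 z0 hβ
    rw [add_zero, zero_add] at b1 b2
    have aux : ∀ (X Y Z : V) (μ μ' : F), μ * α + μ' * β = 0 → X + (Y + Z) ∈ l → Y + μ • α • u₀ ∈ l →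
        Z + μ' • β • u₀ ∈ l → X ∈ l := by
      intro X Y Z μ μ' e0 c1 c2 c3
      have := sub_mem c1 (add_mem c2 c3)
      have e3 : X + (Y + Z) - (Y + μ • α • u₀ + (Z + μ' • β • u₀)) = X - (μ * α + μ' * β) • u₀ := by module
      rwa [e3, e0, zero_smul, sub_zero] at this
    obtain ⟨c1, c2⟩ := (ZERO hα hβ).1 ⟨aux _ _ _ _ _ e1 b1 (s1 _ hα) (s3 _ hβ), aux _ _ _ _ _ e2 b2 (s2 _ hα) (s4 _ hβ)⟩
    exact ⟨n0 _ c1, n0 _ c2⟩
  have hd : μ₁ * μ₄ + μ₂ * μ₃ ≠ 0 := by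
    intro hd
    obtain ⟨a4, a2⟩ := INJ μ₄ μ₂ (by linear_combination hd) (by linear_combination (μ₂ * μ₄) * h.two)
    obtain ⟨a3, a1⟩ := INJ μ₃ μ₁ (by linear_combination (μ₁ * μ₃) * h.two) (by linear_combination hd)
    exact one_ne_zero (INJ 1 0 (by simp [a1]) (by simp [a2])).1
  obtain ⟨s, se, sa, -, -, sw⟩ := h.exists_gl2 k1 hd
  have ms : ∀ c d : F, c • e + d • a ∈ l := fun c d => Submodule.mem_span_pair.2 ⟨c, d, rfl⟩
  obtain ⟨t1, t2⟩ := h.sha_gl k1 (se ▸ ms _ _) (sa ▸ ms _ _) sw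
  have fin : ∀ {b u X Y : V} {μ μ' : F}, b ∈ l → u ∈ P.perp l → X ∈ P.perp l → Y ∈ P.perp l →
      C.act s b = μ • e + μ' • a → X + μ • u ∈ l → Y + μ' • u ∈ l →
      ShaC (Eg C φ l ⊔ zpowers t) (x C φ e X * x C φ a Y) (φ s * x C φ b u * (φ s)⁻¹) := by
    intro b u X Y μ μ' hb hu hX hY e1 c1 c2
    refine ShaC.trans ((h.coords_inj k hX hY (Submodule.smul_mem _ μ hu) (Submodule.smul_mem _ μ' hu)).2 ⟨c1, c2⟩) ?_
    have ue := P.mem_perp'.1 hu e me
    have ua := P.mem_perp'.1 hu a ma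
    have e2 : C.act s u = u + (C.act s u + u) := by rw [add_left_comm, h.vadd_self, add_zero]
    rw [h.x_conj _ (hu b hb), e1, e2, ← h.x_smul (hu e me), ← h.x_smul (hu a ma),
      h.x_symm (e := μ • e) (by simp [hu e me]), h.x_symm (e := μ' • a) (by simp [hu a ma]),
      ← h.x_add (by simp [ue]) (by simp [ua]) (by simp [k.perp]), h.x_symm (e := u) (by simp [ue, ua])]
    exact (h.sha_shift k (ms _ _) hu (t2 u hu)).symm
  refine ⟨s, t1, fun u hu => ⟨?_, ?_⟩⟩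
  · have := m3 hu z0
    rw [h.x_zero, mul_one] at this
    exact this.trans (fin me hu (m1 hu z0) (m2 hu z0) se (s1 u hu) (s2 u hu))
  · have := m3 z0 hu
    rw [h.x_zero, one_mul] at this
    exact this.trans (fin ma hu (m1 z0 hu) (m2 z0 hu) sa (s3 u hu) (s4 u hu))

theorem kl_big (hs : ¬ Small F) (ha : Ta C φ t) (k : Ln P e a) :
    ∃ p, ∃ c : F, c ≠ 0 ∧ Kl C φ t e a p ∧ p * t * p⁻¹ = t * x C φ e (c • a) := by
  have hU := h.ti_pair k.perp
  have me : e ∈ span F {e, a} := Submodule.subset_span (by simp)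
  have ma : a ∈ span F {e, a} := Submodule.subset_span (by simp)
  have ea : ∀ c : F, P.B e (c • a) = 0 := fun c => by simp [k.perp]
  obtain ⟨g₀, hg₀⟩ := (h.ta_iff k).1 ha
  obtain ⟨n, hn, en⟩ := h.nu hU (g := g₀) (by
    rw [hg₀]
    exact mul_mem (mem_sup_right (mem_zpowers t)) (mem_sup_left (h.τ_mem_E hU me ma 0)))
  rw [hg₀] at en
  obtain ⟨f, f', k1⟩ := h.hh_of_ln k
  obtain ⟨l, l0, l1⟩ := h.exists_big hs
  obtain ⟨m, -, m1, -, m2, -, m3⟩ := h.exists_diag k1 l0 one_ne_zero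
  rw [one_smul] at m2
  obtain ⟨t1, t2⟩ := h.sha_gl k1 (m1 ▸ Submodule.smul_mem _ _ me) (m2.symm ▸ ma) m3
  have mN := h.sha_nY t1
  have gN : n * φ m * n⁻¹ ∈ normalizer ((Yg C φ (span F {e, a}) ⊔ zpowers t : Subgroup G) : Set G) :=
    mul_mem (mul_mem hn mN) (inv_mem hn)
  have c1 : ∀ y ∈ Yg C φ (span F {e, a}), ⁅φ m, y⁆ ∈ Rg C φ (span F {e, a}) := by
    rintro _ ⟨y, hy, rfl⟩
    refine ⟨⁅m, y⁆, ⟨fun v hv => ?_, fun v hv => ?_⟩, map_commutatorElement φ m y⟩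
    · rw [commutatorElement_def, C.mul_apply, C.mul_apply, C.mul_apply, inv_mem hy v hv,
        hy _ ((inv_mem t1 v).2 hv), C.apply_inv]
    · rw [commutatorElement_def, C.mul_apply, C.mul_apply, C.mul_apply]
      have v1 := h.loc_perp (inv_mem (fix_le_stb _ hy)) hv
      have v2 := h.loc_perp (inv_mem t1) v1
      have v3 := t2 _ v2
      rw [C.apply_inv] at v3
      have v4 := hy _ v3
      rw [map_add, C.apply_inv] at v4
      have v5 := t2 _ (h.loc_perp (fix_le_stb _ hy) v2)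
      have := sub_mem v5 v3
      rw [← v4] at this
      convert add_mem this (add_mem v3 v3) using 1
      rw [h.vadd_self, add_zero, h.vsub_eq, h.vsub_eq, add_assoc, add_left_comm _ v, h.vadd_self, add_zero]
  obtain ⟨s, s1, s2⟩ := h.sha_scal k gN fun y hy => by
    have y1 := (mem_normalizer_iff.1 (inv_mem hn) y).1 (mem_sup_left hy)
    have e1 : ⁅n * φ m * n⁻¹, y⁆ = n * ⁅φ m, n⁻¹ * y * n⁻¹⁻¹⁆ * n⁻¹ := by
      simp only [commutatorElement_def]; group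
    rw [e1]
    refine (mem_normalizer_iff.1 (h.norm_R hU hn).1 _).1 (mem_sup_left ?_)
    generalize n⁻¹ * y * n⁻¹⁻¹ = y' at y1
    rcases (h.mem_sup_t h.Y_le_L).1 y1 with k2 | k2
    · exact c1 _ k2
    · have c2 : Commute (φ m) t := h.tl m
      have c3 : Commute (t * y') t := h.tL (h.Y_le_L k2)
      have e2 : y' = t * y' * t := by rw [c3.eq, ← mul_assoc, h.t2, one_mul]
      have e3 : ⁅φ m, t * y' * t⁆ = ⁅φ m, t * y'⁆ := by
        rw [commutatorElement_def, commutatorElement_def, mul_inv_rev _ t, ← mul_assoc (φ m), mul_assoc _ t,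
          c2.inv_left.symm.eq]
        group
      rw [e2, e3]
      exact c1 _ k2
  set g := n * φ m * n⁻¹ with hg
  have gE := h.norm_E hU (inv_mem gN)
  obtain ⟨c, hc⟩ := (h.sha_A k).1 ((mem_normalizer_iff.1 (h.norm_R hU (inv_mem gN)).2 _).1
    ((h.sha_A k).2 ⟨1, rfl⟩))
  obtain ⟨μ, hμ⟩ := (h.sha_A k).1 ((mem_normalizer_iff.1 (h.norm_R hU (inv_mem hn)).2 _).1
    ((h.sha_A k).2 ⟨1, rfl⟩))
  rw [one_smul, inv_inv] at hc hμ
  have μ0 : μ ≠ 0 := by
    rintro rfl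
    rw [zero_smul, h.x_zero, mul_assoc, inv_mul_eq_one, eq_comm, mul_eq_right] at hμ
    exact one_ne_zero ((h.x_eq_one k (c := 1)).1 (by rw [one_smul]; exact hμ))
  refine ⟨g⁻¹ * φ s, 1 + c, fun e1 => ?_, h.kl_of k (mul_mem (inv_mem gN) (h.sha_nY s1)) fun u hu => ?_, ?_⟩
  · rw [← h.eq_of_add e1, one_smul] at hc
    have e2 : φ m * x C φ e (μ • a) * (φ m)⁻¹ = x C φ e (μ • a) := by
      rw [← hμ]
      calc _ = n⁻¹ * g * x C φ e a * g⁻¹ * n := by rw [hg]; group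
        _ = n⁻¹ * g * (g⁻¹ * x C φ e a * g) * g⁻¹ * n := by rw [hc]
        _ = _ := by group
    rw [h.x_conj _ (ea μ), m1, map_smul, m2, h.x_smul (ea μ), smul_smul] at e2
    have e3 : x C φ e ((l * μ + μ) • a) = 1 := by
      rw [add_smul, h.x_add (ea _) (ea _) (by simp [h.B_self]), e2, h.x_sq (ea μ)]
    rw [h.x_eq_one k] at e3
    exact l1 (mul_right_cancel₀ μ0 ((h.eq_of_add e3).trans (one_mul μ).symm))
  · have key : ∀ b ∈ span F {e, a}, ShaC (Eg C φ (span F {e, a}) ⊔ zpowers t) (g * x C φ b u * g⁻¹)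
        (φ s * x C φ b u * (φ s)⁻¹) → g⁻¹ * φ s * x C φ b u * (g⁻¹ * φ s)⁻¹ * x C φ b u ∈
          Eg C φ (span F {e, a}) ⊔ zpowers t := by
      intro b hb H
      obtain ⟨ε, hε, e1⟩ := (H.symm.conj gE).right (h.sha_nE k (h.sha_R k hb hu))
      have e2 : g⁻¹ * (g * x C φ b u * g⁻¹) * g⁻¹⁻¹ * x C φ b u = 1 := by
        rw [← h.x_sq (hu b hb)]; group
      rw [e2, one_mul] at e1
      rw [← e1] at hε
      convert hε using 1
      group
    exact ⟨key e me (s2 u hu).1, key a ma (s2 u hu).2⟩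
  · have e1 : g⁻¹ * (t * x C φ e a) * g = t * x C φ e a := by
      rw [← en, hg]
      calc _ = n * ((φ m)⁻¹ * (t * φ m)) * n⁻¹ := by group
        _ = _ := by rw [← h.tl, inv_mul_cancel_left]
    calc g⁻¹ * φ s * t * (g⁻¹ * φ s)⁻¹ = g⁻¹ * (φ s * t * (φ s)⁻¹) * g := by group
      _ = g⁻¹ * (t * x C φ e a) * g * (g⁻¹ * x C φ e a * g) := by
        rw [h.tl, mul_inv_cancel_right]
        calc g⁻¹ * t * g = g⁻¹ * (t * (x C φ e a * x C φ e a)) * g := by rw [h.x_sq k.perp, mul_one]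
          _ = _ := by group
      _ = _ := by
        rw [e1, hc, add_smul, h.x_add (ea _) (ea _) (by simp [h.B_self]), one_smul, mul_assoc]

end Sit

end CfsgLib.SPC
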