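import Cfsg.Agent.Lib.SPC.ShA

/-! t ~ t a: the case q = 2 -/

set_option autoImplicit false
set_option linter.unusedSectionVars false

namespace CfsgLib.SPC

open Subgroup Module CfsgLib.Forms CfsgLib.LieMult
open CfsgLib.HX (Std CO Two Mv M2)
open CfsgLib.UN (AV SI TI HH Rad Stb Yg Rg Eg Act nu)
open CfsgLib.ClSys (II)
open Submodule (span)
open scoped commutatorElement Pointwise

universe u

variable {F : Type} [Field F] [Finite F] {V : Type} [AddCommGroup V] [Module F V]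
  [FiniteDimensional F V] {P : PQ (RingHom.id F) V} {S : Type} [Group S] [Finite S] {G : Type u}
  [Group G] [Finite G] {C : CG P S} {φ : S →* G} {t : G}

/-- the elements `x b u` modulo `E ⟨t⟩` -/
def SbD (C : CG P S) (φ : S →* G) (t : G) (U : Submodule F V) (b : V) (g : G) : Prop :=
  ∃ u ∈ P.perp U, ∃ ε ∈ Eg C φ U ⊔ zpowers t, g = x C φ b u * ε

namespace Sit

variable (h : Sit C φ t) {U : Submodule F V} {e a b : V} {p g ε : G}
include h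

theorem sb_comm (hU : TI P U) (hε : ε ∈ Eg C φ U ⊔ zpowers t) (hg : g ∈ Yg C φ U ⊔ zpowers t) :
    g * ε = ε * g := by
  have hE := h.toEmb
  have hc := h.loc_cent (hE.Y_le_L (U := U))
  have : Eg C φ U ⊔ zpowers t ≤ centralizer ((Yg C φ U ⊔ zpowers t : Subgroup G) : Set G) := by
    refine sup_le ?_ (zpowers_le.2 (le_centralizer_iff.1 hc (mem_zpowers t)))
    refine le_centralizer_iff.2 (sup_le (le_centralizer_iff.1 (hE.E_cent hU)) ?_)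
    refine zpowers_le.2 (mem_centralizer_iff.2 fun y hy => ?_)
    exact h.tL (hE.Y_le_L (hE.R_le_Y (hE.E_le_R hU hy)))
  exact mem_centralizer_iff.1 (this hε) g hg

theorem sb_xR (hU : TI P U) (hb : b ∈ U) {u : V} (hu : u ∈ P.perp U) : x C φ b u ∈ Rg C φ U :=
  h.toEmb.τ_mem_R hU hb hu 0

theorem sb_xY (hU : TI P U) (hb : b ∈ U) {u : V} (hu : u ∈ P.perp U) :
    x C φ b u ∈ Yg C φ U ⊔ zpowers t := mem_sup_left (h.toEmb.R_le_Y (h.sb_xR hU hb hu))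

theorem sb_xE (hU : TI P U) (hb : b ∈ U) {u : V} (hu : u ∈ U) :
    x C φ b u ∈ Eg C φ U ⊔ zpowers t := mem_sup_left (h.toEmb.τ_mem_E hU hb hu 0)

theorem sb_zE (hU : TI P U) (hb : b ∈ U) (c : F) : z C φ b c ∈ Eg C φ U ⊔ zpowers t :=
  mem_sup_left (h.toEmb.τ_mem_E hU hb U.zero_mem c)

theorem sb_xx (hU : TI P U) (hb : b ∈ U) {u v : V} (hu : u ∈ P.perp U) (hv : v ∈ P.perp U) :
    ∃ ε ∈ Eg C φ U ⊔ zpowers t, x C φ b u * x C φ b v = x C φ b (u + v) * ε :=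
  ⟨_, h.sb_zE hU hb _, h.toEmb.x_mul (hu b hb) (hv b hb)⟩

/-- congruent vectors give congruent elements -/
theorem sb_congr (hU : TI P U) (hb : b ∈ U) {u v : V} (hu : u ∈ P.perp U) (hv : v ∈ P.perp U)
    (huv : u + v ∈ U) : ∃ ε ∈ Eg C φ U ⊔ zpowers t, x C φ b u = x C φ b v * ε := by
  obtain ⟨ε, hε, e1⟩ := h.sb_xx hU hb hv hu
  refine ⟨x C φ b (v + u) * ε, mul_mem (h.sb_xE hU hb (add_comm u v ▸ huv)) hε, ?_⟩
  rw [← e1, ← mul_assoc, h.toEmb.x_sq (hv b hb), one_mul]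

theorem sb_D (hU : TI P U) (hb : b ∈ U) : ∃ D : Subgroup G, ∀ g, g ∈ D ↔ SbD C φ t U b g := by
  refine ⟨{ carrier := {g | SbD C φ t U b g}, one_mem' := ?_, mul_mem' := ?_, inv_mem' := ?_ },
    fun _ => Iff.rfl⟩
  · rintro _ _ ⟨u, hu, ε, hε, rfl⟩ ⟨v, hv, ε', hε', rfl⟩
    obtain ⟨δ, hδ, e1⟩ := h.sb_xx hU hb hu hv
    refine ⟨u + v, add_mem hu hv, δ * ε * ε', mul_mem (mul_mem hδ hε) hε', ?_⟩
    have := h.sb_comm hU hε (h.sb_xY hU hb hv)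
    calc x C φ b u * ε * (x C φ b v * ε') = x C φ b u * (ε * x C φ b v) * ε' := by group
      _ = x C φ b u * x C φ b v * ε * ε' := by rw [← this]; group
      _ = _ := by rw [e1]; group
  · exact ⟨0, zero_mem _, 1, one_mem _, by rw [h.toEmb.x_zero, one_mul]⟩
  · rintro _ ⟨u, hu, ε, hε, rfl⟩
    refine ⟨u, hu, ε⁻¹, inv_mem hε, ?_⟩
    rw [mul_inv_rev, h.sb_comm hU (inv_mem hε) (h.sb_xY hU hb hu),
      inv_eq_of_mul_eq_one_right (h.toEmb.x_sq (hu b hb))]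

theorem sb_DE (hε : ε ∈ Eg C φ U ⊔ zpowers t) : SbD C φ t U b ε :=
  ⟨0, zero_mem _, ε, hε, by rw [h.toEmb.x_zero, one_mul]⟩

theorem sb_DR (hU : TI P U) (hb : b ∈ U) (hg : SbD C φ t U b g) : g ∈ Rg C φ U ⊔ zpowers t := by
  obtain ⟨u, hu, ε, hε, rfl⟩ := hg
  exact mul_mem (mem_sup_left (h.sb_xR hU hb hu)) (sup_le_sup_right (h.toEmb.E_le_R hU) _ hε)

theorem sb_DY (hU : TI P U) (hb : b ∈ U) {y : G} (hy : y ∈ Yg C φ U ⊔ zpowers t)
    (hg : SbD C φ t U b g) : SbD C φ t U b (y * g * y⁻¹) := by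
  have hE := h.toEmb
  obtain ⟨u, hu, ε, hε, rfl⟩ := hg
  have key : ∀ y ∈ Yg C φ U, SbD C φ t U b (y * x C φ b u * y⁻¹ * ε) := by
    rintro _ ⟨s, hs, rfl⟩
    rw [hE.x_conj s (hu b hb), hs b hb]
    exact ⟨_, h.loc_perp (fix_le_stb U hs) hu, ε, hε, rfl⟩
  have e1 : y * (x C φ b u * ε) * y⁻¹ = y * x C φ b u * y⁻¹ * ε := by
    rw [mul_assoc _ y⁻¹, h.sb_comm hU hε (inv_mem hy)]; group
  rw [e1]
  rcases (h.mem_sup_t hE.Y_le_L).1 hy with h1 | h1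
  · exact key y h1
  · have := key _ h1
    have h2 : y * x C φ b u * y⁻¹ = t * y * x C φ b u * (t * y)⁻¹ := by
      have h3 := h.tL (hE.Y_le_L (mul_mem (mul_mem h1 (hE.R_le_Y (h.sb_xR hU hb hu))) (inv_mem h1)))
      calc y * x C φ b u * y⁻¹ = t⁻¹ * (t * y * x C φ b u * (t * y)⁻¹ * t) := by group
        _ = _ := by rw [h3]; group
    rwa [h2]

theorem sb_all (hU : TI P U) {H : Subgroup G} (h1 : Eg C φ U ⊔ zpowers t ≤ H)
    (h2 : ∀ y ∈ Yg C φ U, ∀ g ∈ H, y * g * y⁻¹ ∈ H) (hb : b ∈ U) {u : V} (hu : u ∈ P.perp U)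
    (hu' : u ∉ U) (hx : x C φ b u ∈ H) : ∀ w ∈ P.perp U, x C φ b w ∈ H := by
  intro w hw
  by_cases hw' : w ∈ U
  · exact h1 (h.sb_xE hU hb hw')
  obtain ⟨s, hs, rfl⟩ := h.trans_Y hU hu hw hu' hw'
  have := h2 _ ⟨s, hs, rfl⟩ _ hx
  rwa [h.toEmb.x_conj s (hu b hb), hs b hb] at this

theorem sb_sep (hs : Small F) (hU : TI P U) {u v : V} (hu : u ∈ P.perp U) (hv : v ∈ P.perp U)
    (h1 : u ∉ U) (h2 : u + v ∉ U) : ∃ w ∈ P.perp U, w ∉ U ∧ ∃ s ∈ C.fixG U,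
      C.act s u = u + w ∧ C.act s v = v := by
  have h3 : u ∉ U ⊔ span F {v} := by
    intro h3
    obtain ⟨y, hy, _, h4, e1⟩ := Submodule.mem_sup.1 h3
    obtain ⟨c, rfl⟩ := Submodule.mem_span_singleton.1 h4
    rcases hs c with rfl | rfl
    · exact h1 (by rw [← e1]; simpa using hy)
    · exact h2 (by rw [← e1, one_smul, add_assoc, h.vadd_self, add_zero]; exact hy)
  obtain ⟨w, hw, h4⟩ : ∃ w ∈ P.perp (U ⊔ span F {v}), P.B w u ≠ 0 := by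
    by_contra h4
    push Not at h4
    exact h3 (h.loc_mem _ h4)
  have hw1 : w ∈ P.perp U := fun y hy => hw y (Submodule.mem_sup_left hy)
  have hw2 : P.B w v = 0 := by
    rw [h.B_comm]; exact hw v (Submodule.mem_sup_right (Submodule.mem_span_singleton_self v))
  refine ⟨w, hw1, fun h5 => h4 (hu w h5), C.T w 0 1,
    h.T_mem_fix (map_zero _) hw1 (zero_mem _) 1, ?_, ?_⟩
  · rw [h.z_app, (hs _).resolve_left h4, one_mul, one_smul]
  · rw [h.z_app, hw2, mul_zero, zero_smul, add_zero]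

theorem sb_both (hs : Small F) (hU : TI P U) {H : Subgroup G} (h1 : Eg C φ U ⊔ zpowers t ≤ H)
    (h2 : ∀ y ∈ Yg C φ U, ∀ g ∈ H, y * g * y⁻¹ ∈ H) (he : e ∈ U) (ha : a ∈ U) {u v : V}
    (hu : u ∈ P.perp U) (hv : v ∈ P.perp U) (hu' : u ∉ U) (hv' : v ∉ U) (huv : u + v ∉ U)
    (hx : x C φ e u * x C φ a v ∈ H) :
    (∀ w ∈ P.perp U, x C φ e w ∈ H) ∧ ∀ w ∈ P.perp U, x C φ a w ∈ H := by
  have hE := h.toEmb
  have key : ∀ s ∈ C.fixG U, x C φ e (C.act s u) * x C φ a (C.act s v) ∈ H := by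
    intro s hs
    have := h2 _ ⟨s, hs, rfl⟩ _ hx
    rw [show φ s * (x C φ e u * x C φ a v) * (φ s)⁻¹ =
      φ s * x C φ e u * (φ s)⁻¹ * (φ s * x C φ a v * (φ s)⁻¹) by group, hE.x_conj s (hu e he),
      hE.x_conj s (hv a ha), hs e he, hs a ha] at this
    exact this
  constructor
  · obtain ⟨w, hw, hw', s, hs, e1, e2⟩ := h.sb_sep hs hU hu hv hu' huv
    refine h.sb_all hU h1 h2 he hw hw' ?_
    have h3 := mul_mem (key s hs) (inv_mem hx)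
    rw [e1, e2, show x C φ e (u + w) * x C φ a v * (x C φ e u * x C φ a v)⁻¹ =
      x C φ e (u + w) * (x C φ e u)⁻¹ by group, inv_eq_of_mul_eq_one_right (hE.x_sq (hu e he))] at h3
    obtain ⟨ε, hε, e3⟩ := h.sb_xx hU he (add_mem hu hw) hu
    rw [e3, add_comm u w, add_assoc, h.vadd_self, add_zero] at h3
    exact (H.mul_mem_cancel_right (h1 hε)).1 h3
  · obtain ⟨w, hw, hw', s, hs, e1, e2⟩ := h.sb_sep hs hU hv hu hv' (add_comm u v ▸ huv)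
    refine h.sb_all hU h1 h2 ha hw hw' ?_
    have h3 := mul_mem (inv_mem hx) (key s hs)
    rw [e1, e2, show (x C φ e u * x C φ a v)⁻¹ * (x C φ e u * x C φ a (v + w)) =
      (x C φ a v)⁻¹ * x C φ a (v + w) by group, inv_eq_of_mul_eq_one_right (hE.x_sq (hv a ha))] at h3
    obtain ⟨ε, hε, e3⟩ := h.sb_xx hU ha hv (add_mem hv hw)
    rw [e3, ← add_assoc, h.vadd_self, zero_add] at h3
    exact (H.mul_mem_cancel_right (h1 hε)).1 h3

theorem sb_e (e a : V) : e ∈ span F {e, a} := Submodule.subset_span (by simp)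

theorem sb_a (e a : V) : a ∈ span F {e, a} := Submodule.subset_span (by simp)

theorem sb_split (k : Ln P e a) {u : V} (hu : u ∈ P.perp (span F {e, a})) (c d : F) :
    x C φ (c • e + d • a) u = x C φ e (c • u) * x C φ a (d • u) := by
  have hE := h.toEmb
  have h1 := hu e (h.sb_e e a)
  have h2 := hu a (h.sb_a e a)
  have h3 : P.B u (c • e) = 0 := by rw [P.B_smul_right, h.B_comm, h1, mul_zero]
  have h4 : P.B u (d • a) = 0 := by rw [P.B_smul_right, h.B_comm, h2, mul_zero]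
  rw [hE.x_symm (by rw [h.B_comm, P.B_add_right, h3, h4, add_zero]), hE.x_add h3 h4
    (by rw [h.B_smul_left, P.B_smul_right, k.perp, mul_zero, mul_zero]), hE.x_symm h3, hE.x_symm h4,
    hE.x_smul h1, hE.x_smul h2]

theorem sb_split' (k : Ln P e a) {u : V} (hu : u ∈ P.perp (span F {e, a})) :
    x C φ (e + a) u = x C φ e u * x C φ a u := by
  simpa using h.sb_split k hu 1 1

theorem sb_mem (k : Ln P e a) (hg : g ∈ Rg C φ (span F {e, a}) ⊔ zpowers t) :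
    ∃ u ∈ P.perp (span F {e, a}), ∃ v ∈ P.perp (span F {e, a}),
      ∃ ε ∈ Eg C φ (span F {e, a}) ⊔ zpowers t, g = x C φ e u * x C φ a v * ε := by
  have hE := h.toEmb
  have key : ∀ g ∈ Rg C φ (span F {e, a}), ∃ u ∈ P.perp (span F {e, a}),
      ∃ v ∈ P.perp (span F {e, a}), ∃ ε ∈ Eg C φ (span F {e, a}) ⊔ zpowers t,
        g = x C φ e u * x C φ a v * ε := by
    rintro _ ⟨s, hs, rfl⟩
    obtain ⟨f, f', k'⟩ := h.hh_of_ln k
    obtain ⟨u, v, hu, hv, ε, hε, rfl⟩ := (h.mem_rad_line k').1 hs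
    refine ⟨u, h.mem_perp_span.2 ?_, v, h.mem_perp_span.2 ?_, φ ε, mem_sup_left ⟨ε, hε, rfl⟩, ?_⟩
    · rintro _ (rfl | rfl)
      exacts [hu.1, hu.2.2.1]
    · rintro _ (rfl | rfl)
      exacts [hv.1, hv.2.2.1]
    · rw [map_mul, map_mul]; rfl
  rcases (h.mem_sup_t (hE.R_le_Y.trans hE.Y_le_L)).1 hg with h1 | h1
  · exact key g h1
  · obtain ⟨u, hu, v, hv, ε, hε, e1⟩ := key _ h1
    have ht : t⁻¹ ∈ Eg C φ (span F {e, a}) ⊔ zpowers t := mem_sup_right (inv_mem (mem_zpowers t))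
    refine ⟨u, hu, v, hv, t⁻¹ * ε, mul_mem ht hε, ?_⟩
    have := h.sb_comm (h.ti_pair k.perp) ht (mul_mem (h.sb_xY (h.ti_pair k.perp) (h.sb_e e a) hu)
      (h.sb_xY (h.ti_pair k.perp) (h.sb_a e a) hv))
    rw [← mul_assoc, this, mul_assoc, ← e1]; group

theorem sb_ex (k : Ln P e a) : ∃ u ∈ P.perp (span F {e, a}), u ∉ span F {e, a} := by
  obtain ⟨f, f', k'⟩ := h.hh_of_ln k
  obtain ⟨e₃, f₃, k3⟩ := h.exists_h3 k'
  refine ⟨e₃, h.mem_perp_span.2 ?_, fun h1 => ?_⟩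
  · rintro _ (rfl | rfl)
    exacts [k3.h13.ee, k3.h23.ee]
  · have h2 : f₃ ∈ P.perp (span F {e, a}) := h.mem_perp_span.2 (by
      rintro _ (rfl | rfl)
      exacts [k3.h13.ef, k3.h23.ef])
    have := h2 _ h1
    rw [h.hp_iff.1 k3.h13.h₂] at this
    exact one_ne_zero this

theorem sb_not (k : Ln P e a) (hb : b ∈ span F {e, a})
    (hp : p ∈ normalizer ((Yg C φ (span F {e, a}) ⊔ zpowers t : Subgroup G) : Set G))
    (h1 : ∀ u ∈ P.perp (span F {e, a}), SbD C φ t (span F {e, a}) b (p * x C φ e u * p⁻¹))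
    (h2 : ∀ u ∈ P.perp (span F {e, a}), SbD C φ t (span F {e, a}) b (p * x C φ a u * p⁻¹)) :
    False := by
  have hE := h.toEmb
  have hU := h.ti_pair k.perp
  obtain ⟨D, hD⟩ := h.sb_D hU hb
  have key : ∀ g ∈ Rg C φ (span F {e, a}) ⊔ zpowers t, SbD C φ t (span F {e, a}) b g := by
    intro g hg
    obtain ⟨u, hu, v, hv, ε, hε, e1⟩ :=
      h.sb_mem k ((mem_normalizer_iff.1 (inv_mem (h.norm_R hU hp).1) g).1 hg)
    have e2 : g = p * x C φ e u * p⁻¹ * (p * x C φ a v * p⁻¹) * (p * ε * p⁻¹) := by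
      calc g = p * (p⁻¹ * g * p⁻¹⁻¹) * p⁻¹ := by group
        _ = _ := by rw [e1]; group
    rw [e2, ← hD]
    exact mul_mem (mul_mem ((hD _).2 (h1 u hu)) ((hD _).2 (h2 v hv)))
      ((hD _).2 (h.sb_DE ((mem_normalizer_iff.1 (h.norm_E hU hp) ε).1 hε)))
  obtain ⟨c, d, rfl⟩ := Submodule.mem_span_pair.1 hb
  obtain ⟨u, hu, hu'⟩ := h.sb_ex k
  obtain ⟨v, hv, ε, hε, e1⟩ := key _ (mem_sup_left (h.sb_xR hU (h.sb_e e a) hu))
  obtain ⟨w, hw, ε', hε', e2⟩ := key _ (mem_sup_left (h.sb_xR hU (h.sb_a e a) hu))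
  rw [h.sb_split k hv] at e1
  rw [h.sb_split k hw] at e2
  have h3 := (h.coords_inj k hu (zero_mem _) (Submodule.smul_mem _ c hv)
    (Submodule.smul_mem _ d hv)).1 ⟨ε, hε, by rw [hE.x_zero, mul_one, e1]⟩
  have h4 := (h.coords_inj k (zero_mem _) hu (Submodule.smul_mem _ c hw)
    (Submodule.smul_mem _ d hw)).1 ⟨ε', hε', by rw [hE.x_zero, one_mul, e2]⟩
  by_cases hd : d = 0
  · exact hu' (by simpa [hd] using h4.2)
  · have h5 : v ∈ span F {e, a} := (Submodule.smul_mem_iff _ hd).1 (by simpa using h3.2)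
    exact hu' ((Submodule.add_mem_iff_left _ (Submodule.smul_mem _ c h5)).1 h3.1)

theorem sb_img (hs : Small F) (k : Ln P e a) (hb : b ∈ span F {e, a})
    (hp : p ∈ normalizer ((Yg C φ (span F {e, a}) ⊔ zpowers t : Subgroup G) : Set G)) :
    ∃ b', (b' = e ∨ b' = a ∨ b' = e + a) ∧
      ∀ u ∈ P.perp (span F {e, a}), SbD C φ t (span F {e, a}) b' (p * x C φ b u * p⁻¹) := by
  have hE := h.toEmb
  have hU := h.ti_pair k.perp
  have he := h.sb_e e a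
  have ha := h.sb_a e a
  obtain ⟨D, hD⟩ := h.sb_D hU hb
  obtain ⟨H, hH⟩ : ∃ H : Subgroup G, ∀ g, g ∈ H ↔ SbD C φ t (span F {e, a}) b (p⁻¹ * g * p⁻¹⁻¹) :=
    ⟨D.comap (MulAut.conj p⁻¹).toMonoidHom, fun g => hD _⟩
  have h1 : Eg C φ (span F {e, a}) ⊔ zpowers t ≤ H := fun ε hε =>
    (hH _).2 (h.sb_DE ((mem_normalizer_iff.1 (inv_mem (h.norm_E hU hp)) ε).1 hε))
  have h2 : ∀ y ∈ Yg C φ (span F {e, a}), ∀ g ∈ H, y * g * y⁻¹ ∈ H := by
    intro y hy g hg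
    have := h.sb_DY hU hb ((mem_normalizer_iff.1 (inv_mem hp) y).1 (mem_sup_left hy)) ((hH g).1 hg)
    refine (hH _).2 ?_
    convert this using 1
    group
  have h3 : ¬ ((∀ w ∈ P.perp (span F {e, a}), x C φ e w ∈ H) ∧
      ∀ w ∈ P.perp (span F {e, a}), x C φ a w ∈ H) := fun h3 =>
    h.sb_not k hb (inv_mem hp) (fun u hu => (hH _).1 (h3.1 u hu)) fun u hu => (hH _).1 (h3.2 u hu)
  have h4 : ∀ g ∈ H, SbD C φ t (span F {e, a}) e g ∨ SbD C φ t (span F {e, a}) a g ∨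
      SbD C φ t (span F {e, a}) (e + a) g := by
    intro g hg
    obtain ⟨u, hu, v, hv, ε, hε, rfl⟩ := h.sb_mem k
      ((mem_normalizer_iff.1 (inv_mem (h.norm_R hU hp).1) g).2 (h.sb_DR hU hb ((hH g).1 hg)))
    by_cases hv' : v ∈ span F {e, a}
    · exact Or.inl ⟨u, hu, _, mul_mem (h.sb_xE hU ha hv') hε, mul_assoc _ _ _⟩
    by_cases hu' : u ∈ span F {e, a}
    · refine Or.inr (Or.inl ⟨v, hv, _, mul_mem (h.sb_xE hU he hu') hε, ?_⟩)
      rw [← h.sb_comm hU (h.sb_xE hU he hu') (h.sb_xY hU ha hv), mul_assoc]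
    by_cases huv : u + v ∈ span F {e, a}
    · obtain ⟨δ, hδ, e1⟩ := h.sb_congr hU ha hv hu (add_comm u v ▸ huv)
      refine Or.inr (Or.inr ⟨u, hu, _, mul_mem hδ hε, ?_⟩)
      rw [h.sb_split' k hu, e1]; group
    exact absurd (h.sb_both hs hU h1 h2 he ha hu hv hu' hv' huv
      ((H.mul_mem_cancel_right (h1 hε)).1 hg)) h3
  have h5 : ∀ c ∈ span F {e, a}, ¬ (∀ w ∈ P.perp (span F {e, a}), x C φ c w ∈ H) → ∀ g ∈ H,
      SbD C φ t (span F {e, a}) c g → g ∈ Eg C φ (span F {e, a}) ⊔ zpowers t := by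
    rintro c hc h5 _ hg ⟨u, hu, ε, hε, rfl⟩
    by_cases hu' : u ∈ span F {e, a}
    · exact mul_mem (h.sb_xE hU hc hu') hε
    exact absurd (h.sb_all hU h1 h2 hc hu hu' ((H.mul_mem_cancel_right (h1 hε)).1 hg)) h5
  have h6 : ∀ u ∈ P.perp (span F {e, a}), p * x C φ b u * p⁻¹ ∈ H := fun u hu =>
    (hH _).2 ⟨u, hu, 1, one_mem _, by group⟩
  by_cases s1 : ∀ w ∈ P.perp (span F {e, a}), x C φ e w ∈ H
  · refine ⟨e, Or.inl rfl, fun u hu => ?_⟩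
    rcases h4 _ (h6 u hu) with h7 | h7 | h7
    · exact h7
    · exact h.sb_DE (h5 a ha (fun s2 => h3 ⟨s1, s2⟩) _ (h6 u hu) h7)
    · refine h.sb_DE (h5 _ (add_mem he ha) (fun s2 => h3 ⟨s1, fun w hw => ?_⟩) _ (h6 u hu) h7)
      have := s2 w hw
      rwa [h.sb_split' k hw, H.mul_mem_cancel_left (s1 w hw)] at this
  by_cases s2 : ∀ w ∈ P.perp (span F {e, a}), x C φ a w ∈ H
  · refine ⟨a, Or.inr (Or.inl rfl), fun u hu => ?_⟩
    rcases h4 _ (h6 u hu) with h7 | h7 | h7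
    · exact h.sb_DE (h5 e he s1 _ (h6 u hu) h7)
    · exact h7
    · refine h.sb_DE (h5 _ (add_mem he ha) (fun s3 => s1 fun w hw => ?_) _ (h6 u hu) h7)
      have := s3 w hw
      rwa [h.sb_split' k hw, H.mul_mem_cancel_right (s2 w hw)] at this
  refine ⟨e + a, Or.inr (Or.inr rfl), fun u hu => ?_⟩
  rcases h4 _ (h6 u hu) with h7 | h7 | h7
  · exact h.sb_DE (h5 e he s1 _ (h6 u hu) h7)
  · exact h.sb_DE (h5 a ha s2 _ (h6 u hu) h7)
  · exact h7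

theorem sb_cx (hU : TI P U) (he : e ∈ U) (ha : a ∈ U) (k : Ln P e a) {u v : V} (hu : u ∈ P.perp U)
    (hv : v ∈ P.perp U) : Commute (x C φ e u) (x C φ a v) ↔ P.B u v = 0 := by
  have hE := h.toEmb
  have e1 := hE.x_τ (hu e he) (hv a ha) 0
  rw [h.B_comm u a, hu a ha, k.perp, hv e he] at e1
  simp only [zero_smul, add_zero] at e1
  have h1 : P.B a (P.B u v • e) = 0 := by rw [P.B_smul_right, h.B_comm a e, k.perp, mul_zero]
  have e2 : x C φ e u * x C φ a v * x C φ e u = x C φ a v * x C φ e (P.B u v • a) := by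
    refine e1.trans ((hE.x_add (hv a ha) h1 ?_).trans ?_)
    · rw [P.B_smul_right, h.B_comm v e, hv e he, mul_zero]
    · rw [hE.x_symm h1, hE.x_smul k.perp]
  rw [← hE.x_eq_one k]
  constructor
  · intro hc
    rw [hc.eq, mul_assoc, hE.x_sq (hu e he)] at e2
    exact (mul_left_cancel e2).symm
  · intro hc
    rw [hc, mul_one] at e2
    change _ * _ = _ * _
    conv_rhs => rw [← e2]
    rw [mul_assoc _ (x C φ e u), hE.x_sq (hu e he), mul_one]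

theorem sb_fin (hs : Small F) (k : Ln P e a)
    (hp : p ∈ normalizer ((Yg C φ (span F {e, a}) ⊔ zpowers t : Subgroup G) : Set G))
    (h1 : ∀ u ∈ P.perp (span F {e, a}), SbD C φ t (span F {e, a}) e (p * x C φ e u * p⁻¹))
    (h2 : ∀ u ∈ P.perp (span F {e, a}), SbD C φ t (span F {e, a}) a (p * x C φ a u * p⁻¹)) :
    ∃ y ∈ Yg C φ (span F {e, a}), Kl C φ t e a (y * p) := by
  have hE := h.toEmb
  have hU := h.ti_pair k.perp
  have he := h.sb_e e a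
  have ha := h.sb_a e a
  have h3 : ∀ u ∈ P.perp (span F {e, a}),
      SbD C φ t (span F {e, a}) (e + a) (p * x C φ e u * p⁻¹ * (p * x C φ a u * p⁻¹)) := by
    obtain ⟨b, hb, h3⟩ := h.sb_img hs k (add_mem he ha) hp
    have h4 : ∀ u ∈ P.perp (span F {e, a}),
        SbD C φ t (span F {e, a}) b (p * x C φ e u * p⁻¹ * (p * x C φ a u * p⁻¹)) := by
      intro u hu
      have := h3 u hu
      rw [h.sb_split' k hu] at this
      convert this using 1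
      group
    rcases hb with rfl | rfl | rfl
    · obtain ⟨D, hD⟩ := h.sb_D hU he
      exact (h.sb_not k he hp h1 fun u hu =>
        (hD _).1 ((D.mul_mem_cancel_left ((hD _).2 (h1 u hu))).1 ((hD _).2 (h4 u hu)))).elim
    · obtain ⟨D, hD⟩ := h.sb_D hU ha
      exact (h.sb_not k ha hp (fun u hu =>
        (hD _).1 ((D.mul_mem_cancel_right ((hD _).2 (h2 u hu))).1 ((hD _).2 (h4 u hu)))) h2).elim
    · exact h4
  have h4 : ∀ u ∈ P.perp (span F {e, a}), ∃ w ∈ P.perp (span F {e, a}),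
      (∃ ε ∈ Eg C φ (span F {e, a}) ⊔ zpowers t, p * x C φ e u * p⁻¹ = x C φ e w * ε) ∧
      ∃ ε ∈ Eg C φ (span F {e, a}) ⊔ zpowers t, p * x C φ a u * p⁻¹ = x C φ a w * ε := by
    intro u hu
    obtain ⟨u₁, hu₁, ε₁, hε₁, e1⟩ := h1 u hu
    obtain ⟨u₂, hu₂, ε₂, hε₂, e2⟩ := h2 u hu
    obtain ⟨u₃, hu₃, ε₃, hε₃, e3⟩ := h3 u hu
    rw [e1, e2, h.sb_split' k hu₃] at e3
    have h5 := (h.coords_inj k hu₁ hu₂ hu₃ hu₃).1 ⟨ε₃ * ε₂⁻¹ * ε₁⁻¹,
      mul_mem (mul_mem hε₃ (inv_mem hε₂)) (inv_mem hε₁), by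
        have := h.sb_comm hU hε₁ (h.sb_xY hU ha hu₂)
        calc _ = x C φ e u₁ * (x C φ a u₂ * ε₁) * ε₁⁻¹ := by group
          _ = x C φ e u₁ * ε₁ * (x C φ a u₂ * ε₂) * ε₂⁻¹ * ε₁⁻¹ := by rw [this]; group
          _ = _ := by rw [e3]; group⟩
    obtain ⟨δ₁, hδ₁, e4⟩ := h.sb_congr hU he hu₁ hu₃ h5.1
    obtain ⟨δ₂, hδ₂, e5⟩ := h.sb_congr hU ha hu₂ hu₃ h5.2
    exact ⟨u₃, hu₃, ⟨_, mul_mem hδ₁ hε₁, by rw [e1, e4, mul_assoc]⟩,
      ⟨_, mul_mem hδ₂ hε₂, by rw [e2, e5, mul_assoc]⟩⟩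
  choose! θ t0 t1 t2 using h4
  have a1 : ∀ u ∈ P.perp (span F {e, a}), ∀ v ∈ P.perp (span F {e, a}),
      θ (u + v) + θ u + θ v ∈ span F {e, a} := by
    intro u hu v hv
    obtain ⟨ε₁, hε₁, e1⟩ := t1 u hu
    obtain ⟨ε₂, hε₂, e2⟩ := t1 v hv
    obtain ⟨ε₃, hε₃, e3⟩ := t1 _ (add_mem hu hv)
    obtain ⟨δ, hδ, e4⟩ := h.sb_xx hU he hu hv
    obtain ⟨δ', hδ', e5⟩ := h.sb_xx hU he (t0 u hu) (t0 v hv)
    have h5 := (mem_normalizer_iff.1 (h.norm_E hU hp) δ).1 hδ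
    rw [add_assoc]
    refine ((h.coords_inj k (t0 _ (add_mem hu hv)) (zero_mem _) (add_mem (t0 u hu) (t0 v hv))
      (zero_mem _)).1 ⟨δ' * ε₁ * ε₂ * (p * δ * p⁻¹)⁻¹ * ε₃⁻¹, mul_mem (mul_mem (mul_mem
        (mul_mem hδ' hε₁) hε₂) (inv_mem h5)) (inv_mem hε₃), ?_⟩).1
    have := h.sb_comm hU hε₁ (h.sb_xY hU he (t0 v hv))
    rw [hE.x_zero, mul_one, mul_one]
    calc _ = x C φ e (θ (u + v)) * ε₃ * ε₃⁻¹ := by group
      _ = p * (x C φ e (u + v) * δ) * p⁻¹ * (p * δ * p⁻¹)⁻¹ * ε₃⁻¹ := by rw [← e3]; group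
      _ = p * x C φ e u * p⁻¹ * (p * x C φ e v * p⁻¹) * (p * δ * p⁻¹)⁻¹ * ε₃⁻¹ := by
        rw [← e4]; group
      _ = x C φ e (θ u) * (ε₁ * x C φ e (θ v)) * ε₂ * (p * δ * p⁻¹)⁻¹ * ε₃⁻¹ := by
        rw [e1, e2]; group
      _ = x C φ e (θ u) * x C φ e (θ v) * ε₁ * ε₂ * (p * δ * p⁻¹)⁻¹ * ε₃⁻¹ := by
        rw [← this]; group
      _ = _ := by rw [e5]; group
  have a2 : ∀ u ∈ P.perp (span F {e, a}), ∀ c : F, θ (c • u) + c • θ u ∈ span F {e, a} := by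
    intro u _ c
    rcases hs c with rfl | rfl
    · have := a1 0 (zero_mem _) 0 (zero_mem _)
      rw [add_zero, h.vadd_self, zero_add] at this
      simpa using this
    · rw [one_smul, one_smul, h.vadd_self]; exact zero_mem _
  have a3 : ∀ u ∈ P.perp (span F {e, a}), ∀ v ∈ P.perp (span F {e, a}),
      P.B (θ u) (θ v) = P.B u v := by
    intro u hu v hv
    obtain ⟨ε₁, hε₁, e1⟩ := t1 u hu
    obtain ⟨ε₂, hε₂, e2⟩ := t2 v hv
    have c1 := h.sb_comm hU hε₁ (h.sb_xY hU ha (t0 v hv))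
    have c2 := h.sb_comm hU hε₂ (h.sb_xY hU he (t0 u hu))
    have c3 := h.sb_comm hU hε₂ (sup_le_sup_right ((hE.E_le_R hU).trans hE.R_le_Y) _ hε₁)
    have key : P.B (θ u) (θ v) = 0 ↔ P.B u v = 0 := by
      rw [← h.sb_cx hU he ha k hu hv, ← h.sb_cx hU he ha k (t0 u hu) (t0 v hv),
        ← Commute.conj_iff (a := x C φ e u) p, e1, e2]
      have e3 : x C φ e (θ u) * ε₁ * (x C φ a (θ v) * ε₂) =
          x C φ e (θ u) * x C φ a (θ v) * (ε₁ * ε₂) := by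
        calc _ = x C φ e (θ u) * (ε₁ * x C φ a (θ v)) * ε₂ := by group
          _ = _ := by rw [← c1]; group
      have e4 : x C φ a (θ v) * ε₂ * (x C φ e (θ u) * ε₁) =
          x C φ a (θ v) * x C φ e (θ u) * (ε₁ * ε₂) := by
        calc _ = x C φ a (θ v) * (ε₂ * x C φ e (θ u)) * ε₁ := by group
          _ = _ := by rw [← c2, c3]; group
      simp only [Commute, SemiconjBy]
      rw [e3, e4, mul_left_inj]
    rcases hs (P.B u v) with h5 | h5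
    · rw [h5, key.2 h5]
    · rw [h5]
      exact (hs _).resolve_left fun h6 => one_ne_zero (h5.symm.trans (key.1 h6))
  obtain ⟨s, hs1, hs2⟩ := h.exists_Y hU t0 a1 a2 a3
  have hy : φ s⁻¹ ∈ Yg C φ (span F {e, a}) := ⟨_, inv_mem hs1, rfl⟩
  refine ⟨φ s⁻¹, hy, h.kl_of k (mul_mem (le_normalizer (mem_sup_left hy)) hp) fun u hu => ?_⟩
  have key : ∀ c ∈ span F {e, a}, (∃ ε ∈ Eg C φ (span F {e, a}) ⊔ zpowers t,
      p * x C φ c u * p⁻¹ = x C φ c (θ u) * ε) →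
      φ s⁻¹ * p * x C φ c u * (φ s⁻¹ * p)⁻¹ * x C φ c u ∈ Eg C φ (span F {e, a}) ⊔ zpowers t := by
    rintro c hc ⟨ε, hε, e1⟩
    have h5 : C.act s⁻¹ (θ u) ∈ P.perp (span F {e, a}) :=
      h.loc_perp (fix_le_stb _ (inv_mem hs1)) (t0 u hu)
    have h6 : C.act s⁻¹ (θ u) + u ∈ span F {e, a} := by
      have := (inv_mem hs1 : s⁻¹ ∈ C.fixG _) _ (hs2 u hu)
      rw [map_add, C.inv_apply, add_comm] at this
      rw [this]; exact hs2 u hu
    obtain ⟨δ, hδ, e2⟩ := h.sb_xx hU hc h5 hu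
    have c1 := h.sb_comm hU hε (mul_mem (mem_sup_left (inv_mem hy)) (h.sb_xY hU hc hu))
    have e3 : φ s⁻¹ * p * x C φ c u * (φ s⁻¹ * p)⁻¹ * x C φ c u =
        φ s⁻¹ * x C φ c (θ u) * (φ s⁻¹)⁻¹ * x C φ c u * ε := by
      calc _ = φ s⁻¹ * (p * x C φ c u * p⁻¹) * ((φ s⁻¹)⁻¹ * x C φ c u) := by group
        _ = φ s⁻¹ * x C φ c (θ u) * (ε * ((φ s⁻¹)⁻¹ * x C φ c u)) := by rw [e1]; group
        _ = _ := by rw [← c1]; group
    rw [e3, hE.x_conj _ (t0 u hu c hc), (inv_mem hs1 : s⁻¹ ∈ C.fixG _) c hc, e2]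
    exact mul_mem (mul_mem (h.sb_xE hU hc h6) hδ) hε
  exact ⟨key e he (t1 u hu), key a ha (t2 u hu)⟩

theorem sb_move (k : Ln P e a) {c₁ d₁ c₂ d₂ : F} (hd : c₁ * d₂ + c₂ * d₁ = 1)
    (hp : p ∈ normalizer ((Yg C φ (span F {e, a}) ⊔ zpowers t : Subgroup G) : Set G))
    (pt : p * t * p⁻¹ = t * x C φ e a) {b₁ b₂ : V} (e₁ : b₁ = c₁ • e + d₁ • a)
    (e₂ : b₂ = c₂ • e + d₂ • a)
    (h1 : ∀ u ∈ P.perp (span F {e, a}), SbD C φ t (span F {e, a}) b₁ (p * x C φ e u * p⁻¹))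
    (h2 : ∀ u ∈ P.perp (span F {e, a}), SbD C φ t (span F {e, a}) b₂ (p * x C φ a u * p⁻¹)) :
    ∃ q ∈ normalizer ((Yg C φ (span F {e, a}) ⊔ zpowers t : Subgroup G) : Set G),
      q * t * q⁻¹ = t * x C φ e a ∧
      (∀ u ∈ P.perp (span F {e, a}), SbD C φ t (span F {e, a}) e (q * x C φ e u * q⁻¹)) ∧
      ∀ u ∈ P.perp (span F {e, a}), SbD C φ t (span F {e, a}) a (q * x C φ a u * q⁻¹) := by
  have hE := h.toEmb
  have hU := h.ti_pair k.perp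
  have he := h.sb_e e a
  have ha := h.sb_a e a
  have k' : Ln P b₁ b₂ := e₁ ▸ e₂ ▸ hE.loc_ln k (by rw [hd]; exact one_ne_zero)
  have hx : x C φ b₁ b₂ = x C φ e a := by rw [e₁, e₂, hE.loc_x k.perp, hd, one_smul]
  have hb₁ : b₁ ∈ span F {e, a} :=
    e₁ ▸ add_mem (Submodule.smul_mem _ _ he) (Submodule.smul_mem _ _ ha)
  have hb₂ : b₂ ∈ span F {e, a} :=
    e₂ ▸ add_mem (Submodule.smul_mem _ _ he) (Submodule.smul_mem _ _ ha)
  obtain ⟨m, m1, m2⟩ := h.trans_ln k k'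
  have hm : m ∈ Stb C (span F {e, a}) := by
    have h3 : (span F {e, a}).map (C.act m).toLinearMap ≤ span F {e, a} := by
      rw [Submodule.map_span, Submodule.span_le]
      rintro _ ⟨_, rfl | rfl, rfl⟩
      · exact m1 ▸ hb₁
      · exact m2 ▸ hb₂
    have h4 := Submodule.eq_of_le_of_finrank_eq h3 (LinearEquiv.finrank_map_eq _ _)
    intro v
    conv_lhs => rw [← h4]
    exact ⟨fun ⟨w, hw, e3⟩ => (C.act m).injective e3 ▸ hw, fun hv => ⟨v, hv, rfl⟩⟩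
  have hm' := inv_mem hm
  have ct : φ m⁻¹ * t * (φ m⁻¹)⁻¹ = t := by rw [h.tl]; group
  have hn : ∀ H : Subgroup G, (∀ g, φ m⁻¹ * g * (φ m⁻¹)⁻¹ ∈ H ↔ g ∈ H) →
      φ m⁻¹ ∈ normalizer ((H ⊔ zpowers t : Subgroup G) : Set G) := by
    intro H hH
    have h3 : φ m⁻¹ ∈ normalizer (H : Set G) := mem_normalizer_iff.2 fun g => (hH g).symm
    rw [mem_normalizer_iff_map_conj_eq] at h3 ⊢
    rw [Subgroup.map_sup, h3, MonoidHom.map_zpowers]
    exact congrArg (fun g => H ⊔ zpowers g) ct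
  have hY := hn _ fun g => (hE.conj_Y (g := g) m⁻¹ hm').1
  have key : ∀ c g, c ∈ span F {e, a} → SbD C φ t (span F {e, a}) (C.act m c) g →
      SbD C φ t (span F {e, a}) c (φ m⁻¹ * g * (φ m⁻¹)⁻¹) := by
    rintro c _ hc ⟨u, hu, ε, hε, rfl⟩
    refine ⟨C.act m⁻¹ u, h.loc_perp hm' hu, _, (mem_normalizer_iff.1 (h.norm_E hU hY) ε).1 hε, ?_⟩
    have := hE.x_conj m⁻¹ (hu _ ((hm c).2 hc))
    rw [C.inv_apply] at this
    rw [← this]; group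
  refine ⟨φ m⁻¹ * p, mul_mem hY hp, ?_, fun u hu => ?_, fun u hu => ?_⟩
  · have := hE.x_conj m⁻¹ k'.perp
    rw [hx, ← m1, ← m2, C.inv_apply, C.inv_apply] at this
    calc _ = φ m⁻¹ * (p * t * p⁻¹) * (φ m⁻¹)⁻¹ := by group
      _ = φ m⁻¹ * t * (φ m⁻¹)⁻¹ * (φ m⁻¹ * x C φ e a * (φ m⁻¹)⁻¹) := by rw [pt]; group
      _ = _ := by rw [ct, this]
  · convert key e _ he (m1 ▸ h1 u hu) using 1
    group
  · convert key a _ ha (m2 ▸ h2 u hu) using 1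
    group

end Sit

theorem Sit.kl_small (h : Sit C φ t) (hs : Small F) (ha : Ta C φ t) {e a : V} (k : Ln P e a) :
    ∃ p, Kl C φ t e a p ∧ p * t * p⁻¹ = t * x C φ e a := by
  have hU := h.ti_pair k.perp
  have he := h.sb_e e a
  have ha' := h.sb_a e a
  have hx : t * x C φ e a ∈ Eg C φ (span F {e, a}) ⊔ zpowers t :=
    mul_mem (mem_sup_right (mem_zpowers t)) (h.sb_xE hU he ha')
  obtain ⟨g, hg⟩ := (h.ta_iff k).1 ha
  obtain ⟨n, hn, e1⟩ := h.nu hU (hg ▸ hx)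
  rw [hg] at e1
  obtain ⟨q, hq, e2, h1, h2⟩ : ∃ q ∈ normalizer ((Yg C φ (span F {e, a}) ⊔ zpowers t : Subgroup G) :
      Set G), q * t * q⁻¹ = t * x C φ e a ∧
      (∀ u ∈ P.perp (span F {e, a}), SbD C φ t (span F {e, a}) e (q * x C φ e u * q⁻¹)) ∧
      ∀ u ∈ P.perp (span F {e, a}), SbD C φ t (span F {e, a}) a (q * x C φ a u * q⁻¹) := by
    obtain ⟨b₁, hb₁, h1⟩ := h.sb_img hs k he hn
    obtain ⟨b₂, hb₂, h2⟩ := h.sb_img hs k ha' hn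
    rcases hb₁ with hb₁ | hb₁ | hb₁ <;> rcases hb₂ with hb₂ | hb₂ | hb₂
    · exact (h.sb_not k he hn (hb₁ ▸ h1) (hb₂ ▸ h2)).elim
    · exact ⟨n, hn, e1, hb₁ ▸ h1, hb₂ ▸ h2⟩
    · exact h.sb_move k (c₁ := 1) (d₁ := 0) (c₂ := 1) (d₂ := 1) (by simp) hn e1 (by simp [hb₁])
        (by simp [hb₂]) h1 h2
    · exact h.sb_move k (c₁ := 0) (d₁ := 1) (c₂ := 1) (d₂ := 0) (by simp) hn e1 (by simp [hb₁])
        (by simp [hb₂]) h1 h2
    · exact (h.sb_not k ha' hn (hb₁ ▸ h1) (hb₂ ▸ h2)).elim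
    · exact h.sb_move k (c₁ := 0) (d₁ := 1) (c₂ := 1) (d₂ := 1) (by simp) hn e1 (by simp [hb₁])
        (by simp [hb₂]) h1 h2
    · exact h.sb_move k (c₁ := 1) (d₁ := 1) (c₂ := 1) (d₂ := 0) (by simp) hn e1 (by simp [hb₁])
        (by simp [hb₂]) h1 h2
    · exact h.sb_move k (c₁ := 1) (d₁ := 1) (c₂ := 0) (d₂ := 1) (by simp) hn e1 (by simp [hb₁])
        (by simp [hb₂]) h1 h2
    · exact (h.sb_not k (add_mem he ha') hn (hb₁ ▸ h1) (hb₂ ▸ h2)).elim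
  obtain ⟨y, hy, hk⟩ := h.sb_fin hs k hq h1 h2
  refine ⟨_, hk, ?_⟩
  calc y * q * t * (y * q)⁻¹ = y * (q * t * q⁻¹) * y⁻¹ := by group
    _ = _ := by rw [e2, h.sb_comm hU hx (mem_sup_left hy)]; group

end CfsgLib.SPC
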