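import Cfsg.Agent.Lib.SPC.ShE

/-! t ~ t a: additivity -/

set_option autoImplicit false
set_option linter.unusedSectionVars false

namespace CfsgLib.SPC

open Subgroup Module CfsgLib.Forms CfsgLib.LieMult
open CfsgLib.HX (Std CO Two Mv M2)
open CfsgLib.UN (AV SI TI HH Rad Stb Yg Rg Eg Act nu)
open CfsgLib.ClSys (II)
open Submodule (span)
open scoped commutatorElement Pointwise

universe u

variable {F : Type} [Field F] [Finite F] {V : Type} [AddCommGroup V] [Module F V]
  [FiniteDimensional F V] {P : PQ (RingHom.id F) V} {S : Type} [Group S] [Finite S] {G : Type u}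
  [Group G] [Finite G] {C : CG P S} {φ : S →* G} {t : G}

namespace HW1

variable {w : V → V → G} {κ : F} (h : HW1 C φ t w κ) {e a b : V}
include h

omit h in
theorem _root_.CfsgLib.SPC.Mod.hh_dual3 (h : Mod C) (k : Ln P e a) (hb : b ∉ span F {e, a})
    (c₁ c₂ c₃ : F) : ∃ f, P.B e f = c₁ ∧ P.B a f = c₂ ∧ P.B b f = c₃ := by
  have li : LinearIndependent F ![b, a, e] := by
    rw [show (![b, a, e] : Fin 3 → V) = Fin.cons b ![a, e] from rfl, linearIndependent_finCons]
    refine ⟨?_, ?_⟩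
    · rw [LinearIndependent.pair_iff]
      intro s r hs
      have := h.ln_inj k (c := r) (d := s) (c' := 0) (d' := 0)
        (by rw [zero_smul, zero_smul, add_zero, add_comm]; exact hs)
      exact ⟨this.2, this.1⟩
    · rw [Matrix.range_cons, Matrix.range_cons, Matrix.range_empty, Set.union_empty,
        Set.singleton_union, Set.pair_comm]
      exact hb
  obtain ⟨f, hf⟩ := h.exists_dual li ![c₃, c₂, c₁]
  exact ⟨f, hf 2, hf 1, hf 0⟩

omit h in
theorem _root_.CfsgLib.SPC.Mod.hh_pp (h : Mod C) {p : V} (h1 : P.B e p = 0) (h2 : P.B a p = 0) :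
    p ∈ P.perp (span F {e, a}) := by
  rw [h.mem_perp_span]
  rintro v (rfl | rfl)
  · exact h1
  · exact h2

omit h in
theorem _root_.CfsgLib.SPC.Mod.hh_pair (h : Mod C) (e : V) (β : F) :
    ∃ a b, P.B e a = 0 ∧ P.B e b = 0 ∧ P.B a b = β := by
  by_cases h0 : e = 0
  · obtain ⟨u, hu⟩ := h.g2_ne
    obtain ⟨f, hf⟩ := h.exists_hp hu
    exact ⟨u, β • f, by simp [h0], by simp [h0], by simp [hf]⟩
  · obtain ⟨f, hf⟩ := h.exists_hp h0
    obtain ⟨e', f', k⟩ := h.exists_hh hf
    exact ⟨e', β • f', k.ee, by simp [k.ef], by simp [h.hp_iff.1 k.h₂]⟩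

omit h in
theorem _root_.CfsgLib.SPC.Mod.hh_third (h : Mod C) (k : Ln P e a) :
    ∃ c, c ∉ span F {e, a} ∧ P.B e c = 0 ∧ P.B a c = 0 := by
  obtain ⟨f, f', k1⟩ := h.hh_of_ln k
  obtain ⟨c, g, k2⟩ := h.exists_h3 k1
  refine ⟨c, fun hc => ?_, k2.h13.ee, k2.h23.ee⟩
  obtain ⟨l, m, rfl⟩ := Submodule.mem_span_pair.1 hc
  have e1 := h.hp_iff.1 k2.h13.h₂
  simp [k2.h13.ef, k2.h23.ef] at e1

omit h in
/-- an element of `E(e, a)` centralising the `x(e, ·)` has no `z_a`-part -/
theorem _root_.CfsgLib.SPC.Emb.hh_eps (h : Emb C φ) (k : Ln P e a) {r r' : F} {v : V}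
    (hv : P.B e v = 0)
    (H : ∀ b, P.B e b = 0 → Commute (τ C φ e v r * z C φ a r') (x C φ e b)) : r' = 0 := by
  obtain ⟨f, f', k1⟩ := h.hh_of_ln k
  have hb : P.B e f' = 0 := k1.ef
  have ha : P.B a f' = 1 := h.hp_iff.1 k1.h₂
  have c1 : Commute (τ C φ e v r) (x C φ e f') := h.τ_comm hv hb r 0
  have c2 : Commute (z C φ a r') (x C φ e f') := by
    have := (c1.inv_left).mul_left (H f' hb)
    rwa [← mul_assoc, inv_mul_cancel, one_mul] at this
  have e1 := h.z_τ (u := a) r' hb 0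
  rw [h.B_comm a e, k.perp, ha, mul_zero, zero_smul, add_zero, mul_one] at e1
  have e2 : τ C φ e (f' + r' • a) 0 = τ C φ e f' 0 := by
    rw [← e1]
    change z C φ a r' * x C φ e f' * z C φ a r' = x C φ e f'
    rw [c2.eq, mul_assoc, h.z_sq, mul_one]
  rw [h.τ_eq_iff k.ne (by simp [hb, k.perp]) hb] at e2
  have e3 : r' • a ∈ span F {e} := by
    have := e2.1
    rwa [add_right_comm, h.vadd_self, zero_add] at this
  by_contra h0
  exact k.nmem ((Submodule.smul_mem_iff _ h0).1 e3)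

omit h in
/-- the defect of additivity, abstractly -/
theorem _root_.CfsgLib.SPC.Mod.hh_del (h : Mod C) (h0 : e ≠ 0) {H : Type*} [AddCommGroup H]
    (W : V → H) (sq : ∀ a, W a + W a = 0)
    (add : ∀ a b, P.B e a = 0 → P.B e b = 0 → P.B a b = 0 → W (a + b) = W a + W b) :
    ∃ d : F → H, (∀ β β', d (β + β') = d β + d β') ∧
      ∀ a b, P.B e a = 0 → P.B e b = 0 → W (a + b) + W a + W b = d (P.B a b) := by
  -- (i) orthogonal pairs
  have s1 : ∀ a b a' b', P.B e a = 0 → P.B e b = 0 → P.B e a' = 0 → P.B e b' = 0 →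
      P.B a a' = 0 → P.B a b' = 0 → P.B b a' = 0 → P.B b b' = 0 → P.B a' b' = P.B a b →
      W (a + b) + W a + W b = W (a' + b') + W a' + W b' := by
    intro a b a' b' ea eb ea' eb' aa ab ba bb e1
    have q1 := add (a + a') (b + b') (by simp [ea, ea']) (by simp [eb, eb'])
      (by simp [ab, h.B_comm a' b, ba, e1, h.add_self])
    have q2 := add (a + b) (a' + b') (by simp [ea, eb]) (by simp [ea', eb'])
      (by simp [aa, ab, ba, bb])
    rw [add_add_add_comm a a' b b', q2, add a a' ea ea' aa, add b b' eb eb' bb] at q1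
    linear_combination (norm := abel) q1 - sq (a' + b') + sq a + sq b
  have ex : ∀ a b, P.B e a = 0 → P.B e b = 0 → P.B a b ≠ 0 → ∃ a' b', P.B e a' = 0 ∧ P.B e b' = 0 ∧
      P.B a a' = 0 ∧ P.B a b' = 0 ∧ P.B b a' = 0 ∧ P.B b b' = 0 ∧ P.B a' b' = P.B a b := by
    intro a b ea eb hβ
    obtain ⟨a', b', k0, k1, k2, k3, k4, k5, k6⟩ := h.exists_hp3 hβ ea eb
    exact ⟨a', P.B a b • b', k1, by simp [k2], k3, by simp [k4], k5, by simp [k6], by simp [k0]⟩
  -- (ii) the first vector is fixed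
  have s2 : ∀ a b b', P.B e a = 0 → P.B e b = 0 → P.B e b' = 0 → P.B a b ≠ 0 → P.B a b' = P.B a b →
      W (a + b) + W a + W b = W (a + b') + W a + W b' := by
    intro a b b' ea eb eb' hβ e1
    obtain ⟨a₁, b₁, k1, k2, k3, k4, k5, k6, k7⟩ := ex a b ea eb hβ
    obtain ⟨ν, hν⟩ : ∃ ν, ν * P.B a b = P.B b' b := ⟨P.B b' b / P.B a b, div_mul_cancel₀ _ hβ⟩
    obtain ⟨c, hc⟩ : ∃ c, c = b' + (b + ν • a) := ⟨_, rfl⟩
    have ec : P.B e c = 0 := by simp [hc, ea, eb, eb']
    have ac : P.B a c = 0 := by simp [hc, e1, h.B_self, h.add_self]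
    have bc : P.B b c = 0 := by
      simp [hc, h.B_self, h.B_comm b a, h.B_comm b b', hν, h.add_self]
    have e2 : b' = b + ν • a + c := by
      rw [hc, add_left_comm, h.vadd_self, add_zero]
    have eν : P.B e (b + ν • a) = 0 := by simp [ea, eb]
    rw [s1 a b a₁ b₁ ea eb k1 k2 k3 k4 k5 k6 k7, ← s1 a (b + ν • a) a₁ b₁ ea eν k1 k2 k3 k4
      (by simp [k3, k5]) (by simp [k4, k6]) (by simp [k7, h.B_self])]
    have q1 := add (b + ν • a) c eν ec (by simp [ac, bc])
    have q2 := add (a + (b + ν • a)) c (by simp [ea, eb]) ec (by simp [ac, bc])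
    rw [add_assoc a, ← e2] at q2
    rw [← e2] at q1
    rw [q1, q2]
    linear_combination (norm := abel) - sq c
  have s3 : ∀ a b a' b', P.B e a = 0 → P.B e b = 0 → P.B e a' = 0 → P.B e b' = 0 → P.B a b ≠ 0 →
      P.B a' b' = P.B a b → a' ∉ span F {e, a} →
      W (a + b) + W a + W b = W (a' + b') + W a' + W b' := by
    intro a b a' b' ea eb ea' eb' hβ e1 hn
    have k : Ln P e a := ⟨h0, fun hm => by
      obtain ⟨l, rfl⟩ := Submodule.mem_span_singleton.1 hm
      simp [eb] at hβ, ea⟩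
    obtain ⟨f, f1, f2, f3⟩ := h.hh_dual3 k hn 0 (P.B a b) (P.B a b)
    have q1 := s2 a b f ea eb f1 hβ f2
    have q2 := s2 f a a' f1 ea ea' (by rwa [h.B_comm, f2]) (by rw [h.B_comm f, h.B_comm f, f2, f3])
    have q3 := s2 a' b' f ea' eb' f1 (by rwa [e1]) (by rw [f3, e1])
    rw [add_comm f a, add_comm f a'] at q2
    linear_combination (norm := abel) q1 + q2 - q3
  have s4 : ∀ a b a' b', P.B e a = 0 → P.B e b = 0 → P.B e a' = 0 → P.B e b' = 0 →
      P.B a' b' = P.B a b → W (a + b) + W a + W b = W (a' + b') + W a' + W b' := by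
    intro a b a' b' ea eb ea' eb' e1
    by_cases hβ : P.B a b = 0
    · rw [add a b ea eb hβ, add a' b' ea' eb' (e1.trans hβ)]
      linear_combination (norm := abel) sq a + sq b - sq a' - sq b'
    by_cases hn : a' ∈ span F {e, a}
    · obtain ⟨a₁, b₁, k1, k2, k3, k4, k5, k6, k7⟩ := ex a b ea eb hβ
      rw [s1 a b a₁ b₁ ea eb k1 k2 k3 k4 k5 k6 k7]
      refine s3 a₁ b₁ a' b' k1 k2 ea' eb' (by rwa [k7]) (by rw [k7, e1]) fun hm => ?_
      obtain ⟨l, m, rfl⟩ := Submodule.mem_span_pair.1 hm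
      obtain ⟨l', m', e2⟩ := Submodule.mem_span_pair.1 hn
      have e3 := congrArg (fun v => P.B v b₁) e2
      simp [k2, k4, k7, hβ] at e3
      simp [e3, eb'] at e1
      exact hβ e1.symm
    · exact s3 a b a' b' ea eb ea' eb' hβ e1 hn
  obtain ⟨a₀, b₀, ea, eb, ab⟩ := h.hh_pair e 1
  refine ⟨fun β => W (a₀ + β • b₀) + W a₀ + W (β • b₀), fun β β' => ?_, fun a b ea' eb' =>
    s4 a b a₀ (P.B a b • b₀) ea' eb' ea (by simp [eb]) (by simp [ab])⟩
  have q1 := s4 (a₀ + β • b₀) (a₀ + β' • b₀) (a₀ + (β + β') • b₀) a₀ (by simp [ea, eb])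
    (by simp [ea, eb]) (by simp [ea, eb]) ea
    (by simp [ab, h.B_self, h.B_comm b₀ a₀, add_comm])
  have q2 := add (β • b₀) (β' • b₀) (by simp [eb]) (by simp [eb]) (by simp [h.B_self])
  have e1 : a₀ + β • b₀ + (a₀ + β' • b₀) = β • b₀ + β' • b₀ := by
    rw [add_add_add_comm, h.vadd_self, zero_add]
  have e2 : a₀ + (β + β') • b₀ + a₀ = β • b₀ + β' • b₀ := by
    rw [add_right_comm, h.vadd_self, zero_add, add_smul]
  rw [e1, e2] at q1
  beta_reduce
  rw [add_smul β β' b₀, q2]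
  rw [add_smul β β' b₀] at q1
  linear_combination (norm := abel) - q1 - sq a₀

theorem iv (k : P.B e a = 0) : Iv C φ t e a (w e a) := by
  exact ⟨⟨(h.mv e a k).cY, (h.mv e a k).pt⟩, (h.mv e a k).co, h.sq e a k⟩
theorem w_zero (e : V) : w e 0 = 1 := by
  have := h.dep e 0
  rwa [zero_smul, mul_zero, h.z_zero] at this
/-- `w e a` commutes with `τ p q c` if `p, q ⊥ e, a` -/
theorem comm_τ (k : P.B e a = 0) {p q : V} (k' : P.B p q = 0) (h1 : P.B e p = 0) (h2 : P.B e q = 0)
    (h3 : P.B a p = 0) (h4 : P.B a q = 0) (c : F) : Commute (w e a) (τ C φ p q c) := by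
  exact (((h.mv e a k).cY) _ (h.τ_mem_Y k' (h.hh_pp h1 h3) (h.hh_pp h2 h4) c)).symm
theorem comm_x (k : P.B e a = 0) {p q : V} (k' : P.B p q = 0) (h1 : P.B e p = 0) (h2 : P.B e q = 0)
    (h3 : P.B a p = 0) (h4 : P.B a q = 0) : Commute (w e a) (x C φ p q) :=
  h.comm_τ k k' h1 h2 h3 h4 0
theorem comm_z (k : P.B e a = 0) {p : V} (h1 : P.B e p = 0) (h3 : P.B a p = 0) (c : F) :
    Commute (w e a) (z C φ p c) :=
  h.comm_τ k (map_zero _) h1 (map_zero _) h3 (map_zero _) c
theorem w_inv (k : P.B e a = 0) : (w e a)⁻¹ = w e a := inv_eq_of_mul_eq_one_right (h.sq e a k)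
theorem comm_κ (k : P.B e a = 0) : Commute (w e a) (x C φ e (κ • a)) :=
  h.comm_x k (by simp [k]) (h.B_self e) (by simp [k]) (by rw [h.B_comm, k]) (by simp [h.B_self])
theorem symm' (k : P.B e a = 0) : w e a = w a e * x C φ e (κ • a) := by
  rw [h.symm e a k, mul_assoc, h.x_sq (by simp [k]), mul_one]
theorem wQ' (k : P.B e a = 0) (k' : P.B a b = 0) (c : F) :
    w e a * τ C φ a b c * w e a = τ C φ a b (c + κ * P.B e b) := by
  have ka : P.B a e = 0 := by rw [h.B_comm, k]
  have e1 := h.symm a e ka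
  have c1 : Commute (x C φ a (κ • e)) (τ C φ a b c) := h.τ_comm (by simp [ka]) k' 0 c
  calc w e a * τ C φ a b c * w e a
      = w a e * (x C φ a (κ • e) * τ C φ a b c * x C φ a (κ • e)) * w a e := by
        rw [e1]
        conv_lhs => rw [mul_assoc, mul_assoc, (h.comm_κ ka).eq]
        group
    _ = _ := by
        rw [c1.eq, mul_assoc (τ C φ a b c), h.x_sq (by simp [ka]), mul_one, h.wQ a e b c ka k']
theorem E_comm (k : P.B e a = 0) {ε : G} (hε : ε ∈ Eg C φ (span F {e, a})) : Commute (w e a) ε :=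
  ((h.mv e a k).cY _ (h.R_le_Y (h.E_le_R (h.ti_pair k) hε))).symm
theorem com_of (k : P.B e a = 0) (h1 : P.B e b = 0) (H : w e (a + b) = w e a * w e b) :
    Commute (w e a) (w e b) := by
  have := h.w_inv (e := e) (a := a + b) (by simp [k, h1])
  rw [H, mul_inv_rev, h.w_inv k, h.w_inv h1] at this
  exact this.symm

/-- characterisation -/
theorem chr (k : Ln P e a) {p : G} (hp : Iv C φ t e a p)
    (h1 : ∀ b, P.B e b = 0 → p * x C φ e b * p = x C φ e b * z C φ e (κ * P.B a b))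
    (h2 : ∀ b, P.B a b = 0 → p * x C φ a b * p = x C φ a b * z C φ a (κ * P.B e b)) :
    ∃ μ : F, p = w e a * x C φ e (μ • a) := by
  obtain ⟨ε, hε, rfl⟩ := h.iv_uniq h.two' k (h.iv k.perp) hp
  have ce := h.E_comm k.perp hε
  have ε2 := h.E_sq (h.ti_pair k.perp) hε
  have key : ∀ y : G, w e a * ε * y * (w e a * ε) = w e a * y * w e a → Commute ε y := by
    intro y hy
    have : ε * y * ε = y := by
      have e2 : w e a * (ε * y * ε) * w e a = w e a * y * w e a := by
        calc _ = w e a * ε * y * (ε * w e a) := by group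
          _ = _ := by rw [← ce.eq, hy]
      exact mul_left_cancel (mul_right_cancel e2)
    calc ε * y = ε * y * ε * ε := by rw [mul_assoc _ ε ε, ε2, mul_one]
      _ = y * ε := by rw [this]
  have ka : P.B a e = 0 := by rw [h.B_comm, k.perp]
  obtain ⟨r, v, r', rfl⟩ := (h.mem_El k).1 hε
  have hv : P.B e (v • a) = 0 := by simp [k.perp]
  have xz : x C φ e (v • a) * z C φ e r = z C φ e r * x C φ e (v • a) :=
    (h.τ_comm hv (map_zero _) 0 r).eq
  have r0 : r' = 0 := by
    refine h.hh_eps k (r := r) hv fun b hb => ?_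
    rw [h.τ_eq hv, xz]
    refine key _ ?_
    rw [h1 b hb, ← h.τ_eq hb]
    exact (zero_add (κ * P.B a b)) ▸ (h.wQ e a b 0 k.perp hb).symm
  subst r0
  have hv' : P.B a (v • e) = 0 := by simp [ka]
  have e3 : x C φ e (v • a) = x C φ a (v • e) := by
    rw [h.x_symm hv, h.x_smul ka]
  have r0 : r = 0 := by
    refine h.hh_eps (h.ln_symm k) (r := 0) hv' fun b hb => ?_
    have := key (x C φ a b) (by
      rw [h2 b hb, ← h.τ_eq hb]
      exact (zero_add (κ * P.B e b)) ▸ (h.wQ' k.perp hb 0).symm)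
    rw [h.z_zero, mul_one, ← xz, e3] at this
    exact this
  subst r0
  exact ⟨v, by rw [h.z_zero, h.z_zero, one_mul, mul_one]⟩
/-- first form of additivity -/
theorem add00 (k : Ln P e a) (hb : b ∉ span F {e, a}) (h1 : P.B e b = 0) (h2 : P.B a b = 0) :
    ∃ r v : F, w e (a + b) = w e a * w e b * τ C φ e (v • b) r ∧ Commute (w e a) (w e b) := by
  obtain ⟨c, c1, c2, c3⟩ := h.hh_dual3 k hb 0 1 0
  have be : P.B b e = 0 := by rw [h.B_comm, h1]
  have ba : P.B b a = 0 := by rw [h.B_comm, h2]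
  have cf : Cf P b a e c := ⟨h.ln_symm k, by rwa [Set.pair_comm], ba, be, c3,
    by rw [h.B_comm, c1], by rw [h.B_comm, c2]⟩
  have kb : Ln P e b := ⟨k.ne, fun hm => hb (Submodule.span_mono (by simp) hm), h1⟩
  have n1 := h.nn b a e c cf
  have e1 : x C φ b c * w e a * x C φ b c = w e (a + b) := by
    have := h.eqv (C.T b c 0) e a k.perp
    rw [h.x_app c3, h.x_app c3, cf.cv, cf.cu, be, ba] at this
    simp only [zero_smul, add_zero, one_smul] at this
    rw [← this]
    congr 1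
    exact (h.τ_inv c3 0).symm
  rw [e1] at n1
  have n2 : Iv C φ t e b (w e (a + b) * w e a) :=
    h.iv_congr (by rw [Set.pair_comm]) (h.x_symm be) n1
  obtain ⟨ε, hε, e2⟩ := h.iv_uniq h.two' kb (h.iv h1) n2
  obtain ⟨r, v, r', rfl⟩ := (h.mem_El kb).1 hε
  have hv : P.B e (v • b) = 0 := by simp [h1]
  have xz : x C φ e (v • b) * z C φ e r = z C φ e r * x C φ e (v • b) :=
    (h.τ_comm hv (map_zero _) 0 r).eq
  rw [← xz, ← h.τ_eq hv] at e2 hε
  have hab : P.B e (a + b) = 0 := by simp [k.perp, h1]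
  have r0 : r' = 0 := by
    refine h.hh_eps kb (r := r) hv fun d hd => ?_
    obtain ⟨ε, hε'⟩ : ∃ ε, ε = τ C φ e (v • b) r * z C φ b r' := ⟨_, rfl⟩
    rw [← hε'] at e2 hε ⊢
    have e3 : ε = w e b * (w e (a + b) * w e a) := by
      rw [e2, ← mul_assoc, h.sq e b h1, one_mul]
    have e4 : ε * τ C φ e d 0 * ε⁻¹ = τ C φ e d 0 := by
      rw [e3, mul_inv_rev, mul_inv_rev, h.w_inv h1, h.w_inv hab, h.w_inv k.perp]
      calc _ = w e b * (w e (a + b) * (w e a * τ C φ e d 0 * w e a) * w e (a + b)) * w e b := by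
            group
        _ = _ := by
            rw [h.wQ e a d _ k.perp hd, h.wQ e (a + b) d _ hab hd, h.wQ e b d _ h1 hd]
            congr 1
            simp only [map_add, LinearMap.add_apply]
            linear_combination (κ * P.B a d + κ * P.B b d) * h.two
    exact mul_inv_eq_iff_eq_mul.1 e4
  subst r0
  rw [h.z_zero, mul_one] at e2
  have ca : Commute (w e a) (τ C φ e (v • b) r) :=
    h.comm_τ k.perp hv (h.B_self e) hv (by rw [h.B_comm, k.perp]) (by simp [h2]) r
  have cb : Commute (w e b) (τ C φ e (v • b) r) :=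
    h.comm_τ h1 hv (h.B_self e) hv be (by simp [h.B_self]) r
  have e5 : w e (a + b) = w e b * w e a * τ C φ e (v • b) r := by
    rw [mul_assoc, ca.eq, ← mul_assoc, ← e2, mul_assoc, h.sq e a k.perp, mul_one]
  have e6 := h.w_inv hab
  rw [e5, mul_inv_rev, mul_inv_rev, h.w_inv h1, h.w_inv k.perp, h.τ_inv hv,
    ← (ca.mul_left cb).eq] at e6
  have e7 := mul_right_cancel e6
  exact ⟨r, v, by rw [e5, e7], e7⟩

omit h in
theorem _root_.CfsgLib.SPC.Mod.hh_swap (h : Mod C) (k : Ln P e a) (hb : b ∉ span F {e, a})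
    (h1 : P.B e b = 0) : Ln P e b ∧ a ∉ span F {e, b} := by
  refine ⟨⟨k.ne, fun hm => hb (Submodule.span_mono (by simp) hm), h1⟩, fun hm => ?_⟩
  obtain ⟨l, m, e1⟩ := Submodule.mem_span_pair.1 hm
  obtain ⟨f, f1, f2, f3⟩ := h.hh_dual3 k hb 0 1 0
  have := congrArg (fun v => P.B v f) e1
  simp [f1, f2, f3] at this

theorem add01 (k : Ln P e a) (hb : b ∉ span F {e, a}) (h1 : P.B e b = 0) (h2 : P.B a b = 0) :
    ∃ r : F, w e (a + b) = w e a * w e b * z C φ e r := by
  obtain ⟨r, v, e1, c1⟩ := h.add00 k hb h1 h2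
  obtain ⟨kb, ha⟩ := h.hh_swap k hb h1
  obtain ⟨r', v', e2, -⟩ := h.add00 kb ha k.perp (by rw [h.B_comm, h2])
  rw [add_comm, e1, ← c1.eq] at e2
  have e3 := mul_left_cancel e2
  rw [h.τ_eq_iff k.ne (by simp [h1]) (by simp [k.perp])] at e3
  obtain ⟨l, e4⟩ := Submodule.mem_span_singleton.1 e3.1
  obtain ⟨f, f1, f2, f3⟩ := h.hh_dual3 k hb 0 0 1
  have := congrArg (fun v => P.B v f) e4
  simp [f1, f2, f3] at this
  subst this
  exact ⟨r, by rw [e1, zero_smul]; rfl⟩

theorem add02 (k : Ln P e a) (hb : b ∉ span F {e, a}) (h1 : P.B e b = 0) (h2 : P.B a b = 0) :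
    ∃ r : F, w (a + b) e = w a e * w b e * z C φ e r := by
  obtain ⟨r, e1⟩ := h.add01 k hb h1 h2
  refine ⟨r, ?_⟩
  have ha : P.B e (κ • a) = 0 := by simp [k.perp]
  have hb' : P.B e (κ • b) = 0 := by simp [h1]
  have c1 : Commute (w e b) (x C φ e (κ • a)) :=
    h.comm_x h1 ha (h.B_self e) ha (by rw [h.B_comm, h1]) (by simp [h.B_comm b a, h2])
  have c2 : Commute (x C φ e (κ • a)) (z C φ e r) := h.τ_comm ha (map_zero _) 0 r
  have c3 : Commute (x C φ e (κ • b)) (z C φ e r) := h.τ_comm hb' (map_zero _) 0 r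
  rw [h.symm e _ (by simp [k.perp, h1]), h.symm e a k.perp, h.symm e b h1, e1, smul_add,
    h.x_add ha hb' (by simp [h2])]
  simp only [mul_assoc]
  rw [← c1.left_comm, ← (c2.mul_left c3).eq, mul_assoc]

theorem add1' (k : Ln P e a) (hb : b ∉ span F {e, a}) (h1 : P.B e b = 0) (h2 : P.B a b = 0) :
    w e (a + b) = w e a * w e b := by
  obtain ⟨r, e1⟩ := h.add01 k hb h1 h2
  obtain ⟨u, rfl⟩ : ∃ u, e = a + u := ⟨a + e, by rw [← add_assoc, h.vadd_self, zero_add]⟩
  have au : P.B a u = 0 := by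
    have := k.perp
    simpa [h.B_self, h.B_comm u a] using this
  have ub : P.B u b = 0 := by simpa [h2] using h1
  have ua : P.B u a = 0 := by rw [h.B_comm, au]
  have ba : P.B b a = 0 := by rw [h.B_comm, h2]
  have bu : P.B b u = 0 := by rw [h.B_comm, ub]
  obtain ⟨f, f1, f2, f3⟩ := h.hh_dual3 k hb 1 1 0
  obtain ⟨g, g1, g2, g3⟩ := h.hh_dual3 k hb 1 0 0
  obtain ⟨j, j1, j2, j3⟩ := h.hh_dual3 k hb 0 0 1
  have f1' : P.B u f = 0 := by simpa [f2] using f1
  have g1' : P.B u g = 1 := by simpa [g2] using g1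
  have j1' : P.B u j = 0 := by simpa [j2] using j1
  have nm : ∀ {p q s d : V}, P.B p d = 0 → P.B q d = 0 → P.B s d = 1 → s ∉ span F {p, q} := by
    intro p q s d k1 k2 k3 hm
    obtain ⟨l, m, rfl⟩ := Submodule.mem_span_pair.1 hm
    simp [k1, k2] at k3
  have ln : ∀ {p q d d' : V}, P.B p d' = 1 → P.B p d = 0 → P.B q d = 1 → P.B p q = 0 → Ln P p q := by
    intro p q d d' k0 k1 k2 k3
    refine ⟨h.hp_ne k0, fun hm => ?_, k3⟩
    obtain ⟨l, rfl⟩ := Submodule.mem_span_singleton.1 hm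
    simp [k1] at k2
  obtain ⟨r₁, q1⟩ := h.add02 (e := b) (a := a) (b := u) (ln j3 f3 f2 ba) (nm g3 g2 g1') bu au
  obtain ⟨r₂, q2⟩ := h.add02 (e := a + b) (a := a) (b := u)
    (ln (d := f + j) (d' := j) (by simp [j2, j3]) (by simp [f2, f3, j2, j3, h.add_self])
      (by simp [f2, j2]) (by simp [h.B_self, ba]))
    (nm (d := g) (by simp [g2, g3]) g2 g1') (by simp [au, bu]) au
  obtain ⟨r₃, q3⟩ := h.add01 (e := u) (a := a) (b := b) (ln g1' f1' f2 ua) (nm j1' j2 j3) ub h2
  have q4 : w a (a + b) = w a b * z C φ a κ := by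
    have := h.shift a b 1 h2
    rwa [one_smul, mul_one, add_comm] at this
  have q5 : w (a + u) a = w u a * (x C φ a (κ • u) * (z C φ a κ * x C φ a (κ • u))) := by
    have e2 := h.shift a u 1 au
    rw [one_smul, mul_one, add_comm] at e2
    have e3 := h.x_shift (e := a) (a := κ • u) (by simp [au]) κ
    rw [h.symm a _ (by simp [h.B_self, au]), e2, h.symm' au, smul_add, add_comm, e3]
    simp only [mul_assoc]
  have xu : P.B a (κ • u) = 0 := by simp [au]
  have cxz : Commute (x C φ a (κ • u)) (z C φ a κ) := h.τ_comm xu (map_zero _) 0 κ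
  rw [cxz.left_comm, h.x_sq xu, mul_one] at q5
  have e2 := e1.symm.trans q2
  rw [q5, q1, q4, q3] at e2
  -- commutation
  have c1 : Commute (w u a) (w a b) := by
    obtain ⟨_, _, -, c⟩ := h.add00 (e := a) (a := u) (b := b) (ln f2 g2 g1' au) (nm j2 j1' j3) h2 ub
    rw [h.symm a u au]
    exact c.mul_left (h.comm_x h2 xu (h.B_self a) xu ba (by simp [bu])).symm
  have za : Commute (w u a) (z C φ a κ) := h.comm_z ua ua (h.B_self a) κ
  have zb : Commute (w a b) (z C φ a κ) := h.comm_z h2 (h.B_self a) ba κ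
  have zc : Commute (w u b) (z C φ a κ) := h.comm_z ub ua ba κ
  have e3 : z C φ b r₁ * z C φ (a + u) r = z C φ u r₃ * z C φ (a + b) r₂ := by
    have l1 : w u a * z C φ a κ * (w a b * w u b * z C φ b r₁) * z C φ (a + u) r =
        w u a * w a b * w u b * z C φ a κ * (z C φ b r₁ * z C φ (a + u) r) := by
      simp only [mul_assoc]
      rw [← zb.left_comm, ← zc.left_comm]
    have l2 : w a b * z C φ a κ * (w u a * w u b * z C φ u r₃) * z C φ (a + b) r₂ =
        w u a * w a b * w u b * z C φ a κ * (z C φ u r₃ * z C φ (a + b) r₂) := by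
      simp only [mul_assoc]
      rw [← za.left_comm, ← zc.left_comm, c1.left_comm]
    rw [l1, l2] at e2
    exact mul_left_cancel e2
  have e4 : C.T b 0 r₁ * C.T (a + u) 0 r = C.T u 0 r₃ * C.T (a + b) 0 r₂ :=
    h.inj (by rw [map_mul, map_mul]; exact e3)
  have e5 := congrArg (fun s => P.B (C.act s f) g) e4
  simp only [C.mul_apply, h.z_app] at e5
  simp [f1', f2, f3, g1', g2, g3, ba, bu, ua, ub] at e5
  rw [e1, e5, h.z_zero, mul_one]

theorem add0 : ∃ ρ : F, ∀ e a b, Ln P e a → b ∉ span F {e, a} → P.B e b = 0 → P.B a b = 0 →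
    Commute (w e a) (w e b) ∧ w e (a + b) = w e a * w e b * z C φ e ρ := by
  refine ⟨0, fun e a b k hb h1 h2 => ?_⟩
  have := h.add1' k hb h1 h2
  exact ⟨h.com_of k.perp h1 this, by rw [h.z_zero, mul_one, this]⟩
theorem add1 (k : Ln P e a) (hb : b ∉ span F {e, a}) (h1 : P.B e b = 0) (h2 : P.B a b = 0) :
    Commute (w e a) (w e b) ∧ w e (a + b) = w e a * w e b := by
  have := h.add1' k hb h1 h2
  exact ⟨h.com_of k.perp h1 this, this⟩
theorem add2' (k : P.B e a = 0) (h1 : P.B e b = 0) (h2 : P.B a b = 0) :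
    w e (a + b) = w e a * w e b := by
  by_cases h0 : e = 0
  · subst h0
    rw [h.zero, h.zero, h.zero, one_mul]
  by_cases ha : a ∈ span F {e}
  · obtain ⟨μ, rfl⟩ := Submodule.mem_span_singleton.1 ha
    rw [add_comm, h.shift e b μ h1, h.dep,
      (h.comm_z h1 (h.B_self e) (by rw [h.B_comm, h1]) _).eq]
  have kl : Ln P e a := ⟨h0, ha, k⟩
  by_cases hb : b ∈ span F {e, a}
  swap
  · exact h.add1' kl hb h1 h2
  obtain ⟨μ, l, rfl⟩ := Submodule.mem_span_pair.1 hb
  have hl : P.B e (l • a) = 0 := by simp [k]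
  have key : w e (a + l • a) = w e a * w e (l • a) := by
    by_cases l0 : l = 0
    · rw [l0, zero_smul, add_zero, h.w_zero, mul_one]
    by_cases l1 : l = 1
    · rw [l1, one_smul, h.vadd_self, h.w_zero, h.sq e a k]
    obtain ⟨c, hc, ec, ac⟩ := h.hh_third kl
    obtain ⟨f, f1, f2, f3⟩ := h.hh_dual3 kl hc 0 1 1
    obtain ⟨g, g1, g2, g3⟩ := h.hh_dual3 kl hc 0 0 1
    have ca : P.B c a = 0 := by rw [h.B_comm, ac]
    have kl' : Ln P e (l • a) := by
      have := h.ln_smul kl one_ne_zero l0 0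
      rwa [one_smul, zero_smul, add_zero] at this
    have q1 := h.add1' kl hc ec ac
    have q2 := h.add1 kl' (b := c) (fun hm => by
      obtain ⟨r, s, rfl⟩ := Submodule.mem_span_pair.1 hm
      simp [g1, g2] at g3) ec (by simp [ac])
    have q3 := h.add1' (e := e) (a := a + c) (b := l • a + c) ⟨h0, fun hm => by
      obtain ⟨r, e1⟩ := Submodule.mem_span_singleton.1 hm
      have := congrArg (fun v => P.B v g) e1
      simp [g1, g2, g3] at this, by simp [k, ec]⟩ (fun hm => by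
      obtain ⟨r, s, e1⟩ := Submodule.mem_span_pair.1 hm
      have := congrArg (fun v => P.B v f) e1
      simp [f1, f2, f3, h.add_self] at this
      exact l1 (h.eq_of_add this.symm)) (by simp [k, ec]) (by simp [h.B_self, ac, ca])
    rw [add_add_add_comm, h.vadd_self, add_zero, q1, q2.2, mul_assoc, ← q2.1.left_comm,
      h.sq e c ec, mul_one] at q3
    exact q3
  rw [add_comm (μ • e), ← add_assoc, h.shift e _ μ (by simp [k]), h.shift e _ μ hl, key, mul_assoc]

theorem add2 (k : P.B e a = 0) (h1 : P.B e b = 0) (h2 : P.B a b = 0) :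
    Commute (w e a) (w e b) ∧ w e (a + b) = w e a * w e b := by
  have := h.add2' k h1 h2
  exact ⟨h.com_of k h1 this, this⟩
theorem com' (k : P.B e a = 0) (h1 : P.B e b = 0) : Commute (w e a) (w e b) := by
  by_cases hβ : P.B a b = 0
  · exact (h.add2 k h1 hβ).1
  obtain ⟨a', b₁, k0, ea, k2, aa, k4, ba, k6⟩ := h.exists_hp3 hβ k h1
  obtain ⟨b', hb'⟩ : ∃ b', b' = P.B a b • b₁ := ⟨_, rfl⟩
  have eb : P.B e b' = 0 := by simp [hb', k2]
  have ab : P.B a b' = 0 := by simp [hb', k4]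
  have bb : P.B b b' = 0 := by simp [hb', k6]
  have e1 : P.B a' b' = P.B a b := by simp [hb', k0]
  have aa' : P.B a' a = 0 := by rw [h.B_comm, aa]
  have ba' : P.B a' b = 0 := by rw [h.B_comm, ba]
  have ab' : P.B b' a = 0 := by rw [h.B_comm, ab]
  have bb' : P.B b' b = 0 := by rw [h.B_comm, bb]
  have q1 := h.add2' (e := e) (a := a' + a) (b := b' + b) (by simp [k, ea]) (by simp [h1, eb])
    (by simp [e1, ab, ba', h.add_self])
  have q2 := h.add2' (e := e) (a := a' + b) (b := b' + a) (by simp [h1, ea]) (by simp [k, eb])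
    (by simp [e1, aa', bb, h.B_comm b a, h.add_self])
  rw [show a' + b + (b' + a) = a' + a + (b' + b) by abel, q1, h.add2' ea k aa', h.add2' eb h1 bb',
    h.add2' ea h1 ba', h.add2' eb k ab'] at q2
  simp only [mul_assoc] at q2
  rw [(h.add2 k eb ab).1.left_comm, (h.add2 h1 eb bb).1.left_comm] at q2
  exact mul_left_cancel (mul_left_cancel q2)
theorem add_left' (k : P.B e a = 0) (h1 : P.B e b = 0) (h2 : P.B a b = 0) :
    w (a + b) e = w a e * w b e := by
  have ha : P.B e (κ • a) = 0 := by simp [k]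
  have hb' : P.B e (κ • b) = 0 := by simp [h1]
  have c1 : Commute (w e b) (x C φ e (κ • a)) :=
    h.comm_x h1 ha (h.B_self e) ha (by rw [h.B_comm, h1]) (by simp [h.B_comm b a, h2])
  rw [h.symm e _ (by simp [k, h1]), h.symm e a k, h.symm e b h1, h.add2' k h1 h2, smul_add,
    h.x_add ha hb' (by simp [h2])]
  simp only [mul_assoc]
  rw [← c1.left_comm]

theorem cx' {u v c : V} (k : P.B u v = 0) (h1 : P.B e u = 0) (h2 : P.B e v = 0) (h3 : P.B e c = 0) :
    w u v * x C φ e c * w u v = x C φ e c * w e (P.B c u • v + P.B c v • u) *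
      x C φ e ((κ * P.B c v) • u) * z C φ e (κ * P.B c u * P.B c v) := by
  obtain ⟨α, hα⟩ : ∃ α, α = P.B c u := ⟨_, rfl⟩
  obtain ⟨β, hβ⟩ : ∃ β, β = P.B c v := ⟨_, rfl⟩
  rw [← hα, ← hβ]
  have ue : P.B u e = 0 := by rw [h.B_comm, h1]
  have ve : P.B v e = 0 := by rw [h.B_comm, h2]
  have vu : P.B v u = 0 := by rw [h.B_comm, k]
  have xi : (φ (C.T e c 0))⁻¹ = x C φ e c := h.τ_inv h3 0
  have e1 : x C φ e c * w u v * x C φ e c = w (u + α • e) (v + β • e) := by
    have := h.eqv (C.T e c 0) u v k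
    rw [h.x_app h3, h.x_app h3, h1, h2, ← hα, ← hβ, zero_smul, add_zero, add_zero, xi] at this
    exact this
  have hm : P.B e (α • v + β • u) = 0 := by simp [h1, h2]
  have e2 : w (u + α • e) (v + β • e) = w u v * (w e (α • v + β • u) *
      x C φ e ((κ * β) • u) * z C φ e (κ * α * β)) := by
    rw [h.add2' (by simp [k, h2]) (by simp [ue, h.B_self]) (by simp [ve]),
      h.add_left' vu (by simp [ve]) (by simp [ue]),
      h.add_left' (e := β • e) (by simp [h1]) (by simp [h.B_self]) (by simp [ue]),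
      h.smul e v α h2, h.smul e (β • e) α (by simp [h.B_self]), smul_smul, h.dep,
      ← h.smul u e β ue, h.symm e (β • u) (by simp [h1]), smul_smul,
      h.add2' (by simp [h2]) (by simp [h1]) (by simp [vu]), mul_assoc κ]
    simp only [mul_assoc]
  obtain ⟨R, hR⟩ : ∃ R, R = w e (α • v + β • u) * x C φ e ((κ * β) • u) * z C φ e (κ * α * β) :=
    ⟨_, rfl⟩
  have cR : Commute (x C φ e c) R := by
    rw [hR]
    refine Commute.mul_right (Commute.mul_right ?_ (h.τ_comm h3 (by simp [h1]) 0 0))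
      (h.τ_comm h3 (map_zero _) 0 _)
    have := h.eqv (C.T e c 0) e _ hm
    rw [h.x_app h3, h.x_app h3, h.B_self, hm, h.B_comm c e, h3] at this
    simp only [map_add, map_smul, smul_eq_mul, ← hα, ← hβ, mul_comm β α, h.add_self, zero_smul,
      add_zero] at this
    exact mul_inv_eq_iff_eq_mul.1 this
  rw [e2, ← hR] at e1
  rw [mul_assoc (x C φ e c), mul_assoc (x C φ e c), ← hR, cR.eq]
  calc _ = w u v * (x C φ e c * w u v * x C φ e c) * x C φ e c := by
        simp only [mul_assoc]; rw [h.x_sq h3, mul_one]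
    _ = _ := by rw [e1, ← mul_assoc, h.sq u v k, one_mul]

theorem hw2 : HW2 C φ t w κ := by
  exact { h with
    add := fun _ _ _ k h1 h2 => h.add2' k h1 h2
    com := fun _ _ _ k h1 => h.com' k h1
    cx := fun _ _ _ _ k h1 h2 h3 => h.cx' k h1 h2 h3 }

end HW1

namespace HW2

variable {w : V → V → G} {κ : F} (h : HW2 C φ t w κ) {e a b : V}
include h

theorem add_left (k : P.B e a = 0) (h1 : P.B e b = 0) (h2 : P.B a b = 0) :
    w (a + b) e = w a e * w b e := by
  exact h.toHW1.add_left' k h1 h2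
/-- hats in a totally isotropic plane commute -/
theorem com_pl {u v m : V} (k : P.B u v = 0) (h1 : P.B e u = 0) (h2 : P.B e v = 0)
    (hm : m ∈ span F {u, v}) : Commute (w u v) (w e m) := by
  obtain ⟨l, μ, rfl⟩ := Submodule.mem_span_pair.1 hm
  have H := h.toHW1
  have ue : P.B u e = 0 := by rw [h.B_comm, h1]
  have ve : P.B v e = 0 := by rw [h.B_comm, h2]
  have vu : P.B v u = 0 := by rw [h.B_comm, k]
  have key : ∀ {u v : V} (l : F), P.B u v = 0 → P.B e u = 0 → P.B e v = 0 →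
      Commute (w u v) (w e (l • u)) := by
    intro u v l k h1 h2
    have ue : P.B u e = 0 := by rw [h.B_comm, h1]
    have ve : P.B v e = 0 := by rw [h.B_comm, h2]
    have vu : P.B v u = 0 := by rw [h.B_comm, k]
    rw [H.symm' (e := e) (a := l • u) (by simp [h1]), h.smul u e l ue]
    exact (h.com u v _ k (by simp [ue])).mul_right
      (H.comm_x k (by simp [h1]) ue (by simp [h.B_self]) ve (by simp [vu]))
  rw [h.add e _ _ (by simp [h1]) (by simp [h2]) (by simp [k])]
  refine (key l k h1 h2).mul_right ?_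
  rw [h.symm v u vu]
  exact (key μ vu h2 h1).mul_left (H.comm_x (by simp [h2]) (by simp [vu]) h2 (by simp [h1])
    (by simp [h.B_self]) (by simp [vu])).symm
theorem del_e (e : V) : ∃ d : F → G, (∀ β β', d (β + β') = d β * d β') ∧
    ∀ a b, P.B e a = 0 → P.B e b = 0 → w e (a + b) * w e a * w e b = d (P.B a b) := by
  classical
  by_cases h0 : e = 0
  · subst h0
    exact ⟨fun _ => 1, fun _ _ => (mul_one _).symm, fun a b _ _ => by
      rw [h.zero, h.zero, h.zero, one_mul, one_mul]⟩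
  let s : Set G := {g | ∃ a, P.B e a = 0 ∧ g = w e a}
  have hs : ∀ x ∈ s, ∀ y ∈ s, x * y = y * x := by
    rintro _ ⟨a, ha, rfl⟩ _ ⟨b, hb, rfl⟩
    exact h.com e a b ha hb
  letI : CommGroup (closure s) := closureCommGroupOfComm hs
  let W : V → Additive (closure s) := fun a =>
    if ha : P.B e a = 0 then Additive.ofMul ⟨w e a, subset_closure ⟨a, ha, rfl⟩⟩ else 0
  have hW : ∀ a, P.B e a = 0 → ((Additive.toMul (W a) : closure s) : G) = w e a := by
    intro a ha
    simp only [W, dif_pos ha]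
    rfl
  have ext : ∀ p q : Additive (closure s),
      ((Additive.toMul p : closure s) : G) = (Additive.toMul q : closure s) → p = q :=
    fun p q e1 => Additive.toMul.injective (Subtype.ext e1)
  have ad : ∀ p q : Additive (closure s), ((Additive.toMul (p + q) : closure s) : G) =
      ((Additive.toMul p : closure s) : G) * (Additive.toMul q : closure s) := fun _ _ => rfl
  obtain ⟨d, d1, d2⟩ := h.hh_del h0 W (fun a => by
    by_cases ha : P.B e a = 0
    · exact ext _ _ (by rw [ad, hW a ha]; exact h.sq e a ha)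
    · simp only [W, dif_neg ha, add_zero]) (fun a b ha hb ab => ext _ _ (by
      rw [ad, hW a ha, hW b hb, hW _ (by simp [ha, hb])]; exact h.add e a b ha hb ab))
  refine ⟨fun β => ((Additive.toMul (d β) : closure s) : G), fun β β' => by
    beta_reduce; rw [d1, ad], fun a b ha hb => ?_⟩
  beta_reduce
  rw [← d2 a b ha hb, ad, ad, hW a ha, hW b hb, hW _ (by simp [ha, hb])]

theorem exists_del : ∃ Δ, Del C φ t w κ Δ := by
  have H := h.toHW1
  choose Δ d1 d2 using h.del_e
  have eqv : ∀ l e β, φ l * Δ e β * (φ l)⁻¹ = Δ (C.act l e) β := by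
    intro l e β
    obtain ⟨a, b, ha, hb, rfl⟩ := h.hh_pair e β
    rw [← d2 e a b ha hb, ← C.B_act l a b, ← d2 _ _ _ (by rw [C.B_act, ha]) (by rw [C.B_act, hb]),
      ← map_add, ← h.eqv l e a ha, ← h.eqv l e b hb, ← h.eqv l e _ (by simp [ha, hb])]
    group
  refine ⟨Δ, fun e a b ha hb => ?_, fun e β => ⟨?_, ?_, ?_⟩, d1, fun e β l => ?_, eqv,
    fun e a β ha => ?_⟩
  · rw [← d2 e a b ha hb, ← mul_assoc, ← mul_assoc, h.sq e _ (by simp [ha, hb]), one_mul]
  · rintro _ ⟨s, hs, rfl⟩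
    have := eqv s e β
    rw [mem_fix_pt.1 hs] at this
    exact mul_inv_eq_iff_eq_mul.1 this
  · obtain ⟨a, b, ha, hb, rfl⟩ := h.hh_pair e β
    have hab : P.B e (a + b) = 0 := by simp [ha, hb]
    have ct : ∀ n m c, P.B e n = 0 → P.B e m = 0 → w e n * (t * τ C φ e m c) * w e n =
        t * τ C φ e (n + m) (c + (1 + κ) * P.B n m) := by
      intro n m c hn hm
      have p1 := (h.mv e n hn).pt
      rw [H.w_inv hn] at p1
      calc _ = w e n * t * w e n * (w e n * τ C φ e m c * w e n) := by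
            simp only [mul_assoc]; rw [← mul_assoc (w e n) (w e n), h.sq e n hn, one_mul]
        _ = _ := by
            rw [p1, h.wQ e n m c hn hm, mul_assoc]
            change t * (τ C φ e n 0 * _) = _
            rw [h.τ_mul hn hm]
            congr 2
            ring
    have p1 := (h.mv e b hb).pt
    rw [H.w_inv hb] at p1
    rw [← d2 e a b ha hb, mul_inv_rev, mul_inv_rev, H.w_inv ha, H.w_inv hb, H.w_inv hab]
    calc _ = w e (a + b) * (w e a * (w e b * t * w e b) * w e a) * w e (a + b) := by group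
      _ = _ := by
          rw [p1]
          change w e (a + b) * (w e a * (t * τ C φ e b 0) * w e a) * w e (a + b) = _
          rw [ct a b 0 ha hb, ct _ _ _ hab hab, h.vadd_self, h.B_self, mul_zero, add_zero, zero_add]
          rfl
  · obtain ⟨a, b, ha, hb, rfl⟩ := h.hh_pair e β
    intro o o1 o2 o3
    rw [← d2 e a b ha hb]
    exact ((show Commute _ o from (h.mv e _ (by simp [ha, hb])).co o o1 o2 o3).mul_left
      ((h.mv e a ha).co o o1 o2 o3)).mul_left ((h.mv e b hb).co o o1 o2 o3)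
  · obtain ⟨a, b, ha, hb, rfl⟩ := h.hh_pair e β
    rw [← d2 (l • e) a b (by simp [ha]) (by simp [hb]), h.smul e a l ha, h.smul e b l hb,
      h.smul e _ l (by simp [ha, hb]), smul_add, d2 e _ _ (by simp [ha]) (by simp [hb])]
    congr 1
    simp [mul_assoc]
  · obtain ⟨p, q, hp, hq, rfl⟩ := h.hh_pair e β
    rw [← d2 e p q hp hq]
    exact ((h.com e _ a (by simp [hp, hq]) ha).mul_left (h.com e p a hp ha)).mul_left
      (h.com e q a hq ha)

end HW2

end CfsgLib.SPC
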