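import Cfsg.Agent.Lib.SPC.ShH

/-! t ~ t a: the basic commutator -/

set_option autoImplicit false
set_option linter.unusedSectionVars false

namespace CfsgLib.SPC

open Subgroup Module CfsgLib.Forms CfsgLib.LieMult
open CfsgLib.HX (Std CO Two Mv M2)
open CfsgLib.UN (AV SI TI HH Rad Stb Yg Rg Eg Act nu)
open CfsgLib.ClSys (II)
open Submodule (span)
open scoped commutatorElement Pointwise

universe u

variable {F : Type} [Field F] [Finite F] {V : Type} [AddCommGroup V] [Module F V]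
  [FiniteDimensional F V] {P : PQ (RingHom.id F) V} {S : Type} [Group S] [Finite S] {G : Type u}
  [Group G] [Finite G] {C : CG P S} {φ : S →* G} {t : G}

theorem shi_rank {e a : V} (k : Ln P e a) : finrank F (span F {e, a}) = 2 := by
  have := finrank_span_eq_card (UN.Mod.li_pair k.ne k.nmem)
  rwa [Matrix.range_cons, Matrix.range_cons, Matrix.range_empty, Set.union_empty, Set.singleton_union] at this

theorem shi_l (e a : V) : e ∈ span F {e, a} := Submodule.subset_span (by simp)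

theorem shi_r (e a : V) : a ∈ span F {e, a} := Submodule.subset_span (by simp)

theorem shi_comm {a b x : G} (aa : a * a = 1) (h : b * x * b⁻¹ = a * x * a) : Commute (a * b) x := by
  rw [Commute, SemiconjBy, mul_assoc, mul_inv_eq_iff_eq_mul.1 h, ← mul_assoc, ← mul_assoc, ← mul_assoc, aa,
    one_mul, mul_assoc]

theorem shi_mul {a : G} (aa : a * a = 1) (x y : G) : a * (x * y) * a = a * x * a * (a * y * a) := by
  rw [← mul_assoc (a * x * a), ← mul_assoc (a * x * a), mul_assoc (a * x) a a, aa, mul_one, ← mul_assoc]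

theorem shi_fix {a x : G} (aa : a * a = 1) (c : Commute a x) : a * x * a = x := by
  rw [c.eq, mul_assoc, aa, mul_one]

theorem shi_ass (a b x : G) : a * b * a * x * (a * b * a) = a * (b * (a * x * a) * b) * a := by
  simp only [mul_assoc]

namespace HW2

variable {w : V → V → G} {κ : F} (h : HW2 C φ t w κ)
include h

theorem shi_x {e a p q : V} (k : P.B e a = 0) (k' : P.B p q = 0) (h1 : P.B e p = 0) (h2 : P.B e q = 0)
    (h3 : P.B a p = 0) (h4 : P.B a q = 0) : Commute (w e a) (x C φ p q) := h.comm_τ k k' h1 h2 h3 h4 0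

theorem shi_z {e a p : V} (k : P.B e a = 0) (h1 : P.B e p = 0) (h3 : P.B a p = 0) (c : F) :
    Commute (w e a) (z C φ p c) := h.comm_τ k (by simp) h1 (by simp) h3 (by simp) c

theorem shi_inv {e a : V} (k : P.B e a = 0) : (w e a)⁻¹ = w e a := inv_eq_of_mul_eq_one_right (h.sq e a k)

theorem shi_t {e a : V} (k : P.B e a = 0) : w e a * t * w e a = t * x C φ e a := by
  rw [← (h.mv e a k).pt, h.shi_inv k]

theorem shi_eqv {p q e a : V} (k' : P.B p q = 0) (k : P.B e a = 0) : x C φ p q * w e a * x C φ p q =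
    w (e + P.B q e • p + P.B p e • q) (a + P.B q a • p + P.B p a • q) := by
  rw [← h.x_app k', ← h.x_app k', ← h.eqv _ e a k, ← map_inv, h.r2_inv k']; rfl

theorem shi_key {e v a b : V} {g : G} (k : Ln P e v) (k' : Ln P a b) (ea : P.B e a = 0) (eb : P.B e b = 0)
    (va : P.B v a = 0) (vb : P.B v b = 0) (g2 : g * g = 1) (gt : g * t * g = t * x C φ a b)
    (h1 : ∀ d, P.B e d = 0 → P.B v d = 0 → g * x C φ e d * g = w a b * x C φ e d * w a b ∧
      g * x C φ v d * g = w a b * x C φ v d * w a b)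
    (h2 : ∀ α β r : F, Commute g (z C φ (α • e + β • v) r)) :
    ∃ ε ∈ Eg C φ (span F {e, v}), g = w a b * ε := by
  have gi : g⁻¹ = g := inv_eq_of_mul_eq_one_right g2
  have ww := h.sq a b k'.perp
  have hU := h.ti_pair k.perp
  have kt : Commute (w a b * g) t := shi_comm ww (by rw [gi, gt, h.shi_t k'.perp])
  obtain ⟨ε, hε, c, hc, e1⟩ := h.cR hU (shi_rank k).ge (h.norm_of kt) (h.cent_R hU fun p hp d hd r => by
    obtain ⟨α, β, rfl⟩ := Submodule.mem_span_pair.1 hp
    obtain ⟨d1, d2⟩ := CG.mem_perp_pair.1 hd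
    have d3 := (h.B_comm d e).trans d1
    have d4 := (h.B_comm d v).trans d2
    have k1 := h1 (α • d) (by simp [d1]) (by simp [d2])
    have k2 := h1 (β • d) (by simp [d1]) (by simp [d2])
    rw [h.τ_eq (by simp [d1, d2]), h.x_symm (by simp [d1, d2]),
      h.x_add (by simp [d3]) (by simp [d4]) (by simp [k.perp]), h.x_symm (by simp [d3]),
      h.x_symm (e := d) (by simp [d4]), h.x_smul d1, h.x_smul d2]
    exact ((shi_comm ww (gi.symm ▸ k1.1)).mul_right (shi_comm ww (gi.symm ▸ k2.2))).mul_right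
      ((h.shi_z k'.perp (by simp [h.B_comm a, ea, va]) (by simp [h.B_comm b, eb, vb]) r).mul_left (h2 α β r)))
  have εL : ε ∈ φ.range := h.Y_le_L (h.R_le_Y (h.E_le_R hU hε))
  have e2 : g = w a b * ε * c := by rw [mul_assoc, ← e1, ← mul_assoc, ww, one_mul]
  have εw : Commute (w a b) ε := ((h.mv a b k'.perp).cY ε (h.E_le_Y (Submodule.span_le.2 (by
    rintro _ (rfl | rfl)
    exacts [CG.mem_perp_pair.2 ⟨ea, va⟩, CG.mem_perp_pair.2 ⟨eb, vb⟩])) hε)).symm
  have := h.kill h.two' (h.mv a b k'.perp).pt ⟨_, rfl⟩ (by simpa using (h.x_eq_one k' (c := 1)).not.2 one_ne_zero)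
    (h.mv a b k'.perp).co ww εL (h.E_sq hU hε) εw hc (h.ct_of εL (e1 ▸ kt)) (e2 ▸ g2)
  exact ⟨ε, hε, by rw [e2, this, mul_one]⟩

theorem shi_cx {u v e c : V} (h1 : P.B u v = 0) (h2 : P.B e u = 0) (h3 : P.B e v = 0) (h4 : P.B e c = 0)
    (h5 : P.B c v = 0) : w u v * x C φ e c * w u v = x C φ e c * w e (P.B c u • v) := by
  rw [h.cx u v e c h1 h2 h3 h4, h5]
  simp only [zero_smul, add_zero, mul_zero, h.x_zero, h.z_zero, mul_one]

theorem shi_cx' {u v e c : V} (h1 : P.B u v = 0) (h2 : P.B e u = 0) (h3 : P.B e v = 0) (h4 : P.B e c = 0)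
    (h5 : P.B c u = 0) : w u v * x C φ e c * w u v = x C φ e c * w u (P.B c v • e) := by
  have h6 : P.B (P.B c v • u) e = 0 := by simp [h.B_comm u, h2]
  rw [h.cx u v e c h1 h2 h3 h4, h5, zero_smul, zero_add, h.symm _ _ h6, h.smul _ _ _ ((h.B_comm u e).trans h2),
    h.x_symm (e := e) (a := (κ * P.B c v) • u) (by simp [h2]), h.x_smul ((h.B_comm u e).trans h2),
    h.x_smul (by simp [h.B_comm u, h2]), smul_smul, mul_comm κ (P.B c v)]
  simp only [zero_mul, mul_zero, h.z_zero, mul_one, mul_assoc]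
  rw [h.x_sq (by simp [h.B_comm u, h2]), mul_one]

theorem shi_wx {e a b : V} (k : P.B e a = 0) (k' : P.B e b = 0) :
    w e a * x C φ e b * w e a = x C φ e b * z C φ e (κ * P.B a b) := by
  rw [← h.τ_eq k', ← zero_add (κ * P.B a b), ← h.wQ e a b 0 k k']; rfl

theorem shi_wx' {e a b : V} (k : P.B e a = 0) (k' : P.B a b = 0) :
    w e a * x C φ a b * w e a = x C φ a b * z C φ a (κ * P.B e b) := by
  have k1 := (h.B_comm a e).trans k
  have k2 : P.B a (κ • e) = 0 := by simp [k1]
  have c1 : Commute (x C φ a (κ • e)) (x C φ a b) := h.τ_comm k2 k' 0 0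
  have c2 := h.shi_x k1 k2 (h.B_self a) k2 k (by simp [h.B_self])
  rw [h.symm a e k1, ← h.shi_wx k1 k']
  calc _ = w a e * (x C φ a (κ • e) * x C φ a b * (w a e * x C φ a (κ • e))) := by simp only [mul_assoc]
    _ = _ := by rw [c2.eq, ← mul_assoc (_ * _), shi_fix (h.x_sq k2) c1, mul_assoc]

theorem shi_E {e u v c : V} (k : Cf P e u v c) : ∃ ρ₁ δ ρ₂ : F, w u v * w e c * w u v =
    w e c * w e v * (z C φ e ρ₁ * x C φ e (δ • v) * z C φ v ρ₂) := by
  obtain ⟨l1, -, l2, -⟩ := h.cf_ln k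
  obtain ⟨⟨-, -, uv⟩, -, eu, ev, ec, cv, cu⟩ := k
  have vu := (h.B_comm v u).trans uv
  have ue := (h.B_comm u e).trans eu
  have ve := (h.B_comm v e).trans ev
  have ce := (h.B_comm c e).trans ec
  have vc := (h.B_comm v c).trans cv
  have uc := (h.B_comm u c).trans cu
  have aa := h.sq u v uv
  have bb := h.sq e c ec
  have l3 : Ln P e (c + v) := ⟨l1.ne, fun hm => by
    obtain ⟨a, ha⟩ := Submodule.mem_span_singleton.1 hm
    simpa [ue, uc, uv] using congrArg (P.B u) ha, by simp [ec, ev]⟩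
  have cw : ∀ r : F, Commute (w u v) (w e (r • v)) := fun r =>
    h.com_pl uv eu ev (Submodule.smul_mem _ _ (shi_r u v))
  obtain ⟨ε, hε, e1⟩ := h.shi_key (g := w u v * w e c * w u v) l1 l3 (h.B_self e) l3.perp ve
    (by simp [vc, h.B_self]) (by rw [← shi_mul aa, bb, mul_one, aa]) (by
      rw [shi_ass, h.shi_t uv, shi_mul bb, h.shi_t ec, h.x_symm uv, h.shi_cx' ec ve vc vu ue, uc,
        shi_mul aa, shi_mul aa, shi_mul aa, h.shi_t uv, h.shi_cx uv eu ev ec cv, cu,
        shi_fix aa (cw 1), shi_fix aa (h.shi_x uv vu uv (h.B_self u) (h.B_self v) vu), one_smul, h.x_symm uv]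
      have := h.x_τ vu ec 0
      rw [ue, ve, uc, vc] at this
      simp only [zero_smul, one_smul, add_zero] at this
      calc _ = t * (x C φ v u * x C φ e c * (w e v * x C φ v u * w e v)) := by simp only [mul_assoc]
        _ = _ := by
          rw [shi_fix (h.sq e v ev) (h.shi_x ev vu ev eu (h.B_self v) vu)]
          exact congrArg (t * ·) this)
    (fun d ed vd => by
      have de := (h.B_comm d e).trans ed
      have dv := (h.B_comm d v).trans vd
      have cz := fun r => h.shi_z uv ue ve r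
      have cz' := fun r => h.shi_z uv uv (h.B_self v) r
      constructor
      · rw [shi_ass, h.shi_cx uv eu ev ed dv, shi_mul bb, h.shi_wx ec ed,
          shi_fix bb (h.com e c _ ec (by simp [ev])), shi_mul aa, shi_mul aa, h.shi_cx uv eu ev ed dv,
          shi_fix aa (cw _), shi_fix aa (cz _), h.shi_wx l3.perp ed, mul_assoc, mul_assoc, ← mul_assoc (w e _),
          shi_fix (h.sq e _ (by simp [ev])) (h.shi_z (by simp [ev]) (h.B_self e) (by simp [ve]) _)]
        simp [vd]
      · rw [shi_ass, h.shi_wx' uv vd, shi_mul bb, h.shi_cx' ec ve vc vd de,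
          shi_fix bb (h.shi_z ec ev cv _), shi_mul aa, shi_mul aa, h.shi_wx' uv vd,
          shi_fix aa (cw _), shi_fix aa (cz' _), h.shi_cx' l3.perp ve (by simp [vc, h.B_self]) vd de,
          mul_assoc, (h.shi_z (by simp [ev]) ev (by simp [h.B_self]) _).eq, mul_assoc, ← mul_assoc (z C φ v _),
          h.z_sq, one_mul]
        simp [dv])
    fun α β r => by
      have := h.shi_z (p := α • e + β • v) uv (by simp [ue, uv]) (by simp [ve, h.B_self]) r
      exact ((this.mul_left (h.shi_z ec (by simp [ev, h.B_self]) (by simp [ce, cv]) r)).mul_left this)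
  obtain ⟨r, d, r', rfl⟩ := (h.mem_El l1).1 hε
  exact ⟨r, d, r', by rw [e1, h.add e c v ec ev cv]⟩

theorem w6_0 : ∃ ρ₁ δ ρ₂ : F, ∀ e u v c, Cf P e u v c → w u v * w e c * w u v =
    w e c * w e v * (z C φ e ρ₁ * x C φ e (δ • v) * z C φ v ρ₂) := by
  by_cases hc : ∃ e u v c, Cf P e u v c
  swap
  · exact ⟨0, 0, 0, fun e u v c k => absurd ⟨e, u, v, c, k⟩ hc⟩
  obtain ⟨e₀, u₀, v₀, c₀, k₀⟩ := hc
  obtain ⟨ρ₁, δ, ρ₂, H⟩ := h.shi_E k₀
  refine ⟨ρ₁, δ, ρ₂, fun e u v c k => ?_⟩
  obtain ⟨s, rfl, rfl, rfl, rfl⟩ := h.trans_cf k₀ k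
  rw [← h.eqv s _ _ k₀.ln.perp, ← h.eqv s _ _ k₀.ec, ← h.eqv s _ _ k₀.ev, ← map_smul, ← h.z_conj, ← h.z_conj,
    ← h.x_conj s (by simp [k₀.ev])]
  simp only [conj_mul, H]

theorem shi_ww {u e c : V} (eu : P.B e u = 0) (ec : P.B e c = 0) (uc : P.B u c = 1) :
    w u e * w e c * w u e = w e c * z C φ e (κ * κ) := by
  have ue := (h.B_comm u e).trans eu
  have k1 : P.B e (κ • u) = 0 := by simp [eu]
  have k2 := h.shi_eqv k1 ec
  simp only [map_smul, LinearMap.smul_apply, h.B_self, ue, uc, ec, mul_zero, zero_smul, add_zero,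
    smul_eq_mul, mul_one] at k2
  rw [h.symm e u eu, ← h.shift e c κ ec]
  calc _ = w e u * (x C φ e (κ • u) * w e c * (w e u * x C φ e (κ • u))) := by simp only [mul_assoc]
    _ = w e u * (x C φ e (κ • u) * w e c * x C φ e (κ • u)) * w e u := by
      rw [(h.shi_x eu k1 (h.B_self e) k1 ue (by simp [h.B_self])).eq]; simp only [mul_assoc]
    _ = _ := by rw [k2]; exact shi_fix (h.sq e u eu) (h.com e u _ eu (by simp [ec, h.B_self]))

theorem shi_el {e v : V} (ev : P.B e v = 0) (r d r' s f s' : F) :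
    z C φ e r * x C φ e (d • v) * z C φ v r' * (z C φ e s * x C φ e (f • v) * z C φ v s') =
      z C φ e (r + s) * x C φ e ((d + f) • v) * z C φ v (r' + s') := by
  have c1 : Commute (x C φ e (d • v)) (z C φ e s) := h.τ_comm (by simp [ev]) (by simp) 0 s
  have c2 : Commute (z C φ v r') (x C φ e (f • v)) := by
    rw [← h.x_smul ev, h.x_symm (by simp [ev])]
    exact h.τ_comm (by simp) (by simp [h.B_comm v, ev]) r' 0
  rw [((h.z_comm ev s r').symm.mul_right c2).mul_mul_mul_comm, c1.mul_mul_mul_comm, h.z_add, h.z_add, add_smul,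
    h.x_add (by simp [ev]) (by simp [ev]) (by simp [h.B_self])]

theorem w6 : (κ = 0 ∨ κ = 1) ∧ ∃ δ, W6 C φ w δ := by
  obtain ⟨ρ₁, δ, ρ₂, H⟩ := h.w6_0
  obtain ⟨e, he⟩ := h.g2_ne
  obtain ⟨v, l1⟩ := h.exists_ln he
  obtain ⟨u, c, k⟩ := h.exists_cf l1
  have H0 := H e u v c k
  obtain ⟨⟨u0, vn, uv⟩, en, eu, ev, ec, cv, cu⟩ := k
  have vu := (h.B_comm v u).trans uv
  have ue := (h.B_comm u e).trans eu
  have ve := (h.B_comm v e).trans ev
  have ce := (h.B_comm c e).trans ec
  have vc := (h.B_comm v c).trans cv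
  have uc := (h.B_comm u c).trans cu
  have aa := h.sq u v uv
  have z1 : ∀ r, z C φ e r = z C φ e r * x C φ e ((0 : F) • v) * z C φ v 0 := fun r => by
    rw [zero_smul, h.x_zero, h.z_zero, mul_one, mul_one]
  have z2 : ∀ r, z C φ v r = z C φ e 0 * x C φ e ((0 : F) • v) * z C φ v r := fun r => by
    rw [zero_smul, h.x_zero, h.z_zero, mul_one, one_mul]
  have zl : ∀ r, z C φ (e + v) r = z C φ e r * x C φ e (r • v) * z C φ v r := fun r => by
    rw [h.z_line ev, mul_assoc, mul_assoc, ← h.x_smul ev, h.x_symm (by simp [ev])]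
    exact congrArg _ (h.τ_comm (by simp) (by simp [ve]) r 0)
  have h1 : ρ₂ = 0 := by
    have H1 := H e u (v + e) c ⟨⟨u0, fun hm => en ?_, by simp [uv, ue]⟩, fun hm => en ?_, eu,
      by simp [ev, h.B_self], ec, by simp [cv, ce], cu⟩
    · have k4 := h.shift e v 1 ev
      have k6 : w u v * w u e * w e c * (w u v * w u e) = w u v * (w u e * w e c * w u e) * w u v := by
        nth_rw 2 [(h.com u v e uv ue).eq]; simp only [mul_assoc]
      rw [one_smul] at k4
      rw [h.add u v e uv ue ve, k4, smul_add, h.x_shift (by simp [ev]), add_comm v e, zl, k6,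
        h.shi_ww eu ec uc, shi_mul aa, H0, shi_fix aa (h.shi_z uv ue ve _), mul_assoc, z1 (κ * κ), h.shi_el ev,
        ← mul_assoc (w e c), mul_assoc (w e c * _), mul_right_inj, z1 (κ * 1),
        ← mul_one (z C φ e ρ₁ * _), ← h.z_zero v, h.shi_el ev, h.shi_el ev] at H1
      linear_combination -(h.line_inj l1 H1).2.1
    · obtain ⟨a, ha⟩ := Submodule.mem_span_singleton.1 hm
      exact Submodule.mem_span_pair.2 ⟨a, -1, by rw [ha]; module⟩
    · obtain ⟨a, b, hab⟩ := Submodule.mem_span_pair.1 hm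
      by_cases hb : b = 1
      · exact absurd (Submodule.mem_span_singleton.2 ⟨-a, by
          linear_combination (norm := module) -hab + congrArg (· • (v + e)) hb⟩) vn
      · exact Submodule.mem_span_pair.2 ⟨a / (1 - b), b / (1 - b), by
          refine smul_right_injective V (sub_ne_zero.2 (Ne.symm hb)) ?_
          simp only [smul_add, smul_smul, mul_div_cancel₀ _ (sub_ne_zero.2 (Ne.symm hb))]
          linear_combination (norm := module) hab⟩
  subst h1
  have H1 := H (e + v) u v c ⟨⟨u0, vn, uv⟩, fun hm => en ((Submodule.add_mem_iff_left _ (shi_r u v)).1 hm),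
    by simp [eu, vu], by simp [ev, h.B_self], by simp [ec, vc], cv, cu⟩
  have k4 := h.dep v 1
  rw [one_smul] at k4
  rw [h.add_left ce cv ev, h.add_left ve (h.B_self v) ev, k4, shi_mul aa, H0, h.shi_ww vu vc uc, zl] at H1
  have k5 := h.loc_x ev 1 1 0 δ
  simp only [one_smul, zero_smul, zero_add, one_mul, zero_mul, add_zero] at k5
  have k6 : Commute (w v c) (w e v * (z C φ e ρ₁ * x C φ e (δ • v) * z C φ v 0)) :=
    (h.com_pl vc ev ec (shi_l v c)).mul_right (((h.shi_z vc ve ce _).mul_right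
      (h.shi_x vc (by simp [ev]) ve (by simp [h.B_self]) ce (by simp [cv]))).mul_right
        (h.shi_z vc (h.B_self v) cv _))
  rw [k5, mul_assoc (w e c), mul_assoc (w e c), ← mul_assoc _ (w v c), ← k6.eq, mul_assoc (w e c),
    mul_assoc (w e c), mul_right_inj, mul_assoc (w v c), mul_assoc (w v c), mul_right_inj, mul_assoc (w e v),
    mul_assoc (w e v), mul_right_inj, z2 (κ * κ), h.shi_el ev, z2 (κ * 1), mul_assoc _ (x C φ e (δ • v)),
    ← one_mul (x C φ e (δ • v)), ← h.z_zero e, h.shi_el ev, h.shi_el ev] at H1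
  obtain ⟨-, f1, f2⟩ := h.line_inj l1 H1
  obtain rfl : ρ₁ = 0 := by linear_combination -f1
  refine ⟨(mul_eq_zero.1 (by linear_combination f2 : κ * (κ - 1) = 0)).imp_right sub_eq_zero.1, δ,
    fun e u v c k => ?_⟩
  rw [H e u v c k, h.z_zero, h.z_zero, one_mul, mul_one]

theorem shi_E4 {u v e c : V} (k : Ln P e c) (h1 : P.B u v = 0) (h2 : P.B e u = 0) (h3 : P.B e v = 0)
    (h5 : P.B c u = 0) (h6 : P.B c v = 0) :
    ∃ ε ∈ Eg C φ (span F {e, c}), w u v * w e c * w u v = w e c * ε := by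
  have ec := k.perp
  have ce := (h.B_comm c e).trans ec
  have ue := (h.B_comm u e).trans h2
  have ve := (h.B_comm v e).trans h3
  have uc := (h.B_comm u c).trans h5
  have vc := (h.B_comm v c).trans h6
  have aa := h.sq u v h1
  have bb := h.sq e c ec
  have key : ∀ {y : G}, Commute (w e c) y → Commute (w e c) (w u v * y * w u v) →
      w u v * w e c * w u v * y * (w u v * w e c * w u v) = w e c * y * w e c := fun c1 c2 => by
    rw [shi_ass, shi_fix bb c1, shi_fix bb c2, ← mul_assoc, ← mul_assoc, aa, one_mul, mul_assoc, aa, mul_one]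
  refine h.shi_key k k (h.B_self e) ec ce (h.B_self c) (by rw [← shi_mul aa, bb, mul_one, aa]) ?_
    (fun d ed cd => ⟨key (h.shi_x ec ed (h.B_self e) ed ce cd) ?_, key (h.shi_x ec cd ec ed (h.B_self c) cd) ?_⟩)
    fun α β r => ?_
  · rw [shi_ass, h.shi_t h1, shi_mul bb, h.shi_t ec, shi_fix bb (h.shi_x ec h1 h2 h3 h5 h6), shi_mul aa,
      shi_mul aa, h.shi_t h1, shi_fix aa (h.shi_x h1 ec ue uc ve vc),
      shi_fix aa (h.shi_x h1 h1 (h.B_self u) h1 ((h.B_comm v u).trans h1) (h.B_self v)), mul_assoc, mul_assoc,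
      ← mul_assoc (x C φ u v)]
    have := h.x_τ h1 ec 0
    rw [ue, ve, uc, vc] at this
    simp only [zero_smul, add_zero] at this
    exact congrArg (t * ·) this
  · rw [h.cx u v e d h1 h2 h3 ed]
    exact (((h.shi_x ec ed (h.B_self e) ed ce cd).mul_right (h.com e c _ ec (by simp [h2, h3]))).mul_right
      (h.shi_x ec (by simp [h2]) (h.B_self e) (by simp [h2]) ce (by simp [h5]))).mul_right
      (h.shi_z ec (h.B_self e) ce _)
  · rw [h.cx u v c d h1 h5 h6 cd]
    refine (((h.shi_x ec cd ec ed (h.B_self c) cd).mul_right ?_).mul_right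
      (h.shi_x ec (by simp [h5]) ec (by simp [h2]) (h.B_self c) (by simp [h5]))).mul_right
      (h.shi_z ec ec (h.B_self c) _)
    exact (h.com_pl (by simp [h5, h6]) ec (by simp [h2, h3]) (shi_l _ _)).symm
  · have := h.shi_z (p := α • e + β • c) h1 (by simp [ue, uc]) (by simp [ve, vc]) r
    exact (this.mul_left (h.shi_z ec (by simp [ec, h.B_self]) (by simp [ce, h.B_self]) r)).mul_left this

theorem shi_dep {u v e c : V} (k : ¬ Ln P e c) (h1 : P.B u v = 0) (h2 : P.B e u = 0) (h3 : P.B e v = 0)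
    (h4 : P.B e c = 0) : Commute (w u v) (w e c) := by
  by_cases h0 : e = 0
  · rw [h0, h.zero]; exact Commute.one_right _
  obtain ⟨a, rfl⟩ := Submodule.mem_span_singleton.1 (by_contra fun hn => k ⟨h0, hn, h4⟩)
  rw [h.dep]
  exact h.shi_z h1 ((h.B_comm u e).trans h2) ((h.B_comm v e).trans h3) _

/-- hats in a totally isotropic subspace commute -/
theorem com4 {u v e c : V} (h1 : P.B u v = 0) (h2 : P.B e u = 0) (h3 : P.B e v = 0) (h4 : P.B e c = 0)
    (h5 : P.B c u = 0) (h6 : P.B c v = 0) : Commute (w u v) (w e c) := by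
  have ce := (h.B_comm c e).trans h4
  have ue := (h.B_comm u e).trans h2
  have ve := (h.B_comm v e).trans h3
  have uc := (h.B_comm u c).trans h5
  have vc := (h.B_comm v c).trans h6
  by_cases k : Ln P e c
  swap
  · exact h.shi_dep k h1 h2 h3 h4
  by_cases k' : Ln P u v
  swap
  · exact (h.shi_dep k' h4 ue uc h1).symm
  by_cases hd : ∃ m ∈ span F {e, c}, m ∈ span F {u, v} ∧ m ≠ 0
  · obtain ⟨m, hm, hm', m0⟩ := hd
    obtain ⟨a, b, rfl⟩ := Submodule.mem_span_pair.1 hm
    by_cases hb : b = 0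
    · rw [hb, zero_smul, add_zero] at hm' m0
      rw [h.symm c e ce]
      exact (h.com_pl h1 h5 h6 ((Submodule.smul_mem_iff _ (left_ne_zero_of_smul m0)).1 hm')).mul_right
        (h.shi_x h1 (by simp [ce]) uc (by simp [ue]) vc (by simp [ve]))
    · have : c = b⁻¹ • (a • e + b • c) + (-(b⁻¹ * a)) • e := by
        rw [smul_add, smul_smul, smul_smul, inv_mul_cancel₀ hb]; module
      rw [this, h.shift e _ _ (by simp [h4, h.B_self])]
      exact (h.com_pl h1 h2 h3 (Submodule.smul_mem _ _ hm')).mul_right (h.shi_z h1 ue ve _)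
  push Not at hd
  obtain ⟨_, ⟨s, hs, rfl⟩, e1⟩ := h.shi_E4 k h1 h2 h3 h5 h6
  obtain ⟨_, ⟨s', hs', rfl⟩, e2⟩ := h.shi_E4 k' h4 ue uc ve vc
  have aa := h.sq u v h1
  have bb := h.sq e c h4
  have e3 : s' = s⁻¹ := h.inj (by
    rw [map_inv, eq_inv_iff_mul_eq_one]
    calc _ = w u v * (w u v * φ s') * w e c * (w e c * φ s) := by
          rw [← mul_assoc (w u v), aa, one_mul, mul_assoc, ← mul_assoc (w e c), bb, one_mul]
      _ = w u v * (w e c * (w u v * (w e c * w e c) * w u v) * w e c) * w u v := by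
          rw [← e1, ← e2]; simp only [mul_assoc]
      _ = 1 := by rw [bb, mul_one, aa, mul_one, bb, mul_one, aa])
  have e4 : s = 1 := C.ext fun y => by
    rw [C.one_apply]
    exact sub_eq_zero.1 (hd _ (h.E_range hs y) (h.E_range ((inv_mem_iff (H := C.fixG _)).1 (e3 ▸ hs')) y))
  rw [e4, map_one, mul_one] at e1
  rw [Commute, SemiconjBy]
  nth_rw 2 [← e1]
  rw [mul_assoc, aa, mul_one]

end HW2

end CfsgLib.SPC
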